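import Cfsg.Agent.H15.J2Ab
import Cfsg.Agent.H15.Ico

/-!
The Hall-Janko group (namespace H15.J2): the icosian reflection group is isomorphic to the model `M` in dimension six
over the field with 71 elements (`eqv`, `eqv_spec`); `pi : M →* J2`, `trans`, `card_min`, `conj_refl`, `simple`.
-/

namespace H15

theorem iso_of_rel {A B : Type*} [Group A] [Group B] (D : Subgroup (A × B)) {a : ℕ → A} {b : ℕ → B} {dom : List ℕ}
    (h : ∀ i ∈ dom, (a i, b i) ∈ D) (h1 : ∀ x ∈ mdl a dom, (x, 1) ∈ D → x = 1) (h2 : ∀ y, (1, y) ∈ D → y = 1)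
    (hb : mdl b dom = ⊤) : ∃ e : mdl a dom ≃* B, ∀ x : mdl a dom, (x.1, e x) ∈ D := by
  let Γ := mdl (fun i => (a i, b i)) dom
  have l : Γ ≤ D := (Subgroup.closure_le _).2 (by rintro _ ⟨i, hi, rfl⟩; exact h i hi)
  have m1 : Γ.map (MonoidHom.fst A B) = mdl a dom := (MonoidHom.map_closure _ _).trans (by rw [Set.image_image]; rfl)
  have m2 : Γ.map (MonoidHom.snd A B) = mdl b dom := (MonoidHom.map_closure _ _).trans (by rw [Set.image_image]; rfl)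
  let p : Γ →* mdl a dom := ((MonoidHom.fst A B).comp Γ.subtype).codRestrict _ fun x => m1.le ⟨x, x.2, rfl⟩
  let e1 := MulEquiv.ofBijective p ⟨(injective_iff_map_eq_one p).2 fun ⟨⟨x, y⟩, hx⟩ e => by
    obtain rfl : x = 1 := congrArg Subtype.val e
    exact Subtype.ext (Prod.ext rfl (h2 y (l hx))), fun x => by
    obtain ⟨y, hy, e⟩ := m1.ge x.2
    exact ⟨⟨y, hy⟩, Subtype.ext e⟩⟩
  let e2 := MulEquiv.ofBijective ((MonoidHom.snd A B).comp Γ.subtype) ⟨(injective_iff_map_eq_one _).2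
    fun ⟨⟨x, y⟩, hx⟩ e => by
    obtain rfl : y = 1 := e
    exact Subtype.ext (Prod.ext (h1 x (m1.le ⟨_, hx, rfl⟩) (l hx)) rfl), fun x => by
    obtain ⟨y, hy, e⟩ := (m2.trans hb).ge (Subgroup.mem_top x)
    exact ⟨⟨y, hy⟩, e⟩⟩
  refine ⟨e1.symm.trans e2, fun x => ?_⟩
  obtain ⟨y, rfl⟩ := e1.surjective x
  rw [MulEquiv.trans_apply, MulEquiv.symm_apply_apply]
  exact l y.2

namespace J2
open H13 Cfsg Cfsg.Spor Matrix Ico MulAction

theorem par : parP 71 14769 20 29 6 = true := by decide +kernel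

/-- the coding of vectors -/
noncomputable def VV : VCod (ZMod 71) (Fin 3 × Fin 2) 6 174 app wfT := vcodP (finProdFinEquiv (m := 3) (n := 2)) par

theorem hh : VV.mat one = 1 := VV.mat_one Nat.cast_zero Nat.cast_one (by decide +kernel)

/-- the model -/
abbrev M : Type := mdl (g VV hh) dom6

instance : Finite M := fin6 VV hh

theorem card_M : Nat.card M = 1209600 := card6 VV hh

/-- its coding -/
noncomputable abbrev SM : Sem M mul one wf := (S VV hh).sub _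

theorem sinj : SInj (S VV hh) := fun _ _ => VV.sem_inj h1 hh

theorem sub56 : allL (fun i => memL i dom6) dom5 = true := by decide +kernel

theorem cov : CovQ (g VV hh) sub56 [0] 2 100 604800 [1, 63, 36] :=
  covQ_of (sinj.sub _) (L5 VV hh) sub56 (wz_le VV hh) ((rel6 VV hh).mgen rd6) (card5 VV hh) (card6 VV hh)
    (fun ho => prim5 VV hh ho) (kl_m VV hh) kl_ok (cz_m VV hh) (by decide +kernel)

theorem mem_of (w : Fin 3 → Q) (a b c : Q) (h : (InI (w 0) ∧ InI (w 1) ∧ InI (w 2)) ∧ (InI a ∧ InI b ∧ InI c) ∧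
    a.mul ⟨1, -2, 1, 0, 1, 0, 1, 0⟩ = ((w 0).add ((w 1).sm (-1))).sm 2 ∧
    b.mul ⟨1, -2, 1, 0, 1, 0, 1, 0⟩ = ((w 1).add ((w 2).sm (-1))).sm 2 ∧
    c.mul (Q.cj ⟨1, -2, 1, 0, 1, 0, 1, 0⟩) = (((w 0).add (w 1)).add (w 2)).sm 2) : (fun t => E (w t)) ∈ icoLeech := by
  obtain ⟨⟨w0, w1, w2⟩, ⟨a0, b0, c0⟩, a1, b1, c1⟩ := h
  refine ⟨fun t => mem_ico.2 ⟨_, by fin_cases t <;> assumption, rfl⟩, ⟨_, mem_ico.2 ⟨a, a0, rfl⟩, ?_⟩,
    ⟨_, mem_ico.2 ⟨b, b0, rfl⟩, ?_⟩, _, mem_ico.2 ⟨c, c0, rfl⟩, ?_⟩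
  · simpa [E_add, E_sm, E_h, sub_eq_add_neg] using (E_mul_iff.2 a1).symm
  · simpa [E_add, E_sm, E_h, sub_eq_add_neg] using (E_mul_iff.2 b1).symm
  · simpa [E_add, E_cj, E_h] using (E_mul_iff.2 c1).symm

/-- four minimal vectors -/
def rq : ℕ → Fin 3 → Q
  | 1 => ![⟨1, -2, -1, 0, -1, 0, -1, 0⟩, ⟨2, 0, 0, 0, 0, 0, 0, 0⟩, ⟨2, 0, 0, 0, 0, 0, 0, 0⟩]
  | 2 => ![⟨2, 0, 0, 0, 0, 0, 0, 0⟩, ⟨1, -2, -1, 0, -1, 0, -1, 0⟩, ⟨2, 0, 0, 0, 0, 0, 0, 0⟩]
  | 3 => ![⟨1, -2, -1, 0, -1, 0, -1, 0⟩, ⟨0, 0, 2, 0, 0, 0, 0, 0⟩, ⟨0, 0, 2, 0, 0, 0, 0, 0⟩]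
  | _ => ![⟨4, 0, 0, 0, 0, 0, 0, 0⟩, ⟨0, 0, 0, 0, 0, 0, 0, 0⟩, ⟨0, 0, 0, 0, 0, 0, 0, 0⟩]

theorem rq_mem (i : ℕ) : (fun t => E (rq i t)) ∈ icoLeech := by
  unfold rq
  split
  · exact mem_of _ ⟨0, 1, 0, 1, 0, 1, 0, 1⟩ ⟨0, 0, 0, 0, 0, 0, 0, 0⟩ ⟨3, -2, 1, 0, 1, 0, 1, 0⟩
      ⟨by simp [InI], by simp [InI], rfl, rfl, rfl⟩
  · exact mem_of _ ⟨0, -1, 0, -1, 0, -1, 0, -1⟩ ⟨0, 1, 0, 1, 0, 1, 0, 1⟩ ⟨3, -2, 1, 0, 1, 0, 1, 0⟩
      ⟨by simp [InI], by simp [InI], rfl, rfl, rfl⟩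
  · exact mem_of _ ⟨0, 0, -1, 2, -1, 1, 0, 1⟩ ⟨0, 0, 0, 0, 0, 0, 0, 0⟩ ⟨1, 0, 1, -2, -1, 0, 1, 0⟩
      ⟨by simp [InI], by simp [InI], rfl, rfl, rfl⟩
  · exact mem_of _ ⟨1, -2, -1, 0, -1, 0, -1, 0⟩ ⟨0, 0, 0, 0, 0, 0, 0, 0⟩ ⟨1, -2, 1, 0, 1, 0, 1, 0⟩
      ⟨by simp [InI], by simp [InI], rfl, rfl, rfl⟩

/-- the vectors in the lattice -/
noncomputable def rv (i : ℕ) : icoLeech := ⟨_, rq_mem i⟩

theorem crd_rv (i : ℕ) : crd (rv i) = rq i := funext fun _ => crd_eq rfl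

theorem rv_norm (i : ℕ) : qip (rv i).1 (rv i).1 = 4 := (norm_iff _).2 (by
  rw [crd_rv]; unfold rq; split <;> exact ⟨rfl, rfl⟩)

/-- the reflections -/
noncomputable def rf (i : ℕ) : Equiv.Perm icoLeech := (exists_R (rv_norm i)).choose

theorem rf_spec (i : ℕ) : IsR (rv i) (rf i) := (exists_R (rv_norm i)).choose_spec

/-- their images in the model -/
noncomputable def mf : ℕ → M := SM.gen (mapR Prod.fst oc)

theorem oc_ok : ∀ c ∈ mapR Prod.fst oc, SM.ok c := Sem.ok_of_slp _ (L6 _ _).ok oc_so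

theorem mf_eq : ∀ i ∈ [0, 1, 2, 3], (mf i).1.1 = rm (rq i) := fun i hi => by
  have o := nthD_prop SM.ok_one oc_ok i
  refine (congrArg Units.val ((S VV hh).coe_sub o.2)).trans ((VV.sem_coe h1 hh o.1).trans ?_)
  clear o
  revert i
  decide +kernel

/-- the graph of the reduction -/
def D : Subgroup (Equiv.Perm icoLeech × M) where
  carrier := {p | ∀ x, pi1 (p.1 x) = p.2.1.1 *ᵥ pi1 x}
  one_mem' x := by simp
  mul_mem' a b x := (a _).trans (by rw [b x, mulVec_mulVec]; rfl)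
  inv_mem' {p} a x := by
    have := a (p.1⁻¹ x)
    rw [Equiv.Perm.inv_def, Equiv.apply_symm_apply] at this
    rw [this, mulVec_mulVec]
    simp [Equiv.Perm.inv_def]

theorem rf_le : mdl rf [0, 1, 2, 3] ≤ twoJ2 := Subgroup.closure_mono (by rintro _ ⟨i, -, rfl⟩; exact ⟨_, rf_spec i⟩)

theorem model : ∃ e : mdl rf [0, 1, 2, 3] ≃* M, ∀ x : mdl rf [0, 1, 2, 3], (x.1, e x) ∈ D :=
  iso_of_rel D (b := mf) (fun i hi x => (pi1_refl (rf_spec i) x).trans (by rw [mf_eq i hi, crd_rv]))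
    (fun x hx h => eq_one (two_le (rf_le hx)) fun y => by simpa using h y)
    (fun y h => Subtype.ext (Units.ext (mat_one h))) ((L6 _ _).top_of_run oc_ok op_ok)

theorem orb : orbit (mdl rf [0, 1, 2, 3]) (rv 0) = {x : icoLeech | qip x.1 x.1 = 4} ∧
    {x : icoLeech | qip x.1 x.1 = 4}.ncard = 37800 := by
  obtain ⟨e, he⟩ := model
  have s : orbit (mdl rf [0, 1, 2, 3]) (rv 0) ⊆ {x : icoLeech | qip x.1 x.1 = 4} := by
    rintro _ ⟨k, rfl⟩
    exact (two_le (rf_le k.2) _ _).trans (rv_norm 0)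
  have : Finite (mdl ((VV.sem h1 hh).bg bc) dom6) := fin6 _ _
  have a : 37800 ≤ _ := VV.le_orbit h1 hh (L6 VV hh).ok vc6
  have v : VV.vec (get 174 v6_0.v 0) = pi1 (rv 0) := by
    unfold pi1; rw [crd_rv]; decide +kernel
  have b := a.trans (Set.ncard_le_ncard (t := pi1 '' orbit (mdl rf [0, 1, 2, 3]) (rv 0)) (by
    rintro _ ⟨m, rfl⟩
    obtain ⟨k, rfl⟩ := e.surjective m
    exact ⟨_, ⟨k, rfl⟩, v ▸ he k _⟩) ((min_le.1.subset s).image _))
  have c := b.trans (Set.ncard_image_le (min_le.1.subset s))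
  exact ⟨Set.eq_of_subset_of_ncard_le s (min_le.2.trans c) min_le.1,
    le_antisymm min_le.2 (c.trans (Set.ncard_le_ncard s min_le.1))⟩

theorem conj_rf {f : Equiv.Perm icoLeech} (h : IsIcoReflection f) : ∃ k ∈ mdl rf [0, 1, 2, 3], k * rf 0 * k⁻¹ = f := by
  obtain ⟨r, h⟩ := h
  obtain ⟨k, rfl⟩ := orb.1.ge h.1
  exact ⟨k, k.2, (rf_spec 0).conj (two_le (rf_le k.2)) h⟩

theorem two_eq : twoJ2 = mdl rf [0, 1, 2, 3] := le_antisymm ((Subgroup.closure_le _).2 fun _ h => by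
  obtain ⟨k, hk, rfl⟩ := conj_rf h
  exact mul_mem (mul_mem hk (mem_mdl _ (by simp))) (inv_mem hk)) rf_le

/-- the isomorphism with the model -/
noncomputable def eqv : twoJ2 ≃* M := (MulEquiv.subgroupCongr two_eq).trans model.choose

theorem eqv_spec (f : twoJ2) (x : icoLeech) : pi1 (f.1 x) = (eqv f).1.1 *ᵥ pi1 x := model.choose_spec ⟨f.1, _⟩ x

theorem eqv_eq {f : twoJ2} {m : M} (h : ∀ x, pi1 (f.1 x) = m.1.1 *ᵥ pi1 x) : eqv f = m := by
  have := D.mul_mem (D.inv_mem (show (f.1, m) ∈ D from h)) (show (f.1, eqv f) ∈ D from eqv_spec f)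
  rw [Prod.inv_mk, Prod.mk_mul_mk, inv_mul_cancel] at this
  exact (inv_mul_eq_one.1 (Subtype.ext (Units.ext (mat_one this)))).symm

theorem rf_mem (i : ℕ) : rf i ∈ twoJ2 := Subgroup.subset_closure ⟨_, rf_spec i⟩

theorem eqv_rf : eqv ⟨rf 0, rf_mem 0⟩ = mf 0 := eqv_eq fun x => by
  rw [mf_eq 0 (by simp), ← crd_rv]; exact pi1_refl (rf_spec 0) x

/-- the projection of the model -/
noncomputable def pi : M →* Spor.J2 := (QuotientGroup.mk' _).comp eqv.symm.toMonoidHom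

theorem pi_surj : Function.Surjective pi := (QuotientGroup.mk'_surjective _).comp eqv.symm.surjective

theorem mem_center (m : M) : eqv.symm m ∈ Subgroup.center twoJ2 ↔ m ∈ Subgroup.center M := by
  simp only [Subgroup.mem_center_iff, eqv.symm.surjective.forall, ← map_mul, eqv.symm.injective.eq_iff]

theorem pi_ker : pi.ker = Subgroup.center M := Subgroup.ext fun m => (QuotientGroup.eq_one_iff _).trans (mem_center m)

/-- the isomorphism of the quotients -/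
noncomputable def eqq : M ⧸ Subgroup.center M ≃* Spor.J2 :=
  (QuotientGroup.quotientMulEquivOfEq pi_ker.symm).trans (QuotientGroup.quotientKerEquivOfSurjective pi pi_surj)

theorem eqq_mk (m : M) : eqq (QuotientGroup.mk m) = pi m := rfl

theorem card_J2 : Nat.card Spor.J2 = 604800 := (Nat.card_congr eqq.toEquiv).symm.trans cov.card

instance : Finite Spor.J2 := Finite.of_surjective _ pi_surj

theorem simple : IsSimpleGroup Spor.J2 :=
  have := cov.simple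
  eqq.symm.isSimpleGroup

/-- the codes of the centre -/
noncomputable def zz : List ℕ := [one, nthD one bc 0]

theorem inj : Inj (SM.map pi) zz := by
  have L := L6 VV hh
  refine (sinj.sub _).map (SM.prodW_spec L.ok [0]).1 (o := 2) ?_ (by decide +kernel)
  rw [pi_ker, cov.cen, ← L.evalW_base (by decide +kernel)]
  exact congrArg _ (SM.prodW_spec L.ok [0]).2.symm

end J2

end H15
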