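import Cfsg.Agent.H15.J2
import Cfsg.Agent.H15.J2Ae

/-! The Hall-Janko group: involutions and fusion (namespace H15.J2). -/

namespace H15.J2
open H13 Cfsg Cfsg.Spor Subgroup

universe w

theorem inj' : Inj (SM.map pi) zs := (by decide +kernel : zz = zs) ▸ inj

theorem invol {G : Type} [Group G] [Finite G] {π : M →* G} (J : Inj (SM.map π) zs) (hG : Nat.card G = 604800) :
    (∃ Q : Subgroup G, Nat.card Q = 32 ∧ ∃ f : alternatingGroup (Fin 5) →* _, Ext (π (mf 0)) Q f) ∧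
    ∀ {G' : Type w} [Group G'] (_ : G ≃* G') (P : Sylow 2 G'), (groupFusionSystem (P : Subgroup G')).IsSimple 2 := by
  have I : SInj SM := sinj.sub _
  have L := L6 VV hh
  have hz := zs_ok L.ok (zs := zs) (z := [0]) (o := 2) (by decide +kernel)
  have o := Sem.ok_of_slp _ L.ok fle_so
  obtain ⟨h0, hg⟩ := canon_ok hz J I cone_eq o fl_eq
  have I' := canon_inj hz J I cone_eq
  obtain ⟨EQ, cQ⟩ := en_of I' h0 fq_ok
  obtain ⟨EP, cP⟩ := en_of I' h0 fs_ok
  have hC := card_cent_le I' h0 fc_ok (a := 1920) hG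
  have e : mf 0 = SM.gen (mapR Prod.fst fle) 0 := congrArg SM.val (by decide +kernel)
  exact ⟨⟨_, cQ, e ▸ hg 0 ▸ (ext_of I' h0 EQ cQ f5 fx hC).1⟩, fus_of I' h0 EQ EP cQ cP (by rw [hG]; decide) f5 fx hC ff⟩

theorem ncard_mf : {y | IsConj (mf 0) y}.ncard = 315 := by
  have e : mf 0 = SM.gen rl 0 := congrArg SM.val (by decide +kernel)
  exact e ▸ ncard_class (sinj.sub _) (Sem.ok_of_slp _ (L6 VV hh).ok rle_so) rk_ok rw_ok card_M

theorem pi_mf : pi (mf 0) = QuotientGroup.mk ⟨rf 0, rf_mem 0⟩ := by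
  rw [← eqv_rf]; exact congrArg _ (eqv.symm_apply_apply _)

end H15.J2
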