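import Cfsg.Agent.H15.Cls
import Cfsg.Agent.H15.Tails
import Cfsg.Agent.H13.Words

/-!
Large models (namespace H15).
* `powB`, `extAt`, `Sem.ok_ext` (programs with stored values), `PcRel.card_le`, `VCod.dvd_pc`, `dvd_of_ord`,
  `le_index_of_dvd`;
* `rels_of_pres`, `pres_equiv` (a model with the universal property is the presented group).
-/

namespace H15
open H13 Cfsg.Spor

universe u

variable {G : Type*} [Group G] {mul : ℕ → ℕ → ℕ} {one : ℕ} {wf : ℕ → Bool}

/-- power by squaring -/
noncomputable def powB (mul : ℕ → ℕ → ℕ) (one : ℕ) (f : ℕ) : ℕ → ℕ → ℕ → ℕ :=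
  Nat.rec (fun _ _ a => a) (fun _ ih c k a => Bool.rec
    (force (Bool.rec (mul a c) a (Nat.beq (Nat.mod k (nat_lit 2)) (nat_lit 0))) fun a' =>
      force (Nat.div k (nat_lit 2)) fun k' => force (Bool.rec (mul c c) one (Nat.beq k' (nat_lit 0))) fun c' => ih c' k' a')
    a (Nat.beq k (nat_lit 0))) f

theorem Sem.powB_spec (S : Sem G mul one wf) {f c k a : ℕ} (hc : S.ok c) (ha : S.ok a) :
    S.ok (powB mul one f c k a) ∧ (k < 2 ^ f → S.val (powB mul one f c k a) = S.val a * S.val c ^ k) := by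
  induction f generalizing c k a with
  | zero => exact ⟨ha, fun h => by rw [show k = 0 by omega, pow_zero, mul_one]; rfl⟩
  | succ f ih =>
    have e : powB mul one (f + 1) c k a = Bool.rec (powB mul one f (Bool.rec (mul c c) one (Nat.beq (k / 2) 0)) (k / 2)
      (Bool.rec (mul a c) a (Nat.beq (k % 2) 0))) a (Nat.beq k 0) := rfl
    rw [e]
    cases h0 : Nat.beq k 0
    · have a1 : S.ok (Bool.rec (mul a c) a (Nat.beq (k % 2) 0)) ∧
          S.val (Bool.rec (mul a c) a (Nat.beq (k % 2) 0)) = S.val a * S.val c ^ (k % 2) := by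
        rcases Nat.mod_two_eq_zero_or_one k with h | h <;> rw [h]
        · exact ⟨ha, by simp [Nat.beq]⟩
        · exact ⟨S.ok_mul ha hc, by rw [pow_one]; exact S.val_mul ha hc⟩
      have a2 : S.ok (Bool.rec (mul c c) one (Nat.beq (k / 2) 0)) ∧
          S.val (Bool.rec (mul c c) one (Nat.beq (k / 2) 0)) ^ (k / 2) = S.val c ^ (2 * (k / 2)) := by
        rcases k / 2 with _ | m
        · exact ⟨S.ok_one, by simp⟩
        · exact ⟨S.ok_mul hc hc, by rw [pow_mul, sq]; exact congrArg (· ^ _) (S.val_mul hc hc)⟩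
      refine ⟨(ih a2.1 a1.1).1, fun h => ((ih a2.1 a1.1).2 (by omega)).trans ?_⟩
      rw [a1.2, a2.2, mul_assoc, ← pow_add, Nat.mod_add_div]
    · exact ⟨ha, fun _ => by rw [Nat.eq_of_beq_eq_true h0, pow_zero, mul_one]⟩

/-- power of a word -/
noncomputable def wpw (mul : ℕ → ℕ → ℕ) (one : ℕ) (lc u : List ℕ) (k : ℕ) : ℕ :=
  force (prodW mul one lc u) fun x => powB mul one (nat_lit 32) x k one

theorem Sem.wpw_spec (S : Sem G mul one wf) {lc u : List ℕ} {k : ℕ} (h : ∀ l ∈ u, S.ok (nthD one lc l)) :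
    S.ok (wpw mul one lc u k) ∧ (k < 2 ^ 32 → S.val (wpw mul one lc u k) = evalW (S.gen lc) u ^ k) := by
  have a := prodW_ok S h
  have b := S.powB_spec (f := 32) (k := k) a.1 S.ok_one
  rw [S.val_one, one_mul, a.2] at b
  exact b

/-- letter `m + i` is a power (or the inverse) of a word in the earlier letters -/
noncomputable def extAt (mul : ℕ → ℕ → ℕ) (one : ℕ) (wf : ℕ → Bool) (lc : List ℕ) (m : ℕ) (es : List (List ℕ × ℕ))
    (i : ℕ) : Bool :=
  force (Nat.add m i) fun l => force (nthD one lc l) fun c => Prod.rec (fun u k => band (allL (fun a => Nat.blt a l) u)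
    (Nat.rec (band (wf c) (force (prodW mul one lc u) fun x => Nat.beq (mul c x) one))
      (fun _ _ => Nat.beq (wpw mul one lc u k) c) k)) (nthD ([], nat_lit 0) es i)

theorem Sem.ok_ext (S : Sem G mul one wf) {lc lc' : List ℕ} (h0 : ∀ c ∈ lc, S.ok c) {es : List (List ℕ × ℕ)} {m n : ℕ}
    (hl : band (Nat.beq lc.length m) (Nat.beq lc'.length n) = true)
    (h : ∀ i < n, extAt mul one wf (apd lc lc') m es i = true) : ∀ c ∈ apd lc lc', S.ok c := by
  simp only [band_eq_true, Nat.beq_eq] at hl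
  have key : ∀ l, S.ok (nthD one (apd lc lc') l) := fun l => by
    induction l using Nat.strong_induction_on with
    | _ l ih =>
      rcases Nat.lt_or_ge l m with c | c
      · rw [apd_eq, nthD_eq, List.getD_append _ _ _ _ (by omega), ← nthD_eq]; exact nthD_prop S.ok_one h0 l
      rcases Nat.lt_or_ge l (m + n) with d | d
      · obtain ⟨i, rfl⟩ := Nat.exists_eq_add_of_le c
        have := h i (by omega)
        simp only [extAt, force_eq] at this
        revert this
        rcases nthD (([] : List ℕ), 0) es i with ⟨u, k⟩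
        intro this
        obtain ⟨a, b⟩ := band_eq_true.1 this
        have o : ∀ l ∈ u, S.ok (nthD one (apd lc lc') l) := fun l hl => ih l (Nat.blt_eq.mp (allL_iff.1 a l hl))
        rcases k with _ | k
        · obtain ⟨b1, b2⟩ := band_eq_true.1 b
          exact S.ok_l b1 (prodW_ok S o).1 ((congrArg S.ok (Nat.eq_of_beq_eq_true b2)).mpr S.ok_one)
        · exact Nat.eq_of_beq_eq_true b ▸ (S.wpw_spec o).1
      · rw [nthD_eq, List.getD_eq_default _ _ (by rw [apd_eq, List.length_append]; omega)]; exact S.ok_one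
  intro c hc
  obtain ⟨l, hl, rfl⟩ := List.getElem_of_mem hc
  have := key l
  rwa [nthD_eq, List.getD_eq_getElem _ _ hl] at this

/-- some letters -/
noncomputable def sel (one : ℕ) (lc ix : List ℕ) : List ℕ := mapR (nthD one lc) ix

theorem Sem.ok_sel (S : Sem G mul one wf) {lc : List ℕ} (h0 : ∀ c ∈ lc, S.ok c) (ix : List ℕ) :
    ∀ c ∈ sel one lc ix, S.ok c := by
  rw [sel, mapR_eq]; exact List.forall_mem_map.2 fun i _ => nthD_prop S.ok_one h0 i

theorem PcRel.card_le [Finite G] {D : PC} {g : ℕ → G} (R : PcRel D g) (hp : 0 < D.p) (hD : D.ok = true) :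
    Nat.card (Subgroup.closure (g '' Set.Iio D.n)) ≤ D.p ^ D.n := by
  simp only [PC.ok, band_eq_true, Nat.blt_eq, Nat.ble_eq, Nat.beq_eq, allL_iff, allLt_iff] at hD
  obtain ⟨-, -, -, -, -, -, -, d4⟩ := hD
  have m : ∀ j < D.n, ∀ i ≤ j, evalW g (rule D.rl j i) ∈ Subgroup.closure (g '' Set.Ioo i D.n) := fun j hj i hi =>
    evalW_mem fun l hl => Subgroup.subset_closure ⟨l, d4 j hj i (by omega) l hl, rfl⟩
  refine card_pc_le hp (fun i hi => ?_) fun j hj i hi => ?_
  · have := R.pc i hi i le_rfl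
    rw [D.lhs_self, D.rhs_self, evalW_pw, evalW_cons, evalW_nil, mul_one] at this
    exact this ▸ m i hi i le_rfl
  · have := R.pc j hj i hi.le
    rw [D.lhs_lt hi, D.rhs_lt hi, evalW_cons, evalW_cons, evalW_nil, mul_one, evalW_cons] at this
    rw [mul_assoc, this, inv_mul_cancel_left]
    exact m j hj i hi.le

theorem PcRel.dvd [Finite G] {D : PC} {g : ℕ → G} (R : PcRel D g) (hp : 0 < D.p) (hD : D.ok = true)
    (h : D.p ^ D.n ≤ Nat.card (Subgroup.closure (g '' Set.Iio D.n))) : D.p ^ D.n ∣ Nat.card G :=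
  le_antisymm (R.card_le hp hD) h ▸ Subgroup.card_subgroup_dvd_card _

/-- the word `u` to the power `k` has order `p` -/
noncomputable def ordOk (mul : ℕ → ℕ → ℕ) (one : ℕ) (lc u : List ℕ) (k p : ℕ) : Bool :=
  band (Nat.blt k (nat_lit 1000000)) (band (Nat.blt p (nat_lit 1000000)) (force (wpw mul one lc u k) fun x =>
    band (Bool.rec true false (Nat.beq x one)) (Nat.beq (powB mul one (nat_lit 32) x p one) one)))

theorem ord_of {S : Sem G mul one wf} (I : SInj S) {lc u : List ℕ} (h0 : ∀ c ∈ lc, S.ok c) {k p : ℕ} (hp : p.Prime)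
    (h : ordOk mul one lc u k p = true) : orderOf (evalW (S.gen lc) u ^ k) = p := by
  simp only [ordOk, band_eq_true, Nat.blt_eq, force_eq, Nat.beq_eq] at h
  obtain ⟨a1, a2, a3, a4⟩ := h
  have w := S.wpw_spec (u := u) (k := k) fun l _ => nthD_prop S.ok_one h0 l
  have b := (S.powB_spec (f := 32) (k := p) w.1 S.ok_one).2 (by omega)
  rw [a4, S.val_one, one_mul, w.2 (by omega)] at b
  have := Fact.mk hp
  refine orderOf_eq_prime b.symm fun e => ?_
  rw [← w.2 (by omega), ← S.val_one, ← I.beq w.1 S.ok_one] at e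
  rw [e] at a3; exact absurd a3 (by simp)

theorem dvd_of_ord {S : Sem G mul one wf} (I : SInj S) {lc u : List ℕ} (h0 : ∀ c ∈ lc, S.ok c) {k p : ℕ} (hp : p.Prime)
    (h : ordOk mul one lc u k p = true) : p ∣ Nat.card G := ord_of I h0 hp h ▸ orderOf_dvd_natCard _

theorem le_index_of_dvd [Finite G] {A : Subgroup G} {a N b c : ℕ} (ha : Nat.card A ∣ a) (hD : N * b ∣ Nat.card G)
    (h : a = b * c ∧ Nat.gcd N c = 1 ∧ 0 < b) : N ≤ A.index := by
  rw [← A.index_mul_card] at hD
  have h1 := hD.trans (Nat.mul_dvd_mul_left _ ha)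
  rw [h.1, Nat.mul_comm b, ← Nat.mul_assoc] at h1
  exact Nat.le_of_dvd (Nat.pos_of_ne_zero A.index_ne_zero_of_finite)
    (Nat.Coprime.dvd_of_dvd_mul_right h.2.1 (Nat.dvd_of_mul_dvd_mul_right h.2.2 h1))

theorem range_eq {M : Type*} [Group M] {g0 : ℕ → M} {g : ℕ → G} {dom : List ℕ} {ψ : mdl g0 dom →* G}
    (h : ∀ i ∈ dom, ψ (mgen g0 dom i) = g i) : ψ.range = mdl g dom := by
  rw [MonoidHom.range_eq_map, ← closure_mgen, MonoidHom.map_closure, Set.image_image]
  exact congrArg _ (Set.image_congr h)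

theorem map_mdl {M : Type*} [Group M] (φ : M →* G) (g : ℕ → M) (dom : List ℕ) :
    (mdl g dom).map φ = mdl (fun i => φ (g i)) dom := by
  rw [mdl, MonoidHom.map_closure, Set.image_image]; rfl

/-- the generators of `dom'` are words in those of `dom` -/
noncomputable def subD (R : List (List ℕ × ℕ)) (sb : List (ℕ × ℕ × ℕ)) (k : ℕ) (dom dom' : List ℕ) : Bool :=
  allL (fun i => allL (fun l => memL (Nat.shiftRight l (nat_lit 1)) dom) (subst R sb k [Nat.mul (nat_lit 2) i])) dom'

theorem mdl_le_of_sub {R : List (List ℕ × ℕ)} {g : ℕ → G} (hR : Rels R g) {sb : List (ℕ × ℕ × ℕ)} {k : ℕ}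
    {dom dom' : List ℕ} (h : subD R sb k dom dom' = true) : mdl g dom' ≤ mdl g dom := by
  simp only [subD, allL_iff, memL_iff] at h
  refine (Subgroup.closure_le _).2 ?_
  rintro _ ⟨i, hi, rfl⟩
  have e : g i = evalW (sg g) (subst R sb k [2 * i]) := by rw [evalW_subst hR]; simp [sg_even]
  rw [SetLike.mem_coe, e]
  exact evalW_mem fun l hl => sg_mem (mem_mdl g (Nat.shiftRight_one l ▸ h i hi l hl))

theorem inj_of_simple {M : Type*} [Group M] [IsSimpleGroup M] [Finite G] {ψ : M →* G}
    (h : ψ.range.index < Nat.card G) : Function.Injective ψ := by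
  refine (MonoidHom.ker_eq_bot_iff ψ).1 ((Subgroup.Normal.eq_bot_or_eq_top inferInstance).resolve_right fun c => ?_)
  rw [MonoidHom.range_eq_bot_iff.2 (MonoidHom.ker_eq_top_iff.1 c), Subgroup.index_bot] at h
  exact h.false

theorem card_range {M : Type*} [Group M] {ψ : M →* G} (h : Function.Injective ψ) : Nat.card ψ.range = Nat.card M :=
  (Nat.card_congr (MonoidHom.ofInjective h).toEquiv).symm

theorem card_closure_map {M : Type*} [Group M] {ψ : M →* G} (h : Function.Injective ψ) (g : ℕ → M) (s : Set ℕ) :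
    Nat.card (Subgroup.closure ((fun i => ψ (g i)) '' s)) = Nat.card (Subgroup.closure (g '' s)) := by
  rw [← Subgroup.card_map_of_injective h, MonoidHom.map_closure, Set.image_image]

theorem NoStem.congr {p : ℕ} {A B : Type u} [Group A] [Group B] (e : B ≃* A) (h : NoStem p A) : NoStem p B :=
  fun X _ _ ξ hξ he => by
    have k : (e.toMonoidHom.comp ξ).ker = ξ.ker := MonoidHom.ker_comp_of_injective _ _ e.injective
    exact k ▸ h X _ ⟨e.surjective.comp hξ.1, k ▸ hξ.2.1, k ▸ hξ.2.2⟩ (k ▸ he)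

theorem inv_sg {g : ℕ → G} {m : ℕ} (h : ∀ i, m ≤ i → g i = 1) : Inv (sg g) (ones (2 * m)) := by
  refine inv_of_lt (m := 2 * m) (fun l hl => by simp [sg, h (l / 2) (by omega)]) (by rw [ones_eq]; exact Nat.sub_one_lt (by positivity))
    fun l hl => ?_
  have : ivx (ones (2 * m)) l = l ^^^ 1 := by
    show l ^^^ ((ones (2 * m) >>> l) &&& 1) = _
    rw [Nat.and_one_is_mod, ones_eq]
    have := Nat.testBit_two_pow_sub_one (2 * m) l
    rw [Nat.testBit, Nat.and_comm, Nat.and_one_is_mod] at this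
    simp only [hl, decide_true, bne_iff_ne] at this
    rw [show (2 ^ (2 * m) - 1) >>> l % 2 = 1 by omega]
  rw [this, sg_xor, inv_mul_cancel]

/-- the relators of a list, as words -/
noncomputable def flat (R : List (List ℕ × ℕ)) : List (List ℕ) := mapR (fun r => pw r.1 r.2) R

theorem Rels.flat {R : List (List ℕ × ℕ)} {g : ℕ → G} : Rels R g ↔ H13.Rels (sg g) (flat R) := by
  simp only [Rels, H13.Rels, H15.flat, mapR_eq, List.forall_mem_map, evalW_pw]

section
variable {α : Type} [DecidableEq α] {edges : List (α × ℕ × α)} {extra : List (FreeGroup α)} {gs : List α}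
  (hgs : ∀ x, x ∈ gs) {m : ℕ} (hm : gs.length = m) {st : List (List ℕ)}
  (hst : presW (fun x => 2 * gs.idxOf x) (ones (2 * m)) gs edges extra = st)
include hgs hm hst

theorem rels_of_pres : H13.Rels (sg (genL gs : ℕ → CoxPresented α edges extra)) st :=
  hst ▸ rels_pres (inv_sg fun _ hi => genL_of_le (hm ▸ hi)) (fun x => (sg_even _ _).trans (genL_idx hgs x)) gs

theorem rels_known {R : List (List ℕ × ℕ)} (h : allL (knownOk (ones (2 * m)) st) (flat R) = true) :
    Rels R (genL gs : ℕ → CoxPresented α edges extra) :=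
  Rels.flat.2 fun r hr => (rels_of_pres hgs hm hst).known (inv_sg fun _ hi => genL_of_le (hm ▸ hi)) (allL_iff.1 h r hr)

/-- a model with the universal property is the presented group -/
theorem pres_equiv (hn : gs.Nodup) {M : Type} [Group M] {g : ℕ → M} {R : List (List ℕ × ℕ)}
    (U : UP.{0} (mgen g (List.range m)) (List.range m) R) (hR : Rels R (mgen g (List.range m)))
    (h1 : Rels R (genL gs : ℕ → CoxPresented α edges extra))
    (h2 : allL (knownOk (ones (2 * m)) (flat R)) st = true) :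
    ∃ e : CoxPresented α edges extra ≃* mdl g (List.range m), ∀ i, e (genL gs i) = mgen g (List.range m) i := by
  have t : ∀ i, m ≤ i → mgen g (List.range m) i = 1 := fun i hi => dif_neg (by simpa using hi)
  have I := inv_sg t
  let φ := presHom (edges := edges) (extra := extra) I hgs
    (hst ▸ fun r hr => (Rels.flat.1 hR).known I (allL_iff.1 h2 r hr))
  have a : ∀ i, φ (genL gs i) = mgen g (List.range m) i := fun i => by
    by_cases c : i < gs.length
    · rw [genL, List.getD_eq_getElem _ _ (by simpa using c), List.getElem_map]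
      exact (presHom_of _).trans (by rw [hn.idxOf_getElem, sg_even])
    · rw [genL_of_le (by omega), map_one, t i (by omega)]
  obtain ⟨ψ, hψ⟩ := U _ _ h1
  refine ⟨MonoidHom.toMulEquiv φ ψ (PresentedGroup.ext fun x => ?_)
    (MonoidHom.eq_of_eqOn_dense (closure_mgen g _) ?_), a⟩
  · have := List.idxOf_lt_length_of_mem (hgs x)
    rw [← genL_idx hgs x, MonoidHom.comp_apply, a, hψ _ (List.mem_range.2 (hm ▸ this))]; rfl
  · rintro _ ⟨i, hi, rfl⟩
    rw [MonoidHom.comp_apply, hψ i hi, a]; rfl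

end

end H15
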