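import Cfsg.Agent.H15.Inv
import Cfsg.Agent.H28.Simple
import Cfsg.Agent.H14.PK2

/-!
Fusion in groups with an involution centraliser of shape `2^{1+4} : A₅` (namespace H15).
* `Ext.fus`, `fusOk`, `fus_of` (simplicity of the fusion system), `conj_all` (one class of involutions).
-/

namespace H15
open H13 Cfsg Subgroup

variable {G A : Type*} [Group G] [Group A] [Finite G]

theorem isSyl_of {P : Subgroup G} (hP : Nat.card P = 2 ^ 7) (hG : ¬ 2 ^ 8 ∣ Nat.card G) : H26.IsSyl 2 P ⊤ :=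
  ⟨le_top, .of_card hP, fun Q hQ h _ => by
    obtain ⟨k, e⟩ := hQ.exists_card_eq
    refine (eq_of_le_of_card_ge h ?_).symm
    rw [e, hP]
    exact Nat.pow_le_pow_right two_pos (not_lt.1 fun c => hG ((pow_dvd_pow 2 c).trans (e ▸ card_subgroup_dvd_card Q)))⟩

theorem Ext.fus [IsSimpleGroup A] {t : G} {Q P : Subgroup G} {f : A →* G} (X : Ext t Q f)
    (hC : Nat.card Q * Nat.card A = 1920) (hP : Nat.card P = 2 ^ 7) (hG : ¬ 2 ^ 8 ∣ Nat.card G) (h1 : Q ≤ P)
    (h2 : P ≤ centralizer {t}) {u v : G} (hu : u ^ 2 = 1) (hv : v ^ 2 = 1) (cu : u ∈ centralizer {t})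
    (cv : v ∈ centralizer {t}) (ho : (u * v) ^ 3 = 1) (hn : u * v ∈ normalizer (P : Set G))
    (hu' : u ∉ normalizer (P : Set G)) (ne : u * v ≠ 1)
    (h3 : ∀ T : Subgroup G, t ∈ T → (∀ x ∈ T, ∀ g : G, g * x * g⁻¹ ∈ P → g * x * g⁻¹ ∈ T) → P ≤ T) :
    (groupFusionSystem P).IsSimple 2 := by
  have ot := X.aes.ord
  have t1 : t ≠ 1 := fun e => by simp [e] at ot
  have tP := h1 X.aes.mem
  have z : ∀ x, x ≠ 1 → (∀ y ∈ P, y * x = x * y) → x = t := fun x a b => ((mem_two ot).1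
    (X.cen x (X.centric fun y hy => b y (h1 hy)) fun y hy => b y (h1 hy))).resolve_left a
  refine H28.isSimple_group (isSyl_of hP hG) (fun e => t1 (mem_bot.1 (e.le tP))) (fun T a b c => le_antisymm a ?_) ?_
  · have : (T.subgroupOf P).Normal := ⟨fun x hx g => c _ hx _ (g * x * g⁻¹).2⟩
    have := (IsPGroup.of_card (p := 2) hP).isNilpotent
    obtain ⟨x, ⟨x1, x2⟩, x3⟩ := (bot_or_exists_ne_one _).resolve_left (H04.inf_center_ne_bot (T.subgroupOf P) fun e =>
      b (by rw [← map_subgroupOf_eq_of_le a, e, Subgroup.map_bot]))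
    refine h3 T (z x (fun e => x3 (Subtype.ext e)) (fun y hy => ?_) ▸ x1) c
    exact congrArg Subtype.val (mem_center_iff.1 x2 ⟨y, hy⟩)
  have n : normalizer (P : Set G) ≤ centralizer {t} := fun g hg => mem_centralizer_singleton_iff.2 (by
    rw [← mul_inv_eq_iff_eq_mul]
    refine z _ (by simpa [mul_inv_eq_iff_eq_mul] using t1) fun y hy => ?_
    have := mem_centralizer_singleton_iff.1 (h2 ((mem_normalizer_iff''.1 hg y).1 hy))
    calc y * (g * t * g⁻¹) = g * (g⁻¹ * y * g * t) * g⁻¹ := by group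
      _ = _ := by rw [this]; group)
  let K := P ⊔ zpowers (u * v)
  have k : K ≤ normalizer (P : Set G) := sup_le le_normalizer (zpowers_le.2 hn)
  have d : 384 ∣ Nat.card K := Nat.Coprime.mul_dvd_of_dvd_of_dvd (m := 2 ^ 7) (n := 3) (by decide)
    (hP ▸ card_dvd_of_le le_sup_left) (by
      rw [← orderOf_eq_prime (p := 3) ho ne, ← Nat.card_zpowers]; exact card_dvd_of_le le_sup_right)
  obtain ⟨m, e⟩ := d.trans (card_dvd_of_le k)
  have d2 := card_dvd_of_le n
  rw [X.compl.2, hC, e] at d2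
  have e2 : normalizer (P : Set G) ≤ K := by
    rcases (Nat.dvd_prime Nat.prime_five).1 (Nat.dvd_of_mul_dvd_mul_left (by decide : 0 < 384) d2) with c | c
    · exact (eq_of_le_of_card_ge k (by rw [e, c]; exact Nat.le_of_dvd Nat.card_pos d)).ge
    · exact absurd ((eq_of_le_of_card_ge n (by rw [X.compl.2, hC, e, c]; decide)).ge cu) hu'
  have p : ∀ {x : G}, x ^ 2 = 1 → x ∈ centralizer {t} → x ∈ pElementClosure 2 (normalizer (Q : Set G)) := fun a b => by
    obtain ⟨i, -, c⟩ := (Nat.dvd_prime_pow Nat.prime_two (m := 1)).1 (orderOf_dvd_of_pow_eq_one a)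
    exact subset_closure ⟨X.le_norm b, i, c⟩
  exact e2.trans (sup_le (le_sup_left.trans le_sup_left) (zpowers_le.2 (mem_sup_right (subset_closure
    ⟨hn, Q, h1, fun c h _ => X.centric h, mul_mem (p hu cu) (p hv cv)⟩))))

variable {mul : ℕ → ℕ → ℕ} {one : ℕ} {wf : ℕ → Bool} {S : Sem G mul one wf}

/-- a Sylow subgroup `L` above `L'` normalised by the letter `n = b c` but not by `b`, and generated by fusion -/
noncomputable def fusOk (mul : ℕ → ℕ → ℕ) (one : ℕ) (lc L' L : List ℕ) (t b c n : ℕ) (pr : List (ℕ × ℕ × ℕ)) : Bool :=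
  force (nthD one lc t) fun z => band (allL (fun x => memL x L) L') (band (allL (fun x => Nat.beq (mul x z) (mul z x)) L)
    (band (Nat.beq (nthD one lc n) (prodW mul one lc [b, c])) (band (nrmOk mul one lc L n (nat_lit 2))
      (band (Bool.rec true false (bor (nrmOk mul one lc L b (nat_lit 1)) (Nat.beq (nthD one lc n) one)))
        (scRun mul one lc L pr [z] fun acc => allL (fun x => memL x acc) L)))))

theorem fus_of (I : SInj S) {lc L' L : List ℕ} (h0 : ∀ c ∈ lc, S.ok c) {Q P : Subgroup G} (E' : En S Q L')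
    (E : En S P L) (hQ : Nat.card Q = 32) (hP : Nat.card P = 128) (hG : ¬ 256 ∣ Nat.card G) {t a b c q n : ℕ}
    (h1 : a5Ok mul one lc t a b c = true) (h : extOk mul one lc L' t a b c q = true)
    (hC : Nat.card (centralizer ({S.gen lc t} : Set G)) ≤ 1920) {pr : List (ℕ × ℕ × ℕ)}
    (hf : fusOk mul one lc L' L t b c n pr = true) {G' : Type*} [Group G'] (e : G ≃* G') (R : Sylow 2 G') :
    (groupFusionSystem (R : Subgroup G')).IsSimple 2 := by
  obtain ⟨⟨f, X⟩, -⟩ := ext_of I h0 E' hQ h1 h hC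
  have o := nthD_prop S.ok_one h0
  have p := fun u => S.prodW_spec h0 u
  simp only [fusOk, force_eq, band_eq_true, allL_iff] at hf
  obtain ⟨a1, a2, a3, a4, a5, a6⟩ := hf
  simp only [a5Ok, band_eq_true, allL_iff, List.forall_mem_cons, I.beq (p _).1 S.ok_one, I.beq (p _).1 (p _).1,
    (p _).2, S.val_one] at h1
  obtain ⟨⟨-, -, r2, r3, -, r5, -⟩, ⟨-, c2, c3, -⟩, -⟩ := h1
  have r5' := (evalW_pw _ _ _).symm.trans r5
  simp only [List.map, List.prod_cons, List.prod_nil, mul_one, evalW_cons, evalW_nil, ← sq] at r2 r3 r5' c2 c3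
  have en : S.gen lc n = S.gen lc b * S.gen lc c := ((I.beq (o n) (p _).1).1 a3).trans (by simp [(p _).2])
  have a7 : ¬ (nrmOk mul one lc L b 1 = true ∨ Nat.beq (nthD one lc n) one = true) := by
    rw [← bor_eq_true]; intro c; erw [c] at a5; exact absurd a5 (by simp)
  refine H28.isSimple_transport e (isSyl_of hP hG) (X.fus (by rw [hQ, nat_card_alternatingGroup]; simp; rfl) hP hG
    (E'.forall fun x hx ox => (E.mem I ox).2 (a1 x hx)) (E.forall fun x hx ox => mem_centralizer_singleton_iff.2 ?_)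
    r2 r3 (mem_centralizer_singleton_iff.2 c2) (mem_centralizer_singleton_iff.2 c3) r5'
    (en ▸ (E.nrm I h0 (en ▸ r5')).1 a4) (fun c => a7 (.inl ((E.nrm I h0 r2).2 c)))
    (fun c => a7 (.inr ((I.beq (o n) S.ok_one).2 (en.trans (c.trans S.val_one.symm))))) fun T b1 b2 => ?_) R
  · exact (S.val_mul ox (o t)).symm.trans ((congrArg _ (Nat.eq_of_beq_eq_true (a2 x hx))).trans (S.val_mul (o t) ox))
  · obtain ⟨acc, c1, c2⟩ := scRun_spec h0 E b2 a6 (List.forall_mem_singleton.2 ⟨o t, b1⟩)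
    exact E.forall fun x hx _ => (c1 x (memL_iff.1 (allL_iff.1 c2 x hx))).2

theorem card_cent_le' {M : Type*} [Group M] [Finite M] {S : Sem M mul one wf} (I : SInj S) {π : M →* G}
    (hk : ∀ z, π z = 1 → z ∈ center M ∧ z ^ 3 = 1) {lc ix cs : List ℕ} (h0 : ∀ c ∈ lc, S.ok c) {t b k d a : ℕ}
    (h : clsK mul one lc ix t b cs (disOk k d) = true) (ht : prodW mul one lc [t, t] = one) (e : Nat.card G = d * a) :
    Nat.card (centralizer ({π (S.gen lc t)} : Set G)) ≤ a := by
  obtain ⟨acc, a1, a2⟩ := cls_spec h0 h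
  have t2 : S.gen lc t ^ 2 = 1 := by simpa [ht, S.val_one, sq] using (S.prodW_spec h0 [t, t]).2.symm
  have q : ∀ {x}, IsConj (S.gen lc t) x → x ^ 2 = 1 := fun h => isConj_one_right.1 (t2 ▸ h.pow 2)
  have := (card_ge I (X := {y | IsConj (S.gen lc t) y}) (Set.toFinite _) a1 a2).trans (Set.ncard_le_ncard_of_injOn π
    (t := {y | IsConj (π (S.gen lc t)) y}) (fun _ h => π.map_isConj h) fun x hx y hy e => by
      obtain ⟨c, c3⟩ := hk (x⁻¹ * y) (by rw [map_mul, map_inv, e, inv_mul_cancel])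
      have := (Commute.mul_pow (mem_center_iff.1 c x) 2).symm
      rw [mul_inv_cancel_left, q hx, q hy, one_mul] at this
      rwa [pow_succ, this, one_mul, inv_mul_eq_one] at c3)
  refine Nat.le_of_mul_le_mul_left (c := d) (by rw [← e, ← ncard_conj (π (S.gen lc t))]; gcongr) (Nat.pos_of_ne_zero ?_)
  rintro rfl
  exact Nat.card_pos.ne' (by simpa using e)

omit [Finite G] in
theorem zs_ok {lc zs z : List ℕ} (h0 : ∀ c ∈ lc, S.ok c) {o : ℕ}
    (h : zs = (List.range o).map (powC mul one (prodW mul one lc z))) : ∀ c ∈ zs, S.ok c :=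
  h ▸ List.forall_mem_map.2 fun k _ => (S.powC_spec (S.prodW_spec h0 z).1 k).1

/-- all involutions in `L` lie in `acc` -/
noncomputable def invK (mul : ℕ → ℕ → ℕ) (one : ℕ) (L acc : List ℕ) : Bool :=
  allL (fun x => bor (Nat.beq x one) (Bool.rec true (memL x acc) (Nat.beq (mul x x) one))) L

theorem conj_all (I : SInj S) {lc L ix cs : List ℕ} (h0 : ∀ c ∈ lc, S.ok c) {P : Subgroup G} (E : En S P L) {k m t b : ℕ}
    (hP : Nat.card P = 2 ^ k) (hG : Nat.card G = 2 ^ k * m) (hm : ¬ 2 ∣ m)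
    (h : clsK mul one lc ix t b cs (invK mul one L) = true) (x y : G) (hx : orderOf x = 2) (hy : orderOf y = 2) :
    IsConj x y := by
  obtain ⟨acc, a1, a2⟩ := cls_spec h0 h
  have k : ∀ x : G, orderOf x = 2 → IsConj (S.gen lc t) x := fun x hx => by
    have x2 : x ^ 2 ^ 1 = 1 := by rw [pow_one, ← hx, pow_orderOf_eq_one]
    obtain ⟨g, a⟩ := H14.PK.exists_conj_mem Nat.prime_two hP hG hm x2
    obtain ⟨c, c1, c2⟩ := E.ex _ a
    have o := (E.ok c c1).1
    have := allL_iff.1 a2 c c1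
    rw [(I.beq (S.ok_mul o o) S.ok_one).2 (by rw [S.val_mul o o, c2, ← sq, conj_pow, S.val_one]; simpa using x2),
      bor_eq_true, I.beq o S.ok_one, c2, S.val_one] at this
    refine (a1 c (memL_iff.1 (this.resolve_left fun e => ?_))).2.trans (c2 ▸ (isConj_iff.2 ⟨g, rfl⟩).symm)
    simp [show x = 1 by simpa [mul_inv_eq_iff_eq_mul] using e] at hx
  exact (k x hx).symm.trans (k y hy)

end H15
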