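import Cfsg.Agent.H15.Fix
import Cfsg.Agent.H15.Fus
import Cfsg.Agent.H14.PK3
import Cfsg.Agent.S2119

/-!
Centralisers that are central extensions (namespace H15).
* `CE`, `ce_of_hom`, `exists_hom_of_rep` (a quotient from two compatible actions), `affOk`, `VCod.apts`;
* `AltD`, `altOk` (double covers of alternating groups), `Gr` and its consequences for fusion and automorphisms;
* `semT` (permutation tables as codes), `transp`.
-/

namespace H15
open H13 Cfsg Subgroup Equiv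

variable {G A : Type*} [Group G] [Group A] {t : G}

/-- `t` as an element of its centraliser -/
def ct (t : G) : centralizer ({t} : Set G) := ⟨t, mem_centralizer_singleton_iff.2 rfl⟩

theorem ct_le (t : G) : zpowers (ct t) ≤ center _ :=
  zpowers_le.2 (mem_center_iff.2 fun x => Subtype.ext (mem_centralizer_singleton_iff.1 x.2))

theorem card_ct (t : G) : Nat.card (zpowers (ct t)) = orderOf t := by rw [Nat.card_zpowers, ← orderOf_coe]; rfl

/-- the centraliser of `t` is an extension of `A` by the group generated by `t` -/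
structure CE (t : G) (π : centralizer ({t} : Set G) →* A) : Prop where
  surj : Function.Surjective π
  ker : π.ker = zpowers (ct t)

theorem CE.center {π : centralizer ({t} : Set G) →* A} (E : CE t π) (hA : center A = ⊥) :
    Nat.card (center (centralizer ({t} : Set G))) = orderOf t ∧
      Nonempty (centralizer ({t} : Set G) ⧸ center (centralizer ({t} : Set G)) ≃* A) := by
  have e : Subgroup.center (centralizer ({t} : Set G)) = π.ker := le_antisymm (fun x hx => mem_bot.1 (hA.le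
    (mem_center_iff.2 fun a => by
      obtain ⟨y, rfl⟩ := E.surj a
      rw [← map_mul, mem_center_iff.1 hx, map_mul]))) (E.ker.le.trans (ct_le t))
  exact ⟨by rw [e, E.ker, card_ct],
    ⟨(QuotientGroup.quotientMulEquivOfEq e).trans (QuotientGroup.quotientKerEquivOfSurjective π E.surj)⟩⟩

theorem ce_of_hom [Finite G] {K : Subgroup G} (hK : K ≤ centralizer {t}) {φ : K →* A} (hs : Function.Surjective φ)
    (ht : t ∈ K) (h1 : φ ⟨t, ht⟩ = 1) (hc : Nat.card (centralizer ({t} : Set G)) ≤ orderOf t * Nat.card A) :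
    ∃ π : centralizer ({t} : Set G) →* A, CE t π := by
  have a := φ.ker.card_mul_index
  rw [index_ker, MonoidHom.range_eq_top.2 hs, card_top] at a
  have b : zpowers (⟨t, ht⟩ : K) ≤ φ.ker := zpowers_le.2 h1
  have c := card_le_of_le b
  rw [Nat.card_zpowers, ← orderOf_coe] at c
  obtain rfl := eq_of_le_of_card_ge hK (hc.trans (a ▸ Nat.mul_le_mul_right _ c))
  have := Finite.of_surjective _ hs
  exact ⟨φ, hs, (eq_of_le_of_card_ge b (by
    rw [← a] at hc; exact (Nat.le_of_mul_le_mul_right hc Nat.card_pos).trans (card_ct t).ge)).symm⟩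

theorem exists_hom_of_rep {α β : Type*} [MulAction G α] [MulAction A β] {P : Pts α} {Q : Pts β} (hn : Q.n = P.n)
    {K : Subgroup A} (hF : Faith Q K) {s : Set (G × A)} (h : ∀ p ∈ s, p.2 ∈ K ∧ ∃ f, Rep P p.1 f ∧ Rep Q p.2 f) :
    ∃ φ : closure (Prod.fst '' s) →* K, ∀ p (hp : p ∈ s), (φ ⟨p.1, subset_closure ⟨p, hp, rfl⟩⟩ : A) = p.2 := by
  have k : ∀ g ∈ closure (Prod.fst '' s), ∃ a ∈ K, ∃ f, Rep P g f ∧ Rep Q a f := fun g hg => by
    induction hg using closure_induction with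
    | mem _ e => obtain ⟨p, hp, rfl⟩ := e; exact ⟨_, h p hp⟩
    | one => exact ⟨1, one_mem _, _, .one, .one⟩
    | mul _ _ _ _ a b =>
      obtain ⟨_, a1, _, a2, a3⟩ := a
      obtain ⟨_, b1, _, b2, b3⟩ := b
      exact ⟨_, mul_mem a1 b1, _, a2.mul b2, a3.mul b3⟩
    | inv _ _ a =>
      obtain ⟨_, a1, f, a2, a3⟩ := a
      obtain ⟨f', e⟩ := a2.exists_inv
      have m := a2.mul e
      rw [mul_inv_cancel] at m
      exact ⟨_, inv_mem a1, f', e, a3.inv fun i hi => ⟨hn ▸ (e i (hn ▸ hi)).1, m.unique .one (hn ▸ hi)⟩⟩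
  have u : ∀ {g : G} {a b f f'}, a ∈ K → b ∈ K → Rep P g f → Rep Q a f → Rep P g f' → Rep Q b f' → a = b :=
    fun a b c d e f => hF.eq a b d f fun i hi => c.unique e (hn ▸ hi)
  choose φ h1 f h2 h3 using k
  exact ⟨MonoidHom.mk' (fun g => ⟨φ g g.2, h1 _ _⟩) fun a b => Subtype.ext (u (h1 _ _) (mul_mem (h1 _ _) (h1 _ _))
    (h2 _ _) (h3 _ _) ((h2 _ a.2).mul (h2 _ b.2)) ((h3 _ _).mul (h3 _ _))), fun p hp =>
      let ⟨a, _, b, c⟩ := h p hp
      u (h1 _ _) a (h2 _ _) (h3 _ _) b c⟩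

/-- sum of two coded vectors -/
noncomputable def addOk (w n p a b c : ℕ) : Bool := force a fun a => force b fun b => force c fun c =>
  allLt (fun r => Nat.beq (Nat.mod (Nat.add (get w a r) (get w b r)) p) (get w c r)) n

/-- the code `a` followed by a translation permutes the vectors `L` as the table `T` -/
noncomputable def affOk (ap : ℕ → ℕ → ℕ) (w n p : ℕ) (L : List ℕ) (w' N a T : ℕ) : Bool := force a fun a => force T fun T =>
  allLt (fun i => force (get w' T i) fun j => band (Nat.blt j N)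
    (addOk w n p (ap a (nthD 0 L i)) (nthD 0 L (get w' T 0)) (nthD 0 L j))) N

/-- distinct vectors, among them zero, and no doubles -/
noncomputable def dblOk (wf1 : ℕ → Bool) (db : ℕ → ℕ) (w n p : ℕ) (L : List ℕ) (k N : ℕ) : Bool :=
  band (band (allL wf1 L) (band (disOk k N L) (Nat.beq L.length N))) (band (Nat.beq (nthD 0 L 0) 0) (allL (fun d =>
    force (db d) fun e => band (wf1 e) (band (addOk w n p d d e) (bor (Nat.beq d 0) (H14.PK.bn (memL e L))))) L))

section
open Pointwise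
variable {ι : Type*} [Fintype ι] {p n w : ℕ} {app : ℕ → ℕ → ℕ → ℕ → ℕ} {wfT : ℕ → ℕ → ℕ → Bool}
  (V : VCod (ZMod p) ι n (w * n) app wfT) {L : List ℕ} {k N : ℕ} {db : ℕ → ℕ}

theorem wf_nth {wf1 : ℕ → Bool} (h : band (allL wf1 L) (band (disOk k N L) (Nat.beq L.length N)) = true) :
    (∀ i < N, nthD 0 L i ∈ L ∧ wf1 (nthD 0 L i) = true) ∧ ∀ i < N, ∀ j < N, nthD 0 L i = nthD 0 L j → i = j := by
  classical
  simp only [band_eq_true, allL_iff, Nat.beq_eq] at h
  have e : ∀ i (hi : i < N), nthD 0 L i = L[i]'(by omega) := fun i hi => by rw [nthD_eq, List.getD_eq_getElem]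
  obtain ⟨s, s1, s2⟩ := disOk_spec h.2.1
  have := Finset.card_le_card (s := s) (t := L.toFinset) fun x hx => List.mem_toFinset.2 (s2 x hx)
  have nd : L.Nodup := by
    rw [← Multiset.coe_nodup, ← Multiset.toFinset_card_eq_card_iff_nodup]
    exact le_antisymm (Multiset.toFinset_card_le _) (by simpa [h.2.2, s1] using this)
  exact ⟨fun i hi => e i hi ▸ ⟨List.getElem_mem _, h.1 _ (List.getElem_mem _)⟩,
    fun i hi j hj c => (List.Nodup.getElem_inj_iff nd).1 ((e i hi).symm.trans (c.trans (e j hj)))⟩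

variable (e1 : V.cast = Nat.cast) (e2 : V.ent = get w)
include e1 e2

theorem VCod.add_of {a b c : ℕ} (h : addOk w n p a b c = true) :
    V.vec (get (w * n) a 0) + V.vec (get (w * n) b 0) = V.vec (get (w * n) c 0) := funext fun r => by
  have := Nat.eq_of_beq_eq_true (allLt_iff.1 h _ (V.e r).2)
  simp only [VCod.vec, Pi.add_apply, e1, e2, get_get (V.e r).2, Nat.zero_mul, Nat.zero_add, ← this]
  exact (Nat.cast_add _ _).symm.trans (ZMod.natCast_mod _ _).symm

/-- the translates of a list of vectors -/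
noncomputable def VCod.apts (h : dblOk (wfT (w * n) 1) db w n p L k N = true) : Pts (Set (ι → ZMod p)) where
  n := N
  pt i := {v | ∃ j < N, v = V.vec (get (w * n) (nthD 0 L j) 0) - V.vec (get (w * n) (nthD 0 L i) 0)}
  inj i hi j hj e := by
    obtain ⟨a, b⟩ := band_eq_true.1 h
    obtain ⟨a1, a2⟩ := wf_nth a
    simp only [band_eq_true, allL_iff, force_eq, bor_eq_true, Nat.beq_eq, H14.PK.bn_iff, memL_iff] at b
    have z : V.vec (get (w * n) 0 0) = 0 := funext fun r => by simp [VCod.vec, e1, e2, get_zero_left]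
    obtain ⟨x, x1, x2⟩ := e.le ⟨0, by omega, rfl⟩
    obtain ⟨y, y1, y2⟩ := e.le ⟨x, x1, rfl⟩
    obtain ⟨c1, c2, c3⟩ := b.2 _ (a1 x x1).1
    rw [b.1, z] at x2
    rcases c3 with c | c
    · rw [c, z, zero_sub, zero_sub, neg_inj] at x2
      exact a2 i hi j hj (V.eq_of_vec (a1 i hi).2 (a1 j hj).2 x2)
    · refine (c (V.eq_of_vec (a1 y y1).2 c1 ?_ ▸ (a1 y y1).1)).elim
      rw [← V.add_of e1 e2 c2]
      linear_combination x2 - y2

theorem VCod.arep (h : dblOk (wfT (w * n) 1) db w n p L k N = true) [MulAction G (ι → ZMod p)] {g : G} {a w' T : ℕ}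
    (ha : wfT (w * n) n a = true) (hg : ∀ v, g • v = (V.mat a).mulVec v)
    (e : affOk (app (w * n) 1) w n p L w' N a T = true) : Rep (V.apts e1 e2 h) g (get w' T) := fun i hi => by
  simp only [affOk, force_eq, allLt_iff, band_eq_true, Nat.blt_eq] at e
  obtain ⟨a1, a2⟩ := wf_nth (band_eq_true.1 h).1
  have k : ∀ j < N, g • V.vec (get (w * n) (nthD 0 L j) 0) + V.vec (get (w * n) (nthD 0 L (get w' T 0)) 0) =
      V.vec (get (w * n) (nthD 0 L (get w' T j)) 0) := fun j hj => by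
    rw [hg, ← V.vec_app' ha (a1 j hj).2 Nat.one_pos, V.add_of e1 e2 (e j hj).2]
  have d : ∀ j < N, g • (V.vec (get (w * n) (nthD 0 L j) 0) - V.vec (get (w * n) (nthD 0 L i) 0)) =
      V.vec (get (w * n) (nthD 0 L (get w' T j)) 0) - V.vec (get (w * n) (nthD 0 L (get w' T i)) 0) := fun j hj => by
    rw [← k j hj, ← k i hi, hg, hg, hg, Matrix.mulVec_sub, add_sub_add_right_eq_sub]
  have s := Finite.injective_iff_surjective.1 (show Function.Injective fun j : Fin N => (⟨_, (e j j.2).1⟩ : Fin N) from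
    fun x y c => Fin.ext (a2 _ x.2 _ y.2 (V.eq_of_vec (a1 _ x.2).2 (a1 _ y.2).2 (MulAction.injective g (add_right_cancel
      ((k _ x.2).trans (by rw [show get w' T x = get w' T y from congrArg Fin.val c]; exact (k _ y.2).symm)))))))
  refine ⟨(e i hi).1, Set.ext fun v => ⟨?_, ?_⟩⟩
  · rintro ⟨_, ⟨j, hj, rfl⟩, rfl⟩; exact ⟨_, (e j hj).1, d j hj⟩
  · rintro ⟨j, hj, rfl⟩
    obtain ⟨x, c⟩ := s ⟨j, hj⟩
    exact ⟨_, ⟨x, x.2, rfl⟩, (d x x.2).trans (by rw [show get w' T x = j from congrArg Fin.val c])⟩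

end

/-- lifts of the standard generators of an alternating group to a double cover -/
structure AltD (t : G) {n : ℕ} (x : Fin n → G) : Prop where
  ord : orderOf t = 2
  comm : ∀ i, x i * t = t * x i
  r3 : ∀ i j : Fin n, (i : ℕ) + 1 = j → ((x i)⁻¹ * x j) ^ 3 = 1
  r2 : ∀ i j : Fin n, (i : ℕ) + 1 < j → ((x i)⁻¹ * x j) ^ 2 = t

theorem AltD.map {n : ℕ} {x : Fin n → G} (D : AltD t x) (e : G ≃* A) : AltD (e t) fun i => e (x i) :=
  ⟨(e.orderOf_eq t).trans D.ord, fun i => by rw [← map_mul, D.comm, map_mul],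
    fun i j h => by rw [← map_inv, ← map_mul, ← map_pow, D.r3 i j h, map_one],
    fun i j h => by rw [← map_inv, ← map_mul, ← map_pow, D.r2 i j h]⟩

theorem card_cent_map (e : G ≃* A) (t : G) :
    Nat.card (centralizer ({e t} : Set A)) = Nat.card (centralizer ({t} : Set G)) :=
  (Nat.card_congr (e.toEquiv.subtypeEquiv fun y => by
    simp only [mem_centralizer_singleton_iff, MulEquiv.toEquiv_eq_coe, EquivLike.coe_coe, ← map_mul,
      EmbeddingLike.apply_eq_iff_eq])).symm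

theorem AltD.ce [Finite G] {n : ℕ} {x : Fin (n + 4) → G} (D : AltD t x)
    (hc : Nat.card (centralizer ({t} : Set G)) ≤ (n + 5).factorial) :
    ∃ π : centralizer ({t} : Set G) →* alternatingGroup (Fin (n + 4 + 1)), CE t π ∧ ∀ i j h,
      (π ⟨(x i)⁻¹ * x j, h⟩ : Perm _) = swap i.castSucc i.succ * swap j.castSucc j.succ := by
  have : (zpowers (ct t)).Normal := ⟨fun a h g => by rw [mem_center_iff.1 (ct_le t h), mul_inv_cancel_right]; exact h⟩
  let y : Fin (n + 4) → centralizer ({t} : Set G) := fun i => ⟨x i, mem_centralizer_singleton_iff.2 (D.comm i)⟩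
  let q := QuotientGroup.mk' (zpowers (ct t))
  have r2 : ∀ i j : Fin (n + 4), (i : ℕ) + 1 < j → ((y i)⁻¹ * y j) ^ 2 = ct t := fun i j h => Subtype.ext (D.r2 i j h)
  obtain ⟨f, hf⟩ := L.exists_hom_alt (fun i => q (y i)) (fun i j h => by
    rw [← map_inv, ← map_mul, ← map_pow, show ((y i)⁻¹ * y j) ^ 3 = 1 from Subtype.ext (D.r3 i j h), map_one]) fun i j h => by
    rw [← map_inv, ← map_mul, ← map_pow, r2 i j h]; exact (QuotientGroup.eq_one_iff _).2 (mem_zpowers _)
  have m : ∀ i j : Fin (n + 4), swap i.castSucc i.succ * swap j.castSucc j.succ ∈ alternatingGroup _ := fun i j => by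
    simp [Perm.mem_alternatingGroup, (Fin.castSucc_lt_succ).ne]
  have inj : Function.Injective f := by
    rw [← MonoidHom.ker_eq_bot_iff]
    refine ((alternatingGroup.isSimpleGroup (by simp)).eq_bot_or_eq_top_of_normal _ inferInstance).resolve_right
      fun e => ?_
    have a := (hf 0 2 (m _ _)).symm.trans (e.ge (mem_top _))
    rw [← map_inv, ← map_mul] at a
    have b := r2 0 2 (by simp [Nat.mod_eq_of_lt])
    have o : orderOf (ct t) = 2 := (orderOf_coe _).symm.trans D.ord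
    rcases (mem_two o).1 ((QuotientGroup.eq_one_iff _).1 a) with c | c <;> rw [c] at b
    · simp [← b] at o
    · rw [← o, pow_orderOf_eq_one] at b; simp [← b] at o
  have c := (zpowers (ct t)).card_mul_index
  rw [card_ct, D.ord] at c
  have c2 := two_mul_nat_card_alternatingGroup (α := Fin (n + 4 + 1))
  rw [Nat.card_perm, Nat.card_fin] at c2
  let e := MulEquiv.ofBijective f (inj.bijective_of_nat_card_le (by rw [← index]; change _ = (n + 5).factorial at c2; omega))
  refine ⟨e.symm.toMonoidHom.comp q, ⟨e.symm.surjective.comp (QuotientGroup.mk'_surjective _), ?_⟩, fun i j h => ?_⟩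
  · rw [MonoidHom.ker_comp_of_injective _ _ e.symm.injective, QuotientGroup.ker_mk']
  · exact congrArg Subtype.val ((e.symm_apply_eq.2 (hf i j (m i j)).symm :) : _ = (⟨_, m i j⟩ : alternatingGroup _))

theorem AltD.cover [Finite G] {n : ℕ} {x : Fin (n + 4) → G} (D : AltD t x)
    (hc : Nat.card (centralizer ({t} : Set G)) ≤ (n + 5).factorial) :
    IsNonsplitDoubleCover (centralizer ({t} : Set G)) (alternatingGroup (Fin (n + 4 + 1))) := by
  obtain ⟨π, E, -⟩ := D.ce hc
  have c := E.center (alternatingGroup.center_eq_bot (by simp))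
  refine ⟨c.1.trans D.ord, c.2, fun K h => ?_⟩
  obtain ⟨⟨z, k⟩, e, -⟩ := h.existsUnique ⟨(x 0)⁻¹ * x 2, mul_mem (inv_mem (mem_centralizer_singleton_iff.2 (D.comm 0)))
    (mem_centralizer_singleton_iff.2 (D.comm 2))⟩
  have a : (z.1 * k.1) ^ 2 = ct t := (congrArg (· ^ 2) e).trans (Subtype.ext (D.r2 0 2 (by simp [Nat.mod_eq_of_lt])))
  have b : z.1 ^ 2 = 1 := by
    rw [← D.ord, ← c.1]; exact congrArg Subtype.val (pow_card_eq_one' (x := (⟨z.1, z.2⟩ : Subgroup.center _)))
  rw [Commute.mul_pow (mem_center_iff.1 z.2 _).symm, b, one_mul] at a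
  have := disjoint_def.1 h.disjoint (ct_le t (mem_zpowers _)) (a ▸ pow_mem k.2 2)
  simpa [show t = 1 from congrArg Subtype.val this] using D.ord

section
variable {α : Type*} [Fintype α] [DecidableEq α] {π : centralizer ({t} : Set G) →* alternatingGroup α} {g g' : G}
  {a b : Perm α}

/-- `g` centralises `t` and has image `a` -/
def Gr (π : centralizer ({t} : Set G) →* alternatingGroup α) (g : G) (a : Perm α) : Prop := ∃ h, (π ⟨g, h⟩ : Perm α) = a

theorem Gr.comm (h : Gr π g a) : g * t = t * g := mem_centralizer_singleton_iff.1 h.1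

theorem Gr.even (h : Gr π g a) : a ∈ alternatingGroup α := h.2 ▸ Subtype.property _

theorem gr_of (h : g * t = t * g) : ∃ a, Gr π g a := ⟨_, mem_centralizer_singleton_iff.2 h, rfl⟩

theorem Gr.one : Gr π 1 1 := ⟨one_mem _, congrArg Subtype.val π.map_one⟩

theorem Gr.mul (h : Gr π g a) (h' : Gr π g' b) : Gr π (g * g') (a * b) :=
  ⟨mul_mem h.1 h'.1, h.2 ▸ h'.2 ▸ congrArg Subtype.val (π.map_mul ⟨g, h.1⟩ ⟨g', h'.1⟩)⟩

theorem Gr.inv (h : Gr π g a) : Gr π g⁻¹ a⁻¹ := ⟨inv_mem h.1, h.2 ▸ congrArg Subtype.val (π.map_inv ⟨g, h.1⟩)⟩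

theorem Gr.conj (h : Gr π g a) (h' : Gr π g' b) : Gr π (g * g' * g⁻¹) (a * b * a⁻¹) := (h.mul h').mul h.inv

theorem Gr.pow (h : Gr π g a) (k : ℕ) : Gr π (g ^ k) (a ^ k) :=
  ⟨pow_mem h.1 k, h.2 ▸ congrArg Subtype.val (π.map_pow ⟨g, h.1⟩ k)⟩

theorem Gr.uniq (h : Gr π g a) (h' : Gr π g b) : a = b := h.2.symm.trans h'.2

theorem Gr.evalW {x : ℕ → G} {y : ℕ → Perm α} (h : ∀ l, Gr π (x l) (y l)) (u : List ℕ) : Gr π (evalW x u) (evalW y u) := by
  induction u with
  | nil => exact .one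
  | cons l u ih => exact (h l).mul ih

/-- the preimage of a subgroup -/
def upS (π : centralizer ({t} : Set G) →* alternatingGroup α) (P : Subgroup (Perm α)) : Subgroup G :=
  ((P.subgroupOf _).comap π).map (centralizer {t}).subtype

theorem mem_upS {P : Subgroup (Perm α)} : g ∈ upS π P ↔ ∃ a ∈ P, Gr π g a :=
  ⟨fun ⟨x, h, e⟩ => e ▸ ⟨_, h, x.2, rfl⟩, fun ⟨_, h, c, e⟩ => ⟨⟨g, c⟩, show (π ⟨g, c⟩ : Perm α) ∈ P from e ▸ h, rfl⟩⟩

namespace CE
variable (E : CE t π) (ho : orderOf t = 2)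
include E

theorem lift (h : a ∈ alternatingGroup α) : ∃ g, Gr π g a :=
  let ⟨x, e⟩ := E.surj ⟨a, h⟩
  ⟨x, x.2, congrArg Subtype.val e⟩

theorem gr_t : Gr π t 1 := ⟨_, congrArg Subtype.val (E.ker.ge (mem_zpowers (ct t)))⟩

include ho

theorem two (h : Gr π g a) (h' : Gr π g' a) : g' = g ∨ g' = g * t := by
  obtain ⟨c, e⟩ := h.inv.mul h'
  obtain ⟨k, e⟩ := E.ker.le (x := ⟨_, c⟩) (Subtype.ext (e.trans (inv_mul_cancel a)))
  exact ((mem_two ho).1 ⟨k, congrArg Subtype.val e⟩).imp (fun e => (inv_mul_eq_one.1 e).symm) inv_mul_eq_iff_eq_mul.1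

theorem cube (h : Gr π g a) (h' : Gr π g' a) (e : g ^ 3 = 1) (e' : g' ^ 3 = 1) : g' = g :=
  (E.two ho h h').resolve_right fun c => by
    rw [c, Commute.mul_pow h.comm, e, one_mul, ← orderOf_dvd_iff_pow_eq_one, ho] at e'
    exact absurd e' (by decide)

theorem lift3 (h : a ^ 3 = 1) : ∃ g, Gr π g a ∧ g ^ 3 = 1 := by
  obtain ⟨g, e⟩ := E.lift (a := a) (by
    have := congrArg Perm.sign h
    rwa [map_pow, pow_succ, Int.units_sq, one_mul, map_one] at this)
  rcases E.two ho .one (h ▸ e.pow 3) with c | c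
  · exact ⟨g, e, c⟩
  · exact ⟨_, mul_one a ▸ e.mul E.gr_t, by
      rw [Commute.mul_pow e.comm, c, one_mul, ← pow_succ', show 3 + 1 = 2 * 2 from rfl, pow_mul, ← ho,
        pow_orderOf_eq_one, one_pow]⟩

theorem fix {β : MulAut G} (hβ : β t = t) (h : ∀ g a, Gr π g a → Gr π (β g) a) (c : g * t = t * g) : β g = g := by
  have k : ∀ a ∈ closure {σ : Perm α | σ.IsThreeCycle}, ∃ g, Gr π g a ∧ β g = g := fun a ha => by
    induction ha using closure_induction with
    | mem a ha =>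
      obtain ⟨g, e, c⟩ := E.lift3 ho (ha.orderOf ▸ pow_orderOf_eq_one a)
      exact ⟨g, e, E.cube ho e (h _ _ e) c (by rw [← map_pow, c, map_one])⟩
    | one => exact ⟨1, .one, map_one _⟩
    | mul _ _ _ _ a b => exact a.elim fun x a => b.elim fun y b => ⟨_, a.1.mul b.1, by rw [map_mul, a.2, b.2]⟩
    | inv _ _ a => exact a.elim fun x a => ⟨_, a.1.inv, by rw [map_inv, a.2]⟩
  obtain ⟨a, e⟩ := gr_of (π := π) c
  obtain ⟨x, b, d⟩ := k a (Perm.closure_three_cycles_eq_alternating.ge e.even)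
  rcases E.two ho b e with rfl | rfl
  exacts [d, by rw [map_mul, d, hβ]]

variable [Finite G] {P : Subgroup (Perm α)} (hle : P ≤ alternatingGroup α)
include hle

omit [Finite G] in
theorem card_upS : Nat.card (upS π P) = 2 * Nat.card P := by
  have a := ((P.subgroupOf _).comap π).card_mul_index
  have b := (P.subgroupOf (alternatingGroup α)).card_mul_index
  have c := π.ker.card_mul_index
  rw [index_ker, MonoidHom.range_eq_top.2 E.surj, card_top, E.ker, card_ct, ho, ← b, ← a, index_comap_of_surjective _ E.surj,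
    ← Nat.mul_assoc, Nat.card_congr (subgroupOfEquivOfLe hle).toEquiv] at c
  exact (card_map_of_injective (subtype_injective _)).trans (Nat.eq_of_mul_eq_mul_right (Nat.pos_of_ne_zero
    FiniteIndex.index_ne_zero) c).symm

variable {k m : ℕ} (hP : Nat.card P = 2 ^ k) (hG : Nat.card G = 2 ^ (k + 1) * m) (hm : ¬ 2 ∣ m) {u d : G} {ub db : Perm α}
  (hu : Gr π u ub)
include hP hG hm hu

theorem one_class (hd : Gr π d db) (d2 : d ^ 2 = t) (c1 : IsConj t u) (c2 : IsConj u (u * t))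
    (h : ∀ a ∈ P, a ^ 2 = 1 → ∃ c ∈ alternatingGroup α, c * a * c⁻¹ ∈ [1, ub, db]) {x : G} (hx : orderOf x = 2) :
    IsConj t x := by
  have x2 : x ^ 2 ^ 1 = 1 := by rw [pow_one, ← hx, pow_orderOf_eq_one]
  obtain ⟨g, a⟩ := H14.PK.exists_conj_mem Nat.prime_two ((E.card_upS ho hle).trans (by rw [hP, ← pow_succ'])) hG hm x2
  obtain ⟨a, a1, a2⟩ := mem_upS.1 a
  have y2 : ∀ g : G, (g * x * g⁻¹) ^ 2 = 1 := fun g => by rw [conj_pow, show x ^ 2 = 1 from x2]; simp
  obtain ⟨c, c3, c4⟩ := h a a1 ((a2.pow 2).uniq ((y2 g).symm ▸ .one))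
  obtain ⟨y, c5⟩ := E.lift c3
  have e := c5.conj a2
  have o := y2 (y * g)
  refine IsConj.trans ?_ (isConj_iff.2 ⟨y * g, rfl⟩).symm
  have n : y * g * x * (y * g)⁻¹ ≠ 1 := fun e => by
    simp [conj_eq_one_iff.1 e] at hx
  rw [show y * (g * x * g⁻¹) * y⁻¹ = y * g * x * (y * g)⁻¹ by group] at e
  generalize y * g * x * (y * g)⁻¹ = z at e o n
  simp only [List.mem_cons, List.not_mem_nil, or_false] at c4
  rcases c4 with c | c | c <;> rw [c] at e
  · rw [(E.two ho .one e).resolve_left n, one_mul]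
  · rcases E.two ho hu e with rfl | rfl
    exacts [c1, c1.trans c2]
  · have t2 : t ^ 2 = 1 := by rw [← ho, pow_orderOf_eq_one]
    rcases E.two ho hd e with rfl | rfl
    · simp [← d2, o] at ho
    · rw [Commute.mul_pow hd.comm, t2, mul_one] at o
      simp [← d2, o] at ho

theorem fus (hc : ∀ x, orderOf x = 2 → IsConj t x) {vs : Set (Perm α)} (hv : P ≤ closure vs)
    (h1 : ∀ a ∈ vs, a ∈ P ∧ ∃ v, Gr π v a ∧ v ^ 2 = 1) (h2 : ∀ a ∈ P, (∀ b ∈ P, b * a = a * b) ↔ a = 1 ∨ a = ub)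
    (h3 : ∃ s ∈ upS π P, s * u ≠ u * s) (h4 : ub ∈ P) (h5 : ub ≠ 1)
    (h6 : ∀ c ∈ alternatingGroup α, c * ub = ub * c → c ∈ normalizer (P : Set (Perm α)) → c ∈ P) {G' : Type*} [Group G']
    (e : G ≃* G') (S : Sylow 2 G') : (groupFusionSystem (S : Subgroup G')).IsSimple 2 := by
  have c := (E.card_upS ho hle).trans (by rw [hP, ← pow_succ'] : _ = 2 ^ (k + 1))
  have pg : IsPGroup 2 (upS π P) := .of_card c
  have hS : H26.IsSyl 2 (upS π P) ⊤ := H26.isSyl_iff_not_dvd.2 ⟨le_top, pg, by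
    have := (upS π P).card_mul_index
    rw [hG, c] at this
    rwa [relIndex_top_right, Nat.eq_of_mul_eq_mul_left (by positivity) this]⟩
  have tP : t ∈ upS π P := mem_upS.2 ⟨1, one_mem _, E.gr_t⟩
  have t1 : t ≠ 1 := fun e => by simp [e] at ho
  refine H28.isSimple_transport e hS (H28.isSimple_group' hS (fun e => t1 (mem_bot.1 (e.le tP)))
    (fun T a b c => le_antisymm a ?_) (le_trans (fun n hn => ?_) le_sup_left)) S
  · obtain ⟨z, z1, z2⟩ := H26.exists_mem_orderOf_eq (p := 2) (H := T) (H26.dvd_card_of_isPGroup (pg.to_le a) b le_rfl)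
    have k : ∀ v ∈ upS π P, v ^ 2 = 1 → v ∈ T := fun v h h' => by
      by_cases e : v = 1
      · exact e ▸ one_mem _
      obtain ⟨g, rfl⟩ := isConj_iff.1 ((hc z z2).symm.trans (hc v (orderOf_eq_prime h' e)))
      exact c z z1 g h
    have k2 : ∀ a ∈ closure vs, ∃ v ∈ T, Gr π v a := fun a ha => by
      induction ha using closure_induction with
      | mem a ha => exact (h1 a ha).2.imp fun v h => ⟨k v (mem_upS.2 ⟨a, (h1 a ha).1, h.1⟩) h.2, h.1⟩
      | one => exact ⟨1, one_mem _, .one⟩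
      | mul _ _ _ _ a b => exact a.elim fun x a => b.elim fun y b => ⟨_, mul_mem a.1 b.1, a.2.mul b.2⟩
      | inv _ _ a => exact a.elim fun x a => ⟨_, inv_mem a.1, a.2.inv⟩
    intro x hx
    obtain ⟨a, a1, a2⟩ := mem_upS.1 hx
    obtain ⟨v, v1, v2⟩ := k2 a (hv a1)
    rcases E.two ho v2 a2 with rfl | rfl
    exacts [v1, mul_mem v1 (k t tP (by rw [← ho, pow_orderOf_eq_one]))]
  have z : ∀ y ∈ upS π P, y * (n * t * n⁻¹) = n * t * n⁻¹ * y := fun y hy => by
    obtain ⟨_, -, q⟩ := mem_upS.1 ((mem_normalizer_iff''.1 hn y).1 hy)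
    calc y * (n * t * n⁻¹) = n * (n⁻¹ * y * n * t) * n⁻¹ := by group
      _ = _ := by rw [q.comm]; group
  obtain ⟨a, a1, a2⟩ := mem_upS.1 ((mem_normalizer_iff.1 hn t).1 tP)
  obtain ⟨s, s1, s2⟩ := h3
  have n1 : n * t * n⁻¹ = t := by
    rcases (h2 a a1).1 (fun b hb => by
      obtain ⟨y, q⟩ := E.lift (hle hb)
      exact (q.mul a2).uniq ((z y (mem_upS.2 ⟨b, hb, q⟩)).symm ▸ a2.mul q)) with rfl | rfl
    · simpa [mul_inv_eq_iff_eq_mul, t1] using E.two ho .one a2
    · obtain ⟨_, -, q⟩ := mem_upS.1 s1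
      have := z s s1
      rcases E.two ho hu a2 with c | c <;> rw [c] at this
      · exact absurd this s2
      · rw [mul_assoc u, ← q.comm, ← mul_assoc, ← mul_assoc] at this
        exact absurd (mul_right_cancel this) s2
  obtain ⟨c, q⟩ := gr_of (π := π) (mul_inv_eq_iff_eq_mul.1 n1)
  have nc : c ∈ normalizer (P : Set (Perm α)) := mem_normalizer_fintype fun b hb => by
    obtain ⟨y, r⟩ := E.lift (hle hb)
    obtain ⟨b', r1, r2⟩ := mem_upS.1 ((mem_normalizer_iff.1 hn y).1 (mem_upS.2 ⟨b, hb, r⟩))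
    exact (q.conj r).uniq r2 ▸ r1
  refine mem_upS.2 ⟨c, h6 c q.even (mul_inv_eq_iff_eq_mul.1 (((h2 _ ((mem_normalizer_iff.1 nc _).1 h4)).1
    fun y hy => ?_).resolve_left (by simpa [mul_inv_eq_iff_eq_mul] using h5))) nc, q⟩
  calc y * (c * ub * c⁻¹) = c * (c⁻¹ * y * c * ub) * c⁻¹ := by group
    _ = _ := by rw [(h2 ub h4).2 (.inr rfl) _ ((mem_normalizer_iff''.1 nc y).1 hy)]; group

end CE
end

theorem CE.aut [Finite G] {n : ℕ} {π : centralizer ({t} : Set G) →* alternatingGroup (Fin n)} (E : CE t π) (hn : 4 ≤ n)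
    (h6 : n ≠ 6) {β : MulAut G} (hβ : β t = t) : ∃ σ, ∀ g a, Gr π g a → Gr π (β g) (σ * a * σ⁻¹) := by
  have k : ∀ x, β x ∈ centralizer ({t} : Set G) ↔ x ∈ centralizer ({t} : Set G) := fun x => by
    rw [mem_centralizer_singleton_iff, mem_centralizer_singleton_iff, ← β.injective.eq_iff (a := x * t), map_mul, map_mul, hβ]
  let γ : centralizer ({t} : Set G) →* centralizer ({t} : Set G) :=
    (β.toMonoidHom.comp (Subgroup.subtype _)).codRestrict _ fun x => (k _).2 x.2
  let f := π.liftOfSurjective E.surj ⟨π.comp γ, by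
    rw [E.ker, zpowers_le]; exact E.ker.ge ⟨1, (zpow_one _).trans (Subtype.ext hβ.symm)⟩⟩
  have hf : ∀ x, f (π x) = π (γ x) := fun x => π.liftOfRightInverse_comp_apply _ _ _ x
  obtain ⟨σ, e⟩ := (Agent.S2119.result n hn h6).2 (MulEquiv.ofBijective f (Finite.surjective_iff_bijective.1 fun a => by
    obtain ⟨x, rfl⟩ := E.surj a
    exact ⟨π ⟨β.symm x, (k _).1 (by simp)⟩, (hf _).trans (congrArg π (Subtype.ext (β.apply_symm_apply _)))⟩))
  refine ⟨σ, fun g a h => ⟨(k g).2 h.1, ?_⟩⟩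
  exact (congrArg Subtype.val ((hf ⟨g, h.1⟩).symm.trans (MulEquiv.congr_fun e _).symm)).trans (by rw [← h.2]; rfl)

theorem CE.out [Finite G] {m : ℕ} {π : centralizer ({t} : Set G) →* alternatingGroup (Fin m)} (E : CE t π) (hm : 4 ≤ m)
    (h6 : m ≠ 6) (ho : orderOf t = 2) (hc : ∀ x, orderOf x = 2 → IsConj t x) {n u y y' z' : G}
    {ub yb yb' zb wb pb qb τ : Perm (Fin m)} (hu : Gr π u ub) (hy : Gr π y yb) (hy' : Gr π y' yb') (hz : Gr π (n * y * n) zb)
    (hz' : Gr π z' (τ * zb * τ⁻¹)) (hw : Gr π (n * z' * n) wb) (e1 : n * n = 1) (e2 : n * t * n = u) (e4 : y' * u = u * y')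
    (e5 : y ^ 3 = 1) (e6 : z' ^ 3 = 1) (e7 : pb ^ 3 = 1 ∧ qb ^ 3 = 1 ∧ pb * qb = ub ∧ τ * pb = pb * τ ∧ τ * qb = qb * τ)
    (e9 : τ ∉ alternatingGroup _) (n1 : ub ≠ 1) (h1 : ∀ c, c * yb' = yb' * c → c * zb = zb * c → c = 1 ∨ c = ub)
    (h2 : ∀ c, c * yb ≠ wb * c)
    (hg : ∀ K : Subgroup G, centralizer {t} ≤ K → n ∈ K → K = ⊤) : Nat.card (Out G) = 1 := by
  have ni : n⁻¹ = n := inv_eq_of_mul_eq_one_right e1
  have t2 : t * t = 1 := by rw [← sq, ← ho, pow_orderOf_eq_one]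
  have fin : ∀ β : MulAut G, (∀ g, g * t = t * g → β g = g) → β n = n → β = 1 := fun β a b => MulEquiv.ext fun x =>
    (hg (β.toMonoidHom.eqLocus (MonoidHom.id G)) (fun g h => a g (mem_centralizer_singleton_iff.1 h)) b).ge (mem_top x)
  have cm : ∀ {β : MulAut G} {x : G}, β (n * x * n) = n * x * n → n * β n * β x = x * (n * β n) := fun {β x} h => by
    have : β n * β n = 1 := by rw [← map_mul, e1, map_one]
    rw [map_mul, map_mul] at h
    calc _ = n * (β n * β x * β n) * β n := by simp [mul_assoc, this]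
      _ = _ := by simp [h, ← mul_assoc, e1]
  have ev : ∀ β : MulAut G, β t = t → (∀ g a, Gr π g a → Gr π (β g) a) → ∃ g, MulAut.conj g * β = 1 := fun β b1 b2 => by
    have f := fun g => E.fix ho b1 b2 (g := g)
    have k : ∀ x, x * t = t * x → x * u = u * x → n * β n * x = x * (n * β n) := fun x a b => by
      have := cm (β := β) (x := x) (f _ (by
          calc n * x * n * t = n * (x * (n * t * n)) * n⁻¹ := by group
            _ = n * n * t * (n * x * n) := by rw [e2, b, ← e2, ni]; group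
            _ = _ := by simp [e1]))
      rwa [f x a] at this
    have e3 : n * y * n * u = u * (n * y * n) := by
      calc _ = n * (y * (n * n) * t) * n := by rw [← e2]; group
        _ = n * (t * (n * n) * y) * n := by simp [e1, hy.comm]
        _ = _ := by rw [← e2]; group
    obtain ⟨c, q⟩ := gr_of (π := π) (k t rfl hu.comm.symm)
    have o : n * (n * β n) * (n * (n * β n)) = 1 := by rw [← mul_assoc n, e1, one_mul, ← map_mul, e1, map_one]
    have ut : u * t ≠ 1 := fun e => n1 (mul_one ub ▸ (hu.mul E.gr_t).uniq (e ▸ .one))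
    rcases h1 c ((q.mul hy').uniq (k _ hy'.comm e4 ▸ hy'.mul q)) ((q.mul hz).uniq (k _ hz.comm e3 ▸ hz.mul q)) with rfl | rfl
    · rcases E.two ho .one q with c | c
      · exact ⟨1, by simpa using fin β f ((eq_inv_of_mul_eq_one_right c).trans ni)⟩
      · rw [c, one_mul, ← mul_assoc, e2] at o; exact absurd o ut
    · rcases E.two ho hu q with c | c
      · rw [c, ← mul_assoc, show n * u * n = t by rw [← e2]; simp [← mul_assoc, e1]; simp [mul_assoc, e1], ← hu.comm] at o
        exact absurd o ut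
      · refine ⟨t, fin _ (fun g h => by simp [f g h, ← h]) ?_⟩
        rw [← e2, mul_assoc, mul_assoc, mul_right_inj] at c
        simp [c, ← mul_assoc, t2]
  refine H14.card_Out_eq_one fun α => ?_
  obtain ⟨g, a⟩ := isConj_iff.1 (hc (α t) ((α.orderOf_eq t).trans ho)).symm
  obtain ⟨σ, b⟩ := E.aut hm h6 (β := MulAut.conj g * α) a
  have k : ∀ ρ, σ * ρ⁻¹ ∈ alternatingGroup _ → ∃ x : G, (MulAut.conj x * α) t = t ∧
      ∀ g a, Gr π g a → Gr π ((MulAut.conj x * α) g) (ρ * a * ρ⁻¹) := fun ρ h => by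
    obtain ⟨x, q⟩ := E.lift h
    refine ⟨x⁻¹ * g, ?_, fun y c r => ?_⟩
    · simp [mul_assoc, a, ← q.comm]
    · convert q.inv.conj (b y c r) using 1 <;> simp [mul_assoc]
  by_cases p : σ ∈ alternatingGroup _
  · obtain ⟨x, c, d⟩ := k 1 (by simpa using p)
    obtain ⟨x', e⟩ := ev _ c (by simpa using d)
    exact ⟨x' * x, by rw [map_mul, mul_assoc, e]⟩
  obtain ⟨x, c, d⟩ := k τ (by
    rw [Perm.mem_alternatingGroup] at *
    rw [map_mul, map_inv, Int.units_ne_iff_eq_neg.1 p, Int.units_ne_iff_eq_neg.1 e9]; rfl)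
  generalize MulAut.conj x * α = β at c d
  have z3 : (n * y * n) ^ 3 = 1 := by
    have := conj_pow (a := n) (b := y) (i := 3)
    rwa [e5, ni, mul_one, e1] at this
  have bz := E.cube ho hz' (d _ _ hz) e6 (by rw [← map_pow, z3, map_one])
  have k3 : ∀ a, a ^ 3 = 1 → τ * a = a * τ → ∃ g, Gr π g a ∧ β g = g := fun a a1 a2 =>
    let ⟨g, e, c⟩ := E.lift3 ho a1
    ⟨g, e, E.cube ho e (mul_inv_eq_iff_eq_mul.2 a2 ▸ d _ _ e) c (by rw [← map_pow, c, map_one])⟩
  obtain ⟨p1, p2, p3⟩ := k3 _ e7.1 e7.2.2.2.1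
  obtain ⟨q1, q2, q3⟩ := k3 _ e7.2.1 e7.2.2.2.2
  have bu : β (n * t * n) = n * t * n := by
    rw [e2]
    rcases E.two ho (e7.2.2.1 ▸ p2.mul q2) hu with e | e <;> simp [e, p3, q3, c]
  obtain ⟨cb, q⟩ := gr_of (π := π) (c ▸ cm bu :)
  refine (h2 (cb * τ) (mul_inv_eq_iff_eq_mul.1 (Eq.trans (by group) ((q.conj (d _ _ hy)).uniq ?_)))).elim
  convert hw using 1
  rw [← bz, map_mul, map_mul, mul_inv_rev, ← map_inv, ni]
  group

variable {mul : ℕ → ℕ → ℕ} {one : ℕ} {wf : ℕ → Bool} {S : Sem G mul one wf}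

/-- the relations of a double cover of an alternating group for the letter `i` -/
noncomputable def altAt (mul : ℕ → ℕ → ℕ) (one : ℕ) (xl : List ℕ) (z n i : ℕ) : Bool := force z fun z =>
  force (nthD one xl (2 * i)) fun a => force (nthD one xl (2 * i + 1)) fun b => band (Nat.beq (mul a b) one)
    (band (Nat.beq (mul a z) (mul z a)) (allLt (fun j => Bool.rec true (force (nthD one xl (2 * j)) fun c =>
      force (mul b c) fun y => force (mul y y) fun y2 =>
        Bool.rec (Nat.beq y2 z) (Nat.beq (mul y2 y) one) (Nat.beq (i + 1) j)) (Nat.blt i j)) n))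

theorem altD_of {xl : List ℕ} (h0 : ∀ c ∈ xl, S.ok c) {z n : ℕ} (hz : S.ok z) (ho : orderOf (S.val z) = 2)
    (h : ∀ i < n, altAt mul one xl z n i = true) : AltD (S.val z) (fun i : Fin n => S.gen xl (2 * i)) ∧
      ∀ i < n, S.gen xl (2 * i + 1) = (S.gen xl (2 * i))⁻¹ := by
  simp only [altAt, force_eq, band_eq_true, allLt_iff, Nat.beq_eq] at h
  have o := nthD_prop S.ok_one h0
  have a : ∀ i < n, S.gen xl (2 * i + 1) = (S.gen xl (2 * i))⁻¹ := fun i hi => eq_inv_of_mul_eq_one_right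
    ((S.val_mul (o _) (o _)).symm.trans ((congrArg _ (h i hi).1).trans S.val_one))
  have v : ∀ i j : Fin n, S.val (mul (nthD one xl (2 * i + 1)) (nthD one xl (2 * j))) =
      (S.gen xl (2 * i))⁻¹ * S.gen xl (2 * j) := fun i j => (S.val_mul (o _) (o _)).trans (congrArg (· * _) (a i i.2))
  refine ⟨⟨ho, fun i => (S.val_mul (o _) hz).symm.trans ((congrArg _ (h i i.2).2.1).trans (S.val_mul hz (o _))),
    fun i j e => ?_, fun i j e => ?_⟩, a⟩
  all_goals have k := (h i i.2).2.2 j j.2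
  all_goals have m := S.ok_mul (o (2 * i + 1)) (o (2 * j))
  · rw [Nat.blt_eq.mpr (by omega : (i : ℕ) < j), e, Nat.beq_refl] at k
    rw [← v, pow_succ, sq, ← S.val_mul m m, ← S.val_mul (S.ok_mul m m) m, Nat.eq_of_beq_eq_true k, S.val_one]
  · rw [Nat.blt_eq.mpr (by omega : (i : ℕ) < j), show Nat.beq (i + 1) j = false by
      rw [← Bool.not_eq_true, Nat.beq_eq]; omega] at k
    rw [← v, sq, ← S.val_mul m m, Nat.eq_of_beq_eq_true k]

/-- an equation between words -/
noncomputable def eqAt (mul : ℕ → ℕ → ℕ) (one : ℕ) (lc : List ℕ) (es : List (List ℕ × List ℕ)) (i : ℕ) : Bool :=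
  Nat.beq (prodW mul one lc (nthD ([], []) es i).1) (prodW mul one lc (nthD ([], []) es i).2)

theorem eqs_of {lc : List ℕ} (h0 : ∀ c ∈ lc, S.ok c) {es : List (List ℕ × List ℕ)} {n : ℕ}
    (h : ∀ i < n, eqAt mul one lc es i = true) (hn : Nat.beq es.length n = true) :
    ∀ e ∈ es, evalW (S.gen lc) e.1 = evalW (S.gen lc) e.2 := fun e he =>
  (S.prodW_spec h0 _).2.symm.trans ((congrArg _ (Nat.eq_of_beq_eq_true (allR (d := ([], []))
    (f := fun e : List ℕ × List ℕ => Nat.beq (prodW mul one lc e.1) (prodW mul one lc e.2)) hn h e he))).trans (S.prodW_spec h0 _).2)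

/-- the centre and the involutions of an enumerated group -/
noncomputable def sylOk (mul : ℕ → ℕ → ℕ) (one : ℕ) (al L : List ℕ) (U D : ℕ) (cs : List (ℕ × List ℕ)) : Bool :=
  force U fun U => force D fun D => band (memL U L) (band (H14.PK.bn (Nat.beq U one)) (band (allL (fun x =>
    band (Nat.beq (mul x U) (mul U x)) (band (bor (memL x [one, U]) (anyL (fun g => H14.PK.bn (Nat.beq (mul g x) (mul x g))) L))
      (bor (H14.PK.bn (Nat.beq (mul x x) one)) (anyL (fun c => Nat.beq c.1 x) cs)))) L)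
    (allL (fun c => force (prodW mul one al c.2) fun g => anyL (fun z => Nat.beq (mul g c.1) (mul z g)) [one, U, D]) cs)))

theorem syl_of (I : SInj S) {P K : Subgroup G} {al L : List ℕ} (E : En S P L) (h0 : ∀ c ∈ al, S.ok c)
    (hK : ∀ l, S.gen al l ∈ K) {U D : ℕ} (hU : S.ok U) (hD : S.ok D) {cs : List (ℕ × List ℕ)}
    (h : sylOk mul one al L U D cs = true) : S.val U ∈ P ∧ S.val U ≠ 1 ∧
      (∀ a ∈ P, (∀ b ∈ P, b * a = a * b) ↔ a = 1 ∨ a = S.val U) ∧
      ∀ a ∈ P, a ^ 2 = 1 → ∃ c ∈ K, c * a * c⁻¹ ∈ [1, S.val U, S.val D] := by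
  simp only [sylOk, force_eq, band_eq_true, allL_iff, bor_eq_true, anyL_iff, H14.PK.bn_iff] at h
  obtain ⟨a1, a2, a3, a4⟩ := h
  have bq : ∀ {x y u v}, S.ok x → S.ok y → S.ok u → S.ok v →
      (Nat.beq (mul x y) (mul u v) = true ↔ S.val x * S.val y = S.val u * S.val v) := fun x y u v => by
    rw [I.beq (S.ok_mul x y) (S.ok_mul u v), S.val_mul x y, S.val_mul u v]
  refine ⟨(E.mem I hU).2 a1, fun e => a2 ((I.beq hU S.ok_one).2 (e.trans S.val_one.symm)), E.forall fun x hx ox =>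
    ⟨fun c => ?_, ?_⟩, E.forall fun x hx ox e => ?_⟩
  · rcases (a3 x hx).2.1 with b | ⟨y, hy, b⟩
    · rcases List.mem_pair.1 (memL_iff.1 b) with rfl | rfl
      exacts [.inl S.val_one, .inr rfl]
    · exact (b ((bq (E.ok y hy).1 ox ox (E.ok y hy).1).2 (c _ (E.ok y hy).2))).elim
  · rintro (e | e) <;> rw [e]
    · simp
    · exact E.forall fun y hy oy => (bq oy hU hU oy).1 (a3 y hy).1
  obtain ⟨c, c1, c2⟩ := (a3 x hx).2.2.resolve_left fun b => b ((I.beq (S.ok_mul ox ox) S.ok_one).2 (by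
    rw [S.val_mul ox ox, ← sq, e, S.val_one]))
  obtain ⟨z, z1, z2⟩ := a4 c c1
  have p := S.prodW_spec h0 c.2
  have oz : S.ok z ∧ S.val z ∈ [1, S.val U, S.val D] := by
    simp only [List.mem_cons, List.not_mem_nil, or_false] at z1 ⊢
    rcases z1 with rfl | rfl | rfl
    exacts [⟨S.ok_one, .inl S.val_one⟩, ⟨hU, .inr (.inl rfl)⟩, ⟨hD, .inr (.inr rfl)⟩]
  rw [Nat.eq_of_beq_eq_true c2, bq p.1 ox oz.1 p.1, ← mul_inv_eq_iff_eq_mul] at z2
  exact ⟨_, p.2 ▸ evalW_mem fun l _ => hK l, z2 ▸ oz.2⟩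

section
open H14.PK
variable {w n : ℕ} (T : TS G w n)

open Classical in
/-- permutation tables as codes -/
noncomputable def semT : Sem G (tm w n) (idv w n) fun c => decide (T.In ⊤ c) where
  ok := T.In ⊤
  val := T.el
  ok_one := .one
  val_one := TS.el_idv
  wf_of_ok := decide_eq_true
  wf_mul a b := decide_eq_true ((of_decide_eq_true a).mul (of_decide_eq_true b))
  ok_mul := .mul
  val_mul := TS.In.el_tm
  ok_l a _ _ := of_decide_eq_true a
  ok_r _ b _ := of_decide_eq_true b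

theorem semT_inj : SInj (semT T) := fun _ _ a b => (a.eq_iff b).1

/-- the test `K` holds for all `x` with `x A = B x` -/
noncomputable def trAll (w n : ℕ) (ch : Ch) (A B : ℕ) (K : ℕ → Bool) : Bool := force A fun A => force B fun B =>
  force (ti w n A) fun A' => eall w n (prC w A A' B) (fun f => force (mkT w n f) K) ch 0 (idv w n) (idv w n)

variable {T} {ch : Ch} (h : T.Full ⊤ ch)
include h

theorem transp {A B : ℕ} (hA : T.In ⊤ A) (hB : T.In ⊤ B) {K : ℕ → Bool} (e : trAll w n ch A B K = true) (x : G)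
    (hx : x * T.el A = T.el B * x) : K (T.tb x) = true := by
  rw [← hA.tb_el, ← hB.tb_el] at e
  exact h.transp (Q := fun x => K (T.tb x) = true) (fun x f hf e _ => TS.mkT_eq hf ▸ e) e x trivial hx

theorem cen_two {A B U : ℕ} (hA : T.In ⊤ A) (hB : T.In ⊤ B) (e : force B (fun B => force U fun U => trAll w n ch A A
    fun X => bor (bn (Nat.beq (tm w n X B) (tm w n B X))) (H15.memL X [idv w n, U])) = true) (x : G)
    (hx : x * T.el A = T.el A * x) (hx' : x * T.el B = T.el B * x) : x = 1 ∨ x = T.el U := by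
  have := transp h hA hA e x hx
  rw [← hB.tb_el, ← T.tb_mul, ← T.tb_mul, hx', Nat.beq_refl, bor_eq_true, H15.memL_iff, List.mem_pair] at this
  exact (this.resolve_left (by simp)).imp (fun e => T.tb_inj (e.trans T.tb_one.symm)) fun e => by rw [← e, TS.el_tb]

theorem nrm_self {P K : Subgroup G} {L : List ℕ} (E : En (semT T) P L) (hP : P ≤ K) {U τ : ℕ} (hU : T.In ⊤ U)
    (hτ : T.In ⊤ τ) (h' : T.el τ ∉ K) (e : trAll w n ch U U (fun X => bor (H15.memL X L) (bor (force (tm w n X τ) fun y =>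
      H15.memL y L) (force (ti w n X) fun X' => anyL (fun g => force (tm w n (tm w n X g) X') fun y => bn (H15.memL y L)) L))) = true)
    (x : G) (hx : x ∈ K) (c : x * T.el U = T.el U * x) (hn : x ∈ normalizer (P : Set G)) : x ∈ P := by
  have := transp h hU hU e x c
  have m : ∀ y, H15.memL (T.tb y) L = true ↔ y ∈ P := fun y =>
    (E.mem (semT_inj T) ⟨y, trivial, rfl⟩).symm.trans (by rw [show (semT T).val (T.tb y) = y from TS.el_tb y])
  rw [← hτ.tb_el] at this
  simp only [bor_eq_true, force_eq, anyL_iff, bn_iff, ← T.tb_mul, ← T.tb_inv, m] at this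
  rcases this with a | a | ⟨g, a, b⟩
  · exact a
  · exact (h' ((mul_mem_cancel_left hx).1 (hP a))).elim
  · rw [← (E.ok g a).1.tb_el, ← T.tb_mul, ← T.tb_mul, m] at b
    exact (b ((mem_normalizer_iff.1 hn _).1 (E.ok g a).2)).elim

end

end H15
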