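import Cfsg.Agent.H15.Fus

/-! Exact sizes of conjugacy classes (namespace H15): `lowK`, `ncard_class`. -/

namespace H15
open H13 Subgroup

variable {G : Type*} [Group G] [Finite G] {mul : ℕ → ℕ → ℕ} {one : ℕ} {wf : ℕ → Bool} {S : Sem G mul one wf}

/-- the letters `ix` commute with the letter `t` and generate at least `d` elements -/
noncomputable def lowK (mul : ℕ → ℕ → ℕ) (one : ℕ) (lc ix : List ℕ) (t b : ℕ) (cs : List ℕ) (k d : ℕ) : Bool :=
  forceM (nthD one lc) ix fun gs => band (allL (fun g => Nat.beq (mul g (nthD one lc t)) (mul (nthD one lc t) g)) gs)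
    (dfs (fun g x => mul x (nthD one gs g)) b cs [one] [one] (disOk k d))

theorem le_card_cent (I : SInj S) {lc ix cs : List ℕ} (h0 : ∀ c ∈ lc, S.ok c) {t b k d : ℕ}
    (h : lowK mul one lc ix t b cs k d = true) : d ≤ Nat.card (centralizer ({S.gen lc t} : Set G)) := by
  simp only [lowK, forceM_eq, band_eq_true, allL_iff, List.forall_mem_map] at h
  have o := nthD_prop S.ok_one h0
  have o1 : S.ok one ∧ S.val one ∈ centralizer {S.gen lc t} := ⟨S.ok_one, S.val_one ▸ one_mem _⟩
  obtain ⟨acc, b1, b2⟩ := dfs_spec (q := fun c => S.ok c ∧ S.val c ∈ centralizer {S.gen lc t}) (fun g x hx => by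
    have := nthD_prop (p := fun c => S.ok c ∧ S.val c ∈ centralizer {S.gen lc t}) o1
      (List.forall_mem_map.2 fun i hi => ⟨o i, mem_centralizer_singleton_iff.2 ((S.val_mul (o i) (o t)).symm.trans
        ((congrArg _ (Nat.eq_of_beq_eq_true (h.1 i hi))).trans (S.val_mul (o t) (o i))))⟩) g
    exact ⟨S.ok_mul hx.1 this.1, S.val_mul hx.1 this.1 ▸ mul_mem hx.2 this.2⟩) h.2 (by simpa using o1) (by simpa using o1)
  exact card_ge I (Set.toFinite _) b1 b2

theorem ncard_class (I : SInj S) {lc ix ix' cs cs' : List ℕ} (h0 : ∀ c ∈ lc, S.ok c) {t b k d b' k' a : ℕ}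
    (h : clsK mul one lc ix t b cs (disOk k d) = true) (h' : lowK mul one lc ix' t b' cs' k' a = true)
    (e : Nat.card G = d * a) : {y | IsConj (S.gen lc t) y}.ncard = d := by
  have c := ncard_conj (S.gen lc t)
  rw [le_antisymm (card_cent_le I h0 h e) (le_card_cent I h0 h'), e] at c
  refine Nat.eq_of_mul_eq_mul_right (Nat.pos_of_ne_zero ?_) c
  rintro rfl
  exact Nat.card_pos.ne' (by simpa using e)

end H15
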