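import Cfsg.Agent.H15.Der
import Cfsg.Prelude.Def_SporadicB

/-! Groups with a double cover as a subgroup of index two and their automorphisms (`H15.Dcv`). -/

namespace H15
open Cfsg Subgroup

variable {X A : Type*} [Group X] [Group A] {K : Subgroup X} {q : X} {φ : K →* A}

/-- `K` is a non-split double cover of `A` of index two in `X` -/
structure Dcv (K : Subgroup X) (q : X) (φ : K →* A) : Prop where
  idx : K.index = 2
  cen : q ∈ center X
  ord : orderOf q = 2
  surj : Function.Surjective φ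
  ker : ∀ k : K, φ k = 1 ↔ (k : X) = 1 ∨ (k : X) = q
  sq : ∃ x ∈ K, x * x = q
  self : ∀ g, (∀ k ∈ K, g * k = k * g) → g ∈ K
  perfA : _root_.commutator A = ⊤
  cenA : center A = ⊥

namespace Dcv
variable (D : Dcv K q φ)
include D

theorem mem : q ∈ K := let ⟨_, a, b⟩ := D.sq; b ▸ mul_mem a a

theorem qq : q * q = 1 := by rw [← pow_two, ← D.ord, pow_orderOf_eq_one]

theorem ker_cen {k : K} (h : φ k = 1) : (k : X) ∈ center X := by
  rcases (D.ker k).1 h with e | e <;> rw [e]
  exacts [one_mem _, D.cen]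

theorem perf : _root_.commutator K = ⊤ := by
  have s : ∀ k : K, ∃ c ∈ _root_.commutator K, φ (c⁻¹ * k) = 1 := fun k => by
    have : φ k ∈ (_root_.commutator K).map φ := by
      rw [_root_.commutator_def, map_commutator, map_top_of_surjective _ D.surj, ← _root_.commutator_def, D.perfA]; trivial
    obtain ⟨c, a, b⟩ := this
    exact ⟨c, a, by simp [b]⟩
  obtain ⟨x, a, b⟩ := D.sq
  have t : (⟨q, D.mem⟩ : K) ∈ _root_.commutator K := by
    obtain ⟨c, c1, c2⟩ := s ⟨x, a⟩
    have e := mem_center_iff.1 (D.ker_cen c2)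
    have z : ((c : X)⁻¹ * x) * ((c : X)⁻¹ * x) = 1 := by
      rcases (D.ker _).1 c2 with e | e <;> rw [show (c : X)⁻¹ * x = _ from e]
      exacts [mul_one _, D.qq]
    convert mul_mem c1 c1 using 1
    refine Subtype.ext ?_
    calc q = c * ((c : X)⁻¹ * x * c) * ((c : X)⁻¹ * x) := by rw [← b]; group
      _ = c * c * (((c : X)⁻¹ * x) * ((c : X)⁻¹ * x)) := by rw [show (c : X)⁻¹ * x * c = _ from (e c).symm]; simp [mul_assoc]
      _ = _ := by rw [z, mul_one]; rfl
  refine top_unique fun k _ => ?_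
  obtain ⟨c, c1, c2⟩ := s k
  refine (mul_mem_cancel_left (inv_mem c1)).1 ?_
  rcases (D.ker _).1 c2 with e | e
  exacts [Subtype.ext (a2 := (1 : K)) e ▸ one_mem _, Subtype.ext (a2 := (⟨q, D.mem⟩ : K)) e ▸ t]

theorem center_eq : center K = φ.ker := le_antisymm (fun x hx => mem_bot.1 (D.cenA.le (mem_center_iff.2 fun a => by
    obtain ⟨y, rfl⟩ := D.surj a
    rw [← map_mul, mem_center_iff.1 hx, map_mul])))
  fun _ hx => mem_center_iff.2 fun y => Subtype.ext (mem_center_iff.1 (D.ker_cen hx) y)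

theorem cover : IsNonsplitDoubleCover K A := by
  have h2 : Nat.card (center K) = 2 := by
    rw [D.center_eq, Nat.card_eq_two_iff]
    refine ⟨1, ⟨⟨q, D.mem⟩, (D.ker _).2 (.inr rfl)⟩, fun e => ?_, Set.eq_univ_of_forall fun x => ?_⟩
    · have := D.ord
      rw [← show (1 : X) = q from congrArg (·.1.1) e, orderOf_one] at this
      exact absurd this (by decide)
    · exact ((D.ker _).1 x.2).imp (fun e => Subtype.ext (Subtype.ext e)) fun e => Subtype.ext (Subtype.ext e)
  refine ⟨h2, ⟨(QuotientGroup.quotientMulEquivOfEq D.center_eq).trans (QuotientGroup.quotientKerEquivOfSurjective φ D.surj)⟩,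
    fun L c => ?_⟩
  have e : L.index = 2 := c.index_eq_card.trans h2
  have : L = ⊤ := eq_top_iff.2 (D.perf ▸ commutator_le.2 fun a _ b _ => by
    simp only [commutatorElement_def, mul_mem_iff_of_index_two e, inv_mem_iff]; tauto)
  simp [this] at e

theorem map_mem (β : MulAut X) {k : X} (hk : k ∈ K) : β k ∈ K := by
  have : _root_.commutator K ≤ (K.comap β.toMonoidHom).comap K.subtype := commutator_le.2 fun a _ b _ => by
    simp only [mem_comap, commutatorElement_def, map_mul, map_inv, mul_mem_iff_of_index_two D.idx, inv_mem_iff]; tauto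
  exact this (D.perf.ge (mem_top (⟨k, hk⟩ : K)))

theorem ind [Finite X] {β : MulAut X} (hβ : β q = q) : ∃ γ : MulAut A, ∀ k : K, φ ⟨β k, D.map_mem β k.2⟩ = γ (φ k) := by
  let γ : K →* K := (β.toMonoidHom.comp K.subtype).codRestrict _ fun x => D.map_mem β x.2
  let f := φ.liftOfSurjective D.surj ⟨φ.comp γ, fun k hk => (D.ker _).2 (((D.ker k).1 hk).imp
    (fun e => (congrArg β e).trans (map_one β)) fun e => (congrArg β e).trans hβ)⟩
  have hf : ∀ x, f (φ x) = φ (γ x) := fun x => φ.liftOfRightInverse_comp_apply _ _ _ x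
  have := Finite.of_surjective _ D.surj
  exact ⟨MulEquiv.ofBijective f (Finite.surjective_iff_bijective.1 fun a => by
    obtain ⟨x, rfl⟩ := D.surj a
    exact ⟨φ ⟨β.symm x, D.map_mem β.symm x.2⟩, (hf _).trans (congrArg φ (Subtype.ext (β.apply_symm_apply _)))⟩),
    fun k => (hf k).symm⟩

theorem fix {β : MulAut X} (h : ∀ k : K, φ ⟨β k, D.map_mem β k.2⟩ = φ k) : ∀ k ∈ K, β k = k := fun k hk => by
  have c : ∀ k : K, (k : X)⁻¹ * β k ∈ center X := fun k =>
    D.ker_cen (k := k⁻¹ * ⟨β k, D.map_mem β k.2⟩) (by rw [map_mul, h, map_inv, inv_mul_cancel])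
  have : _root_.commutator K ≤ (β.toMonoidHom.eqLocus (MonoidHom.id X)).comap K.subtype := commutator_le.2 fun a _ b _ => by
    have := H16.commutatorElement_mul_center (a := (a : X)) (b := (b : X)) (c a) (c b)
    rw [mul_inv_cancel_left, mul_inv_cancel_left] at this
    show β _ = _
    simpa [commutatorElement_def] using this
  exact this (D.perf.ge (mem_top (⟨k, hk⟩ : K)))

theorem two {g : X} (h : ∀ k ∈ K, g * k = k * g) : g = 1 ∨ g = q :=
  (D.ker ⟨g, D.self g h⟩).1 (D.center_eq.le (mem_center_iff.2 fun k => Subtype.ext (h k k.2).symm))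

theorem aut [Finite X] (hO : Nat.card (Out A) = 2) {β : MulAut X} (hβ : β q = q) :
    ∃ h : X, (∀ k ∈ K, (MulAut.conj h * β) k = k) ∧ ∀ g, (MulAut.conj h * β) g = g ∨ (MulAut.conj h * β) g = g * q := by
  have cq : ∀ h, MulAut.conj h q = q := fun h => by simp [mem_center_iff.1 D.cen h]
  have inn : ∀ {β : MulAut X} {γ : MulAut A}, (∀ k : K, φ ⟨β k, D.map_mem β k.2⟩ = γ (φ k)) → γ ∈ Inn A →
      ∃ h ∈ K, ∀ k ∈ K, (MulAut.conj h * β) k = k := by
    rintro β _ e ⟨a, rfl⟩
    obtain ⟨a, rfl⟩ := D.surj a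
    refine ⟨a⁻¹, a⁻¹.2, D.fix fun k => ?_⟩
    refine Eq.trans (congrArg φ (show _ = a⁻¹ * ⟨β k, D.map_mem β k.2⟩ * a from Subtype.ext (by simp))) ?_
    simp [e, mul_assoc]
  obtain ⟨h, e⟩ : ∃ h : X, ∀ k ∈ K, (MulAut.conj h * β) k = k := by
    obtain ⟨x, hx⟩ : ∃ x, x ∉ K := by
      by_contra! c
      have := D.idx
      rw [(eq_top_iff' K).2 c, index_top] at this
      exact absurd this (by decide)
    obtain ⟨ξ, e1⟩ := D.ind (cq x)
    obtain ⟨γ, e2⟩ := D.ind hβ
    by_cases c : γ ∈ Inn A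
    · exact (inn e2 c).imp fun _ a => a.2
    have n : ξ ∉ Inn A := fun c => by
      obtain ⟨h, a, b⟩ := inn e1 c
      exact hx ((mul_mem_cancel_left a).1 (D.self _ fun k hk => mul_inv_eq_iff_eq_mul.1 (by simpa [mul_assoc] using b k hk)))
    obtain ⟨h, -, b⟩ := inn (β := MulAut.conj x * β) (γ := ξ * γ) (fun k => (e1 ⟨β k, D.map_mem β k.2⟩).trans (congrArg ξ (e2 k)))
      ((mul_mem_iff_of_index_two hO).2 (iff_of_false n c))
    exact ⟨h * x, by rwa [map_mul, mul_assoc]⟩
  refine ⟨h, e, fun g => ?_⟩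
  generalize MulAut.conj h * β = γ at e
  have := D.two (g := g⁻¹ * γ g) fun k hk => by
    have a := e _ (D.map_mem (MulAut.conj g) hk)
    rw [MulAut.conj_apply, map_mul, map_mul, e k hk, map_inv] at a
    calc _ = g⁻¹ * (γ g * k * (γ g)⁻¹) * γ g := by group
      _ = _ := by rw [a]; group
  rwa [inv_mul_eq_one, eq_comm, inv_mul_eq_iff_eq_mul] at this

end Dcv

end H15
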