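import Cfsg.Agent.H15.Big
import Cfsg.Agent.H15.BT
import Cfsg.Agent.H15.Quot

/-!
Derived relators (namespace H15).
* `derAll`, `Rels.der` (rewriting proofs), `extG`, `Rels.ext` (auxiliary generators);
* `kill_of`, `fact_rel` (relators read off from an enumeration), `up_quot` (quotient of a model by a cyclic kernel).
-/

namespace H15
open H13

universe u

variable {G : Type*} [Group G] {mul : ℕ → ℕ → ℕ} {one : ℕ} {wf : ℕ → Bool}

/-- put the word `u` in front of `w`, cancelling -/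
noncomputable def aR (u w : List ℕ) : List ℕ := List.rec w (fun x _ ih => force x fun x =>
  List.rec [x] (fun y w _ => Bool.rec (x :: y :: w) w (Nat.beq (Nat.xor x (nat_lit 1)) y)) ih) u

theorem evalW_aR (g : ℕ → G) (u w : List ℕ) : evalW (sg g) (aR u w) = evalW (sg g) u * evalW (sg g) w := by
  induction u with
  | nil => simp [aR]
  | cons x u ih =>
    have e : aR (x :: u) w = List.rec [x] (fun y w _ => Bool.rec (x :: y :: w) w (Nat.beq (x ^^^ 1) y)) (aR u w) := rfl
    rw [e, evalW_cons, mul_assoc, ← ih]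
    rcases aR u w with _ | ⟨y, v⟩
    · rfl
    · cases h : Nat.beq (x ^^^ 1) y
      · simp [h]
      · simp [← Nat.eq_of_beq_eq_true h, sg_xor]

/-- insert rotated relators; the word disappears -/
noncomputable def derOk (R : List (List ℕ × ℕ)) (st : List (ℕ × ℕ × ℕ × Bool)) : List ℕ → Bool :=
  List.rec (fun w => List.rec true (fun _ _ _ => false) w) (fun s _ ih w => forceW (rot s.2.2.1 (pw (nthD ([], nat_lit 0)
    R s.2.1).1 (nthD ([], nat_lit 0) R s.2.1).2)) fun r =>
      forceW (aR (w.take s.1) (aR (Bool.rec r (invW r) s.2.2.2) (aR (w.drop s.1) []))) ih) st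

theorem Rels.der1 {R : List (List ℕ × ℕ)} {g : ℕ → G} (h : Rels R g) {st : List (ℕ × ℕ × ℕ × Bool)} {w : List ℕ}
    (e : derOk R st w = true) : evalW (sg g) w = 1 := by
  induction st generalizing w with
  | nil => cases w; exacts [rfl, nomatch e]
  | cons s st ih =>
    have a := evalW_rot ((evalW_pw _ _ _).trans (h.nth s.2.1)) s.2.2.1
    replace e : forceW _ (fun r => forceW (aR (w.take s.1) (aR (Bool.rec r (invW r) s.2.2.2) (aR (w.drop s.1) [])))
      (derOk R st)) = true := e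
    rw [forceW_eq, forceW_eq] at e
    have := ih e
    rw [evalW_aR, evalW_aR, evalW_aR, evalW_nil, mul_one] at this
    rw [← List.take_append_drop s.1 w, evalW_append, ← this]
    cases s.2.2.2 <;> simp [a, evalW_invW]

/-- a list of new relators with proofs -/
noncomputable def derAll (ns : List ((List ℕ × ℕ) × List (ℕ × ℕ × ℕ × Bool))) : List (List ℕ × ℕ) → Bool :=
  List.rec (fun _ => true) (fun n _ ih R => band (derOk R n.2 (pw n.1.1 n.1.2)) (ih (apd R [n.1]))) ns

theorem Rels.der {R : List (List ℕ × ℕ)} {g : ℕ → G} (h : Rels R g) {ns : List ((List ℕ × ℕ) × List (ℕ × ℕ × ℕ × Bool))}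
    (e : derAll ns R = true) : Rels (mapR Prod.fst ns) g := by
  induction ns generalizing R with
  | nil => exact fun _ h => nomatch h
  | cons n ns ih =>
    obtain ⟨a, b⟩ := band_eq_true.1 e
    have c := (evalW_pw _ _ _).symm.trans (h.der1 a)
    exact List.forall_mem_cons.2 ⟨c, ih (apd_eq _ _ ▸ h.append (List.forall_mem_singleton.2 c)) b⟩

theorem Rels.sub {R R' : List (List ℕ × ℕ)} {g : ℕ → G} (h : Rels R g)
    (e : allL (fun r => anyL (fun s => band (eqL r.1 s.1) (Nat.beq r.2 s.2)) R) R' = true) : Rels R' g := fun r hr => by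
  obtain ⟨s, a, b⟩ := anyL_iff.1 (allL_iff.1 e r hr)
  rw [band_eq_true, eqL_iff, Nat.beq_eq] at b
  rw [b.1, b.2]; exact h s a

/-- auxiliary generators -/
noncomputable def extG (g : ℕ → G) (m : ℕ) (ws : List (List ℕ)) (i : ℕ) : G :=
  if i < m then g i else evalW (sg g) (nthW ws (i - m))

theorem evalW_extG (g : ℕ → G) {m : ℕ} (ws : List (List ℕ)) {u : List ℕ} (h : ∀ l ∈ u, l < 2 * m) :
    evalW (sg (extG g m ws)) u = evalW (sg g) u := evalW_congr fun l hl => by
  simp only [sg, extG, if_pos (show l / 2 < m by have := h l hl; omega)]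

theorem Rels.ext {R : List (List ℕ × ℕ)} {g : ℕ → G} (h : Rels R g) {m k : ℕ} {ws : List (List ℕ)}
    (e : (∀ r ∈ R, ∀ l ∈ r.1, l < 2 * m) ∧ ∀ a < k, ∀ l ∈ nthW ws a, l < 2 * m) :
    Rels (R ++ (List.range k).map fun a => ((2 * (m + a) + 1) :: nthW ws a, 1)) (extG g m ws) :=
  Rels.append (fun r hr => by rw [evalW_extG g ws (e.1 r hr), h r hr]) (List.forall_mem_map.2 fun a ha => by
    rw [evalW_cons, evalW_extG g ws (e.2 a (List.mem_range.1 ha)), sg_odd, extG, if_neg (by omega), Nat.add_sub_cancel_left]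
    simp)

theorem map_extG {G' : Type*} [Group G'] (φ : G →* G') (g : ℕ → G) (m : ℕ) (ws : List (List ℕ)) (i : ℕ) :
    φ (extG g m ws i) = extG (fun i => φ (g i)) m ws i := by
  unfold extG; split_ifs
  exacts [rfl, (map_evalW' _ _ _).trans (congrArg (evalW · _) (funext (map_sg φ g)))]

section
variable {M : Type*} [Group M] {S : Sem M mul one wf} {g0 : ℕ → M} {lc dom nodes : List ℕ} {m2 len nn n k : ℕ}
  {us : List (List ℕ)} (L : Lc S g0 lc dom m2 us len) {R R' : List (List ℕ × ℕ)} (U : UP.{0} g0 dom R) {T : Tr}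
  {sb : List (ℕ × ℕ × ℕ)} {rs : List (ℕ × ℕ × List (ℕ × ℕ))} (hr : relsOk mul one lc dom nodes nn m2 (R ++ R') sb k rs = true)
  (hc : ∀ i < n, chk mul one wf T lc (mapR (fun e => e.2.2) rs) nn i = true) {g : ℕ → G} (hR : Rels (R ++ R') g)

theorem map_base {ψ : M →* G} (hψ : ∀ i ∈ dom, ψ (g0 i) = g i) {u : List ℕ} (h : inDom m2 dom u = true) :
    ψ (evalW (sg g0) u) = evalW (sg g) u := (map_evalW' _ _ _).trans (evalW_congr fun l hl => by
  have := allL_iff.1 h l hl
  rw [band_eq_true, memL_iff, show Nat.shiftRight l 1 = l / 2 from Nat.shiftRight_one l] at this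
  rw [map_sg]; simp only [sg, hψ _ this.2])

include L U hr hc hR

theorem kill_of {i : ℕ} {z : List ℕ} (h : i < n ∧ (T.look i).j = 0 ∧ (T.look i).k = (T.look i).l ∧ (T.look i).t = one ∧
    inDom m2 dom z = true ∧ prodW mul one lc z = (T.look i).al) : evalW (sg g) z = 1 := by
  obtain ⟨ψ, hψ⟩ := U.univ G g hR.left
  have H := holds_of L hr hc hR hψ i h.1
  have e := H.e ((Wd_le (Nat.zero_le _)).trans rfl) h.2.1
  have p := S.prodW_spec L.ok z
  rw [h.2.2.1, h.2.2.2.1, Sem.val_one, one_mul, ← h.2.2.2.2.2, eq_comm, mul_eq_left] at e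
  rw [← map_base hψ h.2.2.2.2.1, ← L.evalW_base h.2.2.2.2.1]; exact (congrArg ψ p.2).symm.trans e

theorem fact_rel {i a : ℕ} {u v : List ℕ} (h : i < n ∧ (T.look i).j = 0 ∧ (T.look i).k = a + 1 ∧ (T.look i).l = a + 1 ∧
    a < nn ∧ inDom m2 dom u = true ∧ inDom m2 dom v = true ∧ prodW mul one lc u = (T.look i).t ∧
    prodW mul one lc v = (T.look i).al) :
    evalW (sg g) u * sg g (nthD 0 nodes a) = sg g (nthD 0 nodes a) * evalW (sg g) v := by
  obtain ⟨ψ, hψ⟩ := U.univ G g hR.left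
  obtain ⟨h1, h2, h3, h4, h5, h6, h7, h8, h9⟩ := h
  have e := (holds_of L hr hc hR hψ i h1).e ((Wd_le (Nat.zero_le _)).trans rfl) h2
  rw [h3, h4, Wd_le h5, ← h8, ← h9] at e
  have p : ∀ u, evalW (S.gen lc) u = S.val (prodW mul one lc u) := fun u => (S.prodW_spec L.ok u).2.symm
  rw [← map_base hψ h6, ← map_base hψ h7, ← L.evalW_base h6, ← L.evalW_base h7, p, p]
  exact e

end

theorem up_quot {M : Type*} [Group M] [Finite M] {g0 : ℕ → M} {dom z : List ℕ} {R : List (List ℕ × ℕ)} (U : UP.{0} g0 dom R)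
    (hg : mdl g0 dom = ⊤) {k b m2 : ℕ} (ha : Nat.card M = b * k) (ho : orderOf (evalW (sg g0) z) = k) {g : ℕ → G}
    (hR : Rels (R ++ [(z, 1)]) g) (hz : inDom m2 dom z = true)
    (hd : allL (fun r => allL (fun l => memL (Nat.shiftRight l (nat_lit 1)) dom) r.1) (R ++ [(z, 1)]) = true) :
    (Finite (mdl g dom) ∧ Nat.card (mdl g dom) ≤ b) ∧
      (Nat.card (mdl g dom) = b → UP.{0} (mgen g dom) dom (R ++ [(z, 1)])) := by
  have r := hR.mgen hd
  obtain ⟨π, hπ⟩ := U.univ _ _ r.left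
  have s : Function.Surjective π := MonoidHom.range_eq_top.1 (by
    rw [MonoidHom.range_eq_map, ← hg, map_mdl, ← mdl_mgen g dom]
    exact congrArg Subgroup.closure (Set.image_congr hπ))
  have c : Subgroup.zpowers (evalW (sg g0) z) ≤ π.ker :=
    Subgroup.zpowers_le.2 ((map_base hπ hz).trans ((pow_one _).symm.trans (r (z, 1) (by simp))))
  have d := π.ker.card_mul_index
  have e := Subgroup.card_le_of_le c
  rw [Subgroup.index_ker, MonoidHom.range_eq_top.2 s, Subgroup.card_top, ha, Nat.mul_comm b] at d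
  rw [Nat.card_zpowers, ho] at e
  have k0 : 0 < k := ho ▸ orderOf_pos _
  refine ⟨⟨.of_surjective _ s, Nat.le_of_mul_le_mul_left ((Nat.mul_le_mul_right _ e).trans d.le) k0⟩, fun h X _ x hx => ?_⟩
  obtain ⟨ψ, hψ⟩ := U.quot s (allL_iff.2 fun l hl => (band_eq_true.1 (allL_iff.1 hz l hl)).2)
    (Subgroup.eq_of_le_of_card_ge c (by
      rw [h] at d
      rw [Nat.card_zpowers, ho, Nat.eq_of_mul_eq_mul_right (h ▸ (have := Finite.of_surjective _ s; Nat.card_pos)) d])).ge X x hx
  exact ⟨ψ, fun i hi => hπ i hi ▸ hψ i hi⟩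

end H15
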