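import Cfsg.Agent.H15.Quot

/-!
Enumerations in coded groups (namespace H15).
* `Sem.canon` (canonical codes for a central quotient), `En`, `enOk`, `en_of` (enumerated subgroups);
* `clsK`, `cls_spec`, `card_cent_le` (conjugacy classes), `scRun`, `scRun_spec` (strongly closed subgroups).
-/

namespace H15
open H13 MulAction

variable {M G : Type*} [Group M] [Group G] {mul : ℕ → ℕ → ℕ} {one : ℕ} {wf : ℕ → Bool}

/-- the least multiple -/
noncomputable def canC (mul : ℕ → ℕ → ℕ) (zs : List ℕ) (c : ℕ) : ℕ :=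
  List.rec c (fun z _ ih => force (mul z c) fun x => force ih fun y => Bool.rec y x (Nat.blt x y)) zs

theorem canC_spec (mul : ℕ → ℕ → ℕ) (zs : List ℕ) (c : ℕ) : (canC mul zs c = c ∨ ∃ z ∈ zs, canC mul zs c = mul z c) ∧
    canC mul zs c ≤ c ∧ ∀ z ∈ zs, canC mul zs c ≤ mul z c := by
  induction zs with
  | nil => exact ⟨.inl rfl, le_rfl, by simp⟩
  | cons z zs ih =>
    have e : canC mul (z :: zs) c = Bool.rec (canC mul zs c) (mul z c) (Nat.blt (mul z c) (canC mul zs c)) := rfl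
    rw [e]
    cases h : Nat.blt (mul z c) (canC mul zs c)
    · have : canC mul zs c ≤ mul z c := by rw [← not_lt, ← Nat.blt_eq, h]; simp
      exact ⟨ih.1.imp_right fun ⟨y, a, b⟩ => ⟨y, by simp [a], b⟩, ih.2.1, List.forall_mem_cons.2 ⟨this, ih.2.2⟩⟩
    · have := (Nat.blt_eq.mp h).le
      exact ⟨.inr ⟨z, by simp, rfl⟩, this.trans ih.2.1,
        List.forall_mem_cons.2 ⟨le_rfl, fun y hy => this.trans (ih.2.2 y hy)⟩⟩

/-- multiplication of canonical codes -/
noncomputable def mulC (mul : ℕ → ℕ → ℕ) (zs : List ℕ) (a b : ℕ) : ℕ := force (mul a b) (canC mul zs)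

section
variable {S : Sem M mul one wf} {π : M →* G} {zs : List ℕ} (hz : ∀ z ∈ zs, S.ok z) (J : Inj (S.map π) zs)
include hz J

theorem canC_ok {c : ℕ} (h : S.ok c) : S.ok (canC mul zs c) ∧ π (S.val (canC mul zs c)) = π (S.val c) := by
  rcases (canC_spec mul zs c).1 with e | ⟨z, a, e⟩ <;> rw [e]
  · exact ⟨h, rfl⟩
  · exact ⟨S.ok_mul (hz z a) h, by rw [S.val_mul (hz z a) h, map_mul, show π (S.val z) = 1 from (J z (hz z a)).2 a, one_mul]⟩

theorem canC_eq [Finite M] (I : SInj S) {a b : ℕ} (ha : S.ok a) (hb : S.ok b) (e : π (S.val a) = π (S.val b)) :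
    canC mul zs a = canC mul zs b := by
  have k : ∀ {a b}, S.ok a → S.ok b → π (S.val a) = π (S.val b) → canC mul zs b ≤ canC mul zs a := fun {a b} ha hb e => by
    have c := canC_ok hz J ha
    have p := S.powC_spec hb (Nat.card M - 1)
    have p' : S.val (powC mul one b (Nat.card M - 1)) = (S.val b)⁻¹ := by
      rw [p.2, eq_inv_iff_mul_eq_one, ← pow_succ, Nat.sub_add_cancel Nat.card_pos, pow_card_eq_one']
    have o := S.ok_mul c.1 p.1
    have v := S.val_mul c.1 p.1
    refine ((canC_spec mul zs b).2.2 _ ((J _ o).1 ?_)).trans_eq (I _ _ (S.ok_mul o hb) c.1 ?_)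
    · show π _ = 1
      rw [v, p', map_mul, c.2, e, map_inv, mul_inv_cancel]
    · rw [S.val_mul o hb, v, p', inv_mul_cancel_right]
  exact le_antisymm (k hb ha e.symm) (k ha hb e)

open Classical in
/-- canonical codes for a central quotient -/
noncomputable def Sem.canon [Finite M] (I : SInj S) {o : ℕ} (ho : canC mul zs one = o) :
    Sem G (mulC mul zs) o fun c => decide (S.ok c ∧ canC mul zs c = c) :=
  have k : ∀ {c}, S.ok c → S.ok (canC mul zs c) ∧ canC mul zs (canC mul zs c) = canC mul zs c := fun h =>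
    ⟨(canC_ok hz J h).1, canC_eq hz J I (canC_ok hz J h).1 h (canC_ok hz J h).2⟩
  { ok c := S.ok c ∧ canC mul zs c = c
    val c := π (S.val c)
    ok_one := ho ▸ k S.ok_one
    val_one := by rw [← ho, (canC_ok hz J S.ok_one).2, S.val_one, map_one]
    wf_of_ok := decide_eq_true
    wf_mul a b := decide_eq_true (k (S.ok_mul (of_decide_eq_true a).1 (of_decide_eq_true b).1))
    ok_mul a b := k (S.ok_mul a.1 b.1)
    val_mul a b := (canC_ok hz J (S.ok_mul a.1 b.1)).2.trans (by rw [S.val_mul a.1 b.1, map_mul])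
    ok_l a _ _ := of_decide_eq_true a
    ok_r _ b _ := of_decide_eq_true b }

theorem canon_inj [Finite M] (I : SInj S) {o : ℕ} (ho : canC mul zs one = o) : SInj (Sem.canon hz J I ho) :=
  fun _ _ a b e => a.2.symm.trans ((canC_eq hz J I a.1 b.1 e).trans b.2)

theorem canon_ok [Finite M] (I : SInj S) {o : ℕ} (ho : canC mul zs one = o) {lc lc' : List ℕ} (h0 : ∀ c ∈ lc, S.ok c)
    (h : lc' = mapR (canC mul zs) lc) : (∀ c ∈ lc', (Sem.canon hz J I ho).ok c) ∧
      ∀ i, (Sem.canon hz J I ho).gen lc' i = π (S.gen lc i) := by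
  subst h
  rw [mapR_eq]
  refine ⟨List.forall_mem_map.2 fun c hc => ⟨(canC_ok hz J (h0 c hc)).1,
    canC_eq hz J I (canC_ok hz J (h0 c hc)).1 (h0 c hc) (canC_ok hz J (h0 c hc)).2⟩, fun i => ?_⟩
  subst ho
  simp only [Sem.gen, nthD_eq, List.getD_map]
  exact (canC_ok hz J (nthD_eq _ _ _ ▸ nthD_prop S.ok_one h0 i)).2

end

variable {S : Sem G mul one wf}

/-- the list `L` enumerates the subgroup `K` -/
structure En (S : Sem G mul one wf) (K : Subgroup G) (L : List ℕ) : Prop where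
  ok : ∀ c ∈ L, S.ok c ∧ S.val c ∈ K
  ex : ∀ x ∈ K, ∃ c ∈ L, S.val c = x

theorem En.forall {K : Subgroup G} {L : List ℕ} (E : En S K L) {p : G → Prop} (h : ∀ c ∈ L, S.ok c → p (S.val c)) :
    ∀ x ∈ K, p x := fun x hx => by
  obtain ⟨c, a, rfl⟩ := E.ex x hx
  exact h c a (E.ok c a).1

theorem En.mem (I : SInj S) {K : Subgroup G} {L : List ℕ} (E : En S K L) {c : ℕ} (h : S.ok c) :
    S.val c ∈ K ↔ memL c L = true := by
  refine ⟨fun a => ?_, fun a => (E.ok c (memL_iff.1 a)).2⟩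
  obtain ⟨d, b, e⟩ := E.ex _ a
  exact memL_iff.2 (I _ _ (E.ok d b).1 h e ▸ b)

/-- the list `L` enumerates the subgroup generated by the letters `ix` -/
noncomputable def enOk (mul : ℕ → ℕ → ℕ) (one : ℕ) (lc ix : List ℕ) (b : ℕ) (cs L : List ℕ) (k d : ℕ) : Bool :=
  forceM (nthD one lc) ix fun gs => band (dfs (fun g x => mul x (nthD one gs g)) b cs [one] [one]
    fun acc => allL (fun c => memL c acc) L) (band (memL one L) (band (allL (fun x => allL (fun g =>
      force (mul x g) fun y => memL y L) gs) L) (band (disOk k d L) (Nat.ble L.length d))))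

theorem card_ge (I : SInj S) {X : Set G} (hX : X.Finite) {L : List ℕ} (h : ∀ c ∈ L, S.ok c ∧ S.val c ∈ X) {k d : ℕ}
    (e : disOk k d L = true) : d ≤ X.ncard := by
  obtain ⟨s, rfl, s2⟩ := disOk_spec e
  rw [← Set.ncard_coe_finset]
  exact Set.ncard_le_ncard_of_injOn S.val (fun c hc => (h c (s2 c hc)).2)
    (fun a ha b hb => I a b (h a (s2 a ha)).1 (h b (s2 b hb)).1) hX

theorem en_of [Finite G] (I : SInj S) {lc ix cs L : List ℕ} (h0 : ∀ c ∈ lc, S.ok c) {b k d : ℕ}
    (h : enOk mul one lc ix b cs L k d = true) : En S (mdl (S.gen lc) ix) L ∧ Nat.card (mdl (S.gen lc) ix) = d := by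
  classical
  simp only [enOk, forceM_eq, band_eq_true, allL_iff, force_eq, memL_iff, Nat.ble_eq, List.forall_mem_map] at h
  obtain ⟨a1, a2, a3, a4, a5⟩ := h
  have o := nthD_prop S.ok_one h0
  have o1 : S.ok one ∧ S.val one ∈ mdl (S.gen lc) ix := ⟨S.ok_one, S.val_one ▸ one_mem _⟩
  obtain ⟨acc, b1, b2⟩ := dfs_spec (q := fun c => S.ok c ∧ S.val c ∈ mdl (S.gen lc) ix) (fun g x hx => by
    have := nthD_prop (p := fun c => S.ok c ∧ S.val c ∈ mdl (S.gen lc) ix) o1
      (List.forall_mem_map.2 fun i hi => ⟨o i, mem_mdl _ hi⟩) g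
    exact ⟨S.ok_mul hx.1 this.1, S.val_mul hx.1 this.1 ▸ mul_mem hx.2 this.2⟩) a1 (by simpa using o1) (by simpa using o1)
  have ok := fun c hc => b1 c (memL_iff.1 (allL_iff.1 b2 c hc))
  have ex : ∀ x ∈ mdl (S.gen lc) ix, ∃ c ∈ L, S.val c = x := fun x hx => by
    have hx' : x ∈ Submonoid.closure (S.gen lc '' {i | i ∈ ix}) := by
      rwa [← Subgroup.closure_toSubmonoid_of_finite]
    clear hx
    induction hx' using Submonoid.closure_induction_right with
    | one => exact ⟨one, a2, S.val_one⟩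
    | mul_right x _ y hy ih =>
      obtain ⟨c, c1, rfl⟩ := ih
      obtain ⟨i, hi, rfl⟩ := hy
      exact ⟨_, a3 c c1 i hi, S.val_mul (ok c c1).1 (o i)⟩
  refine ⟨⟨ok, ex⟩, le_antisymm ?_ (card_ge I (Set.toFinite _) ok a4)⟩
  refine le_trans (Set.ncard_le_ncard (s := (mdl (S.gen lc) ix : Set G)) (t := (L.map S.val).toFinset) fun x hx => ?_)
    (by rw [Set.ncard_coe_finset]; exact (List.toFinset_card_le _).trans (by simpa using a5))
  simpa using ex x hx

/-- a walk through conjugates of `t`; the letters `2 g`, `2 g + 1` of `ix` are inverse to each other -/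
noncomputable def clsK (mul : ℕ → ℕ → ℕ) (one : ℕ) (lc ix : List ℕ) (t b : ℕ) (cs : List ℕ) (K : List ℕ → Bool) : Bool :=
  forceM (nthD one lc) ix fun gs => band (bcOk mul one gs ix.length) (force (nthD one lc t) fun t =>
    dfs (fun g x => force (mul (nthD one gs (Nat.mul (nat_lit 2) g)) x) fun y =>
      mul y (nthD one gs (Nat.succ (Nat.mul (nat_lit 2) g)))) b cs [t] [t] K)

theorem cls_spec {lc ix cs : List ℕ} (h0 : ∀ c ∈ lc, S.ok c) {t b : ℕ} {K : List ℕ → Bool}
    (h : clsK mul one lc ix t b cs K = true) :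
    ∃ acc, (∀ c ∈ acc, S.ok c ∧ IsConj (S.gen lc t) (S.val c)) ∧ K acc = true := by
  simp only [clsK, forceM_eq, band_eq_true, force_eq] at h
  have o := nthD_prop S.ok_one h0
  have o' : ∀ c ∈ ix.map (nthD one lc), S.ok c := List.forall_mem_map.2 fun i _ => o i
  have o2 := nthD_prop S.ok_one o'
  refine dfs_spec (fun g x hx => ⟨S.ok_mul (S.ok_mul (o2 _) hx.1) (o2 _),
    hx.2.trans (isConj_iff.2 ⟨S.gen (ix.map (nthD one lc)) (2 * g), ?_⟩)⟩)
    h.2 (List.forall_mem_singleton.2 ⟨o t, IsConj.refl _⟩) (List.forall_mem_singleton.2 ⟨o t, IsConj.refl _⟩)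
  rw [S.val_mul (S.ok_mul (o2 _) hx.1) (o2 _), S.val_mul (o2 _) hx.1]
  refine congrArg₂ _ rfl ?_
  by_cases c : g < ix.length
  · exact (sg_odd _ g).symm.trans (S.gen_eq_sg o' h.1 (l := 2 * g + 1) (by omega)).symm
  · have e : ∀ l, ix.length ≤ l → S.gen (ix.map (nthD one lc)) l = 1 := fun l hl => by
      rw [Sem.gen, nthD_eq, List.getD_eq_default _ _ (by simpa using hl), S.val_one]
    rw [e _ (by omega), inv_one]; exact (e (2 * g + 1) (by omega)).symm

theorem ncard_conj [Finite G] (t : G) :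
    {y | IsConj t y}.ncard * Nat.card (Subgroup.centralizer ({t} : Set G)) = Nat.card G := by
  have := ncard_orbit_mul_card (⊤ : Subgroup (ConjAct G)) t
  rw [top_inf_eq, Subgroup.card_top, ← Subgroup.nat_card_centralizer_nat_card_stabilizer] at this
  refine Eq.trans (congrArg (fun X : Set G => X.ncard * _) ?_) this
  ext y
  simp only [Set.mem_ofPred_eq, isConj_iff, mem_orbit_iff]
  exact ⟨fun ⟨c, e⟩ => ⟨⟨ConjAct.toConjAct c, trivial⟩, e⟩, fun ⟨c, e⟩ => ⟨ConjAct.ofConjAct c.1, e⟩⟩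

theorem card_cent_le [Finite G] (I : SInj S) {lc ix cs : List ℕ} (h0 : ∀ c ∈ lc, S.ok c) {t b k d a : ℕ}
    (h : clsK mul one lc ix t b cs (disOk k d) = true) (e : Nat.card G = d * a) :
    Nat.card (Subgroup.centralizer ({S.gen lc t} : Set G)) ≤ a := by
  obtain ⟨acc, a1, a2⟩ := cls_spec h0 h
  have := card_ge I (X := {y | IsConj (S.gen lc t) y}) (Set.toFinite _) a1 a2
  refine Nat.le_of_mul_le_mul_left (c := d) (by rw [← e, ← ncard_conj (S.gen lc t)]; gcongr) (Nat.pos_of_ne_zero ?_)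
  rintro rfl
  exact Nat.card_pos.ne' (by simpa using e)

/-- products, and conjugates lying in `L` -/
noncomputable def scRun (mul : ℕ → ℕ → ℕ) (one : ℕ) (lc L : List ℕ) (pr : List (ℕ × ℕ × ℕ)) :
    List ℕ → (List ℕ → Bool) → Bool :=
  List.rec (fun acc K => K acc) (fun s _ ih acc K => force (nthD one acc s.1) fun x =>
    Nat.rec (force (nthD one acc s.2.1) fun y => force (mul x y) fun z => ih (z :: acc) K)
      (fun c _ => force (nthD one lc s.2.1) fun g => force (nthD one lc c) fun g' => force (mul g x) fun y =>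
        force (mul y g') fun z => band (Nat.beq (mul g g') one) (band (memL z L) (ih (z :: acc) K))) s.2.2) pr

theorem scRun_spec {lc L : List ℕ} (h0 : ∀ c ∈ lc, S.ok c) {P T : Subgroup G} (E : En S P L)
    (hT : ∀ x ∈ T, ∀ g : G, g * x * g⁻¹ ∈ P → g * x * g⁻¹ ∈ T) {pr : List (ℕ × ℕ × ℕ)} {acc : List ℕ}
    {K : List ℕ → Bool} (h : scRun mul one lc L pr acc K = true) (ha : ∀ c ∈ acc, S.ok c ∧ S.val c ∈ T) :
    ∃ acc, (∀ c ∈ acc, S.ok c ∧ S.val c ∈ T) ∧ K acc = true := by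
  induction pr generalizing acc with
  | nil => exact ⟨acc, ha, h⟩
  | cons s pr ih =>
    obtain ⟨a, b, c⟩ := s
    have o := nthD_prop (p := fun c => S.ok c ∧ S.val c ∈ T) ⟨S.ok_one, S.val_one ▸ one_mem _⟩ ha
    have o' := nthD_prop S.ok_one h0
    rcases c with _ | c
    · exact ih h (List.forall_mem_cons.2 ⟨⟨S.ok_mul (o a).1 (o b).1,
        S.val_mul (o a).1 (o b).1 ▸ mul_mem (o a).2 (o b).2⟩, ha⟩)
    · obtain ⟨e1, e⟩ := band_eq_true.1 h
      obtain ⟨e2, e3⟩ := band_eq_true.1 e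
      have k := E.ok _ (memL_iff.1 e2)
      refine ih e3 (List.forall_mem_cons.2 ⟨⟨k.1, ?_⟩, ha⟩)
      have i : S.val (nthD one lc c) = (S.val (nthD one lc b))⁻¹ := eq_inv_of_mul_eq_one_right (by
        rw [← S.val_mul (o' b) (o' c), Nat.eq_of_beq_eq_true e1, S.val_one])
      rw [S.val_mul (S.ok_mul (o' b) (o a).1) (o' c), S.val_mul (o' b) (o a).1, i] at k ⊢
      exact hT _ (o a).2 _ k.2

theorem SInj.beq (I : SInj S) {a b : ℕ} (ha : S.ok a) (hb : S.ok b) : Nat.beq a b = true ↔ S.val a = S.val b :=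
  ⟨fun h => congrArg _ (Nat.eq_of_beq_eq_true h), fun h => I a b ha hb h ▸ Nat.beq_refl a⟩

end H15
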