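import Cfsg.Agent.H15.Big

/-!
Upper bounds for centralisers by counting fixed points (namespace H15).
* `fix_count`; `Act.cent_le` (from a permutation action), `Cvr`, `VCod.cvr`, `Cvr.cnt` (counting in a subgroup),
  `Cert.cent_le` (from an enumeration); `trP`, `tr_conj`.
-/

namespace H15
open H13 MulAction Subgroup

universe u v

variable {M G : Type*} [Group M] [Group G] {mul : ℕ → ℕ → ℕ} {one : ℕ} {wf : ℕ → Bool}

theorem ncard_smul_mem {X : Type*} [MulAction M X] (x : X) {B : Set X} (hB : B ⊆ orbit M x) :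
    {h : M | h • x ∈ B}.ncard = B.ncard * Nat.card (stabilizer M x) := by
  have := QuotientGroup.card_preimage_mk (stabilizer M x) (ofQuotientStabilizer M x ⁻¹' B)
  rw [Nat.card_coe_set_eq, Nat.card_coe_set_eq, Set.ncard_preimage_of_injective_subset_range
    (injective_ofQuotientStabilizer M x) fun y hy => (hB hy).elim fun g e => ⟨g, e⟩, Nat.mul_comm] at this
  exact this

theorem fix_count {X : Type*} [MulAction M X] (m : M) (x : X) :
    {y | y ∈ orbit M x ∧ m • y = y}.ncard * Nat.card (stabilizer M x) =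
      {s | s ∈ stabilizer M x ∧ IsConj m s}.ncard * Nat.card (centralizer ({m} : Set M)) := by
  rw [← ncard_smul_mem x fun _ h => h.1, nat_card_centralizer_nat_card_stabilizer,
    ← ncard_smul_mem (M := ConjAct M) m fun s h => (isConj_iff.1 h.2).elim fun c e => ⟨ConjAct.toConjAct c, e⟩]
  refine Set.ncard_congr (fun h _ => ConjAct.toConjAct h⁻¹) (fun h a => ⟨?_, isConj_iff.2 ⟨h⁻¹, rfl⟩⟩)
    (fun a b _ _ e => inv_injective e) fun h a => ⟨(ConjAct.ofConjAct h)⁻¹, ⟨mem_orbit _ _, ?_⟩, by simp⟩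
  · show (h⁻¹ * m * h⁻¹⁻¹) • x = x
    rw [inv_inv, mul_smul, mul_smul, a.2, inv_smul_smul]
  · have : (ConjAct.ofConjAct h * m * (ConjAct.ofConjAct h)⁻¹) • x = x := a.1
    rwa [mul_smul, mul_smul, ← eq_inv_smul_iff] at this

/-- number of fixed points of a table -/
noncomputable def cntFix (w n T : ℕ) : ℕ :=
  Nat.rec (nat_lit 0) (fun i ih => force ih fun c => Bool.rec c (Nat.succ c) (Nat.beq (get w T i) i)) n

theorem cntFix_eq (w n T : ℕ) : cntFix w n T = ((Finset.range n).filter fun i => get w T i = i).card := by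
  induction n with
  | zero => rfl
  | succ n ih =>
    have e : cntFix w (n + 1) T = Bool.rec (cntFix w n T) (cntFix w n T + 1) (Nat.beq (get w T n) n) := rfl
    rw [e, ih, Finset.range_add_one, Finset.filter_insert]
    split_ifs with h
    · rw [h, Nat.beq_refl, Finset.card_insert_of_notMem (by simp)]
    · rw [show Nat.beq (get w T n) n = false by rw [← Bool.not_eq_true, Nat.beq_eq]; exact h]

/-- several walks through conjugates -/
noncomputable def clsM (mul : ℕ → ℕ → ℕ) (one : ℕ) (lc gs : List ℕ) (m b : ℕ) (st : List (List ℕ × List ℕ × List ℕ)) :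
    List ℕ → (List ℕ → Bool) → Bool :=
  List.rec (fun acc K => K acc) (fun s _ ih acc K => force (prodW mul one lc s.1) fun t =>
    force (prodW mul one lc s.2.1) fun x => band (Nat.beq (mul x m) (mul t x))
      (dfs (fun g x => force (mul (nthD one gs (Nat.mul (nat_lit 2) g)) x) fun y =>
        mul y (nthD one gs (Nat.succ (Nat.mul (nat_lit 2) g)))) b s.2.2 [t] (t :: acc) fun acc' => ih acc' K)) st

theorem clsM_spec {S : Sem M mul one wf} {lc gs : List ℕ} (h0 : ∀ c ∈ lc, S.ok c) {H : Subgroup M}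
    (hg : ∀ c ∈ gs, S.ok c ∧ S.val c ∈ H) (hb : bcOk mul one gs gs.length = true) {m b : ℕ} (hm : S.ok m)
    {st : List (List ℕ × List ℕ × List ℕ)} (hs : ∀ s ∈ st, evalW (S.gen lc) s.1 ∈ H) {acc : List ℕ}
    {K : List ℕ → Bool} (h : clsM mul one lc gs m b st acc K = true)
    (ha : ∀ c ∈ acc, S.ok c ∧ S.val c ∈ {s | s ∈ H ∧ IsConj (S.val m) s}) :
    ∃ acc, (∀ c ∈ acc, S.ok c ∧ S.val c ∈ {s | s ∈ H ∧ IsConj (S.val m) s}) ∧ K acc = true := by
  induction st generalizing acc with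
  | nil => exact ⟨acc, ha, h⟩
  | cons s st ih =>
    obtain ⟨a, b⟩ := band_eq_true.1 h
    have t := S.prodW_spec h0 s.1
    have x := S.prodW_spec h0 s.2.1
    have k : S.ok (prodW mul one lc s.1) ∧ S.val (prodW mul one lc s.1) ∈ {s | s ∈ H ∧ IsConj (S.val m) s} :=
      ⟨t.1, t.2 ▸ hs s (by simp), isConj_iff.2 ⟨_, mul_inv_eq_iff_eq_mul.2 ((S.val_mul x.1 hm).symm.trans
        ((congrArg _ (Nat.eq_of_beq_eq_true a)).trans (S.val_mul t.1 x.1)))⟩⟩
    have o := nthD_prop (p := fun c => S.ok c ∧ S.val c ∈ H) ⟨S.ok_one, S.val_one ▸ one_mem _⟩ hg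
    obtain ⟨acc', c1, c2⟩ := dfs_spec (q := fun c => S.ok c ∧ S.val c ∈ {s | s ∈ H ∧ IsConj (S.val m) s})
      (fun g y hy => by
        have v := (S.val_mul (S.ok_mul (o (2 * g)).1 hy.1) (o (2 * g + 1)).1).trans
          (congrArg (· * _) (S.val_mul (o (2 * g)).1 hy.1))
        refine ⟨S.ok_mul (S.ok_mul (o _).1 hy.1) (o _).1, v ▸ mul_mem (mul_mem (o _).2 hy.2.1) (o _).2,
          hy.2.2.trans (isConj_iff.2 ⟨S.gen gs (2 * g), Eq.trans (congrArg₂ _ rfl ?_) v.symm⟩)⟩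
        by_cases c : g < gs.length
        · exact (sg_odd _ g).symm.trans (S.gen_eq_sg (fun c h => (hg c h).1) hb (l := 2 * g + 1) (by omega)).symm
        · have e : ∀ l, gs.length ≤ l → S.gen gs l = 1 := fun l hl => by
            rw [Sem.gen, nthD_eq, List.getD_eq_default _ _ hl, S.val_one]
          rw [e _ (by omega), inv_one]; exact (e (2 * g + 1) (by omega)).symm)
      b (List.forall_mem_singleton.2 k) (List.forall_mem_cons.2 ⟨k, ha⟩)
    exact ih (fun s h => hs s (by simp [h])) c2 c1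

/-- the word `u` has `f` fixed points and `d` conjugates fixing the point `y` of a transitive action -/
noncomputable def cenOk (mul : ℕ → ℕ → ℕ) (one : ℕ) (lc : List ℕ) (w n : ℕ) (nets : List Net) (u : List ℕ)
    (us : List (List ℕ)) (E y : ℕ) (ws : List (List ℕ)) (st : List (List ℕ × List ℕ × List ℕ)) (b k d f : ℕ) : Bool :=
  band (transOk w n nets us E y) (band (Nat.blt y n) (band (fixOk w n nets (apd ws (mapR Prod.fst st)) [y])
    (band (force (tabW w n nets u) fun T => Nat.ble (cntFix w n T) f) (force (prodW mul one lc u) fun m =>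
      forceM (prodW mul one lc) ws fun gs => band (bcOk mul one gs gs.length) (clsM mul one lc gs m b st [] (disOk k d))))))

theorem Act.cent_le [Finite M] {S : Sem M mul one wf} (I : SInj S) {g0 : ℕ → M} {lc dom : List ℕ} {m2 len : ℕ}
    {us0 : List (List ℕ)} (L : Lc S g0 lc dom m2 us0 len) {n w : ℕ} {nets : List Net} (A : Act.{v} (S.gen lc) n w nets)
    {u : List ℕ} {us ws : List (List ℕ)} {st : List (List ℕ × List ℕ × List ℕ)} {E y b k d f a c : ℕ}
    (h : cenOk mul one lc w n nets u us E y ws st b k d f = true) (ha : Nat.card M = a)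
    (hc : f * a ≤ c * (d * n) ∧ 0 < d) : Nat.card (centralizer ({evalW (S.gen lc) u} : Set M)) ≤ c := by
  obtain ⟨β, _, P, rfl, Y⟩ := A
  simp only [cenOk, band_eq_true, force_eq, forceM_eq, Nat.blt_eq, Nat.ble_eq, apd_eq, mapR_eq] at h
  obtain ⟨a1, a2, a3, a4, a5, a6⟩ := h
  have o := Y.orbit_top_eq_set a1 (fun g x hx => Y.smul_mem_set (by rw [L.top]; trivial) hx) a2
  have p := fun u => S.prodW_spec L.ok u
  obtain ⟨acc, b1, b2⟩ := clsM_spec L.ok (H := stabilizer M (P.pt y)) (List.forall_mem_map.2 fun u hu =>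
    ⟨(p u).1, (p u).2 ▸ Y.fix_of_ok a3 (List.mem_append_left _ hu) (by simp)⟩) a5 (p u).1
    (fun s hs => Y.fix_of_ok a3 (List.mem_append_right _ (List.mem_map_of_mem hs)) (by simp)) a6 (by simp)
  have b3 := card_ge I (Set.toFinite _) b1 b2
  have b4 := fix_count (evalW (S.gen lc) u) (P.pt y)
  have b5 := (stabilizer M (P.pt y)).index_mul_card
  rw [index_stabilizer, o, P.ncard_set, ha] at b5
  have b6 : {x | x ∈ orbit M (P.pt y) ∧ evalW (S.gen lc) u • x = x}.ncard ≤ f := by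
    rw [cntFix_eq, ← P.ncard_image] at a4
    refine le_trans (Set.ncard_le_ncard ?_ (P.set_finite.subset (Set.image_mono fun _ h => h.1))) a4
    rw [o]
    rintro _ ⟨⟨i, hi, rfl⟩, e⟩
    have := Y.rep_tabW u i hi
    exact ⟨i, ⟨hi, P.inj _ this.1 _ hi (this.2.symm.trans e)⟩, rfl⟩
  rw [(p u).2] at b3
  refine Nat.le_of_mul_le_mul_right (le_trans ?_ hc.1) (Nat.mul_pos hc.2 (by omega))
  calc _ = d * Nat.card (centralizer ({evalW (S.gen lc) u} : Set M)) * P.n := by ring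
    _ ≤ f * Nat.card (stabilizer M (P.pt y)) * P.n := Nat.mul_le_mul_right _
      (le_trans (Nat.mul_le_mul_right _ b3) (b4 ▸ Nat.mul_le_mul_right _ b6))
    _ = _ := by rw [← b5]; ring

/-- every element of `K` is a product of members of the lists -/
def Cvr (S : Sem M mul one wf) (K : Set M) (Ls : List (List ℕ)) : Prop :=
  List.rec (motive := fun _ => Set M → Prop) (fun K => ∀ x ∈ K, x = 1)
    (fun L _ ih K => ∃ K', ih K' ∧ ∀ x ∈ K, ∃ t ∈ L, S.ok t ∧ (S.val t)⁻¹ * x ∈ K') Ls K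

/-- number of products with the property `P` -/
noncomputable def cntP (mul : ℕ → ℕ → ℕ) (P : ℕ → Bool) (Ls : List (List ℕ)) : ℕ → ℕ :=
  List.rec (fun a => Bool.rec (nat_lit 0) (nat_lit 1) (P a)) (fun L _ ih a =>
    List.rec (motive := fun _ => ℕ → ℕ) (fun c => c)
      (fun t _ r c => force (mul a t) fun b => force (Nat.add c (ih b)) r) L (nat_lit 0)) Ls

theorem cntP_cons (P : ℕ → Bool) (L : List ℕ) (Ls : List (List ℕ)) (a : ℕ) :
    cntP mul P (L :: Ls) a = (L.map fun t => cntP mul P Ls (mul a t)).sum := by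
  have : ∀ c, List.rec (motive := fun _ => ℕ → ℕ) (fun c => c)
      (fun t _ r c => force (mul a t) fun b => force (Nat.add c (cntP mul P Ls b)) r) L c =
      c + (L.map fun t => cntP mul P Ls (mul a t)).sum := by
    induction L with
    | nil => simp
    | cons t L ih => intro c; exact (ih _).trans (by simp [Nat.add_assoc])
  exact (this 0).trans (Nat.zero_add _)

variable {S : Sem M mul one wf}

theorem Cvr.step [Finite M] {K : Set M} {L : List ℕ} {Ls : List (List ℕ)} (C : Cvr S K (L :: Ls)) {p : M → Prop}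
    {f : ℕ → ℕ} (h : ∀ K', Cvr S K' Ls → ∀ t ∈ L, S.ok t → {y | y ∈ K' ∧ p (S.val t * y)}.ncard ≤ f t) :
    {y | y ∈ K ∧ p y}.ncard ≤ (L.map f).sum := by
  obtain ⟨K', c1, c2⟩ := C
  refine (ncard_le_sum (O := fun t => {y | S.ok t ∧ (S.val t)⁻¹ * y ∈ K' ∧ p y}) (fun _ => Set.toFinite _)
    (fun t ht => ?_) (X := {y | y ∈ K ∧ p y}) fun x hx => (c2 x hx.1).elim fun t e => ⟨t, e.1, e.2.1, e.2.2, hx.2⟩).2
  by_cases o : S.ok t
  · refine le_trans (Set.ncard_le_ncard_of_injOn ((S.val t)⁻¹ * ·) (fun y hy => ?_)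
      (mul_right_injective _).injOn) (h K' c1 t ht o)
    exact ⟨hy.2.1, by simpa using hy.2.2⟩
  · simp [o]

theorem Cvr.cnt [Finite M] {P : ℕ → Bool} {p : M → Prop} (hP : ∀ c, S.ok c → p (S.val c) → P c = true) {K : Set M}
    {Ls : List (List ℕ)} (C : Cvr S K Ls) {a : ℕ} (ha : S.ok a) :
    {y | y ∈ K ∧ p (S.val a * y)}.ncard ≤ cntP mul P Ls a := by
  induction Ls generalizing K a with
  | nil =>
    by_cases c : p (S.val a)
    · have : cntP mul P [] a = 1 := by rw [show cntP mul P [] a = Bool.rec 0 1 (P a) from rfl, hP a ha c]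
      rw [this, Set.ncard_le_one_iff_subsingleton]
      exact fun x a y b => (C x a.1).trans (C y b.1).symm
    · rw [Set.eq_empty_of_forall_notMem (s := {y | y ∈ K ∧ _}) fun y h => c (by simpa [C y h.1] using h.2)]; simp
  | cons L Ls ih =>
    rw [cntP_cons]
    exact C.step fun K' c t _ o => by simpa only [S.val_mul ha o, mul_assoc] using ih c (S.ok_mul ha o)

/-- the count below member `i` of the first list -/
noncomputable def cntAt (mul : ℕ → ℕ → ℕ) (one : ℕ) (P : ℕ → Bool) (Ls : List (List ℕ)) (ns : List ℕ) (i : ℕ) : Bool :=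
  List.rec false (fun L Ls _ => force (nthD one L i) fun a => Nat.ble (cntP mul P Ls a) (nthD (nat_lit 0) ns i)) Ls

theorem Cvr.cnt' [Finite M] {P : ℕ → Bool} {p : M → Prop} (hP : ∀ c, S.ok c → p (S.val c) → P c = true) {K : Set M}
    {L ns : List ℕ} {Ls : List (List ℕ)} (C : Cvr S K (L :: Ls)) {k n : ℕ}
    (h : ∀ i < k, cntAt mul one P (L :: Ls) ns i = true) (e : L.length = k ∧ ns.length = k ∧ ns.sum = n) :
    {y | y ∈ K ∧ p y}.ncard ≤ n := by
  obtain ⟨rfl, e2, rfl⟩ := e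
  refine (C.step (f := cntP mul P Ls) fun K' c t _ o => c.cnt hP o).trans (List.Forall₂.sum_le_sum
    (List.forall₂_of_length_eq_of_get (by simp [e2]) fun i a b => ?_))
  have := Nat.le_of_ble_eq_true (h i (by omega))
  rw [nthD_eq, nthD_eq, List.getD_eq_getElem _ _ (by omega), List.getD_eq_getElem _ _ b] at this
  simpa using this

/-- check of the lists of a chain below the fixed vectors `pv` -/
noncomputable def cvOk (ap : ℕ → ℕ → ℕ) (wf1 : ℕ → Bool) (mul : ℕ → ℕ → ℕ) (one : ℕ) (lc : List ℕ) (lv : List VL) :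
    List ℕ → List (List ℕ) → Bool :=
  List.rec (fun _ Ls => List.rec true (fun _ _ _ => false) Ls) (fun l _ ih pv Ls => List.rec false (fun L Ls _ =>
    band (wf1 l.v) (band (forceM (prodW mul one lc) l.gs fun cs =>
      band (allL (fun c => allL (fun p => Nat.beq (ap c p) p) pv) cs)
        (dfs (fun g x => mul (nthD one cs g) x) l.b l.ops [one] [one] fun acc => band (eqL acc L)
          (forceM (fun c => ap c l.v) acc (disOk l.k l.d)))) (ih (l.v :: pv) Ls))) Ls) lv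

namespace VCod
variable {R ι : Type*} [CommRing R] [Fintype ι] {n W : ℕ} {app : ℕ → ℕ → ℕ → ℕ → ℕ}
  {wfT : ℕ → ℕ → ℕ → Bool} (V : VCod R ι n W app wfT) [MulAction M (ι → R)] {S : Sem M mul one (wfT W n)}
open Matrix

theorem cvr [Finite M] (hS : ∀ c, S.ok c → ∀ v : ι → R, S.val c • v = V.mat c *ᵥ v) {lc pv : List ℕ}
    (hlc : ∀ c ∈ lc, S.ok c) {H : Subgroup M} (hH : ∀ u, evalW (S.gen lc) u ∈ H) {lv : List VL} {Ls : List (List ℕ)}
    (hpv : ∀ p ∈ pv, wfT W 1 p = true) (h : cvOk (app W 1) (wfT W 1) mul one lc lv pv Ls = true) :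
    (lv.map VL.d).prod ≤ Nat.card ↥(H ⊓ V.fixV M pv) ∧
      (Nat.card ↥(H ⊓ V.fixV M pv) ≤ (lv.map VL.d).prod → Cvr S ↑(H ⊓ V.fixV M pv) Ls) := by
  induction lv generalizing pv Ls with
  | nil =>
    rcases Ls with _ | _
    · exact ⟨Nat.card_pos, fun e x hx => mem_bot.1 (((card_le_one_iff_eq_bot _).1 e).le hx)⟩
    · exact absurd h (by simp [cvOk])
  | cons l lv ih =>
    rcases Ls with _ | ⟨L, Ls⟩
    · exact absurd h (by simp [cvOk])
    obtain ⟨a1, a⟩ := band_eq_true.1 h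
    obtain ⟨a, a4⟩ := band_eq_true.1 a
    simp only [band_eq_true, forceM_eq, allL_iff, Nat.beq_eq] at a
    obtain ⟨i1, i2⟩ := ih (List.forall_mem_cons.2 ⟨a1, hpv⟩) a4
    have hap : ∀ c x, S.ok c → wfT W 1 x = true → V.vec (get W (app W 1 c x) 0) = S.val c • V.vec (get W x 0) :=
      fun c x hc hx => by rw [hS c hc, V.vec_app' (S.wf_of_ok hc) hx Nat.one_pos]
    have o1 : S.ok one ∧ S.val one ∈ H ⊓ V.fixV M pv := ⟨S.ok_one, S.val_one ▸ one_mem _⟩
    obtain ⟨acc, b1, b2⟩ := dfs_spec (q := fun c => S.ok c ∧ S.val c ∈ H ⊓ V.fixV M pv) (fun g x hx => by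
      have := nthD_prop (p := fun c => S.ok c ∧ S.val c ∈ H ⊓ V.fixV M pv) o1 (List.forall_mem_map.2 fun u hu =>
        have o := S.prodW_spec hlc u
        ⟨o.1, o.2 ▸ hH u, fun p hp => by rw [← hap _ _ o.1 (hpv p hp), a.1 _ (List.mem_map_of_mem hu) p hp]⟩) g
      exact ⟨S.ok_mul this.1 hx.1, S.val_mul this.1 hx.1 ▸ mul_mem this.2 hx.2⟩) a.2 (by simpa using o1) (by simpa using o1)
    rw [band_eq_true, eqL_iff] at b2
    obtain ⟨rfl, b2⟩ := b2
    obtain ⟨s, s1, s2⟩ := disOk_spec b2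
    let X : Set (ι → R) := (fun c => S.val c • V.vec (get W l.v 0)) '' {c | c ∈ acc}
    have x1 : X ⊆ orbit ↥(H ⊓ V.fixV M pv) (V.vec (get W l.v 0)) := by
      rintro _ ⟨c, hc, rfl⟩; exact mem_orbit_sub.2 ⟨_, (b1 c hc).2, rfl⟩
    have f : (orbit ↥(H ⊓ V.fixV M pv) (V.vec (get W l.v 0))).Finite := Set.finite_range _
    have w : ∀ x ∈ s, wfT W 1 x = true ∧ V.vec (get W x 0) ∈ X := fun x hx => by
      obtain ⟨c, hc, rfl⟩ := List.mem_map.1 (s2 x hx)
      exact ⟨V.wf_app (S.wf_of_ok (b1 c hc).1) a1, c, hc, (hap _ _ (b1 c hc).1 a1).symm⟩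
    have x2 : l.d ≤ X.ncard := by
      rw [← s1, ← Set.ncard_coe_finset]
      exact Set.ncard_le_ncard_of_injOn (fun x => V.vec (get W x 0)) (fun x hx => (w x hx).2)
        (fun x hx y hy e => V.eq_of_vec (w x hx).1 (w y hy).1 e) (f.subset x1)
    have x3 := Set.ncard_le_ncard x1 f
    have h3 := ncard_orbit_mul_card (H ⊓ V.fixV M pv) (V.vec (get W l.v 0))
    rw [inf_assoc, ← fixV_cons] at h3
    rw [List.map_cons, List.prod_cons, ← h3]
    refine ⟨Nat.mul_le_mul (x2.trans x3) i1, fun e => ⟨_, i2 (Nat.le_of_mul_le_mul_left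
      (e.trans (Nat.mul_le_mul_right _ (x2.trans x3))) ((Set.ncard_pos f).2 ⟨_, mem_orbit_self _⟩)), fun x hx => ?_⟩⟩
    have x4 := Set.eq_of_subset_of_ncard_le x1 ((Nat.le_of_mul_le_mul_right (e.trans (Nat.mul_le_mul_left _ i1))
      Nat.card_pos).trans x2) f
    obtain ⟨c, hc, e⟩ := x4.ge (mem_orbit_sub.2 ⟨x, hx, rfl⟩)
    refine ⟨c, hc, (b1 c hc).1, ?_⟩
    rw [fixV_cons, ← inf_assoc]
    exact mem_inf.2 ⟨mul_mem (inv_mem (b1 c hc).2) hx, by rw [mem_stabilizer_iff, mul_smul, ← e, inv_smul_smul]⟩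

end VCod

/-- every subgroup of index `d.c` containing the words of the node has at most `n` conjugates of `m` -/
def NdB (gen : ℕ → M) (a : ℕ) (m : M) (d : Nd) (n : ℕ) : Prop := ∀ K : Subgroup M,
  (∀ u ∈ mapR Prod.snd d.gs, evalW gen u ∈ K) → d.c * Nat.card K = a → {s | s ∈ K ∧ IsConj m s}.ncard ≤ n

theorem VCod.cvr_nd {R ι : Type*} [CommRing R] [Fintype ι] {n W : ℕ} {app : ℕ → ℕ → ℕ → ℕ → ℕ}
    {wfT : ℕ → ℕ → ℕ → Bool} (V : VCod R ι n W app wfT) [MulAction M (ι → R)] {S : Sem M mul one (wfT W n)} [Finite M]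
    (hS : ∀ c, S.ok c → ∀ v : ι → R, S.val c • v = (V.mat c).mulVec v) {lc : List ℕ} (hlc : ∀ c ∈ lc, S.ok c)
    {d : Nd} {lv : List VL} {Ls : List (List ℕ)} {a : ℕ} {xi xw : List ℕ}
    (h : band (Nat.beq (prodW mul one lc (apd xi xw)) one) (forceM (fun u => prodW mul one lc (apd xi (apd u xw)))
      (mapR Prod.snd d.gs) fun nl => cvOk (app W 1) (wfT W 1) mul one nl lv [] Ls) = true)
    (e : a ≤ d.c * (lv.map VL.d).prod ∧ 0 < d.c) {m : M} {k : ℕ}
    (hk : ∀ K, Cvr S K Ls → {s | s ∈ K ∧ IsConj m s}.ncard ≤ k) : NdB (S.gen lc) a m d k := fun K0 hK hc => by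
  rw [band_eq_true, forceM_eq, apd_eq, Nat.beq_eq] at h
  have p : ∀ u, S.ok (prodW mul one lc u) ∧ S.val (prodW mul one lc u) = evalW (S.gen lc) u := S.prodW_spec hlc
  have x := (p (xi ++ xw)).2
  rw [h.1, S.val_one, evalW_append, eq_comm, mul_eq_one_iff_inv_eq] at x
  let K := K0.map (MulAut.conj (evalW (S.gen lc) xi)).toMonoidHom
  have o : ∀ c ∈ (mapR Prod.snd d.gs).map fun u => prodW mul one lc (apd xi (apd u xw)), S.ok c ∧ S.val c ∈ K :=
    List.forall_mem_map.2 fun u hu => ⟨(p _).1, _, hK u hu, by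
      rw [(p _).2, apd_eq, apd_eq, evalW_append, evalW_append, ← x, ← mul_assoc]; rfl⟩
  have := (V.cvr hS (fun c h => (o c h).1) (H := K) (fun u => evalW_mem fun l _ =>
    (nthD_prop (p := fun c => S.ok c ∧ S.val c ∈ K) ⟨S.ok_one, S.val_one ▸ one_mem _⟩ o l).2) (by simp) h.2).2
  rw [show K ⊓ V.fixV M [] = K from inf_eq_left.2 (fun _ _ _ h => nomatch h),
    show Nat.card K = Nat.card K0 from card_map_of_injective (MulEquiv.injective _)] at this
  exact le_trans (Set.ncard_le_ncard_of_injOn (MulAut.conj (evalW (S.gen lc) xi)) (t := {s | s ∈ (K : Set M) ∧ IsConj m s})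
    (fun s h => ⟨⟨s, h.1, rfl⟩, h.2.trans (isConj_iff.2 ⟨_, rfl⟩)⟩) (MulEquiv.injective _).injOn)
    (hk _ (this (Nat.le_of_mul_le_mul_left (hc.le.trans e.1) e.2)))

theorem VCod.sub_smul {R ι : Type*} [CommRing R] [Fintype ι] [DecidableEq ι] {n W : ℕ} {app : ℕ → ℕ → ℕ → ℕ → ℕ}
    {wfT : ℕ → ℕ → ℕ → Bool} (V : VCod R ι n W app wfT) (h1 : wfT W n one = true) (h2 : V.mat one = 1)
    (K : Subgroup (Matrix ι ι R)ˣ) (c : ℕ) (hc : ((V.sem h1 h2).sub K).ok c) (v : ι → R) :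
    ((V.sem h1 h2).sub K).val c • v = (V.mat c).mulVec v := by
  rw [← V.sem_smul h1 h2 c hc.1, ← Sem.coe_sub _ hc.2]; rfl

theorem Cert.cent_le [Finite M] {T : Tr} {n nn a n0 w0 N cm F : ℕ} {g0 : ℕ → M} {dom dom' nodes lc ns : List ℕ}
    {R : List (List ℕ × ℕ)} {kc : List (ℕ × ℕ)} {nets0 : List Net} (C : Cert.{u} S T n g0 dom dom' nodes nn R kc)
    (hlc : ∀ c ∈ lc, S.ok c) (ha : Nat.card M = a) {ds : List Nd} (hkc : kc = (0, 1) :: ds.map fun d => (d.k, d.c))
    (hA : ∀ d ∈ ds, ndA mul one T n lc n0 w0 nets0 a d = true) {m : M}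
    (hm : Nat.card (centralizer ({m} : Set M)) ≤ cm) (hn : List.Forall₂ (NdB (S.gen lc) a m) ds ns)
    (hF : (kc.map Prod.snd).sum = N ∧ (List.zipWith (fun d n => n * cm * d.c / a) ds ns).sum + 1 = F)
    {G : Type u} [Group G] [Finite G] {g : ℕ → G} {ψ : M →* G} (hR : Rels R g) (hψ : ∀ i ∈ dom, ψ (g0 i) = g i)
    (hg : mdl g dom' = ⊤) (hN : N ≤ ψ.range.index) (hi : Function.Injective ψ) :
    Nat.card (centralizer ({ψ m} : Set G)) ≤ F * cm := by
  obtain ⟨H, K⟩ := C G g ψ hR hψ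
  rw [hg] at K
  obtain ⟨rfl, rfl⟩ := hF
  have O := K.orbs hN
  set W := Wd (S.map ψ) T (xs g nodes) nn
  have h0 : W 0 = 1 := (Wd_le (Nat.zero_le _)).trans rfl
  have a0 : 0 < a := ha ▸ Nat.card_pos
  let Q : ℕ → Set (G ⧸ ψ.range) := fun k => {y | y ∈ orbit ψ.range (W k : G ⧸ ψ.range) ∧ ψ m • y = y}
  have key : ∀ d ∈ ds, ∀ n, NdB (S.gen lc) a m d n → (Q d.k).ncard ≤ n * cm * d.c / a := fun d hd n b => by
    obtain ⟨j, hj, e⟩ := List.getElem_of_mem (show (d.k, d.c) ∈ kc from hkc ▸ List.mem_cons_of_mem _ (List.mem_map_of_mem hd))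
    have c := O.card j (by simpa using hj)
    simp only [List.getD_eq_getElem _ _ hj, List.getD_eq_getElem _ _ (show j < (kc.map Prod.snd).length by simpa using hj),
      List.getElem_map, e] at c
    have c2 := (SL ψ (W d.k)).index_mul_card
    rw [← ncard_orbit_eq, ha] at c2
    replace c2 := (congrArg (· * _) c).symm.trans c2
    let _ : MulAction M (G ⧸ ψ.range) := MulAction.compHom _ ψ
    have c3 := fix_count m (W d.k : G ⧸ ψ.range)
    have c4 : stabilizer M (W d.k : G ⧸ ψ.range) = SL ψ (W d.k) := by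
      ext s
      show ((ψ s * W d.k : G) : G ⧸ ψ.range) = W d.k ↔ _
      rw [eq_comm, QuotientGroup.eq]
      exact ⟨fun ⟨a, ha⟩ => ⟨a, by rw [ha]; group⟩, fun ⟨a, ha⟩ => ⟨a, by rw [ha]; group⟩⟩
    have c5 : {y | y ∈ orbit M (W d.k : G ⧸ ψ.range) ∧ m • y = y} = Q d.k := Set.ext fun y => and_congr_left'
      ⟨fun ⟨s, e⟩ => ⟨⟨_, s, rfl⟩, e⟩, fun ⟨⟨_, s, rfl⟩, e⟩ => ⟨s, e⟩⟩
    rw [c4, c5] at c3
    have c6 := b _ (gsOk_spec (sel := false) h0 H hlc (band_eq_true.1 (hA d hd)).1) c2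
    refine (Nat.le_div_iff_mul_le a0).2 ?_
    rw [← c2, Nat.mul_comm d.c, ← Nat.mul_assoc, c3]
    gcongr
  have fin : ∀ k, (Q k).Finite := fun _ => Set.toFinite _
  have k2 : {y : G ⧸ ψ.range | y ∈ orbit G ((1 : G) : G ⧸ ψ.range) ∧ ψ m • y = y}.ncard ≤
      (List.zipWith (fun d n => n * cm * d.c / a) ds ns).sum + 1 := by
    refine (ncard_le_sum (O := fun p : ℕ × ℕ => Q p.1) (c := fun p => (Q p.1).ncard) (fun _ => fin _) (l := kc)
      (fun _ _ => le_rfl) fun y hy => ?_).2.trans ?_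
    · obtain ⟨x, rfl⟩ := QuotientGroup.mk_surjective y
      exact (K.cover x trivial).imp fun p e => ⟨e.1, e.2, hy.2⟩
    rw [hkc, List.map_cons, List.sum_cons, Nat.add_comm, List.map_map]
    refine Nat.add_le_add ?_ ((Set.ncard_le_ncard (fun _ h => h.1) (Set.toFinite _)).trans (K.le (0, 1) (by simp [hkc])))
    clear hkc hA
    induction hn with
    | nil => simp
    | cons a _ ih => exact Nat.add_le_add (key _ (by simp) _ a) (ih fun d hd => key d (by simp [hd]))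
  have k3 := fix_count (ψ m) ((1 : G) : G ⧸ ψ.range)
  rw [stabilizer_quotient, card_range hi, ← ncard_conj m] at k3
  have k4 : {y | IsConj m y}.ncard ≤ {s | s ∈ ψ.range ∧ IsConj (ψ m) s}.ncard :=
    Set.ncard_le_ncard_of_injOn ψ (fun y hy => ⟨⟨y, rfl⟩, ψ.map_isConj hy⟩) hi.injOn
  refine Nat.le_of_mul_le_mul_left (c := {y | IsConj m y}.ncard) ?_
    ((Set.ncard_pos (Set.toFinite _)).2 ⟨m, IsConj.refl m⟩)
  refine (Nat.mul_le_mul_right _ k4).trans (k3 ▸ ?_)
  rw [Nat.mul_left_comm]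
  gcongr

/-- trace of a coded matrix over a prime field -/
noncomputable def trP (w n p c : ℕ) : ℕ :=
  Nat.mod (Nat.rec (nat_lit 0) (fun i ih => Nat.add ih (get w c (Nat.mul i (Nat.succ n)))) n) p

theorem tr_eq {ι : Type*} [Fintype ι] {p n w : ℕ} {app : ℕ → ℕ → ℕ → ℕ → ℕ} {wfT : ℕ → ℕ → ℕ → Bool}
    (V : VCod (ZMod p) ι n (w * n) app wfT) (h1 : V.cast = Nat.cast) (h2 : V.ent = get w) (c : ℕ) :
    (V.mat c).trace = (trP w n p c : ZMod p) := by
  have : ∀ k, (Nat.rec (nat_lit 0) (fun i ih => Nat.add ih (get w c (Nat.mul i (Nat.succ n)))) k : ℕ) =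
      ∑ i ∈ Finset.range k, get w c (i * n + i) := fun k => by
    induction k with
    | zero => rfl
    | succ k ih => rw [Finset.sum_range_succ, ← ih]; rfl
  rw [show trP w n p c = _ % p from congrArg (· % p) (this n), ZMod.natCast_mod, Nat.cast_sum, Finset.sum_range,
    ← V.e.sum_comp]
  exact Finset.sum_congr rfl fun i _ => by simp [VCod.mat, VCod.vec, h1, h2, get_get (V.e i).2]

/-- the code has order dividing `o` and trace `t` -/
noncomputable def trOk (mul : ℕ → ℕ → ℕ) (one w n p t o c : ℕ) : Bool :=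
  Bool.rec false (Nat.beq (powC mul one c o) one) (Nat.beq (trP w n p c) t)

theorem trOk_of {ι : Type*} [Fintype ι] [DecidableEq ι] {p n w one : ℕ} [NeZero p] {app : ℕ → ℕ → ℕ → ℕ → ℕ}
    {wfT : ℕ → ℕ → ℕ → Bool} (V : VCod (ZMod p) ι n (w * n) app wfT) (e1 : V.cast = Nat.cast) (e2 : V.ent = get w)
    (h1 : wfT (w * n) n one = true) (h2 : V.mat one = 1) {K : Subgroup (Matrix ι ι (ZMod p))ˣ} {lc u : List ℕ}
    (hlc : ∀ c ∈ lc, ((V.sem h1 h2).sub K).ok c) {t o : ℕ}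
    (h : trOk (skp (app (w * n) n) one) one w n p t o (prodW (skp (app (w * n) n) one) one lc u) = true) (c : ℕ)
    (hc : ((V.sem h1 h2).sub K).ok c) (e : IsConj (evalW (((V.sem h1 h2).sub K).gen lc) u) (((V.sem h1 h2).sub K).val c)) :
    trOk (skp (app (w * n) n) one) one w n p t o c = true := by
  have I := SInj.sub (S := V.sem h1 h2) (fun _ _ => V.sem_inj h1 h2) K
  obtain ⟨a, b⟩ := prodW_ok _ (u := u) fun l _ => nthD_prop ((V.sem h1 h2).sub K).ok_one hlc l
  rw [← b] at e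
  generalize prodW (skp (app (w * n) n) one) one lc u = m at a e h
  have k : ∀ {c}, ((V.sem h1 h2).sub K).ok c → (trOk (skp (app (w * n) n) one) one w n p t o c = true ↔
      trP w n p c = t ∧ ((V.sem h1 h2).sub K).val c ^ o = 1) := fun {c} hc => by
    have := Sem.powC_spec _ hc o
    rw [← this.2, ← Sem.val_one _, ← I.beq this.1 (Sem.ok_one _), ← Nat.beq_eq, trOk]
    cases Nat.beq (trP w n p c) t <;> simp
  rw [k a] at h
  refine (k hc).2 ⟨Eq.trans ?_ h.1, isConj_one_right.1 (h.2 ▸ e.pow o)⟩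
  have l : ∀ c, trP w n p c < p := fun _ => Nat.mod_lt _ (Nat.pos_of_neZero p)
  rw [← Nat.mod_eq_of_lt (l c), ← Nat.mod_eq_of_lt (l m), ← ZMod.natCast_eq_natCast_iff', ← tr_eq V e1 e2,
    ← tr_eq V e1 e2, ← V.sem_coe h1 h2 hc.1, ← V.sem_coe h1 h2 a.1, ← Sem.coe_sub _ hc.2, ← Sem.coe_sub _ a.2]
  obtain ⟨x, hx⟩ := isConj_iff.1 e
  rw [← hx]
  simp [Matrix.trace_mul_cycle]

end H15
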