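import Cfsg.Agent.L.Fz0

/-! The count `c4` inside `B` (namespace H15.Fz): `dv`, `c4`. -/

set_option autoImplicit false

namespace H15.Fz
open Subgroup L.Fz
open scoped Pointwise

variable {G : Type*} [Group G] [Finite G] {A M B : Subgroup G} {D : Set G} {z : G}

theorem dv {A : Subgroup G} (c : Nat.card A = 2048) {N : Set G} {a b : G} (ha : a ∈ A) (hb : b ∈ A) (a2 : a * a = 1) (b2 : b * b = 1)
    (a1 : a ≠ 1) (b1 : b ≠ 1) (n : a ≠ b) (ka : ∀ s ∈ N, s * a ∈ N) (kb : ∀ s ∈ N, s * b ∈ N) : 4 ∣ N.ncard := by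
  let W : Subgroup G :=
    { carrier := {v | ∀ s, s ∈ N ↔ s * v ∈ N}
      one_mem' := fun s => by rw [mul_one]
      mul_mem' := fun {x y} h k s => by rw [← mul_assoc, ← k, ← h]
      inv_mem' := fun {x} h s => by rw [h (s * x⁻¹), inv_mul_cancel_right] }
  have m : ∀ {a}, a * a = 1 → (∀ s ∈ N, s * a ∈ N) → a ∈ W := fun a2 ka s =>
    ⟨ka s, fun h => by simpa [mul_assoc, a2] using ka _ h⟩
  have e : N * (W ⊓ A : Subgroup G) = N := Set.Subset.antisymm (by rintro _ ⟨s, hs, v, hv, rfl⟩; exact (hv.1 s).1 hs)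
    fun s hs => ⟨s, hs, 1, one_mem _, mul_one s⟩
  have := (W ⊓ A).card_mul_eq_card_subgroup_mul_card_quotient N
  rw [e, Nat.card_coe_set_eq] at this
  refine Dvd.dvd.trans ?_ ⟨_, this⟩
  obtain ⟨i, -, k⟩ := (Nat.dvd_prime_pow (m := 11) Nat.prime_two).1 (c ▸ card_dvd_of_le (inf_le_right : W ⊓ A ≤ A))
  have : 2 < ((W ⊓ A : Subgroup G) : Set G).ncard := (Set.two_lt_ncard (Set.toFinite _)).2
    ⟨1, one_mem _, a, ⟨m a2 ka, ha⟩, b, ⟨m b2 kb, hb⟩, a1.symm, b1.symm, n⟩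
  rw [← Nat.card_coe_set_eq] at this
  replace this : 2 < 2 ^ i := k ▸ this
  rw [k]
  obtain _ | _ | i := i
  · omega
  · omega
  · exact ⟨2 ^ i, by ring⟩

theorem c4 (h : Cf A M B D z) (c36 : {t | t ∈ D ∧ t ∈ B}.ncard = 36) :
    ∀ t ∈ D, t ∈ B → {s | s ∈ D ∧ s ∈ B ∧ s * t ∈ D}.ncard = 4 := by
  classical
  intro t tD tB
  have := Fintype.ofFinite G
  have sq : ∀ {x}, x ∈ B → x * x = 1 := fun i => h.sq _ (h.BA i)
  have iv : ∀ {x}, x ∈ B → x⁻¹ = x := fun i => inv_eq_of_mul_eq_one_right (sq i)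
  have cm : ∀ {x y}, x ∈ B → y ∈ B → x * y = y * x := fun i j => by rw [← iv (mul_mem i j), mul_inv_rev, iv i, iv j]
  have D1 : (1 : G) ∉ D := fun k => (h.DA 1 k).2 rfl
  have zz : ∀ {x}, x ∈ B → x * z ∈ D → x ∈ D := fun i k => by simpa [mul_assoc, sq h.zB] using h.Bz _ k (mul_mem i h.zB)
  set n : G → ℕ := fun w => {s | s ∈ D ∧ s ∈ B ∧ s * w ∈ D}.ncard with hn
  have le : ∀ {x y}, (∃ m ∈ M, m * z * m⁻¹ = z ∧ m * x * m⁻¹ = y) → n x ≤ n y := fun ⟨m, hm, mz, e⟩ =>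
    Set.ncard_le_ncard_of_injOn (fun s => m * s * m⁻¹) (fun s k => ⟨h.Dc m hm s k.1, h.nB m hm mz s k.2.1, by
      rw [← e, conj_mul]; exact h.Dc m hm _ k.2.2⟩) fun a _ b _ e => by simpa using e
  obtain ⟨w, wB, wD, w1, wz⟩ := h.exZ
  have nb : ∀ s ∈ D, s ∈ B → n s = n t := fun s a b => le_antisymm (le (h.trDB s a b t tD tB)) (le (h.trDB t tD tB s a b))
  have nc : ∀ s ∈ B, s ∉ D → s ≠ 1 → s ≠ z → n s = n w := fun s a b c d =>
    le_antisymm (le (h.trZB s a b c d w wB wD w1 wz)) (le (h.trZB w wB wD w1 wz s a b c d))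
  let X : Finset G := Finset.univ.filter fun t => t ∈ D ∧ t ∈ B
  let Y : Finset G := Finset.univ.filter fun t => t ∈ B
  have mX : ∀ {x}, x ∈ X ↔ x ∈ D ∧ x ∈ B := by simp [X]
  have mY : ∀ {x}, x ∈ Y ↔ x ∈ B := by simp [Y]
  have cX : X.card = 36 := by rw [← c36, ← Set.ncard_coe_finset]; congr 1; ext; simp [X]
  have cY : Y.card = 128 := by rw [← h.cB, ← SetLike.coe_sort_coe, Nat.card_coe_set_eq, ← Set.ncard_coe_finset]; congr 1; ext; simp [Y]
  have nX : ∀ w, n w = (X.filter fun s => s * w ∈ D).card := fun w => by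
    rw [← Set.ncard_coe_finset]; simp only [hn]; congr 1; ext; simp [X, and_assoc]
  have sm : ∑ w ∈ Y, n w = 36 * 36 := by
    simp only [nX, Finset.card_filter]
    rw [Finset.sum_comm, ← cX, ← smul_eq_mul, ← Finset.sum_const]
    refine Finset.sum_congr rfl fun s hs => ?_
    rw [← Finset.card_filter]
    refine Finset.card_bij (fun w _ => s * w) (fun w k => mX.2 ⟨(Finset.mem_filter.1 k).2, mul_mem (mX.1 hs).2 (mY.1 (Finset.mem_filter.1 k).1)⟩)
      (fun a _ b _ e => mul_left_cancel e) fun x hx => ⟨s⁻¹ * x, Finset.mem_filter.2 ⟨mY.2 (mul_mem (inv_mem (mX.1 hs).2) (mX.1 hx).2), by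
        simpa using (mX.1 hx).1⟩, by simp⟩
  have sub : insert 1 (insert z X) ⊆ Y := Finset.insert_subset (mY.2 (one_mem _)) (Finset.insert_subset (mY.2 h.zB) fun x k => mY.2 (mX.1 k).2)
  have z0 : z ∉ X := fun k => h.zD (mX.1 k).1
  have o0 : (1 : G) ∉ insert z X := fun k => (Finset.mem_insert.1 k).elim (fun e => h.z1 e.symm) fun k => D1 (mX.1 k).1
  have n1 : n 1 = 36 := by rw [nX, Finset.filter_true_of_mem fun s k => by simpa using (mX.1 k).1, cX]
  have nz : n z = 36 := by rw [nX, Finset.filter_true_of_mem fun s k => h.Bz s (mX.1 k).1 (mX.1 k).2, cX]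
  rw [← Finset.sum_sdiff sub, Finset.sum_insert o0, Finset.sum_insert z0, n1, nz,
    Finset.sum_congr rfl (fun s k => nb s (mX.1 k).1 (mX.1 k).2), Finset.sum_congr (g := fun _ => n w) rfl (fun s k => by
      simp only [Finset.mem_sdiff, Finset.mem_insert, mX, mY, not_or] at k
      exact nc s k.1 (fun d => k.2.2.2 ⟨d, k.1⟩) k.2.1 k.2.2.1), Finset.sum_const, Finset.sum_const, Finset.card_sdiff_of_subset sub,
    Finset.card_insert_of_notMem o0, Finset.card_insert_of_notMem z0, cX, cY, smul_eq_mul, smul_eq_mul] at sm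
  have d4 : 4 ∣ n t := dv h.cA (h.BA h.zB) (h.BA tB) (sq h.zB) (sq tB) h.z1 (h.DA t tD).2 (fun e => h.zD (e ▸ tD))
    (fun s k => ⟨h.Bz s k.1 k.2.1, mul_mem k.2.1 h.zB, by
      rw [mul_assoc, cm h.zB tB, ← mul_assoc]; exact h.Bz _ k.2.2 (mul_mem k.2.1 tB)⟩)
    fun s k => ⟨k.2.2, mul_mem k.2.1 tB, by rw [mul_assoc, sq tB, mul_one]; exact k.1⟩
  show n t = 4
  by_contra ne
  have b24 : n t = 24 := by omega
  have k4 : n w = 4 := by omega
  obtain ⟨u, hu, k⟩ : ∃ u ∈ X, u ∉ insert t (insert (t * z) (X.filter fun s => s * t ∈ D)) := Finset.exists_mem_notMem_of_card_lt_card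
    ((Finset.card_insert_le _ _).trans_lt (by have := Finset.card_insert_le (t * z) (X.filter fun s => s * t ∈ D); rw [← nX] at this; omega))
  simp only [Finset.mem_insert, Finset.mem_filter, not_or, not_and] at k
  obtain ⟨ut, uz, ud⟩ := k
  replace ud := ud hu
  obtain ⟨uD, uB⟩ := mX.1 hu
  obtain ⟨s, hs⟩ : ((X.filter fun s => s * t ∈ D) ∩ X.filter fun s => s * u ∈ D).Nonempty := Finset.card_pos.1 (by
    have := Finset.card_union_add_card_inter (X.filter fun s => s * t ∈ D) (X.filter fun s => s * u ∈ D)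
    have := Finset.card_le_card (Finset.union_subset (Finset.filter_subset (fun s => s * t ∈ D) X) (Finset.filter_subset (fun s => s * u ∈ D) X))
    rw [← nX, ← nX, nb u uD uB] at *
    omega)
  simp only [Finset.mem_inter, Finset.mem_filter, mX] at hs
  obtain ⟨⟨⟨sD, sB⟩, st⟩, -, su⟩ := hs
  have e1 : t * (u * t) = u := by rw [cm uB tB, ← mul_assoc, sq tB, one_mul]
  have e2 : u * (u * t) = t := by rw [← mul_assoc, sq uB, one_mul]
  have ez : ∀ x, x * z * (u * t) = x * (u * t) * z := fun x => by rw [mul_assoc, cm h.zB (mul_mem uB tB), mul_assoc x]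
  have nz' : ∀ x : G, x ≠ x * z := fun x e => h.z1 (left_eq_mul.1 e)
  have tz : t ≠ u * z := fun e => uz (by rw [e, mul_assoc, sq h.zB, mul_one])
  have := nc _ (mul_mem uB tB) ud (fun e => ut (by rw [← e1, e, mul_one])) fun e => uz (by rw [← e, e1])
  have := (Set.eq_of_subset_of_ncard_le (s := {t, t * z, u, u * z}) (t := {s | s ∈ D ∧ s ∈ B ∧ s * (u * t) ∈ D}) (by
    rintro _ (rfl | rfl | rfl | rfl)
    exacts [⟨tD, tB, e1.symm ▸ uD⟩, ⟨h.Bz _ tD tB, mul_mem tB h.zB, by rw [ez, e1]; exact h.Bz _ uD uB⟩, ⟨uD, uB, e2.symm ▸ tD⟩,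
      ⟨h.Bz _ uD uB, mul_mem uB h.zB, by rw [ez, e2]; exact h.Bz _ tD tB⟩]) (by
    rw [Set.ncard_insert_of_notMem (by simp [h.z1, Ne.symm ut, tz]), Set.ncard_insert_of_notMem (by simp [Ne.symm uz, Ne.symm ut]),
      Set.ncard_pair (nz' u)]
    exact (this.trans k4).le)).ge (show s * t ∈ _ from ⟨st, mul_mem sB tB, by rw [mul_assoc, e1]; exact su⟩)
  have ss : s = s * t * t := by rw [mul_assoc, sq tB, mul_one]
  rcases this with e | e | e | e <;> rw [ss, e] at sD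
  · exact D1 (sq tB ▸ sD)
  · rw [cm tB h.zB, mul_assoc, sq tB, mul_one] at sD; exact h.zD sD
  · exact ud sD
  · rw [mul_assoc, cm h.zB tB, ← mul_assoc] at sD; exact ud (zz (mul_mem uB tB) sD)

end H15.Fz
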