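import Cfsg.Agent.H15.HnAg
import Cfsg.Agent.H15.HnMAb
import Cfsg.Agent.L.AltPres
import Cfsg.Prelude.Def_Spor_HN

/-! The Harada-Norton group: order, simplicity, the presented group, multiplier (namespace H15.Hn). -/

namespace H15.Hn
open H13 Cfsg Cfsg.Spor

/-- the auxiliary generators -/
def ws : List (List ℕ) := [[0, 2, 2, 2, 1], [0, 0]]

/-- derived relators -/
def ns : List ((List ℕ × ℕ) × List (ℕ × ℕ × ℕ × Bool)) :=
  [(([2, 3], 1), [(0, 999, 0, false)]),
  (([2, 10, 3, 10], 1), [(1, 15, 1, false), (4, 15, 1, false), (0, 1, 2, true)]),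
  (([10, 0, 11, 1], 1), [(0, 15, 1, false), (3, 15, 0, true)]),
  (([8], 2), [(0, 14, 1, false), (5, 14, 1, false), (1, 0, 0, true)]),
  (([8, 10, 8, 10], 1), [(0, 14, 1, false), (6, 14, 1, false), (4, 18, 3, true), (1, 0, 0, true), (3, 17, 2, true), (2, 17, 1, false), (1, 17, 2, true), (0, 18, 1, true)]),
  (([2, 2, 8], 3), [(2, 14, 1, false), (9, 14, 1, false), (16, 14, 1, false), (0, 3, 1, true)]),
  (([2, 2, 8, 10, 8, 3, 3, 10], 1), [(2, 20, 0, true), (1, 17, 3, false), (0, 17, 0, true)]),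
  (([10], 2), [(0, 22, 7, true), (2, 19, 0, false), (0, 21, 0, true), (3, 22, 3, false), (5, 21, 2, false), (4, 19, 0, true), (1, 22, 5, true), (0, 19, 0, false)]),
  (([10, 2, 11, 3], 1), [(1, 17, 3, false), (0, 23, 0, true)]),
  (([10, 8, 11, 9], 1), [(0, 20, 1, true), (1, 23, 0, false), (0, 19, 0, false)]),
  (([2, 8], 4), [(1, 14, 1, false), (7, 14, 1, false), (13, 14, 1, false), (19, 14, 1, false), (5, 15, 2, false), (6, 23, 0, false), (6, 24, 0, true), (7, 18, 0, true), (8, 24, 0, true), (9, 24, 0, true), (10, 24, 0, true), (11, 15, 1, false), (0, 5, 1, true), (6, 15, 0, false), (5, 24, 2, false), (4, 18, 2, false), (3, 24, 2, false), (2, 24, 2, false), (1, 24, 2, false), (0, 18, 2, false), (1, 15, 0, false), (0, 23, 0, false)]),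
  (([6, 11, 6, 10], 1), [(1, 15, 0, true), (4, 15, 1, false), (2, 11, 0, true), (1, 11, 3, false), (0, 10, 0, true), (0, 11, 0, false)]),
  (([6, 1, 2, 0, 7, 1, 3, 0], 1), [(0, 10, 0, true), (2, 11, 0, false), (0, 11, 0, false), (2, 12, 2, true), (3, 11, 1, true), (4, 10, 0, false), (3, 11, 2, true), (1, 12, 2, true)]),
  (([2], 6), [(0, 0, 0, true)]),
  (([1, 3, 0, 2], 3), [(0, 2, 0, true)]),
  (([0, 2], 8), [(0, 4, 0, true)]),
  (([0, 2, 0, 2, 2, 2], 4), [(0, 5, 0, true)]),
  (([4], 2), [(0, 6, 0, true)]),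
  (([4, 0], 2), [(0, 7, 0, true)])]

theorem top {G : Type*} [Group G] {g : ℕ → G} (h : Rels HnM.rr g) : Rels R2 (extG g 4 ws) :=
  have a := h.ext (m := 4) (k := 2) (ws := ws) (by decide +kernel)
  have b := a.append (a.der (ns := ns) (by decide +kernel))
  have c : Rels [(HnA.kcz, 1)] _ :=
    List.forall_mem_singleton.2 ((pow_one _).trans (HnA.kc HnA.V6 HnA.h6 (b.sub (by decide +kernel))))
  (b.append c).sub (by decide +kernel)

theorem mdl_extG {G : Type*} [Group G] (g : ℕ → G) {dom dom' : List ℕ} (h : (∀ i ∈ dom, i < 4 ∧ i ∈ dom') ∧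
    ∀ i ∈ dom', (i < 4 → i ∈ dom) ∧ (4 ≤ i → ∀ l ∈ nthW ws (i - 4), l / 2 ∈ dom)) : mdl (extG g 4 ws) dom' = mdl g dom := by
  refine le_antisymm ((Subgroup.closure_le _).2 ?_) ((Subgroup.closure_le _).2 ?_) <;> rintro _ ⟨i, hi, rfl⟩
  · unfold extG; split_ifs with c
    exacts [mem_mdl g ((h.2 i hi).1 c), evalW_mem fun l hl => sg_mem (mem_mdl g ((h.2 i hi).2 (by omega) l hl))]
  · exact (if_pos (h.1 i hi).1 : extG g 4 ws i = g i) ▸ mem_mdl _ (h.1 i hi).2

/-- the coding of vectors of length 56 -/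
noncomputable def V56 : VCod (ZMod 5) (Fin 56) 56 1008 app wfT :=
  vcodP (p := 5) (m := 205) (s := 10) (w := 18) (Equiv.refl _) (by decide +kernel)

theorem h56 : V56.mat one = 1 := V56.mat_one Nat.cast_zero Nat.cast_one (by decide +kernel)

/-- the involution centraliser -/
noncomputable abbrev H : Type := mdl (g V56 h56) dom1

instance : Finite H := fin1 V56 h56

/-- the coding of vectors of length 133 -/
noncomputable def V : VCod (ZMod 5) (Fin 133) 133 2926 HnM.app HnM.wfT :=
  vcodP (p := 5) (m := 1639) (s := 13) (w := 22) (Equiv.refl _) (by decide +kernel)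

theorem h2 : V.mat HnM.one = 1 := V.mat_one Nat.cast_zero Nat.cast_one (by decide +kernel)

/-- the model of the Harada-Norton group -/
def M : Type := HnM.M V h2

noncomputable instance : Group M := inferInstanceAs (Group (HnM.M V h2))

/-- its generators -/
noncomputable def gm : ℕ → M := mgen (HnM.g V h2) (List.range 4)

theorem rel : Rels HnM.rr gm := HnM.rr_m V h2

theorem gm_top : mdl gm (List.range 4) = ⊤ := mdl_mgen _ _

theorem gx_top : mdl (extG gm 4 ws) [0, 1, 2, 3, 4, 5] = ⊤ := (mdl_extG _ (by decide +kernel)).trans gm_top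

theorem U2 : UP.{0} (mgen (g V56 h56) dom1) dom1 R2 := (U1 V56 h56).weaken fun _ _ _ h => h.left

theorem fin_le : Finite M ∧ Nat.card M ≤ 273030912000000 := by
  have := (C1 V56 h56).card_le U2 (top rel)
  rw [gx_top, Subgroup.card_top, card1, pk1] at this
  exact ⟨have := this.1; Subgroup.topEquiv.toEquiv.finite_iff.1 this, this.2⟩

instance : Finite M := fin_le.1

theorem card_M : Nat.card M = 273030912000000 := by
  have c := @Nat.Coprime.mul_dvd_of_dvd_of_dvd
  have : Finite (HnM.M V h2) := fin_le.1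
  exact fin_le.2.antisymm (Nat.le_of_dvd Nat.card_pos (c (by norm_num) (c (by norm_num) (c (by norm_num) (c (by norm_num)
    (c (by norm_num) (HnM.m2d V h2) (HnM.m3d V h2)) (HnM.m5d V h2)) (HnM.o7 V h2)) (HnM.o11 V h2)) (HnM.o19 V h2)))

/-- the embedding of the involution centraliser -/
noncomputable def ψ : H →* M := (U2 _ _ (top rel)).choose

theorem hψ : ∀ i ∈ dom1, ψ (mgen (g V56 h56) dom1 i) = extG gm 4 ws i := (U2 _ _ (top rel)).choose_spec

theorem range_dvd : Nat.card ψ.range ∣ 177408000 := card1 V56 h56 ▸ Subgroup.card_range_dvd ψ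

theorem prim : ψ.range.index = 1539000 ∧ (∀ K, ψ.range < K → K.index < 19) ∧ ψ.range.normalCore = ⊥ ∧
    ∃ r : ℕ → M ⧸ ψ.range, Orbs ψ.range Set.univ r [1, 1408, 35200, 2200, 123200, 354816, 739200, 5775, 277200] :=
  prim1 V56 h56 (top rel) hψ gx_top (le_index (Nat.le_of_dvd (by norm_num) range_dvd) card_M.ge)

theorem simple_M : IsSimpleGroup M :=
  (simple_of_kill prim range_dvd (by norm_num) (HnM.kl_m V h2) HnM.kl_ok gm_top).2

theorem range_ψ : ψ.range = mdl gm [0, 1, 2] := (range_eq hψ).trans (mdl_extG _ (by decide +kernel))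

theorem UM : UP.{0} gm (List.range 4) HnM.rr := fun G _ g h => by
  obtain ⟨φ, hφ⟩ := U2.lift (C1 V56 h56) gx_top (top rel) (by rw [card_M, card1, pk1]; decide) G _ (top h)
  refine ⟨φ, fun i hi => ?_⟩
  simpa only [extG, if_pos (List.mem_range.1 hi)] using hφ i (by revert i; decide)

/-- the generators of the presentation -/
def gs : List HN.Gen := [.x, .y, .z, .t]

theorem hgs : ∀ a, a ∈ gs := by intro a; cases a <;> decide

theorem ex_e : ∃ e : Spor.HN ≃* M, ∀ i, e (genL gs i) = gm i :=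
  pres_equiv hgs rfl rfl (by decide) UM rel (rels_known hgs rfl rfl (by decide +kernel)) (by decide +kernel)

/-- the presented group is the model -/
noncomputable def e : Spor.HN ≃* M := ex_e.choose

/-- the subgroup generated by the first three generators -/
abbrev N : Subgroup Spor.HN := (Subgroup.closure ({HN.x, HN.y, HN.z} : Set (FreeGroup HN.Gen))).map
  (PresentedGroup.mk (coxRelators HN.edges ∪ {r | r ∈ HN.extra}))

theorem map_N : N.map e.toMonoidHom = mdl gm [0, 1, 2] := by
  have : N = mdl (genL gs) [0, 1, 2] := by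
    rw [N, MonoidHom.map_closure]
    exact (mdl_eq (l := [.of .x, .of .y, .of .z]) rfl (by simp [PresentedGroup.of, eq_comm])).symm
  rw [this, map_mdl]
  exact congrArg (mdl · _) (funext ex_e.choose_spec)

theorem card_HN : Nat.card Spor.HN = 273030912000000 := (Nat.card_congr e.toEquiv).trans card_M

theorem simple_HN : IsSimpleGroup Spor.HN :=
  have := simple_M
  e.isSimpleGroup

theorem index_N : N.index = 1539000 := by
  rw [← prim.1, range_ψ, ← map_N]
  exact (Subgroup.index_map_equiv _ e).symm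

theorem mult_HN : HasCyclicSchurMultiplier Spor.HN 1 :=
  have : Finite Spor.HN := Finite.of_equiv _ e.toEquiv.symm
  have : Finite (HnM.M V h2) := fin_le.1
  have k : ∀ {a}, ¬ a ∣ 273030912000000 → ¬ a ∣ Nat.card (HnM.M V h2) := fun h c => h (card_M ▸ c)
  hasTrivial_of_list card_HN [2, 3, 5] [7, 11, 19] (by
    simp only [List.forall_mem_cons]
    exact ⟨(HnM.m2 V h2 (k (by decide))).congr e, (HnM.m3 V h2 (k (by decide))).congr e,
      (HnM.m5 V h2 (k (by decide))).congr e, by simp⟩) 14 (by decide)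

theorem ex_alt : ∃ f : alternatingGroup (Fin 12) →* M, Function.Injective f := by
  let x : ℕ → M := (HnM.SM V h2).bg HnM.al
  have k : ∀ i j : Fin 11, (i : ℕ) < j → ((x i)⁻¹ * x j) ^ (if (i : ℕ) + 1 = j then 3 else 2) = 1 := fun i j h => by
    have := HnM.al_r V h2 ([2 * i + 1, 2 * j], if (i : ℕ) + 1 = j then 3 else 2) (by revert i j; decide +kernel)
    rwa [evalW_cons, evalW_cons, evalW_nil, mul_one, sg_odd, sg_even] at this
  obtain ⟨f, hf⟩ := L.exists_hom_alt (fun i : Fin 11 => x i) (fun i j h => by simpa [h] using k i j (by omega))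
    fun i j h => by simpa [h.ne] using k i j (by omega)
  have := alternatingGroup.isSimpleGroup (α := Fin 12) (by simp)
  refine ⟨f, (MonoidHom.ker_eq_bot_iff f).1 ((Subgroup.Normal.eq_bot_or_eq_top inferInstance).resolve_right fun c => ?_)⟩
  have a := ord_of (HnM.sinj V h2) (HnM.al_ok V h2) Nat.prime_three HnM.al3
  have b := (hf 0 1 (Equiv.Perm.mem_alternatingGroup.2 (by decide))).symm.trans (c.ge (Subgroup.mem_top _))
  have z : x 0 = 1 :=
    (congrArg _ (show nthD HnM.one HnM.al (2 * 0) = HnM.one by decide +kernel)).trans (HnM.SM V h2).val_one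
  have z1 : x 1 = 1 := by simpa [z] using b
  rw [evalW_cons, evalW_nil, mul_one, pow_one, show (HnM.SM V h2).gen HnM.al 2 = 1 from z1, orderOf_one] at a
  exact absurd a (by decide)

end H15.Hn
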