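import Cfsg.Agent.H15.HnAe

/-! The Harada-Norton group: tower of enumerations. Enumeration 1. Checks. -/

set_option maxRecDepth 100000
set_option Elab.async false

namespace H15.Hn
open H13

theorem Rn2 : Nat.beq R2.length 24 = true := by decide +kernel

theorem Nn2 : Nat.beq N2.length 6 = true := by decide +kernel

theorem A1_p : actP 12 1408 n1 22 = true := by decide +kernel

theorem A1_l_0 : rng (actL 12 1408 n1 dom1 (2 * 6) us1) (nat_lit 0) (nat_lit 22) = true := by decide +kernel

theorem A1_r_0 : rng (fun i => relN 12 1408 n1 (2 * 6) (nthD ([], nat_lit 0) R1 i)) (nat_lit 0) (nat_lit 18) = true := by decide +kernel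

theorem hr1 : relsOk mul one lc1 dom1 nodes1 1 (2 * 6) R2 sb1 1 rs1 = true := by decide +kernel

theorem hc1_0 : rng (chk mul one wf T1 lc1 (mapR (fun e => e.2.2) rs1) 1) (nat_lit 0) (nat_lit 327) = true := by decide +kernel

theorem hc1_1 : rng (chk mul one wf T1 lc1 (mapR (fun e => e.2.2) rs1) 1) (nat_lit 327) (nat_lit 120) = true := by decide +kernel

theorem hc1_2 : rng (chk mul one wf T1 lc1 (mapR (fun e => e.2.2) rs1) 1) (nat_lit 447) (nat_lit 66) = true := by decide +kernel

theorem hc1_3 : rng (chk mul one wf T1 lc1 (mapR (fun e => e.2.2) rs1) 1) (nat_lit 513) (nat_lit 29) = true := by decide +kernel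

theorem AQ1_1_p : actP 12 1408 q1_1 22 = true := by decide +kernel

theorem AQ1_1_l_0 : rng (actL 12 1408 q1_1 dom1 (2 * 6) us1) (nat_lit 0) (nat_lit 22) = true := by decide +kernel

theorem AQ1_1_r_0 : rng (fun i => relN 12 1408 q1_1 (2 * 6) (nthD ([], nat_lit 0) R1 i)) (nat_lit 0) (nat_lit 18) = true := by decide +kernel

theorem la1 : ldA mul one T1 542 lc1 1408 12 n1 ls1 1 = true := by decide +kernel

theorem lb1 : ldB 177408000 Qs1 ls1 1 = true := by decide +kernel

theorem na1_0 : rng (fun i => ndA mul one T1 542 lc1 1408 12 n1 177408000 (nthD ⟨nat_lit 0, nat_lit 0, [], [], []⟩ ds1 i)) (nat_lit 0) (nat_lit 8) = true := by decide +kernel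

theorem nb1_0 : rng (fun i => ndB mul one T1 542 lc1 ks1 Qs1 1 (nthD ⟨nat_lit 0, nat_lit 0, [], [], []⟩ ds1 i)) (nat_lit 0) (nat_lit 8) = true := by decide +kernel

theorem dn1 : Nat.beq ds1.length 8 = true := by decide +kernel

theorem hk1 : ks1 = ds1.map Nd.k := by decide +kernel

theorem hkc1 : kc1 = (0, 1) :: ds1.map fun d => (d.k, d.c) := by decide +kernel

theorem lo1 : linkOk mul one T1 542 ks1 lk1 1 = true := by decide +kernel

theorem do1 : domOk dom1 [0, 1, 2, 3, 4, 5] nodes1 1 R2 sb1 1 = true := by decide +kernel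

end H15.Hn
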