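import Cfsg.Agent.H15.Hn
import Cfsg.Agent.H15.HnBa
import Cfsg.Agent.H15.Dcv
import Cfsg.Agent.H15.Cen
import Cfsg.Agent.H14.OutHM

/-! The Harada-Norton group: the double cover of the Higman-Sims group, automorphisms (namespace H15.Hn). -/

set_option maxRecDepth 100000

set_option linter.unusedSectionVars false

namespace H15.Hn
open H13 Cfsg Cfsg.Spor Subgroup MulAction

theorem two_of_zpowers {X : Type*} [Group X] {a x : X} (h : a * a = 1) (e : x ∈ zpowers a) : x = 1 ∨ x = a := by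
  obtain ⟨k, rfl⟩ := e
  obtain ⟨k, rfl | rfl⟩ := Int.even_or_odd' k <;> simp [zpow_add, zpow_mul, sq, h]

theorem center_GH : center H14.GH = ⊥ ∧ _root_.commutator H14.GH = ⊤ := by
  have := H14.simple_GH
  have a : center H14.GH = ⊥ := (IsSimpleGroup.eq_bot_or_eq_top_of_normal _ inferInstance).resolve_right fun h => by
    let _ := Group.commGroupOfCenterEqTop h
    exact absurd (H14.card_GH ▸ CommGroup.is_simple_iff_prime_card.1 this) (by norm_num)
  refine ⟨a, (IsSimpleGroup.eq_bot_or_eq_top_of_normal _ inferInstance).resolve_left fun h => ?_⟩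
  exact bot_ne_top (a.symm.trans ((commutator_eq_bot_iff_center_eq_top _).1 h))

section
variable {X : Type} [Group X] (j : H ≃* X)

/-- the generators -/
noncomputable def gj (i : ℕ) : X := j (mgen (g V56 h56) dom1 i)

/-- the coding -/
noncomputable def Sj : Sem X mul one wf := ((S V56 h56).sub (mdl (g V56 h56) dom1)).map j.toMonoidHom

theorem Lj : Lc (Sj j) (gj j) lc1 dom1 (2 * 6) us1 22 := (L1 V56 h56).map j.surjective

theorem Uj : UP.{0} (gj j) dom1 R1 := fun G _ g h =>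
  let ⟨ψ, e⟩ := U1 V56 h56 G g h
  ⟨ψ.comp j.symm.toMonoidHom, fun i hi => by simp [gj, e i hi]⟩

include j in
theorem card_X : Nat.card X = 177408000 := (Nat.card_congr j.toEquiv).symm.trans (card1 V56 h56)

/-- an element of order 22 -/
noncomputable def bj : X := evalW (sg (gj j)) ub

theorem ord_j {u : List ℕ} {k p : ℕ} (h : p.Prime ∧ inDom 12 dom1 u = true ∧ ordOk mul one lc1 u k p = true) :
    orderOf (evalW (sg (gj j)) u ^ k) = p := by
  have I : SInj (S V56 h56) := fun _ _ => V56.sem_inj h1 h56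
  have J : SInj (Sj j) := fun a b x y e => I.sub (mdl (g V56 h56) dom1) a b x y (j.injective e)
  exact (Lj j).evalW_base h.2.1 ▸ ord_of J (Lj j).ok h.1 h.2.2

theorem eq_j {u v : List ℕ} (h : inDom 12 dom1 u = true ∧ inDom 12 dom1 v = true ∧
    prodW mul one lc1 u = prodW mul one lc1 v) : evalW (sg (gj j)) u = evalW (sg (gj j)) v := by
  rw [← (Lj j).evalW_base h.1, ← (Lj j).evalW_base h.2.1]
  exact ((Sj j).prodW_spec (Lj j).ok u).2.symm.trans ((congrArg _ h.2.2).trans ((Sj j).prodW_spec (Lj j).ok v).2)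

theorem facts : orderOf (gj j 5) = 2 ∧ orderOf (bj j ^ 2) = 11 ∧ bj j ^ 11 = gj j 5 ∧ gj j 0 * gj j 0 = gj j 5 ∧
    gj j 5 ∈ center X := by
  refine ⟨by simpa [sg] using ord_j j (u := [10]) (k := 1) (p := 2) (by decide +kernel), ord_j j (by decide +kernel),
    by simpa [sg, evalW_pw, bj] using eq_j j (u := pw ub 11) (v := [10]) (by decide +kernel),
    by simpa [sg] using eq_j j (u := [0, 0]) (v := [10]) (by decide +kernel), mem_center_iff.2 fun x => ?_⟩
  refine mem_centralizer_singleton_iff.1 (((Lj j).gen.ge.trans ((closure_le (centralizer {_})).2 ?_)) (mem_top x))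
  rintro _ ⟨i, hi : i ∈ dom1, rfl⟩
  have := eq_j j (u := [2 * i, 10]) (v := [10, 2 * i]) (by revert i; decide +kernel)
  exact mem_centralizer_singleton_iff.2 (by simpa [sg_even, sg_even _ 5] using this)

theorem cent_b {x : X} (h : x * bj j = bj j * x) : x ∈ zpowers (bj j) := by
  have := Finite.of_equiv _ j.toEquiv
  have e : evalW ((Sj j).gen lc1) (wd es 0) = bj j := (Lj j).evalW_base (by decide +kernel)
  obtain ⟨u, a, b⟩ := (act_of_up (Lj j) (Uj j) A1_p A1_l (by decide) (allR Rn1 A1_r)).conj_search (Lj j).top cb_c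
    ((card_X j).trans cb_p.symm).le cb_b cb_a (g := x) (by rwa [e])
  obtain rfl : u = [] := List.mem_singleton.1 a
  simpa [e] using b

theorem ex_dcv : ∃ (K : Subgroup X) (φ : K →* H14.GH), Dcv K (gj j 5) φ ∧ gj j 0 ∈ K ∧ gj j 1 ∈ K ∧ gj j 2 ∉ K := by
  have := Finite.of_equiv _ j.toEquiv
  obtain ⟨f1, -, -, f4, f5⟩ := facts j
  obtain ⟨σ, hσ⟩ := Uj j ℤˣ (fun i => if i = 2 then -1 else 1) (by unfold Rels; decide +kernel)
  have k : ∀ {u}, inDom 12 dom1 u = true ∧ evalW (sg fun i => if i = 2 then (-1 : ℤˣ) else 1) u = 1 →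
      evalW (sg (gj j)) u ∈ σ.ker := fun h => (map_base hσ h.1).trans h.2
  obtain ⟨K, φ, hq, hK, s, h1⟩ : ∃ (K : Subgroup X) (φ : K →* H14.GH) (hq : gj j 5 ∈ K), K ≤ σ.ker ∧
      Function.Surjective φ ∧ φ ⟨_, hq⟩ = 1 := by
    obtain ⟨β, _, P, hP, Y⟩ := act_of_up (Lj j) (Uj j) Ah_p Ah_l (by decide) (allR Rn1 Ah_r)
    have m := H14.genS_mem H14.MsH_mem H14.vs100
    have r : ∀ {u v}, inDom 12 dom1 u = true → tabW 16 100 nh u = tabW 16 100 H14.nets100 v →
        evalW (H14.genS H14.MsH H14.vs100) v ∈ H14.GH ∧ ∃ f, Rep P (evalW (sg (gj j)) u) f ∧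
          Rep (H14.mkPts H14.ok100) (evalW (H14.genS H14.MsH H14.vs100) v) f := fun {u v} a b =>
      ⟨evalW_mem fun l _ => m l, _, by rw [← (Lj j).evalW_base a]; exact Y.rep_tabW u, by
        rw [hP, b]; exact H14.sys100.rep_tabW v⟩
    have q : evalW (sg (gj j)) [10] = gj j 5 := by simp [sg]
    obtain ⟨φ, hφ⟩ := exists_hom_of_rep (P := P) (Q := H14.mkPts H14.ok100) hP.symm H14.faith100
      (s := {(evalW (sg (gj j)) u0, evalW (H14.genS H14.MsH H14.vs100) [0]),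
        (evalW (sg (gj j)) u1, evalW (H14.genS H14.MsH H14.vs100) [1]), (gj j 5, 1)}) (by
        rintro _ (rfl | rfl | rfl)
        exacts [r (by decide +kernel) uh.1, r (by decide +kernel) uh.2.1, q ▸ r (v := []) (by decide +kernel) uh.2.2])
    refine ⟨_, φ, _, (closure_le _).2 ?_, fun y => ?_, Subtype.ext (hφ _ (.inr (.inr rfl)))⟩
    · rintro _ ⟨_, rfl | rfl | rfl, rfl⟩
      exacts [k (by decide +kernel), k (by decide +kernel), hσ 5 (by decide)]
    obtain ⟨_, ⟨x, rfl⟩, e⟩ := H14.clM_le (K := φ.range.map H14.GH.subtype) (Ms := H14.MsH) (by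
      rintro _ (_ | ⟨_, _ | ⟨_, ⟨⟩⟩⟩)
      exacts [⟨_, ⟨_, rfl⟩, (hφ _ (.inl rfl)).trans (mul_one _)⟩, ⟨_, ⟨_, rfl⟩, (hφ _ (.inr (.inl rfl))).trans (mul_one _)⟩])
      (H14.GH_eq.le y.2)
    exact ⟨x, Subtype.ext e⟩
  have z2 : σ (gj j 2) = -1 := hσ 2 (by decide)
  have i2 : σ.ker.index = 2 := by
    rw [index_ker, (eq_top_iff' σ.range).2 fun u => (Int.units_eq_one_or u).elim (· ▸ one_mem _) fun e =>
      ⟨_, z2.trans e.symm⟩, card_top]
    simp
  have a := φ.ker.card_mul_index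
  have b := zpowers_le.2 (show _ ∈ φ.ker from h1)
  have c := card_le_of_le b
  have d := σ.ker.index_mul_card
  have o : Nat.card (zpowers (⟨_, hq⟩ : K)) = 2 := by rw [Nat.card_zpowers, ← orderOf_coe, f1]
  rw [index_ker, MonoidHom.range_eq_top.2 s, card_top, H14.card_GH] at a
  rw [i2, card_X j] at d
  obtain rfl := eq_of_le_of_card_ge hK (by omega)
  have x0 : gj j 0 ∈ σ.ker := hσ 0 (by decide)
  refine ⟨_, φ, ⟨i2, f5, f1, s, fun x => ⟨fun h => ?_, ?_⟩, ⟨_, x0, f4⟩, fun g h => ?_, center_GH.2, center_GH.1⟩,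
    x0, hσ 1 (by decide), fun h => absurd (z2.symm.trans h) (by decide)⟩
  · exact (two_of_zpowers (Subtype.ext ((sq _).symm.trans (f1 ▸ pow_orderOf_eq_one _)))
      ((eq_of_le_of_card_ge b (by omega)).ge h)).imp (congrArg _) (congrArg _)
  · rintro (h | h)
    exacts [(congrArg φ (Subtype.ext h)).trans φ.map_one, (congrArg φ (Subtype.ext h)).trans h1]
  · have : bj j ∈ σ.ker := k (by decide +kernel)
    exact zpowers_le.2 this (cent_b j (h _ this))

/-- a subgroup of unitary type -/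
def Uu : Subgroup X := closure {gj j 1, (gj j 0)⁻¹ * gj j 1 * gj j 0}

theorem card_Uu : 126000 ≤ Nat.card (Uu j) := by
  have := Finite.of_equiv _ j.toEquiv
  obtain ⟨f1, -, -, f4, f5⟩ := facts j
  have a := card_sup_zpowers (K := Uu j) (y := gj j 0) (p := 4) (by decide) (fun k hk => ?_) (by
    rw [show 4 = 2 * 2 from rfl, pow_mul, sq (gj j 0), f4, ← f1, pow_orderOf_eq_one]; exact one_mem _)
  · have b : (j.toMonoidHom.comp (incl (g V56 h56) (dom := dom0) (by decide))).range ≤ zpowers (gj j 0) ⊔ Uu j := by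
      have x := mem_sup_left (T := Uu j) (mem_zpowers (gj j 0))
      have y := mem_sup_right (S := zpowers (gj j 0)) (show gj j 1 ∈ Uu j from subset_closure (.inl rfl))
      rw [range_eq (g := gj j) fun i hi => congrArg j (incl_mgen _ _ i hi)]
      refine (mdl_le_of_sub (((rel1 V56 h56).mgen rd1).map j.toMonoidHom) (sb := [(8, 9, 0), (10, 8, 0)]) (k := 1)
        (dom := [0, 1]) (by decide +kernel)).trans ((closure_le _).2 ?_)
      rintro _ ⟨_, _ | ⟨_, _ | ⟨_, ⟨⟩⟩⟩, rfl⟩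
      exacts [x, y]
    have c := card_le_of_le b
    rw [card_range (j.injective.comp (inclusion_injective _)), card0] at c
    omega
  · rw [← MulAut.conj_inv_apply, ← map_inv]
    refine (closure_le ((Uu j).comap (MulAut.conj (gj j 0)⁻¹).toMonoidHom)).2 ?_ hk
    rintro _ (rfl | rfl)
    · exact subset_closure (.inr (by simp))
    · refine subset_closure (.inl ?_)
      calc _ = (gj j 0 * gj j 0)⁻¹ * (gj j 1 * (gj j 0 * gj j 0)) := by simp [mul_assoc]
        _ = _ := by rw [f4, mem_center_iff.1 f5, inv_mul_cancel_left]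

theorem nrm_Uu {h : X} (hh : ∀ u ∈ Uu j, h⁻¹ * u * h ∈ Uu j) : ∃ i < 4, (gj j 0 ^ i)⁻¹ * h ∈ Uu j := by
  have := Finite.of_equiv _ j.toEquiv
  obtain ⟨β, _, P, hP, Y⟩ := act_of_up (Lj j) (Uj j) A1_p A1_l (by decide) (allR Rn1 A1_r)
  have t := tr1
  have f := fx1
  have k := fy1
  rw [← hP] at t f k
  have n0 : 0 < P.n := by omega
  have iv := fun g x hx => Y.smul_mem_set (g := g) (x := x) (by rw [(Lj j).top]; trivial) hx
  have y1 : evalW ((Sj j).gen lc1) [2] = gj j 1 := ((Lj j).evalW_base (by decide +kernel)).trans (by simp [sg])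
  have y2 : evalW ((Sj j).gen lc1) [1, 2, 0] = (gj j 0)⁻¹ * gj j 1 * gj j 0 :=
    ((Lj j).evalW_base (by decide +kernel)).trans (by simp [sg, mul_assoc])
  have le : Uu j ≤ stabilizer X (P.pt 0) := (closure_le _).2 (by
    rintro _ (rfl | rfl)
    exacts [y1 ▸ Y.fix_of_ok f (by simp) (by simp), y2 ▸ Y.fix_of_ok f (by simp) (by simp)])
  have c := (stabilizer X (P.pt 0)).index_mul_card
  rw [index_stabilizer, Y.orbit_top_eq_set t iv n0, P.ncard_set, hP, card_X j] at c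
  have e := eq_of_le_of_card_ge le (by have := card_Uu j; omega)
  obtain ⟨p, hp, e1⟩ := iv h _ (P.pt_mem n0)
  have fx : ∀ u, evalW ((Sj j).gen lc1) u ∈ Uu j → get 12 (tabW 12 P.n n1 u) p = p := fun u hu => by
    have a := Y.rep_tabW u p hp
    have b : _ = _ := le (hh _ hu)
    rw [mul_smul, mul_smul, inv_smul_eq_iff, ← e1] at b
    exact P.inj _ a.1 _ hp (a.2.symm.trans b)
  rw [force_eq, force_eq, forceM_eq, allLt_iff] at k
  have := k p hp
  rw [fx _ (y1 ▸ subset_closure (.inl rfl)), fx _ (y2 ▸ subset_closure (.inr rfl)), bor_eq_true, memL_iff] at this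
  obtain ⟨i, hi, rfl⟩ := List.mem_map.1 (this.resolve_right (by simp [band]))
  refine ⟨i, (by decide : ∀ i ∈ [0, 1, 2, 3], i < 4) i hi, e.ge ?_⟩
  rw [mem_stabilizer_iff, mul_smul, inv_smul_eq_iff, ← e1, ← (Y.rep_tabW _ 0 n0).2, evalW_pw,
    (Lj j).evalW_base (by decide +kernel)]
  simp [sg]

end

/-- the facts used for the determination of the automorphisms -/
structure Hyp {G : Type} [Group G] {A : Subgroup G} (j : H ≃* A) (x y z t : G) (r : ℕ → G ⧸ A) (τ : MulAut G) : Prop where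
  coe : (gj j 0).1 = x ∧ (gj j 1).1 = y ∧ (gj j 2).1 = z
  top : ∀ K : Subgroup G, x ∈ K → y ∈ K → z ∈ K → A ≤ K ∧ (t ∈ K → K = ⊤)
  orbs : Orbs A Set.univ r [1, 1408, 35200, 2200, 123200, 354816, 739200, 5775, 277200]
  coat : IsCoatom A
  cen : center G = ⊥
  card : ¬ 11 ^ 2 ∣ Nat.card G
  rl : y * t = t * y ∧ x⁻¹ * y * x * t = t * (x⁻¹ * y * x) ∧ x * t * x⁻¹ = t ^ 2 ∧ t ^ 5 = 1 ∧ (z * t) ^ 3 = 1
  ord : ∀ i ∈ [1, 3], orderOf (z * (x ^ i * t * (x ^ i)⁻¹)) = 5
  tau : τ x = x ∧ τ y = y ∧ τ z = z * (x * x)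

theorem mem_stab {G : Type*} [Group G] {A : Subgroup G} {v : G} {h : A} :
    h ∈ stabilizer A (v : G ⧸ A) ↔ v⁻¹ * h * v ∈ A :=
  (eq_comm.trans QuotientGroup.eq).trans (by rw [mul_assoc]; rfl)

namespace Hyp
variable {G : Type} [Group G] [Finite G] {A : Subgroup G} {j : H ≃* A} {x y z t : G} {r : ℕ → G ⧸ A} {τ : MulAut G}
  (Y : Hyp j x y z t r τ)
include Y

theorem mem : x ∈ A ∧ y ∈ A ∧ z ∈ A := ⟨Y.coe.1 ▸ (gj j 0).2, Y.coe.2.1 ▸ (gj j 1).2, Y.coe.2.2 ▸ (gj j 2).2⟩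

theorem tn : t ∉ A := fun h => Y.coat.1 ((Y.top A Y.mem.1 Y.mem.2.1 Y.mem.2.2).2 h)

theorem qe : (gj j 5).1 = x * x := by rw [← (facts j).2.2.2.1, ← Y.coe.1]; rfl

theorem cq {h : G} (hh : h ∈ A) : h * (x * x) = x * x * h :=
  Y.qe ▸ congrArg Subtype.val (mem_center_iff.1 (facts j).2.2.2.2 ⟨h, hh⟩)

theorem oq : orderOf (x * x) = 2 := Y.qe ▸ (orderOf_coe _).trans (facts j).1

theorem mem_of_cq {h : G} (hh : h * (x * x) = x * x * h) : h ∈ A := by
  refine (Y.coat.le_iff.1 fun a ha => mem_centralizer_singleton_iff.2 (Y.cq ha)).elim (fun e => ?_) fun e => e.le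
    (mem_centralizer_singleton_iff.2 hh)
  have := Y.oq
  rw [mem_bot.1 (Y.cen.le (mem_center_iff.2 fun g => mem_centralizer_singleton_iff.1 (e.ge (mem_top g)))),
    orderOf_one] at this
  exact absurd this (by decide)

theorem orb {v : G} (hv : v ∉ A) : ∃ i < 8, (v : G ⧸ A) ∈ orbit A (r (i + 1)) ∧
    [1408, 35200, 2200, 123200, 354816, 739200, 5775, 277200].getD i 0 * Nat.card (stabilizer A (v : G ⧸ A)) = 177408000 := by
  have k : ∀ v : G ⧸ A, ∃ i < 9, v ∈ orbit A (r i) ∧ (orbit A v).ncard = List.getD _ i 0 := fun v =>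
    let ⟨i, a, b⟩ := Y.orbs.cover v trivial
    ⟨i, a, b, orbit_eq_iff.2 b ▸ Y.orbs.card i a⟩
  have o : orbit A ((1 : G) : G ⧸ A) = {((1 : G) : G ⧸ A)} := Set.eq_singleton_iff_unique_mem.2
    ⟨mem_orbit_self _, by rintro _ ⟨h, rfl⟩; exact QuotientGroup.eq.2 (by simp)⟩
  obtain ⟨i, a, b, c⟩ := k v
  rcases i with _ | i
  · obtain ⟨i, a', b', c'⟩ := k ((1 : G) : G ⧸ A)
    rw [o, Set.ncard_singleton] at c'
    obtain rfl : i = 0 := by clear b'; revert i; decide
    rw [← orbit_eq_iff.2 b', o] at b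
    exact absurd (by simpa using QuotientGroup.eq.1 b) hv
  · exact ⟨i, by omega, b, by rw [← card_X j, ← (stabilizer A (v : G ⧸ A)).index_mul_card, index_stabilizer, c]; rfl⟩

theorem stab {v : G} (hv : v ∉ A) (a : y * v = v * y) (b : x⁻¹ * y * x * v = v * (x⁻¹ * y * x)) :
    (∀ u ∈ Uu j, u.1 * v = v * u) ∧ Uu j = stabilizer A (v : G ⧸ A) ∧ (v : G ⧸ A) ∈ orbit A (r 1) := by
  have c : ∀ u ∈ Uu j, u.1 * v = v * u := fun u hu => mem_centralizer_singleton_iff.1
    ((closure_le ((centralizer {v}).comap A.subtype)).2 (by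
      rintro _ (rfl | rfl) <;> refine mem_centralizer_singleton_iff.2 ?_ <;> simp [Y.coe, a, b]) hu)
  have d : Uu j ≤ stabilizer A (v : G ⧸ A) := fun u hu =>
    mem_stab.2 (by rw [mul_assoc, c u hu, inv_mul_cancel_left]; exact u.2)
  obtain ⟨i, i1, i2, i3⟩ := Y.orb hv
  have e := (card_Uu j).trans (card_le_of_le d)
  obtain rfl : i = 0 := by
    have := Nat.mul_le_mul_left ([1408, 35200, 2200, 123200, 354816, 739200, 5775, 277200].getD i 0) e
    rw [i3] at this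
    clear i2 i3; revert i; decide
  exact ⟨c, eq_of_le_of_card_ge d (by have := card_Uu j; change 1408 * _ = _ at i3; omega), i2⟩

theorem aut_fix {δ : MulAut G} (a : δ x = x) (b : δ y = y) (c : δ z = z) : ∃ g, MulAut.conj g * δ = 1 := by
  obtain ⟨r1, r2, r3, r4, r5⟩ := Y.rl
  obtain ⟨xm, ym, zm⟩ := Y.mem
  have f : ∀ {β : MulAut G}, β x = x → β y = y → β z = z → (∀ h ∈ A, β h = h) ∧ (β t = t → β = 1) := fun {β} a b c =>
    let ⟨u, v⟩ := Y.top (β.toMonoidHom.eqLocus (MonoidHom.id G)) a b c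
    ⟨u, fun e => MulEquiv.ext fun g => (v e).ge (mem_top g)⟩
  obtain ⟨-, s2, s3⟩ := Y.stab Y.tn r1 r2
  obtain ⟨-, w2, w3⟩ := Y.stab (v := δ t) (fun h => Y.tn (δ.injective ((f a b c).1 _ h) ▸ h))
    (by simpa [b] using congrArg δ r1) (by simpa [a, b] using congrArg δ r2)
  obtain ⟨h, e⟩ := (orbit_eq_iff.2 s3).ge w3
  obtain ⟨i, hi, k⟩ := nrm_Uu j (h := h) fun u hu => s2.ge (by
    rw [mem_stabilizer_iff, mul_smul, mul_smul, inv_smul_eq_iff, show h • _ = _ from e]; exact w2.le hu)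
  have p := H14.conj_pow_pow r3 i
  have m : (x ^ i * t * (x ^ i)⁻¹)⁻¹ * δ t ∈ A := by
    have := s2.le k
    rw [mem_stabilizer_iff, mul_smul, inv_smul_eq_iff, show h • _ = _ from e] at this
    have := mul_mem (pow_mem xm i) (QuotientGroup.eq.1 this.symm)
    simpa [Subgroup.smul_def, Y.coe, mul_assoc] using this
  have n : x ^ i * t * (x ^ i)⁻¹ ∉ A := fun h =>
    Y.tn ((mul_mem_cancel_left (pow_mem xm i)).1 ((mul_mem_cancel_right (inv_mem (pow_mem xm i))).1 h))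
  have r6 : x * x * t * (x * x)⁻¹ = t⁻¹ := by
    rw [← sq, H14.conj_pow_pow r3 2, eq_inv_iff_mul_eq_one, ← pow_succ]; exact r4
  have e5 : (δ t) ^ 5 = 1 := by rw [← map_pow, r4, map_one]
  have e6 : x * x * δ t * (x * x)⁻¹ = (δ t)⁻¹ := by simpa [a] using congrArg δ r6
  have e7 : δ t = x ^ i * t * (x ^ i)⁻¹ := by
    rw [p] at m n ⊢
    obtain ⟨v1, v2, -⟩ := Y.stab n (Commute.pow_right r1 _) (Commute.pow_right r2 _)
    have v3 : x * x * t ^ 2 ^ i * (x * x)⁻¹ = (t ^ 2 ^ i)⁻¹ := by rw [← conj_pow, r6, inv_pow]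
    have v4 : (t ^ 2 ^ i) ^ 5 = 1 := by rw [← pow_mul, mul_comm, pow_mul, r4, one_pow]
    have v5 := Y.cq m
    generalize t ^ 2 ^ i = u at *
    generalize x * x = q at *
    obtain ⟨w, hw⟩ : ∃ w, δ t = u * w := ⟨_, (mul_inv_cancel_left _ _).symm⟩
    rw [hw] at e5 e6 ⊢
    rw [hw, inv_mul_cancel_left] at m v5
    have v6 : u⁻¹ * w * u = w⁻¹ := by
      calc _ = q * u * q⁻¹ * (w * q) * q⁻¹ * u := by rw [v3]; group
        _ = q * (u * w) * q⁻¹ * u := by rw [v5]; group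
        _ = _ := by rw [e6]; group
    have v7 : w * u = u * w := v1 ⟨w, m⟩ (v2.ge (mem_stab.2 (v6 ▸ inv_mem m)))
    rw [mul_assoc, v7, inv_mul_cancel_left] at v6
    rw [Commute.mul_pow v7.symm, v4, one_mul, show w ^ 5 = w * w * (w * w) * w by simp [pow_succ, mul_assoc], mul_eq_one_iff_eq_inv.2 v6] at e5
    simp [show w = 1 by simpa using e5]
  have e8 : ∀ i ∈ [1, 3], δ t ≠ x ^ i * t * (x ^ i)⁻¹ := fun i hi e => absurd (Y.ord i hi ▸ orderOf_dvd_of_pow_eq_one
    (by rw [← e, ← c, ← map_mul, ← map_pow, r5, map_one]) : 5 ∣ 3) (by decide)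
  have l : ∀ {h}, h ∈ A → δ h = h → (MulAut.conj (x * x)⁻¹ * δ) h = h := fun h e => by
    rw [MulAut.mul_apply, e, MulAut.conj_apply, inv_inv, mul_assoc, Y.cq h, inv_mul_cancel_left]
  interval_cases i
  · exact ⟨1, by simpa using (f a b c).2 (by simpa using e7)⟩
  · exact (e8 1 (by simp) e7).elim
  · exact ⟨_, (f (l xm a) (l ym b) (l zm c)).2 (by simp [e7, sq, mul_assoc])⟩
  · exact (e8 3 (by simp) e7).elim

theorem fix_q (α : MulAut G) : ∃ g : G, (MulAut.conj g * α) (x * x) = x * x := by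
  obtain ⟨-, f2, f3, -, -⟩ := facts j
  have o : orderOf ((bj j).1 ^ 2) = 11 := (orderOf_coe _).trans f2
  have q : (bj j).1 ^ 11 = x * x := Y.qe ▸ congrArg Subtype.val f3
  have qq : x * x * (x * x) = 1 := by rw [← sq, ← Y.oq, pow_orderOf_eq_one]
  obtain ⟨g, k, k0, k1, e⟩ := H14.exists_conj_pow (by norm_num) o ((α.orderOf_eq _).trans o) Y.card
  refine ⟨g, ?_⟩
  replace e : (MulAut.conj g * α) _ = _ := e
  generalize MulAut.conj g * α = β at e
  have c : Commute ((bj j).1 ^ 2) (β (x * x)) := by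
    have := congrArg β (Y.cq (pow_mem (bj j).2 2))
    rw [map_mul, map_mul β (x * x), e] at this
    obtain ⟨m, hm⟩ := exists_pow_eq_self_of_coprime (x := (bj j).1 ^ 2) (n := k) (by
      rw [o]; exact (Nat.coprime_of_lt_prime k0.ne' k1 (by norm_num)).symm)
    exact hm ▸ Commute.pow_left this m
  have m : β (x * x) ∈ A := by
    by_contra hv
    obtain ⟨i, i1, -, i3⟩ := Y.orb hv
    have := orderOf_dvd_natCard (⟨bj j ^ 2, mem_stab.2 (by
      rw [mul_assoc, show ((bj j ^ 2 : A) : G) * _ = _ from c, inv_mul_cancel_left]; exact (bj j ^ 2).2)⟩ :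
        stabilizer A (β (x * x) : G ⧸ A))
    rw [← orderOf_coe, f2] at this
    exact absurd (i3 ▸ Nat.mul_dvd_mul (show 11 ∣ _ by clear i3; revert i; decide) this) (by decide)
  have b : (bj j).1 = ((bj j).1 ^ 2) ^ 6 * (x * x) := by
    rw [← pow_mul, ← q, ← pow_add, show 2 * 6 + 11 = 11 + 11 + 1 from rfl, pow_succ, pow_add, q, qq, one_mul]
  obtain ⟨n, hn⟩ := mem_powers_iff_mem_zpowers.2 (cent_b j (x := ⟨_, m⟩) (Subtype.ext (by
    show Commute (β _) (bj j).1
    rw [b]; exact (c.symm.pow_right 6).mul_right (Y.cq m))))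
  replace hn : (bj j).1 ^ n = β (x * x) := congrArg Subtype.val hn
  have o2 := (β.orderOf_eq _).trans Y.oq
  obtain ⟨n, rfl⟩ : 11 ∣ n := o ▸ orderOf_dvd_of_pow_eq_one (by rw [← pow_mul, mul_comm, pow_mul, hn, ← o2, pow_orderOf_eq_one])
  rw [pow_mul, q] at hn
  exact (two_of_zpowers qq (hn ▸ npow_mem_zpowers (x * x) n)).resolve_left fun e => by simp [e] at o2

theorem out : Nat.card (Out G) = 2 := by
  obtain ⟨K, φ, D, k0, k1, k2⟩ := ex_dcv j
  obtain ⟨t0, t1, t2⟩ := Y.tau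
  obtain ⟨xm, ym, zm⟩ := Y.mem
  have qq : x * x * (x * x) = 1 := by rw [← sq, ← Y.oq, pow_orderOf_eq_one]
  have q1 : z * (x * x) ≠ z := fun e => by simpa [mul_eq_left.1 e] using Y.oq
  refine H14.card_Out_eq_two (τ := τ) (fun g e => ?_) fun α => ?_
  · subst e
    have m : g ∈ A := Y.mem_of_cq (mul_inv_eq_iff_eq_mul.1 (by simpa using congrArg₂ (· * ·) t0 t0))
    have c : ∀ h ∈ A, (MulAut.conj g h = h ∨ MulAut.conj g h = h * (x * x)) ∧ h ∈ A := fun h hh => (Y.top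
      { carrier := {h | (MulAut.conj g h = h ∨ MulAut.conj g h = h * (x * x)) ∧ h ∈ A}
        one_mem' := ⟨.inl (map_one _), one_mem _⟩
        mul_mem' := by
          rintro a b ⟨a1, a2⟩ ⟨b1, b2⟩
          refine ⟨?_, mul_mem a2 b2⟩
          have := Y.cq b2
          generalize x * x = q at *
          rcases a1 with a1 | a1 <;> rcases b1 with b1 | b1 <;> rw [map_mul, a1, b1] <;>
            simp [mul_assoc, ← mul_assoc q, ← this, qq]
        inv_mem' := by
          rintro a ⟨a1, a2⟩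
          exact ⟨a1.imp (fun e => by rw [map_inv, e]) fun e => by
            rw [map_inv, e, mul_inv_rev, inv_eq_of_mul_eq_one_right qq, Y.cq (inv_mem a2)], inv_mem a2⟩ } ⟨.inl t0, xm⟩ ⟨.inl t1, ym⟩ ⟨.inr t2, zm⟩).1 hh
    have := D.two (g := ⟨g, m⟩) fun k hk => mul_inv_eq_iff_eq_mul.1 (D.fix (β := MulAut.conj ⟨g, m⟩) (fun k => by
      rcases (c _ k.1.2).1 with e | e
      · exact congrArg φ (Subtype.ext (Subtype.ext e))
      · exact (congrArg φ (Subtype.ext (a2 := k * ⟨_, D.mem⟩) (Subtype.ext (e.trans (Y.qe ▸ rfl))))).trans (by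
          rw [map_mul, (D.ker ⟨_, D.mem⟩).2 (.inr rfl), mul_one])) k hk)
    rcases this with e | e <;> replace e := congrArg Subtype.val e
    · exact q1 (by simpa [show g = 1 from e] using t2.symm)
    · exact q1 (by rw [← t2, MulAut.conj_apply, show g = _ from e.trans Y.qe, ← Y.cq zm, mul_inv_cancel_right])
  obtain ⟨g, e⟩ := Y.fix_q α
  have k : ∀ β : MulAut G, β (x * x) = x * x → ∀ h ∈ A, β h ∈ A := fun β e h hh =>
    Y.mem_of_cq (by rw [← e, ← map_mul, Y.cq hh, map_mul β (x * x)])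
  let β : MulAut A := MulEquiv.ofBijective (((MulAut.conj g * α).toMonoidHom.comp A.subtype).codRestrict A fun h => k _ e _ h.2)
    (Finite.injective_iff_bijective.1 fun a b c => Subtype.ext ((MulAut.conj g * α).injective (congrArg Subtype.val c)))
  obtain ⟨h, a, b⟩ := D.aut H14.out_GH (β := β) (Subtype.ext (show (MulAut.conj g * α) (gj j 5).1 = _ by rw [Y.qe, e]))
  have v : ∀ u : A, ((MulAut.conj h * β) u).1 = (MulAut.conj (h.1 * g) * α) u := fun u => by
    rw [map_mul, mul_assoc]; rfl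
  have a0 := Y.coe.1 ▸ (v _).symm.trans (congrArg _ (a _ k0))
  have a1 := Y.coe.2.1 ▸ (v _).symm.trans (congrArg _ (a _ k1))
  rcases b (gj j 2) with c | c <;> replace c := (v _).symm.trans (congrArg _ c)
  · obtain ⟨u, hu⟩ := Y.aut_fix a0 a1 (Y.coe.2.2 ▸ c)
    exact ⟨u * (h * g), .inl (by rwa [map_mul, mul_assoc])⟩
  · obtain ⟨u, hu⟩ := Y.aut_fix (δ := τ⁻¹ * (MulAut.conj (h.1 * g) * α)) (by rw [MulAut.mul_apply, a0]; exact τ.symm_apply_eq.2 t0.symm)
      (by rw [MulAut.mul_apply, a1]; exact τ.symm_apply_eq.2 t1.symm)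
      (by rw [MulAut.mul_apply, ← Y.coe.2.2, c, coe_mul, Y.qe, Y.coe.2.2]; exact τ.symm_apply_eq.2 t2.symm)
    refine ⟨τ u * (h * g), .inr ?_⟩
    rw [map_mul, mul_assoc]
    generalize MulAut.conj (h.1 * g) * α = γ at hu
    ext w
    simpa using congrArg τ (MulEquiv.congr_fun hu w)

end Hyp

end H15.Hn
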