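import Cfsg.Agent.H15.HnC

/-! The Harada-Norton group: the centraliser of an involution and the outer automorphism group (namespace H15.Hn). -/

set_option maxRecDepth 100000

namespace H15.Hn
open H13 Cfsg Cfsg.Spor Subgroup MulAction

theorem ψ_inj : Function.Injective ψ := by
  have := ψ.range.index_mul_card
  rw [prim.1, card_M] at this
  exact (subtype_injective _).comp (ψ.rangeRestrict_surjective.bijective_of_nat_card_le (by rw [card1]; omega)).1

theorem cover_N : ∃ K : Subgroup N, K.Normal ∧ K.index = 2 ∧ IsNonsplitDoubleCover K Spor.HS := by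
  obtain ⟨K, φ, D, -⟩ := ex_dcv (((MonoidHom.ofInjective ψ_inj).trans
    (MulEquiv.subgroupCongr (range_ψ.trans map_N.symm))).trans (e.subgroupMap N).symm)
  exact ⟨K, normal_of_index_eq_two D.idx, D.idx, D.cover.1, ⟨D.cover.2.1.some.trans H14.equiv_HS.some.symm⟩, D.cover.2.2⟩

local notation "x" => gm 0
local notation "y" => gm 1
local notation "z" => gm 2
local notation "t" => gm 3

theorem ev_M {u : List ℕ} (h : inDom 8 (List.range 4) u = true) :
    (HnM.SM V h2).val (prodW HnM.mul HnM.one HnM.bc u) = evalW (sg gm) u :=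
  ((HnM.SM V h2).prodW_spec (HnM.bc_ok V h2) u).2.trans ((HnM.LM V h2).evalW_base h)

theorem eq_M {u v : List ℕ} (h : inDom 8 (List.range 4) u = true ∧ inDom 8 (List.range 4) v = true ∧
    prodW HnM.mul HnM.one HnM.bc u = prodW HnM.mul HnM.one HnM.bc v) : evalW (sg gm) u = evalW (sg gm) v :=
  (ev_M h.1).symm.trans ((congrArg _ h.2.2).trans (ev_M h.2.1))

theorem rl : y * t = t * y ∧ x⁻¹ * y * x * t = t * (x⁻¹ * y * x) ∧ x * t * x⁻¹ = t ^ 2 ∧ t ^ 5 = 1 ∧ (z * t) ^ 3 = 1 :=
  ⟨by simpa [sg] using eq_M (u := [2, 6]) (v := [6, 2]) (by decide +kernel),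
    by simpa [sg, mul_assoc] using eq_M (u := [1, 2, 0, 6]) (v := [6, 1, 2, 0]) (by decide +kernel),
    by simpa [sg, mul_assoc, sq] using eq_M (u := [0, 6, 1]) (v := [6, 6]) (by decide +kernel),
    by simpa [sg, evalW_pw] using eq_M (u := pw [6] 5) (v := []) (by decide +kernel),
    by simpa [sg, evalW_pw] using eq_M (u := pw [4, 6] 3) (v := []) (by decide +kernel)⟩

theorem ord5 : ∀ i ∈ [1, 3], orderOf (z * (x ^ i * t * (x ^ i)⁻¹)) = 5 := fun i hi => by
  have := ord_of (HnM.sinj V h2) (HnM.bc_ok V h2) Nat.prime_five (u := 4 :: (pw [0] i ++ 6 :: pw [1] i)) (k := 1)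
    (by revert i; decide +kernel)
  rw [(HnM.LM V h2).evalW_base (by clear this; revert i; decide +kernel)] at this
  have : orderOf (evalW (sg gm) (4 :: (pw [0] i ++ 6 :: pw [1] i)) ^ 1) = 5 := this
  simpa [sg, evalW_pw, evalW_append, mul_assoc] using this

/-- the images of the generators under an outer automorphism -/
def tw : List (List ℕ) := [[0], [1], [2], [3], [4, 0, 0], [1, 1, 5], [6, 6], [7, 7]]

theorem tw_c : forceM (prodW HnM.mul HnM.one HnM.bc) tw
    (fun l => band (bcOk HnM.mul HnM.one l 4) (allL (relC HnM.mul HnM.one l (2 * 4)) HnM.rr)) = true := by decide +kernel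

theorem ex_tau : ∃ τ : MulAut M, τ x = x ∧ τ y = y ∧ τ z = z * (x * x) := by
  obtain ⟨g, r, k⟩ : ∃ g : ℕ → M, Rels HnM.rr g ∧ ∀ i < 4, g i = evalW (sg gm) (tw.getD (2 * i) []) := by
    have c := tw_c
    rw [forceM_eq, band_eq_true] at c
    refine ⟨_, (HnM.SM V h2).rels (List.forall_mem_map.2 fun u _ => ((HnM.SM V h2).prodW_spec (HnM.bc_ok V h2) u).1) c.1
      (allL_iff.1 c.2), fun i hi => Eq.trans (congrArg (HnM.SM V h2).val ?_) (ev_M (by clear c; revert i; decide +kernel))⟩
    have : 2 * i < tw.length := by simp [tw]; omega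
    rw [nthD_eq, List.getD_eq_getElem _ _ (by simpa using this), List.getD_eq_getElem _ _ this, List.getElem_map]
  obtain ⟨τ, h⟩ := UM M g r
  have a : τ x = x := (h 0 (by decide)).trans ((k 0 (by decide)).trans (by simp [sg, tw]))
  have := simple_M
  refine ⟨MulEquiv.ofBijective τ (Finite.injective_iff_bijective.1 ((MonoidHom.ker_eq_bot_iff τ).1
    ((IsSimpleGroup.eq_bot_or_eq_top_of_normal _ inferInstance).resolve_right fun c => ?_))), a,
    (h 1 (by decide)).trans ((k 1 (by decide)).trans (by simp [sg, tw])),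
    (h 2 (by decide)).trans ((k 2 (by decide)).trans (by simp [sg, tw]))⟩
  have o := ord5 1 (by simp)
  rw [show x = 1 from a.symm.trans (c.ge (mem_top _))] at o
  exact absurd (o ▸ orderOf_dvd_of_pow_eq_one (by simpa using rl.2.2.2.2) : 5 ∣ 3) (by decide)

theorem hyp {τ : MulAut M} (h : τ x = x ∧ τ y = y ∧ τ z = z * (x * x)) :
    Hyp (A := ψ.range) (MonoidHom.ofInjective ψ_inj) x y z t prim.2.2.2.choose τ where
  coe := ⟨hψ 0 (by decide), hψ 1 (by decide), hψ 2 (by decide)⟩
  top K a b c := ⟨range_ψ.le.trans ((closure_le _).2 (by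
      rintro _ ⟨_, _ | ⟨_, _ | ⟨_, _ | ⟨_, ⟨⟩⟩⟩⟩, rfl⟩
      exacts [a, b, c])), fun d => top_unique (gm_top.ge.trans ((closure_le _).2 (by
      rintro _ ⟨_, _ | ⟨_, _ | ⟨_, _ | ⟨_, _ | ⟨_, ⟨⟩⟩⟩⟩⟩, rfl⟩
      exacts [a, b, c, d])))⟩
  orbs := prim.2.2.2.choose_spec
  coat := (simple_of_kill prim range_dvd (by norm_num) (HnM.kl_m V h2) HnM.kl_ok gm_top).1
  cen := have := simple_M
    (IsSimpleGroup.eq_bot_or_eq_top_of_normal (center M) inferInstance).resolve_right fun h => by
      let _ := Group.commGroupOfCenterEqTop h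
      exact absurd (card_M ▸ CommGroup.is_simple_iff_prime_card.1 this) (by norm_num)
  card := by rw [card_M]; decide
  rl := rl
  ord := ord5
  tau := h

theorem out_HN : Nat.card (Out Spor.HN) = 2 := (H14.card_Out_congr e).trans (hyp ex_tau.choose_spec).out

end H15.Hn
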