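import Cfsg.Agent.H15.Enum
import Cfsg.Agent.H04.Extraspecial
import Cfsg.Agent.L.AltPres

/-!
Centralisers of involutions (namespace H15).
* `cent_prod` (shape `2 × A`), `Ext` and its consequences (shape `Q : A` with `Q` extraspecial and `A` simple);
* `extOk`, `ext_of` (certificate for an extraspecial group of order 32 extended by the alternating group of degree 5).
-/

namespace H15
open H13 Cfsg Subgroup
open scoped commutatorElement

variable {G A : Type*} [Group G] [Group A]

theorem cent_prod [Finite G] {t : G} (ht : orderOf t = 2) (f : A →* centralizer ({t} : Set G))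
    (hf : Function.Injective f) (hA : center A = ⊥) (hc : Nat.card (centralizer ({t} : Set G)) ≤ 2 * Nat.card A) :
    Nonempty (centralizer ({t} : Set G) ≃* Multiplicative (ZMod 2) × A) := by
  let z : centralizer ({t} : Set G) := ⟨t, mem_centralizer_singleton_iff.2 rfl⟩
  have hz : ∀ x, x * z = z * x := fun x => Subtype.ext (mem_centralizer_singleton_iff.1 x.2)
  have oz : Nat.card (zpowers z) = 2 := by rw [Nat.card_zpowers, ← orderOf_coe, ht]
  let e : Multiplicative (ZMod 2) ≃* zpowers z := mulEquivOfPrimeCardEq (p := 2) (by simp) oz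
  have c : ∀ a x, Commute (((zpowers z).subtype.comp e.toMonoidHom) a) x := fun a x => by
    obtain ⟨k, h⟩ := (e a).2
    have : Commute (e a).1 x := h ▸ (Commute.zpow_right (hz x) k).symm
    exact this
  let φ := ((zpowers z).subtype.comp e.toMonoidHom).noncommCoprod f fun a x => c a _
  have i : Function.Injective φ := (injective_iff_map_eq_one φ).2 fun ⟨a, x⟩ h => by
    have h' : (e a).1 * f x = 1 := h
    obtain rfl : x = 1 := mem_bot.1 (hA ▸ mem_center_iff.2 fun y => hf (by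
      rw [map_mul, map_mul, eq_inv_of_mul_eq_one_right h']; exact (c a (f y)).inv_left.eq.symm))
    rw [map_one, mul_one] at h'
    exact Prod.ext (e.injective (Subtype.ext (by simpa using h'))) rfl
  have := Finite.of_injective _ i
  exact ⟨(MulEquiv.ofBijective φ (i.bijective_of_nat_card_le (by simpa using hc))).symm⟩

/-- the centraliser of `t` is an extension of the extraspecial group `Q` by the simple group `A` -/
structure Ext (t : G) (Q : Subgroup G) (f : A →* G) : Prop where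
  aes : H04.AES 2 Q t
  cen : ∀ x ∈ Q, (∀ y ∈ Q, y * x = x * y) → x ∈ zpowers t
  inj : Function.Injective f
  comm : ∀ a, f a * t = t * f a
  norm : ∀ a, f a ∈ normalizer (Q : Set G)
  nd : ¬ Nat.card A ∣ Nat.card Q
  le : Nat.card (centralizer ({t} : Set G)) ≤ Nat.card Q * Nat.card A
  act : ∃ a, ∃ y ∈ Q, ⁅f a, y⁆ ∉ zpowers t
  big : 2 < Nat.card Q

namespace Ext
variable [Finite G] [IsSimpleGroup A] {t : G} {Q : Subgroup G} {f : A →* G} (X : Ext t Q f)
include X

omit [Finite G] [IsSimpleGroup A] in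
theorem Q_le : Q ≤ centralizer {t} := fun x hx => mem_centralizer_singleton_iff.2 (X.aes.cent x hx)

omit [Finite G] [IsSimpleGroup A] in
theorem H_le : f.range ≤ centralizer {t} := by
  rintro _ ⟨a, rfl⟩; exact mem_centralizer_singleton_iff.2 (X.comm a)

omit [Finite G] [IsSimpleGroup A] in
theorem card_Q : Nat.card (Q.subgroupOf (centralizer {t})) = Nat.card Q :=
  Nat.card_congr (subgroupOfEquivOfLe X.Q_le).toEquiv

omit [Finite G] [IsSimpleGroup A] in
/-- the complement -/
noncomputable def eqH : A ≃* f.range.subgroupOf (centralizer {t}) :=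
  (MonoidHom.ofInjective X.inj).trans (subgroupOfEquivOfLe X.H_le).symm

omit [Finite G] in
theorem eq_one {a : A} (h : f a ∈ Q) : a = 1 := by
  have : (Q.comap f).Normal := ⟨fun x hx a => by
    rw [mem_comap, map_mul, map_mul, map_inv]; exact (mem_normalizer_iff.1 (X.norm a) _).1 hx⟩
  refine mem_bot.1 ((this.eq_bot_or_eq_top.resolve_right fun e => X.nd ?_).le h)
  exact card_dvd_of_injective (f.codRestrict Q fun a => e.ge (mem_top a)) fun a b e => X.inj (congrArg Subtype.val e)

theorem compl : (Q.subgroupOf (centralizer {t})).IsComplement' (f.range.subgroupOf (centralizer {t})) ∧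
    Nat.card (centralizer ({t} : Set G)) = Nat.card Q * Nat.card A := by
  have d : Disjoint (Q.subgroupOf (centralizer {t})) (f.range.subgroupOf (centralizer {t})) :=
    disjoint_def.2 fun {x} h ⟨a, e⟩ => by
      have := X.eq_one (a := a) (e ▸ h)
      exact Subtype.ext (e.symm.trans (by rw [this, map_one]; rfl))
  have := Nat.card_le_card_of_injective _ (mul_injective_of_disjoint d)
  rw [Nat.card_prod, X.card_Q, ← Nat.card_congr X.eqH.toEquiv] at this
  have e := le_antisymm X.le this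
  exact ⟨isComplement'_of_card_mul_and_disjoint (by rw [X.card_Q, ← Nat.card_congr X.eqH.toEquiv, e]) d, e⟩

theorem decomp {x : G} (h : x * t = t * x) : ∃ y ∈ Q, ∃ a, x = y * f a := by
  obtain ⟨⟨y, u, a, b⟩, e, -⟩ := X.compl.1.existsUnique ⟨x, mem_centralizer_singleton_iff.2 h⟩
  exact ⟨_, y.2, a, by rw [b]; exact (congrArg Subtype.val e).symm⟩

theorem le_norm : centralizer {t} ≤ normalizer (Q : Set G) := fun x hx => by
  obtain ⟨y, hy, a, rfl⟩ := X.decomp (mem_centralizer_singleton_iff.1 hx)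
  exact mul_mem (le_normalizer hy) (X.norm a)

theorem normal : (Q.subgroupOf (centralizer {t})).Normal := normal_subgroupOf_of_le_normalizer X.le_norm

theorem quot : haveI := X.normal
    Nonempty (centralizer ({t} : Set G) ⧸ Q.subgroupOf (centralizer {t}) ≃* A) :=
  haveI := X.normal
  ⟨X.compl.1.symm.QuotientMulEquiv.trans X.eqH.symm⟩

omit [IsSimpleGroup A] in
theorem extra : IsExtraspecial 2 (Q.subgroupOf (centralizer {t})) := by
  have e := subgroupOfEquivOfLe X.Q_le
  have h := X.aes.subgroup.map e.symm.toMonoidHom e.symm.injective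
  rw [map_top_of_surjective _ e.symm.surjective] at h
  have c : ∀ x : Q, (∀ y, y * x = x * y) → x ∈ zpowers (⟨t, X.aes.mem⟩ : Q) := fun x hx => by
    obtain ⟨k, hk⟩ := X.cen x x.2 fun y hy => congrArg Subtype.val (hx ⟨y, hy⟩)
    exact ⟨k, Subtype.ext hk⟩
  refine H04.isExtraspecial_of_aes_top h (fun x hx => ?_) fun hc => X.big.not_ge ?_
  · obtain ⟨k, hk⟩ := c (e x) fun y => by
      obtain ⟨y, rfl⟩ := e.surjective y
      rw [← map_mul, mem_center_iff.1 hx, map_mul]
    exact ⟨k, e.injective (by simpa using hk)⟩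
  · rw [← X.aes.ord, ← Nat.card_zpowers]
    refine card_le_of_le fun x hx => X.cen x hx fun y hy => ?_
    simpa using congrArg (fun z => (e z).1) (hc.is_comm.comm (e.symm ⟨y, hy⟩) (e.symm ⟨x, hx⟩))

theorem centric {c : G} (h : ∀ x ∈ Q, x * c = c * x) : c ∈ Q := by
  obtain ⟨y, hy, a, rfl⟩ := X.decomp (h t X.aes.mem).symm
  have := X.normal
  let K := ((centralizer (Q.subgroupOf (centralizer {t}) : Set (centralizer ({t} : Set G))) ⊔
    Q.subgroupOf (centralizer {t})).comap (f.codRestrict _ fun a => X.H_le ⟨a, rfl⟩))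
  have k : K = ⊥ := (inferInstance : K.Normal).eq_bot_or_eq_top.resolve_right fun e => by
    obtain ⟨b, x, hx, n⟩ := X.act
    obtain ⟨u, hu, v, hv, e⟩ := mem_sup_of_normal_right.1 (e.ge (mem_top b))
    have c : ∀ w ∈ Q, w * u.1 = u.1 * w := fun w hw => congrArg Subtype.val (hu ⟨w, X.Q_le hw⟩ hw)
    have hv' : v.1 ∈ Q := hv
    refine n ?_
    rw [show f b = u.1 * v.1 from (congrArg Subtype.val e).symm, show ⁅u.1 * v.1, x⁆ = u * (v * x * v.1⁻¹) * u.1⁻¹ * x⁻¹ by
      group, ← c _ (mul_mem (mul_mem hv' hx) (inv_mem hv')), mul_inv_cancel_right]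
    exact X.aes.comm _ hv _ hx
  have a1 : a = 1 := mem_bot.1 (k.le (mem_comap.2 ?_))
  · simpa [a1] using hy
  have y' : (⟨y, X.Q_le hy⟩ : centralizer {t}) ∈ Q.subgroupOf _ := hy
  rw [← mul_mem_cancel_left (mem_sup_right y')]
  exact mem_sup_left fun x hx => Subtype.ext (h x hx)

end Ext

theorem card_le_four {P : Type*} [Group P] [Finite P] {t : P} (ht : orderOf t = 2)
    (h : ∀ u v : P, u ^ 2 = 1 → v ^ 2 = 1 → u * v = v * u → u ∈ zpowers t ∨ v ∈ zpowers t ∨ u * v ∈ zpowers t)
    (E : Subgroup P) (hE : IsElementaryAbelian 2 E) : Nat.card E ≤ 2 ^ 2 := by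
  have c : Nat.card (zpowers t) = 2 := by rw [Nat.card_zpowers, ht]
  by_cases a : E ≤ zpowers t
  · exact (card_le_of_le a).trans (by omega)
  obtain ⟨u, u1, u2⟩ := SetLike.not_le_iff_exists.1 a
  refine le_trans (Set.ncard_le_ncard (s := (E : Set P)) (t := zpowers t ∪ (u⁻¹ * ·) '' zpowers t) fun v hv => ?_)
    ((Set.ncard_union_le _ _).trans (by rw [Set.ncard_image_of_injective _ (mul_right_injective _)]; exact (by omega :
      Nat.card (zpowers t) + Nat.card (zpowers t) ≤ 2 ^ 2)))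
  rcases h u v (hE.2 u u1) (hE.2 v hv) (congrArg Subtype.val (hE.1.is_comm.comm ⟨u, u1⟩ ⟨v, hv⟩)) with b | b | b
  exacts [absurd b u2, .inl b, .inr ⟨_, b, by simp⟩]

theorem mem_two {t x : G} (ht : orderOf t = 2) : x ∈ zpowers t ↔ x = 1 ∨ x = t := by
  refine ⟨fun ⟨k, h⟩ => ?_, by rintro (rfl | rfl) <;> simp⟩
  have h : t ^ k = x := h
  rw [← h, ← zpow_mod_orderOf, ht]
  rcases Int.emod_two_eq_zero_or_one k with e | e <;> simp [e]

theorem exists_A5 {a b c : G} {K : Subgroup G} (hK : a ∈ K ∧ b ∈ K ∧ c ∈ K) (ha : a ^ 3 = 1) (hb : b ^ 2 = 1)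
    (hc : c ^ 2 = 1) (hab : (a ^ 2 * b) ^ 3 = 1) (hbc : (b * c) ^ 3 = 1) (hac : (a ^ 2 * c) ^ 2 = 1) (h : b ≠ 1) :
    ∃ f : alternatingGroup (Fin 5) →* G, Function.Injective f ∧ f.range ≤ K ∧ b ∈ f.range := by
  have e1 : a⁻¹ = a ^ 2 := inv_eq_of_mul_eq_one_right (by rw [← pow_succ', ha])
  have e2 : b⁻¹ = b := inv_eq_of_mul_eq_one_right (by rw [← sq, hb])
  obtain ⟨f, hf⟩ := L.exists_hom_alt ![(1 : K), ⟨a, hK.1⟩, ⟨b, hK.2.1⟩, ⟨c, hK.2.2⟩] (by
    intro i j; fin_cases i <;> fin_cases j <;> simp [Subtype.ext_iff, ha, hab, hbc, e1, e2]) (by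
    intro i j; fin_cases i <;> fin_cases j <;> simp [Subtype.ext_iff, hb, hc, hac, e1])
  have h3 := congrArg Subtype.val (hf 0 2 (by rw [Equiv.Perm.mem_alternatingGroup]; decide))
  refine ⟨K.subtype.comp f, ?_, fun _ ⟨x, e⟩ => e ▸ (f x).2, _, h3.trans (by simp)⟩
  rw [← MonoidHom.ker_eq_bot_iff]
  refine ((alternatingGroup.isSimpleGroup (by simp)).eq_bot_or_eq_top_of_normal _ inferInstance).resolve_right
    fun e => h ?_
  simpa using h3.symm.trans (e.ge (mem_top _))

variable {mul : ℕ → ℕ → ℕ} {one : ℕ} {wf : ℕ → Bool} {S : Sem G mul one wf}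

/-- the letters `a`, `b`, `c` satisfy the relations of the alternating group and centralise `t` -/
noncomputable def a5Ok (mul : ℕ → ℕ → ℕ) (one : ℕ) (lc : List ℕ) (t a b c : ℕ) : Bool :=
  band (allL (fun r => Nat.beq (prodW mul one lc r) one) [[t, t], [a, a, a], [b, b], [c, c], pw [a, a, b] 3, pw [b, c] 3,
    pw [a, a, c] 2]) (band (allL (fun x => Nat.beq (prodW mul one lc [x, t]) (prodW mul one lc [t, x])) [a, b, c])
    (allL (fun x => Bool.rec true false (Nat.beq (nthD one lc x) one)) [t, b]))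

theorem a5_of (I : SInj S) {lc : List ℕ} (h0 : ∀ c ∈ lc, S.ok c) {t a b c : ℕ} (h : a5Ok mul one lc t a b c = true)
    {K : Subgroup G} (hK : S.gen lc a ^ 3 = 1 → S.gen lc b ^ 2 = 1 → S.gen lc c ^ 2 = 1 →
      S.gen lc a ∈ K ∧ S.gen lc b ∈ K ∧ S.gen lc c ∈ K) : orderOf (S.gen lc t) = 2 ∧
    ∃ f : alternatingGroup (Fin 5) →* G, Function.Injective f ∧ f.range ≤ K ⊓ centralizer {S.gen lc t} ∧
      S.gen lc b ∈ f.range := by
  have p := fun u => S.prodW_spec h0 u
  have n : ∀ x, Bool.rec true false (Nat.beq (nthD one lc x) one) = true ↔ S.gen lc x ≠ 1 := fun x => by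
    rw [ne_eq, Sem.gen, ← S.val_one, ← I.beq (nthD_prop S.ok_one h0 x) S.ok_one]
    cases Nat.beq (nthD one lc x) one <;> simp
  simp only [a5Ok, band_eq_true, allL_iff, List.forall_mem_cons, n, I.beq (p _).1 S.ok_one, I.beq (p _).1 (p _).1,
    (p _).2, S.val_one] at h
  obtain ⟨⟨r0, r1, r2, r3, r4, r5, r6, -⟩, ⟨c1, c2, c3, -⟩, n1, n2, -⟩ := h
  have r4' := (evalW_pw _ _ _).symm.trans r4
  have r5' := (evalW_pw _ _ _).symm.trans r5
  have r6' := (evalW_pw _ _ _).symm.trans r6
  simp only [List.map, List.prod_cons, List.prod_nil, mul_one, evalW_cons, evalW_nil, ← mul_assoc, ← sq,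
    ← pow_succ'] at r0 r1 r2 r3 r4' r5' r6' c1 c2 c3
  have k := hK r1 r2 r3
  exact ⟨orderOf_eq_prime r0 n1, exists_A5 ⟨⟨k.1, mem_centralizer_singleton_iff.2 c1⟩,
    ⟨k.2.1, mem_centralizer_singleton_iff.2 c2⟩, k.2.2, mem_centralizer_singleton_iff.2 c3⟩ r1 r2 r3 r4' r5' r6' n2⟩

/-- the list `L` is normalised by the letter `x` with inverse `x ^ k` -/
noncomputable def nrmOk (mul : ℕ → ℕ → ℕ) (one : ℕ) (lc L : List ℕ) (x k : ℕ) : Bool :=
  force (nthD one lc x) fun g => force (powC mul one g k) fun g' => allL (fun q => force (mul g q) fun y =>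
    force (mul y g') fun z => memL z L) L

theorem En.nrm [Finite G] (I : SInj S) {lc L : List ℕ} (h0 : ∀ c ∈ lc, S.ok c) {K : Subgroup G} (E : En S K L) {x k : ℕ}
    (hx : S.gen lc x ^ (k + 1) = 1) : nrmOk mul one lc L x k = true ↔ S.gen lc x ∈ normalizer (K : Set G) := by
  have o := nthD_prop S.ok_one h0 x
  have p := S.powC_spec o k
  have e : ∀ c, S.ok c → (memL (mul (mul (nthD one lc x) c) (powC mul one (nthD one lc x) k)) L = true ↔
      S.gen lc x * S.val c * (S.gen lc x)⁻¹ ∈ K) := fun c hc => by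
    rw [← E.mem I (S.ok_mul (S.ok_mul o hc) p.1), S.val_mul (S.ok_mul o hc) p.1, S.val_mul o hc, p.2,
      ← eq_inv_of_mul_eq_one_left ((pow_succ _ _).symm.trans hx)]
    rfl
  simp only [nrmOk, force_eq, allL_iff]
  exact ⟨fun h => mem_normalizer_fintype (E.forall fun c a b => (e c b).1 (h c a)),
    fun h c a => (e c (E.ok c a).1).2 ((mem_normalizer_iff.1 h _).1 (E.ok c a).2)⟩

/-- the list `L` is an extraspecial group with centre `t` and without elementary abelian subgroups of order 8 -/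
noncomputable def extOk (mul : ℕ → ℕ → ℕ) (one : ℕ) (lc L : List ℕ) (t a b c q : ℕ) : Bool :=
  force (nthD one lc t) fun z => band (memL z L) (band (allL (fun x => force (mul x x) fun s => band (memL s [one, z])
    (band (Nat.beq (mul x z) (mul z x)) (band (bor (memL x [one, z]) (anyL (fun y => Bool.rec true false
      (Nat.beq (mul y x) (mul x y))) L)) (allL (fun y => force (mul x y) fun u => force (mul y x) fun v =>
        Bool.rec (Nat.beq u (mul z v)) (bor (memL x [one, z]) (bor (memL y [one, z]) (bor (memL u [one, z])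
          (bor (Nat.beq s z) (Nat.beq (mul y y) z))))) (Nat.beq u v)) L)))) L)
    (band (nrmOk mul one lc L a (nat_lit 2)) (band (nrmOk mul one lc L b (nat_lit 1))
      (band (nrmOk mul one lc L c (nat_lit 1)) (band (memL (nthD one lc q) L)
        (Bool.rec true false (memL (prodW mul one lc [b, q, b, q, q, q]) [one, z])))))))

theorem ext_of [Finite G] (I : SInj S) {lc L : List ℕ} (h0 : ∀ c ∈ lc, S.ok c) {Q : Subgroup G} (E : En S Q L)
    (hQ : Nat.card Q = 32) {t a b c q : ℕ} (h1 : a5Ok mul one lc t a b c = true)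
    (h : extOk mul one lc L t a b c q = true) (hC : Nat.card (centralizer ({S.gen lc t} : Set G)) ≤ 1920) :
    (∃ f : alternatingGroup (Fin 5) →* G, Ext (S.gen lc t) Q f) ∧
      ∀ E : Subgroup (Q.subgroupOf (centralizer {S.gen lc t})), IsElementaryAbelian 2 E → Nat.card E ≤ 2 ^ 2 := by
  simp only [extOk, force_eq, band_eq_true, allL_iff, bor_eq_true, anyL_iff] at h
  obtain ⟨a1, a2, a3, a4, a5, a6, a7⟩ := h
  obtain ⟨ot, f, f1, f2, f3⟩ := a5_of I h0 h1 (K := normalizer (Q : Set G)) fun x y z =>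
    ⟨(E.nrm I h0 x).1 a3, (E.nrm I h0 y).1 a4, (E.nrm I h0 z).1 a5⟩
  have o := nthD_prop S.ok_one h0
  have m : ∀ {x}, S.ok x → (memL x [one, nthD one lc t] = true ↔ S.val x ∈ zpowers (S.gen lc t)) := fun hx => by
    rw [mem_two ot, ← S.val_one, Sem.gen, ← I.beq hx S.ok_one, ← I.beq hx (o t)]; simp [memL_iff]
  have bq : ∀ {x y u v}, S.ok x → S.ok y → S.ok u → S.ok v →
      (Nat.beq (mul x y) (mul u v) = true ↔ S.val x * S.val y = S.val u * S.val v) := fun x y u v => by
    rw [I.beq (S.ok_mul x y) (S.ok_mul u v), S.val_mul x y, S.val_mul u v]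
  have A : H04.AES 2 Q (S.gen lc t) := ⟨ot, (E.mem I (o t)).2 a1, E.forall fun x hx ox => (bq ox (o t) (o t) ox).1 (a2 x hx).2.1,
    E.forall fun x hx ox => E.forall fun y hy oy => by
      have := (a2 x hx).2.2.2 y hy
      rw [commutatorElement_def, mem_two ot, mul_inv_eq_one, mul_inv_eq_iff_eq_mul, mul_inv_eq_iff_eq_mul,
        mul_inv_eq_iff_eq_mul, mul_assoc, ← S.val_mul oy ox, Sem.gen, ← bq ox oy (o t) (S.ok_mul oy ox), S.val_mul oy ox,
        ← bq ox oy oy ox]
      revert this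
      cases Nat.beq (mul x y) (mul y x) <;> simp +contextual,
    E.forall fun x hx ox => by rw [sq, ← S.val_mul ox ox]; exact (m (S.ok_mul ox ox)).1 (a2 x hx).1⟩
  have c5 : Nat.card (alternatingGroup (Fin 5)) = 60 := by rw [nat_card_alternatingGroup]; simp; rfl
  have X : Ext (S.gen lc t) Q f := ⟨A, E.forall fun x hx ox h => by
      rcases (a2 x hx).2.2.1 with c | ⟨y, hy, c⟩
      · exact (m ox).1 c
      · rw [(bq (E.ok y hy).1 ox ox (E.ok y hy).1).2 (h _ (E.ok y hy).2)] at c; exact absurd c (by simp),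
    f1, fun a => mem_centralizer_singleton_iff.1 (f2 ⟨a, rfl⟩).2, fun a => (f2 ⟨a, rfl⟩).1, by rw [c5, hQ]; decide,
    by rwa [c5, hQ], by
      obtain ⟨x, e⟩ := f3
      have k : S.gen lc q ∈ Q := (E.mem I (o q)).2 a6
      refine ⟨x, _, k, fun h => ?_⟩
      have p := S.prodW_spec h0 [b, q, b, q, q, q]
      have b2 : (S.gen lc b)⁻¹ = S.gen lc b := inv_eq_of_mul_eq_one_right (by
        simp only [a5Ok, band_eq_true, allL_iff, List.forall_mem_cons] at h1
        simpa [(S.prodW_spec h0 _).2, S.val_one] using (I.beq (S.prodW_spec h0 _).1 S.ok_one).1 h1.1.2.2.1)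
      have q4 : (S.gen lc q)⁻¹ = S.gen lc q * S.gen lc q * S.gen lc q := inv_eq_of_mul_eq_one_right (by
        rw [← mul_assoc, ← mul_assoc, mul_assoc, ← sq, ← sq]
        rcases (mem_two ot).1 (A.pow _ k) with c | c
        · rw [c, one_pow]
        · rw [c, ← ot, pow_orderOf_eq_one])
      rw [(m p.1).2 (by rw [p.2]; convert h using 1; rw [e, commutatorElement_def, b2, q4]; simp [mul_assoc])] at a7
      exact absurd a7 (by simp), by rw [hQ]; decide⟩
  refine ⟨⟨f, X⟩, card_le_four (t := ⟨⟨_, X.Q_le A.mem⟩, A.mem⟩) (by rw [← orderOf_coe, ← orderOf_coe, ot]) ?_⟩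
  have z : ∀ u : Q.subgroupOf (centralizer {S.gen lc t}), u.1.1 ∈ zpowers (S.gen lc t) →
      u ∈ zpowers (⟨⟨_, X.Q_le A.mem⟩, A.mem⟩ : Q.subgroupOf (centralizer {S.gen lc t})) := fun u ⟨k, h⟩ =>
    ⟨k, Subtype.ext (Subtype.ext h)⟩
  have k : ∀ u ∈ Q, ∀ v ∈ Q, u ^ 2 = 1 → v ^ 2 = 1 → u * v = v * u →
      u ∈ zpowers (S.gen lc t) ∨ v ∈ zpowers (S.gen lc t) ∨ u * v ∈ zpowers (S.gen lc t) :=
    E.forall fun x hx ox => E.forall fun y hy oy c1 c2 c3 => by
      have := (a2 x hx).2.2.2 y hy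
      have n : S.gen lc t ≠ 1 := fun e => by simp [e] at ot
      rw [(bq ox oy oy ox).2 c3] at this
      simp only [bor_eq_true, m ox, m oy, m (S.ok_mul ox oy), S.val_mul ox oy, I.beq (S.ok_mul ox ox) (o t),
        I.beq (S.ok_mul oy oy) (o t), S.val_mul ox ox, S.val_mul oy oy, ← sq, c1, c2] at this
      rcases this with c | c | c | c | c
      exacts [.inl c, .inr (.inl c), .inr (.inr c), absurd c.symm n, absurd c.symm n]
  exact fun u v c1 c2 c3 => (k _ u.2 _ v.2 (congrArg (·.1.1) c1) (congrArg (·.1.1) c2) (congrArg (·.1.1) c3)).imp (z u)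
    (Or.imp (z v) (z (u * v)))

end H15
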