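import Cfsg.Agent.H15.J1Aa
import Cfsg.Agent.H15.Tails

/-! The first Janko group: tower of enumerations. Multiplier at 2. -/

set_option maxRecDepth 100000
set_option Elab.async false

namespace H15.J1
open H13

noncomputable def m2rl : List (List (List ℕ)) :=
  [[[]],
  [[nat_lit 1], []],
  [[nat_lit 2], [nat_lit 2], []]]

noncomputable def m2fr : List (ℕ × List ℕ × List ℕ) :=
  [(nat_lit 3, [nat_lit 0], [nat_lit 2]),
  (nat_lit 3, [nat_lit 1], [nat_lit 1]),
  (nat_lit 3, [nat_lit 2], (unp (nat_lit 2) (nat_lit 0x2403))),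
  (nat_lit 4, [nat_lit 1], [nat_lit 0, nat_lit 1]),
  (nat_lit 4, [nat_lit 2], [nat_lit 1])]

noncomputable def m2D : PC :=
  ⟨nat_lit 2, nat_lit 3, nat_lit 21, nat_lit 1, nat_lit 14, nat_lit 14, nat_lit 5, m2rl, m2fr⟩

noncomputable def m2cs : List (Cn × ℕ) :=
  [(.fus (nat_lit 3) [nat_lit 0, nat_lit 0] [], (nat_lit 0x2020)),
  (.fus (nat_lit 3) [nat_lit 1, nat_lit 0] [nat_lit 0, nat_lit 1], (nat_lit 0x1100)),
  (.fus (nat_lit 3) [nat_lit 2, nat_lit 2] [], (nat_lit 0x1b20)),
  (.fus (nat_lit 3) [nat_lit 2, nat_lit 0] [nat_lit 0, nat_lit 2], (nat_lit 0x1000)),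
  (.fus (nat_lit 4) [nat_lit 4, nat_lit 4] [], (nat_lit 0x2200)),
  (.fus (nat_lit 4) [nat_lit 3, nat_lit 3] [], (nat_lit 288))]

noncomputable def m2Fs : List ℕ :=
  [(nat_lit 0),
  (nat_lit 0),
  (nat_lit 0)]

noncomputable def m2la : List (List ℕ) :=
  [[(nat_lit 42)],
  [(nat_lit 10), (nat_lit 59)],
  [(nat_lit 23), (nat_lit 8), (nat_lit 43)]]

noncomputable def m2es : List (ℕ × List ℕ) :=
  [((nat_lit 0x60001800038000500008000200001800080000c00018000180006000060001800030000a0000c000100003000070000e000180003000060000c0002800020000500006000100003000080000e000000002000060000c000280003800060000c000200001800070000800000000300005), (unp (nat_lit 5) (nat_lit 0x61004602010741ee0d))),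
  ((nat_lit 0x60000e000140003800060000c000040003800000000c000180001800080000e0001400030000a0000e000100002800060000e00018000380008000000000c0002800060000600010000000005000060001c0003000080000a0000c0001800080000a000040003800060000a0001c000280006), (unp (nat_lit 5) (nat_lit 0x4010011810741f10c))),
  ((nat_lit 0x3000040002800030000200010000080001000010000a0001c000280006000120002800028000a00006000280001000020000c0001c0001800090000c0000c0000800020000a000280003000040001200014000400006000040000c00048000a00004000080004800020000200014000100006), (unp (nat_lit 5) (nat_lit 0xc040100101d083e110e))),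
  ((nat_lit 0x20001000020000380008000040001c000080009000080001c000200008000080000400048000800014000140000800020000c0000c0005000040000c0002400018000200008000000004800030000a0000c000080006000060000c00010000900004000200000000010000e00004000180008), (unp (nat_lit 5) (nat_lit 0xc040100101d07ba110e))),
  ((nat_lit 0x20000a000240002800040000a000040001800070000e0001c00050000000010000180002000010000e0000c000000000000040001400028000400008000200002000020000e000180001800070000a000100002000030000c00014000000006000000001c000480009000040000c000200005), (unp (nat_lit 5) (nat_lit 0x106101020420e7b9d20f)))]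

noncomputable def m2lc : List ℕ :=
  mapR Prod.fst m2es

noncomputable def m2v0 : VL :=
  ⟨(nat_lit 0x40001000020000000000000100001), [[nat_lit 0], [nat_lit 1], [nat_lit 2]], nat_lit 2, [(nat_lit 513)], nat_lit 1, nat_lit 2⟩

noncomputable def m2v1 : VL :=
  ⟨(nat_lit 0x10000000018000480000), [[nat_lit 0], [nat_lit 2]], nat_lit 2, [(nat_lit 257)], nat_lit 1, nat_lit 2⟩

noncomputable def m2v2 : VL :=
  ⟨(nat_lit 0x80000), [[nat_lit 0, nat_lit 2]], nat_lit 1, [(nat_lit 257)], nat_lit 1, nat_lit 2⟩

noncomputable def m2vl : List VL :=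
  [m2v0, m2v1, m2v2]

theorem m2ok : m2D.ok = true := by decide +kernel

theorem m2cn : Nat.beq m2cs.length 6 = true := by decide +kernel

theorem m2h3 : band (Nat.ble m2cs.length m2D.fuel) (allL (fun f => force (m2D.wd f) (bdOk m2D.b m2D.N m2D.t)) m2Fs) = true := by decide +kernel

theorem m2c_0 : rng (fun i => cnOk m2D (nthD (.con [] 0 0, 0) m2cs i)) (nat_lit 0) (nat_lit 6) = true := by decide +kernel

theorem m2t_0 : tgAll m2D m2cs m2Fs m2la (nat_lit 0) (nat_lit 3) = true := by decide +kernel

theorem m2so : slpOk mul one lc4 m2es = true := by decide +kernel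

theorem m2r_0 : rng (pcRow mul one m2lc m2D) (nat_lit 0) (nat_lit 3) = true := by decide +kernel

theorem m2f : allL (fuChk mul one m2lc) m2fr = true := by decide +kernel

theorem m2vc : vchainOk (app 133 1) (wfT 133 1) mul one m2lc [] m2vl = true := by decide +kernel

theorem m2lo : lowOk m2D m2vl = true := by decide +kernel

theorem m2c : ∀ i < 6, (fun i => cnOk m2D (nthD (.con [] 0 0, 0) m2cs i)) i = true :=
  (rng_add rng_zero m2c_0)

theorem m2ns {G : Type*} [Group G] [Finite G] {g : ℕ → G} (R : PcRel m2D g)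
    (hP : m2D.p ^ m2D.n ≤ Nat.card (Subgroup.closure (g '' Set.Iio m2D.n))) (hG : ¬ 2 ^ 4 ∣ Nat.card G) :
    NoStem 2 G :=
  noStem_of (D := m2D) (show Nat.Prime 2 by norm_num) m2ok R (allR m2cn m2c) (rng_add rng_zero (tgAll_rng m2t_0)) m2h3 hP hG

theorem m2r : ∀ i < 3, (pcRow mul one m2lc m2D) i = true :=
  (rng_add rng_zero m2r_0)

section
universe v
variable {R : Type v} {ι : Type} [CommRing R] [Fintype ι] [DecidableEq ι] (V : VCod R ι 7 133 app wfT) (h2 : V.mat one = 1)

theorem m2 : NoStem 2 (mdl (g V h2) dom4) :=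
  have := fin4 V h2
  have : Finite (mdl ((V.sem h1 h2).bg bc) dom4) := this
  have h := Sem.ok_of_slp _ (L4 V h2).ok m2so
  m2ns (Sem.pcRel _ h m2r (allL_iff.1 m2f)) (V.le_pc h1 h2 h m2vc m2lo) (by rw [card4]; decide)

end

end H15.J1
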