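import Cfsg.Agent.H15.J2Aa
import Cfsg.Agent.H15.Quot

/-! The double cover of the Hall-Janko group: tower of enumerations. Multiplier at 2. -/

set_option maxRecDepth 100000
set_option Elab.async false

namespace H15.J2
open H13

noncomputable def m2rl : List (List (List ℕ)) :=
  [[[]],
  [[nat_lit 1, nat_lit 2], [nat_lit 6, nat_lit 7]],
  [[nat_lit 2, nat_lit 6], [nat_lit 2, nat_lit 6], [nat_lit 6]],
  [(unp (nat_lit 3) (nat_lit 0x1e303)), [nat_lit 3, nat_lit 7], (unp (nat_lit 3) (nat_lit 0x1ab03)), (unp (nat_lit 3) (nat_lit 0x1f503))],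
  [[nat_lit 4, nat_lit 6], [nat_lit 4, nat_lit 5], [nat_lit 4, nat_lit 6], [nat_lit 4], [nat_lit 6]],
  [[nat_lit 5, nat_lit 6], [nat_lit 5], [nat_lit 5], [nat_lit 5], [nat_lit 5], []],
  [[nat_lit 6], [nat_lit 6], [nat_lit 6], [nat_lit 6], [nat_lit 6], [nat_lit 6], []],
  [[nat_lit 7], [nat_lit 7], [nat_lit 7], [nat_lit 7], [nat_lit 7], [nat_lit 7], [nat_lit 7], []]]

noncomputable def m2fr : List (ℕ × List ℕ × List ℕ) :=
  [(nat_lit 8, [nat_lit 0], (unp (nat_lit 3) (nat_lit 0x3eb1006))),
  (nat_lit 8, [nat_lit 1], (unp (nat_lit 3) (nat_lit 0xd1a04))),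
  (nat_lit 8, [nat_lit 2], (unp (nat_lit 3) (nat_lit 0x1ec03))),
  (nat_lit 8, [nat_lit 3], (unp (nat_lit 3) (nat_lit 0xf9904))),
  (nat_lit 8, [nat_lit 4, nat_lit 7], (unp (nat_lit 3) (nat_lit 0x7d6205))),
  (nat_lit 8, (unp (nat_lit 3) (nat_lit 0x1f503)), [nat_lit 5, nat_lit 7]),
  (nat_lit 8, [nat_lit 6, nat_lit 7], [nat_lit 6, nat_lit 7]),
  (nat_lit 8, [nat_lit 7], [nat_lit 7]),
  (nat_lit 9, [nat_lit 5], (unp (nat_lit 3) (nat_lit 0xf9004))),
  (nat_lit 9, [nat_lit 7], [nat_lit 7])]

noncomputable def m2D : PC :=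
  ⟨nat_lit 2, nat_lit 8, nat_lit 23, nat_lit 1, nat_lit 14, nat_lit 53, nat_lit 10, m2rl, m2fr⟩

noncomputable def m2cs : List (Cn × ℕ) :=
  [(.con [nat_lit 2] (nat_lit 2) (nat_lit 2), (nat_lit 0x1000000000000000)),
  (.con [nat_lit 4] (nat_lit 4) (nat_lit 4), (nat_lit 0x4000000000000000)),
  (.con [nat_lit 4] (nat_lit 4) (nat_lit 3), (nat_lit 0x2000000000000000)),
  (.con [nat_lit 5] (nat_lit 5) (nat_lit 0), (nat_lit 0x18000000000000000)),
  (.con [nat_lit 1] (nat_lit 1) (nat_lit 1), (nat_lit 0x80800000000000000)),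
  (.con [nat_lit 2] (nat_lit 0) (nat_lit 0), (nat_lit 0x10400000000000000)),
  (.con [nat_lit 5] (nat_lit 2) (nat_lit 2), (nat_lit 0x8000000000000000)),
  (.con [nat_lit 7] (nat_lit 2) (nat_lit 2), (nat_lit 0x1000000000000000000)),
  (.con [nat_lit 1] (nat_lit 0) (nat_lit 0), (nat_lit 0x10000000014000000)),
  (.con [nat_lit 2] (nat_lit 2) (nat_lit 1), (nat_lit 0x11800000000000000)),
  (.con [nat_lit 3] (nat_lit 3) (nat_lit 3), (nat_lit 0x202020000000000000)),
  (.con [nat_lit 5] (nat_lit 1) (nat_lit 1), (nat_lit 0x808000000000000000)),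
  (.con [nat_lit 7] (nat_lit 1) (nat_lit 0), (nat_lit 0x100000000000000000)),
  (.con [nat_lit 4] (nat_lit 4) (nat_lit 1), (nat_lit 0x8c0000000000000)),
  (.con [nat_lit 3] (nat_lit 1) (nat_lit 1), (nat_lit 0x2282000000000000000)),
  (.con [nat_lit 4] (nat_lit 3) (nat_lit 3), (nat_lit 0x404040000000000000)),
  (.con [nat_lit 7] (nat_lit 3) (nat_lit 0), (nat_lit 0x400000000000000000)),
  (.con [nat_lit 3] (nat_lit 0) (nat_lit 0), (nat_lit 0x3450000440000000000)),
  (.con [nat_lit 3] (nat_lit 2) (nat_lit 2), (nat_lit 0x1b090000000000000)),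
  (.con [nat_lit 3] (nat_lit 3) (nat_lit 1), (nat_lit 0x2280808000000000000)),
  (.con [nat_lit 4] (nat_lit 3) (nat_lit 1), (nat_lit 0xc00020000000000000)),
  (.con [nat_lit 1] (nat_lit 1) (nat_lit 0), (nat_lit 0x1051400000018000000)),
  (.con [nat_lit 4] (nat_lit 1) (nat_lit 0), (nat_lit 0x1814100000000000)),
  (.con [nat_lit 3] (nat_lit 3) (nat_lit 0), (nat_lit 0x2648404600000000000)),
  (.con [nat_lit 3] (nat_lit 1) (nat_lit 0), (nat_lit 0xcd40d0181000000000)),
  (.fus (nat_lit 8) [nat_lit 2, nat_lit 2] [nat_lit 6, nat_lit 7], (nat_lit 0x2c000c04000100000c0)),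
  (.fus (nat_lit 8) [nat_lit 3, nat_lit 3] [nat_lit 5], (nat_lit 0x82800000800080020)),
  (.fus (nat_lit 8) [nat_lit 4, nat_lit 4] [nat_lit 6, nat_lit 7], (nat_lit 0x19090d01000100000c0)),
  (.fus (nat_lit 8) [nat_lit 3, nat_lit 2] (unp (nat_lit 3) (nat_lit 0xf5a04)), (nat_lit 0x1e840882810000000a0)),
  (.fus (nat_lit 8) [nat_lit 1, nat_lit 1] [nat_lit 6], (nat_lit 0x18130a0703010080040)),
  (.fus (nat_lit 8) [nat_lit 5, nat_lit 0] (unp (nat_lit 3) (nat_lit 0xfa804)), (nat_lit 0x5054500000000000c0)),
  (.fus (nat_lit 8) [nat_lit 3, nat_lit 1] (unp (nat_lit 3) (nat_lit 0x1d903)), (nat_lit 0x390f840281008000080)),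
  (.fus (nat_lit 9) [nat_lit 8, nat_lit 8] [], (nat_lit 0x3140480000014000400)),
  (.fus (nat_lit 9) [nat_lit 9, nat_lit 8] [nat_lit 8, nat_lit 9], (nat_lit 0x1940000000000000000))]

noncomputable def m2Fs : List ℕ :=
  [(nat_lit 0),
  (nat_lit 0),
  (nat_lit 0x40000),
  (nat_lit 0),
  (nat_lit 0x410080000),
  (nat_lit 0x80000000000),
  (nat_lit 0x10000000),
  (nat_lit 0x10080000)]

noncomputable def m2la : List (List ℕ) :=
  [[(nat_lit 0x30010e532)],
  [(nat_lit 0), (nat_lit 0)],
  [(nat_lit 328), (nat_lit 0x200201861), (nat_lit 0)],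
  [(nat_lit 0), (nat_lit 0x294292a79), (nat_lit 0x24904383d), (nat_lit 0x2ea30a083)],
  [(nat_lit 0x24207002e), (nat_lit 0), (nat_lit 0x4800aaa1), (nat_lit 0x20ad10625), (nat_lit 0x4215563f)],
  [(nat_lit 0x48450aaf), (nat_lit 0x8424d), (nat_lit 0x5a246), (nat_lit 0x110840), (nat_lit 0x18002), (nat_lit 0x1a24b)],
  [(nat_lit 104), (nat_lit 585), (nat_lit 1), (nat_lit 4), (nat_lit 2), (nat_lit 64), (nat_lit 72)],
  [(nat_lit 0x2000018c0), (nat_lit 601), (nat_lit 0x1000), (nat_lit 0x110c44), (nat_lit 0x10000), (nat_lit 2112), (nat_lit 128), (nat_lit 0x114e19)]]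

noncomputable def m2es : List (ℕ × List ℕ) :=
  [((nat_lit 0x1180000000000003e000004000000000000009000000000000023000000e000000100000046000000000000020000001c000000000000000000020000000100000056000001f0000000000000000000050000002b00000000000008c0000056000004300000118000000000000480000000000000f8000010000000000000023), (unp (nat_lit 5) (nat_lit 0x3dd18ce7307))),
  ((nat_lit 0x1680000030000008c0000034000000a800000c8000005e000001a000000600000110000001e00000320000001800000d00000068000002d0000001800000d00000018000000100000090000004c00000180000001000000a800000c8000008c0000034000001680000030000001e0000032000000600000110000005e000001a), (unp (nat_lit 5) (nat_lit 0x88a035af6ce730b))),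
  ((nat_lit 0x1100000010000005e00000400000003800000bc00000100000002000000c00000060000005e00000180000014000000f80000020000000000000228000006c000002c000001f000002180000050000007c000000600000208000006c000003000000180000021800000c4000007c0000002000000c0000001c00000120000005), (unp (nat_lit 5) (nat_lit 0x10340d4d6b1b18ce730e))),
  ((nat_lit 0x120000000000000000000024000001b80000034000000000000240000011800000000000062000003c000001e000000e80000074000000b000000000000000000002c0000037000001b800000c40000000000000000000000000008c000004800000000000018800000f0000004800000000000000000000900000020000003a), (unp (nat_lit 5) (nat_lit 0x1208253dcc7ca3194e7310))),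
  ((nat_lit 0xa000000f8000008000000450000000000000900000024000000f00000228000001c00000460000000000000000000000000001a000003c000002000000010000000000000000000008000000580000050000002b000001a800000e0000008a00000070000011800000000000028000003e00000038000000800000000000023), (unp (nat_lit 5) (nat_lit 0x20d4f635ee846130c))),
  ((nat_lit 0x20000001600000080000005800000000000000000001d0000002c0000074000000b0000005800000c400000480000000000001180000000000001a0000010000000000000090000000000000230000005800000c400000460000000000001200000000000001a000001000000000000008c00000000000024), (unp (nat_lit 5) (nat_lit 0x881094d63e5194e730e))),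
  ((nat_lit 0x1180000000000000e000000200000048000005000000000000023000000100000100000007000000120000020000001140000046000000000000028000000c000008a000000700000000000008c000004c000001e0000009000000cc000003c0000044000000000000000000001e000000900000108000001400000000000000), (unp (nat_lit 5) (nat_lit 0x106129ac7b611946130e))),
  ((nat_lit 0x120000000000000800000045000001f000000cc0000000000002400000228000001c000001e0000035000000380000008000004800000000000021000001100000004000004000000000000009000000420000029000001a80000050000005200000030000000000000000000070000003e00000130000010800000000000000), (unp (nat_lit 5) (nat_lit 0x20c2501ac7b611946130f))),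
  ((nat_lit 0x17000000ec00000380000041000000e000001100000038000003d000000a800000300000088000002700000018000000c000000a00000190000005000000fc0000006000003f000000a80000108000003000000190000011000000f4000000a0000019000001b000000a4000007a0000029000000a8000010800000140000035), (unp (nat_lit 5) (nat_lit 0x5501cf8ca3109))),
  ((nat_lit 0x17000000ec000000a0000038000001e800000bc0000038000003d000001e800001080000010000002e0000017000000140000010000000a00000018000000c000000a00000150000017000000600000006000003f0000012000000c8000003800000190000017000000140000064000001f000001e80000030000000a0000015), (unp (nat_lit 5) (nat_lit 0x154340d4d7b98f6ca730f)))]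

noncomputable def m2lc : List ℕ :=
  mapR Prod.fst m2es

noncomputable def m2v0 : VL :=
  ⟨(nat_lit 0x10000002000000e400000520000024), [[nat_lit 0], [nat_lit 1], [nat_lit 3]], nat_lit 2, [(nat_lit 0xb0e0c90c)], nat_lit 3, nat_lit 8⟩

noncomputable def m2v1 : VL :=
  ⟨(nat_lit 0x8000000000000140000005), [[nat_lit 0, nat_lit 7], [nat_lit 2], [nat_lit 4, nat_lit 7], [nat_lit 5]], nat_lit 3, [(nat_lit 0x3008042c08046040230511c)], nat_lit 4, nat_lit 16⟩

noncomputable def m2v2 : VL :=
  ⟨(nat_lit 0x20000000), [(unp (nat_lit 3) (nat_lit 0x1d003))], nat_lit 1, [(nat_lit 257)], nat_lit 1, nat_lit 2⟩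

noncomputable def m2vl : List VL :=
  [m2v0, m2v1, m2v2]

theorem m2ok : m2D.ok = true := by decide +kernel

theorem m2cn : Nat.beq m2cs.length 34 = true := by decide +kernel

theorem m2h3 : band (Nat.ble m2cs.length m2D.fuel) (allL (fun f => force (m2D.wd f) (bdOk m2D.b m2D.N m2D.t)) m2Fs) = true := by decide +kernel

theorem m2c_0 : rng (fun i => cnOk m2D (nthD (.con [] 0 0, 0) m2cs i)) (nat_lit 0) (nat_lit 34) = true := by decide +kernel

theorem m2t_0 : tgAll m2D m2cs m2Fs m2la (nat_lit 0) (nat_lit 8) = true := by decide +kernel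

theorem m2so : slpOk mul one lc6 m2es = true := by decide +kernel

theorem m2r_0 : rng (pcRow mul one m2lc m2D) (nat_lit 0) (nat_lit 8) = true := by decide +kernel

theorem m2f : allL (fuChk mul one m2lc) m2fr = true := by decide +kernel

theorem m2vc : vchainOk (app 174 1) (wfT 174 1) mul one m2lc [] m2vl = true := by decide +kernel

theorem m2lo : lowOk m2D m2vl = true := by decide +kernel

theorem m2c : ∀ i < 34, (fun i => cnOk m2D (nthD (.con [] 0 0, 0) m2cs i)) i = true :=
  (rng_add rng_zero m2c_0)

theorem m2ns {G : Type*} [Group G] [Finite G] {g : ℕ → G} (R : PcRel m2D g)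
    (hP : m2D.p ^ m2D.n ≤ Nat.card (Subgroup.closure (g '' Set.Iio m2D.n))) (hG : ¬ 2 ^ 9 ∣ Nat.card G) :
    NoStem 2 G :=
  noStem_of (D := m2D) (show Nat.Prime 2 by norm_num) m2ok R (allR m2cn m2c) (rng_add rng_zero (tgAll_rng m2t_0)) m2h3 hP hG

theorem m2r : ∀ i < 8, (pcRow mul one m2lc m2D) i = true :=
  (rng_add rng_zero m2r_0)

section
universe v
variable {R : Type v} {ι : Type} [CommRing R] [Fintype ι] [DecidableEq ι] (V : VCod R ι 6 174 app wfT) (h2 : V.mat one = 1)

theorem m2 : NoStem 2 (mdl (g V h2) dom6) :=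
  have := fin6 V h2
  have : Finite (mdl ((V.sem h1 h2).bg bc) dom6) := this
  have h := Sem.ok_of_slp _ (L6 V h2).ok m2so
  m2ns (Sem.pcRel _ h m2r (allL_iff.1 m2f)) (V.le_pc h1 h2 h m2vc m2lo) (by rw [card6]; decide)

end

noncomputable def m3rl : List (List (List ℕ)) :=
  [[[]],
  [[nat_lit 1, nat_lit 2], []],
  [[nat_lit 2], [nat_lit 2], []]]

noncomputable def m3fr : List (ℕ × List ℕ × List ℕ) :=
  [(nat_lit 3, [nat_lit 0], [nat_lit 0, nat_lit 0]),
  (nat_lit 3, [nat_lit 1], (unp (nat_lit 2) (nat_lit 0x2503))),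
  (nat_lit 3, [nat_lit 2], [nat_lit 2])]

noncomputable def m3D : PC :=
  ⟨nat_lit 3, nat_lit 3, nat_lit 24, nat_lit 2, nat_lit 15, nat_lit 23, nat_lit 3, m3rl, m3fr⟩

noncomputable def m3cs : List (Cn × ℕ) :=
  [(.con [nat_lit 1] (nat_lit 0) (nat_lit 0), (nat_lit 0x800000)),
  (.fus (nat_lit 3) (unp (nat_lit 1) (nat_lit 3)) [], (nat_lit 64)),
  (.fus (nat_lit 3) [nat_lit 2, nat_lit 0] [nat_lit 0, nat_lit 2], (nat_lit 0x40000)),
  (.fus (nat_lit 3) [nat_lit 2, nat_lit 1] [nat_lit 1, nat_lit 2], (nat_lit 0x100000)),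
  (.fus (nat_lit 3) (unp (nat_lit 1) (nat_lit 1795)) [], (nat_lit 0x404000))]

noncomputable def m3Fs : List ℕ :=
  [(nat_lit 0),
  (nat_lit 0),
  (nat_lit 0x1000)]

noncomputable def m3la : List (List ℕ) :=
  [[(nat_lit 8)],
  [(nat_lit 0), (nat_lit 514)],
  [(nat_lit 32), (nat_lit 128), (nat_lit 1)]]

noncomputable def m3es : List (ℕ × List ℕ) :=
  [((nat_lit 0x600000028000002a0000042000001d80000034000005c000001c0000021000000b80000010000000c00000220000009c00000220000041000000e000000f400000560000003000000d000000480000032000000c000001a80000104000000a000001900000170000001400000340000036000000a80000108000000a0000015), (unp (nat_lit 5) (nat_lit 0x1ac6b1f2846130a))),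
  ((nat_lit 0xb0000003c00000440000035000000f800000000000066000000d0000018800000840000000000001f0000020000000b8000004800000000000013000000d4000001e0000026000000000000090000006200000250000002000000000000042000002e0000006800000e00000000000000400000078000001c00000280000016), (unp (nat_lit 5) (nat_lit 0x731f28c65308))),
  ((nat_lit 0x13000000700000014000003b00000028000005400000400000020000000e00000064000003200000420000017000000ec000003c0000032000000c800000300000038000003d0000017000000a00000056000000a000000280000054000007a000000c000001300000070000003200000420000015800000b800000400000020), (unp (nat_lit 5) (nat_lit 0x94e7304))),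
  ((nat_lit 0x600000068000006200000130000001800000c0000003400000180000009800000e400000200000001000000a8000003c0000068000000e000001a000000940000064000003200000188000004c0000040000003b0000023000000300000068000002c000000f000000880000068000004400000020000003c00000440000006), (unp (nat_lit 5) (nat_lit 0xe63e1184e7309)))]

noncomputable def m3lc : List ℕ :=
  mapR Prod.fst m3es

noncomputable def m3v0 : VL :=
  ⟨(nat_lit 0x20000000000001c80000040000008c0000000), [[nat_lit 0], [nat_lit 1]], nat_lit 2, [(nat_lit 0x1a028250d)], nat_lit 4, nat_lit 9⟩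

noncomputable def m3v1 : VL :=
  ⟨(nat_lit 0x400000000000000), [(unp (nat_lit 2) (nat_lit 0x2803))], nat_lit 1, [(nat_lit 770)], nat_lit 2, nat_lit 3⟩

noncomputable def m3vl : List VL :=
  [m3v0, m3v1]

theorem m3ok : m3D.ok = true := by decide +kernel

theorem m3cn : Nat.beq m3cs.length 5 = true := by decide +kernel

theorem m3h3 : band (Nat.ble m3cs.length m3D.fuel) (allL (fun f => force (m3D.wd f) (bdOk m3D.b m3D.N m3D.t)) m3Fs) = true := by decide +kernel

theorem m3c_0 : rng (fun i => cnOk m3D (nthD (.con [] 0 0, 0) m3cs i)) (nat_lit 0) (nat_lit 5) = true := by decide +kernel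

theorem m3t_0 : tgAll m3D m3cs m3Fs m3la (nat_lit 0) (nat_lit 3) = true := by decide +kernel

theorem m3so : slpOk mul one lc6 m3es = true := by decide +kernel

theorem m3r_0 : rng (pcRow mul one m3lc m3D) (nat_lit 0) (nat_lit 3) = true := by decide +kernel

theorem m3f : allL (fuChk mul one m3lc) m3fr = true := by decide +kernel

theorem m3vc : vchainOk (app 174 1) (wfT 174 1) mul one m3lc [] m3vl = true := by decide +kernel

theorem m3lo : lowOk m3D m3vl = true := by decide +kernel

theorem m3c : ∀ i < 5, (fun i => cnOk m3D (nthD (.con [] 0 0, 0) m3cs i)) i = true :=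
  (rng_add rng_zero m3c_0)

theorem m3ns {G : Type*} [Group G] [Finite G] {g : ℕ → G} (R : PcRel m3D g)
    (hP : m3D.p ^ m3D.n ≤ Nat.card (Subgroup.closure (g '' Set.Iio m3D.n))) (hG : ¬ 3 ^ 4 ∣ Nat.card G) :
    NoStem 3 G :=
  noStem_of (D := m3D) (show Nat.Prime 3 by norm_num) m3ok R (allR m3cn m3c) (rng_add rng_zero (tgAll_rng m3t_0)) m3h3 hP hG

theorem m3r : ∀ i < 3, (pcRow mul one m3lc m3D) i = true :=
  (rng_add rng_zero m3r_0)

section
universe v
variable {R : Type v} {ι : Type} [CommRing R] [Fintype ι] [DecidableEq ι] (V : VCod R ι 6 174 app wfT) (h2 : V.mat one = 1)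

theorem m3 : NoStem 3 (mdl (g V h2) dom6) :=
  have := fin6 V h2
  have : Finite (mdl ((V.sem h1 h2).bg bc) dom6) := this
  have h := Sem.ok_of_slp _ (L6 V h2).ok m3so
  m3ns (Sem.pcRel _ h m3r (allL_iff.1 m3f)) (V.le_pc h1 h2 h m3vc m3lo) (by rw [card6]; decide)

end

noncomputable def m5rl : List (List (List ℕ)) :=
  [[[]],
  [[nat_lit 1], []]]

noncomputable def m5fr : List (ℕ × List ℕ × List ℕ) :=
  [(nat_lit 2, [nat_lit 0], (unp (nat_lit 1) (nat_lit 4))),
  (nat_lit 2, [nat_lit 1], (unp (nat_lit 1) (nat_lit 2052))),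
  (nat_lit 3, [nat_lit 0], (unp (nat_lit 1) (nat_lit 1027)))]

noncomputable def m5D : PC :=
  ⟨nat_lit 5, nat_lit 2, nat_lit 27, nat_lit 3, nat_lit 16, nat_lit 57, nat_lit 3, m5rl, m5fr⟩

noncomputable def m5cs : List (Cn × ℕ) :=
  [(.fus (nat_lit 2) (unp (nat_lit 1) (nat_lit 5)) [], (nat_lit 1536)),
  (.fus (nat_lit 2) [nat_lit 1, nat_lit 0] [nat_lit 0, nat_lit 1], (nat_lit 0x18000)),
  (.fus (nat_lit 3) (unp (nat_lit 2) (nat_lit 0x2aa05)) [], (nat_lit 0x40200))]

noncomputable def m5Fs : List ℕ :=
  [(nat_lit 0),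
  (nat_lit 0)]

noncomputable def m5la : List (List ℕ) :=
  [[(nat_lit 3)],
  [(nat_lit 24), (nat_lit 258)]]

noncomputable def m5es : List (ℕ × List ℕ) :=
  [((nat_lit 0x440000028000003a000000b0000003c0000060000001f000000b0000003c0000066000000d000000000000000000006a0000026000001180000074000000000000000000011000000340000032000002800000180000007c00000620000038000000a000000e800000000000036000000a000000e8000002c000000f), (unp (nat_lit 5) (nat_lit 0x106a635ee846130b))),
  ((nat_lit 0x208000003000000380000019000000c800000ac00000560000032000001e800000300000018000000a00000220000009c000007a000004200000060000006c0000056000000300000210000003c000002e000003b000000600000028000005c00000180000005000000d4000005c000001c000001f800000f40000022000001e), (unp (nat_lit 5) (nat_lit 0x83094c6bdaf746518ce7311))),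
  ((nat_lit 0x6a000002600000150000008c00000000000000000001100000034000003e00000190000014000000c0000002c000000f000001d000000cc00000220000000000001980000034000001e00000310000008800000000000028000003a000001c00000058000003e0000017000000b0000003c00000740000033), (unp (nat_lit 5) (nat_lit 0x550d406bdaf74a730d))),
  ((nat_lit 0x17800000f000000220000016000000b0000007c00000380000018000000b00000038000003e00000090000004800000a0000003e000000900000138000007c000005000000160000018800000a0000007c00000200000007000000c4000005e000001c000000f8000002400000620000011000001e0000006000000620000028), (unp (nat_lit 5) (nat_lit 0x904129ec6b1f28c6130f)))]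

noncomputable def m5lc : List ℕ :=
  mapR Prod.fst m5es

noncomputable def m5v0 : VL :=
  ⟨(nat_lit 0x200000000000003800000b00000080000001b), [[nat_lit 0], [nat_lit 1]], nat_lit 2, [(nat_lit 0xa0906)], nat_lit 3, nat_lit 5⟩

noncomputable def m5v1 : VL :=
  ⟨(nat_lit 0x100000000000000000000000000000), [(unp (nat_lit 1) (nat_lit 1539))], nat_lit 1, [(nat_lit 3844)], nat_lit 3, nat_lit 5⟩

noncomputable def m5vl : List VL :=
  [m5v0, m5v1]

theorem m5ok : m5D.ok = true := by decide +kernel

theorem m5cn : Nat.beq m5cs.length 3 = true := by decide +kernel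

theorem m5h3 : band (Nat.ble m5cs.length m5D.fuel) (allL (fun f => force (m5D.wd f) (bdOk m5D.b m5D.N m5D.t)) m5Fs) = true := by decide +kernel

theorem m5c_0 : rng (fun i => cnOk m5D (nthD (.con [] 0 0, 0) m5cs i)) (nat_lit 0) (nat_lit 3) = true := by decide +kernel

theorem m5t_0 : tgAll m5D m5cs m5Fs m5la (nat_lit 0) (nat_lit 2) = true := by decide +kernel

theorem m5so : slpOk mul one lc6 m5es = true := by decide +kernel

theorem m5r_0 : rng (pcRow mul one m5lc m5D) (nat_lit 0) (nat_lit 2) = true := by decide +kernel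

theorem m5f : allL (fuChk mul one m5lc) m5fr = true := by decide +kernel

theorem m5vc : vchainOk (app 174 1) (wfT 174 1) mul one m5lc [] m5vl = true := by decide +kernel

theorem m5lo : lowOk m5D m5vl = true := by decide +kernel

theorem m5c : ∀ i < 3, (fun i => cnOk m5D (nthD (.con [] 0 0, 0) m5cs i)) i = true :=
  (rng_add rng_zero m5c_0)

theorem m5ns {G : Type*} [Group G] [Finite G] {g : ℕ → G} (R : PcRel m5D g)
    (hP : m5D.p ^ m5D.n ≤ Nat.card (Subgroup.closure (g '' Set.Iio m5D.n))) (hG : ¬ 5 ^ 3 ∣ Nat.card G) :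
    NoStem 5 G :=
  noStem_of (D := m5D) (show Nat.Prime 5 by norm_num) m5ok R (allR m5cn m5c) (rng_add rng_zero (tgAll_rng m5t_0)) m5h3 hP hG

theorem m5r : ∀ i < 2, (pcRow mul one m5lc m5D) i = true :=
  (rng_add rng_zero m5r_0)

section
universe v
variable {R : Type v} {ι : Type} [CommRing R] [Fintype ι] [DecidableEq ι] (V : VCod R ι 6 174 app wfT) (h2 : V.mat one = 1)

theorem m5 : NoStem 5 (mdl (g V h2) dom6) :=
  have := fin6 V h2
  have : Finite (mdl ((V.sem h1 h2).bg bc) dom6) := this
  have h := Sem.ok_of_slp _ (L6 V h2).ok m5so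
  m5ns (Sem.pcRel _ h m5r (allL_iff.1 m5f)) (V.le_pc h1 h2 h m5vc m5lo) (by rw [card6]; decide)

end

end H15.J2
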