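import Cfsg.Agent.H15.J3Aa
import Cfsg.Agent.H15.Tails

/-! The triple cover of the third Janko group: tower of enumerations. Multiplier at 2. -/

set_option maxRecDepth 100000
set_option Elab.async false

namespace H15.J3
open H13

noncomputable def m2rl : List (List (List ℕ)) :=
  [[[]],
  [(unp (nat_lit 3) (nat_lit 0x19903)), [nat_lit 3]],
  [(unp (nat_lit 3) (nat_lit 0x6b1a05)), [nat_lit 2, nat_lit 4], (unp (nat_lit 3) (nat_lit 0x1a303))],
  [[nat_lit 3, nat_lit 6], [nat_lit 3], [nat_lit 3, nat_lit 5], [nat_lit 6]],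
  [[nat_lit 4, nat_lit 6], (unp (nat_lit 3) (nat_lit 0x1ac03)), [nat_lit 4, nat_lit 5], [nat_lit 4, nat_lit 6], [nat_lit 6]],
  [[nat_lit 5, nat_lit 6], [nat_lit 5, nat_lit 6], [nat_lit 5, nat_lit 6], [nat_lit 5], [nat_lit 5], []],
  [[nat_lit 6], [nat_lit 6], [nat_lit 6], [nat_lit 6], [nat_lit 6], [nat_lit 6], []]]

noncomputable def m2fr : List (ℕ × List ℕ × List ℕ) :=
  [(nat_lit 7, [nat_lit 0], [nat_lit 5, nat_lit 6]),
  (nat_lit 7, [nat_lit 3], (unp (nat_lit 3) (nat_lit 0x15803))),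
  (nat_lit 7, [nat_lit 4], (unp (nat_lit 3) (nat_lit 0x16003))),
  (nat_lit 7, [nat_lit 5], (unp (nat_lit 3) (nat_lit 0xb1804))),
  (nat_lit 7, [nat_lit 6], [nat_lit 6]),
  (nat_lit 8, (unp (nat_lit 3) (nat_lit 0x15003)), (unp (nat_lit 3) (nat_lit 0x15803))),
  (nat_lit 8, (unp (nat_lit 3) (nat_lit 0x11103)), (unp (nat_lit 3) (nat_lit 0x1a303))),
  (nat_lit 8, [nat_lit 5], [nat_lit 6]),
  (nat_lit 9, (unp (nat_lit 3) (nat_lit 0xad104)), [nat_lit 6])]

noncomputable def m2D : PC :=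
  ⟨nat_lit 2, nat_lit 7, nat_lit 23, nat_lit 1, nat_lit 14, nat_lit 51, nat_lit 9, m2rl, m2fr⟩

noncomputable def m2cs : List (Cn × ℕ) :=
  [(.con [nat_lit 1] (nat_lit 1) (nat_lit 1), (nat_lit 0x80000000)),
  (.con [nat_lit 3] (nat_lit 3) (nat_lit 3), (nat_lit 0x40000000000000)),
  (.con [nat_lit 4] (nat_lit 4) (nat_lit 4), (nat_lit 0x80000000000000)),
  (.con [nat_lit 3] (nat_lit 3) (nat_lit 1), (nat_lit 0x10000000000000)),
  (.con [nat_lit 5] (nat_lit 5) (nat_lit 0), (nat_lit 0x300000000000000)),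
  (.con [nat_lit 3] (nat_lit 0) (nat_lit 0), (nat_lit 0x208000000000000)),
  (.con [nat_lit 5] (nat_lit 3) (nat_lit 3), (nat_lit 0x100000000000000)),
  (.con [nat_lit 5] (nat_lit 1) (nat_lit 1), (nat_lit 0x210800000000000)),
  (.con [nat_lit 3] (nat_lit 3) (nat_lit 2), (nat_lit 0x22800000000000)),
  (.con [nat_lit 4] (nat_lit 4) (nat_lit 2), (nat_lit 0x23000000000000)),
  (.con [nat_lit 1] (nat_lit 0) (nat_lit 0), (nat_lit 0x48000240000000)),
  (.con [nat_lit 2] (nat_lit 2) (nat_lit 2), (nat_lit 0x23008100000000)),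
  (.con [nat_lit 4] (nat_lit 4) (nat_lit 1), (nat_lit 0x393000000000000)),
  (.con [nat_lit 4] (nat_lit 1) (nat_lit 1), (nat_lit 0x312210000000000)),
  (.con [nat_lit 2] (nat_lit 1) (nat_lit 1), (nat_lit 0x202024100000000)),
  (.con [nat_lit 4] (nat_lit 2) (nat_lit 2), (nat_lit 0x2410000000000)),
  (.con [nat_lit 4] (nat_lit 1) (nat_lit 0), (nat_lit 0x198910000000000)),
  (.con [nat_lit 2] (nat_lit 0) (nat_lit 0), (nat_lit 0x1cb932240000000)),
  (.fus (nat_lit 7) [nat_lit 0, nat_lit 0] [], (nat_lit 0x302000000000200)),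
  (.fus (nat_lit 7) [nat_lit 1, nat_lit 0] (unp (nat_lit 3) (nat_lit 0x10803)), (nat_lit 0x208900040000010)),
  (.fus (nat_lit 7) [nat_lit 2, nat_lit 0] (unp (nat_lit 3) (nat_lit 0x11003)), (nat_lit 0x209102000000010)),
  (.fus (nat_lit 7) [nat_lit 3, nat_lit 0] (unp (nat_lit 3) (nat_lit 0x11803)), (nat_lit 0x209800000000010)),
  (.fus (nat_lit 8) [nat_lit 5, nat_lit 5] [nat_lit 7], (nat_lit 0x43838142800080)),
  (.fus (nat_lit 8) [nat_lit 6, nat_lit 6] [nat_lit 7], (nat_lit 0x203024003020080)),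
  (.fus (nat_lit 8) [nat_lit 6, nat_lit 5] (unp (nat_lit 3) (nat_lit 0x1f503)), (nat_lit 0x1a8618341810080)),
  (.fus (nat_lit 9) [nat_lit 8, nat_lit 8] [], (nat_lit 0x161238183020000))]

noncomputable def m2Fs : List ℕ :=
  [(nat_lit 0),
  (nat_lit 0),
  (nat_lit 0),
  (nat_lit 0x20000),
  (nat_lit 0x1000000),
  (nat_lit 0x100000000),
  (nat_lit 0x200000000)]

noncomputable def m2la : List (List ℕ) :=
  [[(nat_lit 0x413d4)],
  [(nat_lit 0x3408aad), (nat_lit 0)],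
  [(nat_lit 0xf24934), (nat_lit 0), (nat_lit 0x21b3b4d)],
  [(nat_lit 1138), (nat_lit 1), (nat_lit 0), (nat_lit 0)],
  [(nat_lit 0x180772), (nat_lit 0x1b4082), (nat_lit 2560), (nat_lit 0x29074e), (nat_lit 0x1b1316)],
  [(nat_lit 0x2807aa), (nat_lit 0x293492), (nat_lit 0x29948a), (nat_lit 216), (nat_lit 984), (nat_lit 0x13c4)],
  [(nat_lit 112), (nat_lit 8), (nat_lit 0x121c), (nat_lit 2), (nat_lit 4), (nat_lit 64), (nat_lit 80)]]

noncomputable def m2es : List (ℕ × List ℕ) :=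
  [((nat_lit 0x3408358794af668a3e41e4c30bc92b4c4d89cccf), (unp (nat_lit 4) (nat_lit 0x6c6c6b6a6ed0b))),
  ((nat_lit 0xcd2436aade6b6424126ea7b068ba1573c8c1ec2c), (unp (nat_lit 4) (nat_lit 0x84856868a6c6a6b6bd12))),
  ((nat_lit 0x1aadee8f688021c29068e4200d566f96bb75a1808), (unp (nat_lit 4) (nat_lit 0x358658b6a6ca6adf10))),
  ((nat_lit 0x72a92e080efcdfbf39e06e38aa959b1ff5d4d375), (unp (nat_lit 4) (nat_lit 0x4484228c6b6a6ed0f))),
  ((nat_lit 0x1f8e294bb27872d1f1cbc4acc6f7ac1e39f47531b), (unp (nat_lit 4) (nat_lit 0x8568486b6c6c6a6d10))),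
  ((nat_lit 0x180c4883aa12f80cbc95cc5392d4250b0eaecc47d), (unp (nat_lit 4) (nat_lit 0x25368386b6b6c6edf11))),
  ((nat_lit 0x1a72e8ae52636125413854112ca1112a980db9198), [nat_lit 8]),
  ((nat_lit 0x17febb991d5dd9be3b16999393240a371a53af63a), (unp (nat_lit 4) (nat_lit 0x5865228c6a6c6a6cedf13))),
  ((nat_lit 0x1ed7f68cd35633cdcece13d5f79eaad6a7ef2bd01), (unp (nat_lit 4) (nat_lit 0x5822853806cb0c))),
  ((nat_lit 0x414012b2c9cfa58b34a33c68ee02c91c46b39084), (unp (nat_lit 4) (nat_lit 0x48682228b6ca6b6c6f12)))]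

noncomputable def m2lc : List ℕ :=
  mapR Prod.fst m2es

noncomputable def m2v0 : VL :=
  ⟨(nat_lit 0x14c8), [[nat_lit 0], [nat_lit 1], [nat_lit 2]], nat_lit 2, [(nat_lit 0x30e05)], nat_lit 2, nat_lit 4⟩

noncomputable def m2v1 : VL :=
  ⟨(nat_lit 0x7089), [[nat_lit 0], [nat_lit 3], [nat_lit 4], [nat_lit 5]], nat_lit 3, [(nat_lit 0x402305)], nat_lit 2, nat_lit 4⟩

noncomputable def m2v2 : VL :=
  ⟨(nat_lit 0x1a12), [[nat_lit 0], [nat_lit 3]], nat_lit 2, [(nat_lit 257)], nat_lit 1, nat_lit 2⟩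

noncomputable def m2v3 : VL :=
  ⟨(nat_lit 2085), [[nat_lit 0, nat_lit 3], [nat_lit 6]], nat_lit 2, [(nat_lit 257)], nat_lit 1, nat_lit 2⟩

noncomputable def m2v4 : VL :=
  ⟨(nat_lit 2), [(unp (nat_lit 3) (nat_lit 0x19803))], nat_lit 1, [(nat_lit 257)], nat_lit 1, nat_lit 2⟩

noncomputable def m2vl : List VL :=
  [m2v0, m2v1, m2v2, m2v3, m2v4]

theorem m2ok : m2D.ok = true := by decide +kernel

theorem m2cn : Nat.beq m2cs.length 26 = true := by decide +kernel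

theorem m2h3 : band (Nat.ble m2cs.length m2D.fuel) (allL (fun f => force (m2D.wd f) (bdOk m2D.b m2D.N m2D.t)) m2Fs) = true := by decide +kernel

theorem m2c_0 : rng (fun i => cnOk m2D (nthD (.con [] 0 0, 0) m2cs i)) (nat_lit 0) (nat_lit 26) = true := by decide +kernel

theorem m2t_0 : tgAll m2D m2cs m2Fs m2la (nat_lit 0) (nat_lit 7) = true := by decide +kernel

theorem m2so : slpOk mul one lc5 m2es = true := by decide +kernel

theorem m2r_0 : rng (pcRow mul one m2lc m2D) (nat_lit 0) (nat_lit 7) = true := by decide +kernel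

theorem m2f : allL (fuChk mul one m2lc) m2fr = true := by decide +kernel

theorem m2vc : vchainOk (app 18 1) (wfT 18 1) mul one m2lc [] m2vl = true := by decide +kernel

theorem m2lo : lowOk m2D m2vl = true := by decide +kernel

theorem m2c : ∀ i < 26, (fun i => cnOk m2D (nthD (.con [] 0 0, 0) m2cs i)) i = true :=
  (rng_add rng_zero m2c_0)

theorem m2ns {G : Type*} [Group G] [Finite G] {g : ℕ → G} (R : PcRel m2D g)
    (hP : m2D.p ^ m2D.n ≤ Nat.card (Subgroup.closure (g '' Set.Iio m2D.n))) (hG : ¬ 2 ^ 8 ∣ Nat.card G) :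
    NoStem 2 G :=
  noStem_of (D := m2D) (show Nat.Prime 2 by norm_num) m2ok R (allR m2cn m2c) (rng_add rng_zero (tgAll_rng m2t_0)) m2h3 hP hG

theorem m2r : ∀ i < 7, (pcRow mul one m2lc m2D) i = true :=
  (rng_add rng_zero m2r_0)

section
universe v
variable {R : Type v} {ι : Type} [CommRing R] [Fintype ι] [DecidableEq ι] (V : VCod R ι 9 18 app wfT) (h2 : V.mat one = 1)

theorem m2 : NoStem 2 (mdl (g V h2) dom5) :=
  have := fin5 V h2
  have : Finite (mdl ((V.sem h1 h2).bg bc) dom5) := this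
  have h := Sem.ok_of_slp _ (L5 V h2).ok m2so
  m2ns (Sem.pcRel _ h m2r (allL_iff.1 m2f)) (V.le_pc h1 h2 h m2vc m2lo) (by rw [card5]; decide)

end

end H15.J3
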