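import Cfsg.Agent.H15.J3Aa
import Cfsg.Agent.H15.Tails

/-! The triple cover of the third Janko group: tower of enumerations. Multiplier at 3. -/

set_option maxRecDepth 100000
set_option Elab.async false

namespace H15.J3
open H13

noncomputable def m3rl : List (List (List ℕ)) :=
  [[[nat_lit 4]],
  [(unp (nat_lit 3) (nat_lit 0x8d104)), [nat_lit 3, nat_lit 3]],
  [(unp (nat_lit 3) (nat_lit 0xada04)), (unp (nat_lit 3) (nat_lit 0xb2204)), []],
  [[nat_lit 3, nat_lit 5], [nat_lit 3], [nat_lit 3], []],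
  [[nat_lit 4], [nat_lit 4, nat_lit 5], [nat_lit 4], [nat_lit 4], []],
  [[nat_lit 5], [nat_lit 5], [nat_lit 5], [nat_lit 5], [nat_lit 5], []]]

noncomputable def m3fr : List (ℕ × List ℕ × List ℕ) :=
  [(nat_lit 6, [nat_lit 0], (unp (nat_lit 3) (nat_lit 0x16c44007))),
  (nat_lit 6, [nat_lit 1], (unp (nat_lit 3) (nat_lit 0x58d224009))),
  (nat_lit 6, (unp (nat_lit 3) (nat_lit 0x11a03)), (unp (nat_lit 2) (nat_lit 0xfa04))),
  (nat_lit 6, [nat_lit 3], (unp (nat_lit 3) (nat_lit 0x12303))),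
  (nat_lit 6, [nat_lit 4], [nat_lit 3, nat_lit 4]),
  (nat_lit 6, [nat_lit 5], [nat_lit 5])]

noncomputable def m3D : PC :=
  ⟨nat_lit 3, nat_lit 6, nat_lit 28, nat_lit 2, nat_lit 15, nat_lit 455, nat_lit 6, m3rl, m3fr⟩

noncomputable def m3cs : List (Cn × ℕ) :=
  [(.con [nat_lit 0] (nat_lit 0) (nat_lit 0), (nat_lit 0x2000000000000000)),
  (.con [nat_lit 1] (nat_lit 1) (nat_lit 1), (nat_lit 0x4000000000000)),
  (.con [nat_lit 5] (nat_lit 0) (nat_lit 0), (nat_lit 0x100000000000000000000)),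
  (.con [nat_lit 5] (nat_lit 1) (nat_lit 1), (nat_lit 0x80000000000000000000)),
  (.con [nat_lit 3, nat_lit 3] (nat_lit 3) (nat_lit 0), (nat_lit 0x400000000000000000000)),
  (.con [nat_lit 3] (nat_lit 0) (nat_lit 0), (nat_lit 0x800080000000000000000)),
  (.con [nat_lit 5] (nat_lit 1) (nat_lit 0), (nat_lit 0x150000000000000000000)),
  (.con [nat_lit 3] (nat_lit 1) (nat_lit 0), (nat_lit 0x154080010000000000000)),
  (.con [nat_lit 4] (nat_lit 1) (nat_lit 0), (nat_lit 0x152050000000000000000)),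
  (.con [nat_lit 2, nat_lit 2] (nat_lit 2) (nat_lit 0), (nat_lit 0x400000080000000000000)),
  (.con [nat_lit 2, nat_lit 2] (nat_lit 2) (nat_lit 1), (nat_lit 0x400200000000000000000)),
  (.con [nat_lit 1] (nat_lit 0) (nat_lit 0), (nat_lit 0x561248011020000000000)),
  (.con [nat_lit 1, nat_lit 1] (nat_lit 1) (nat_lit 0), (nat_lit 0x4a8018041010000000000)),
  (.fus (nat_lit 6) [nat_lit 5, nat_lit 0] [nat_lit 0, nat_lit 5], (nat_lit 0x115000000000000000000)),
  (.fus (nat_lit 6) [nat_lit 5, nat_lit 1] [nat_lit 1, nat_lit 5], (nat_lit 0x166000000000000000000)),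
  (.fus (nat_lit 6) [nat_lit 4, nat_lit 1] (unp (nat_lit 3) (nat_lit 0x16103)), (nat_lit 0x62902602a000000000800)),
  (.fus (nat_lit 6) [nat_lit 2, nat_lit 0] (unp (nat_lit 3) (nat_lit 0x2d6d006)), (nat_lit 0x8910120a5008000000440)),
  (.fus (nat_lit 6) [nat_lit 2, nat_lit 1] (unp (nat_lit 3) (nat_lit 0x2d91106)), (nat_lit 0x249200096001000000500)),
  (.fus (nat_lit 6) (unp (nat_lit 1) (nat_lit 3)) [nat_lit 4], (nat_lit 0x886028092005004001200)),
  (.fus (nat_lit 6) (unp (nat_lit 1) (nat_lit 1795)) [nat_lit 3, nat_lit 3], (nat_lit 0x219284062016004002040))]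

noncomputable def m3Fs : List ℕ :=
  [(nat_lit 0),
  (nat_lit 0),
  (nat_lit 0x5002000),
  (nat_lit 0x8000000),
  (nat_lit 0x1000),
  (nat_lit 0x1000000000000)]

noncomputable def m3la : List (List ℕ) :=
  [[(nat_lit 0)],
  [(nat_lit 0), (nat_lit 0)],
  [(nat_lit 0xa91a5a6052), (nat_lit 0x95aa648090), (nat_lit 0x1964150)],
  [(nat_lit 0), (nat_lit 8), (nat_lit 0x280095a0), (nat_lit 0x40200)],
  [(nat_lit 1), (nat_lit 0x12994910), (nat_lit 0x24022a20), (nat_lit 1280), (nat_lit 0x100200)],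
  [(nat_lit 0x24001020), (nat_lit 0x14000050), (nat_lit 0x2090), (nat_lit 64), (nat_lit 32), (nat_lit 512)]]

noncomputable def m3es : List (ℕ × List ℕ) :=
  [((nat_lit 0x4000080001804010000001000020000400008), (unp (nat_lit 4) (nat_lit 0x56338638c6ca6b6c6d12))),
  ((nat_lit 0x40800000080000204020000400001000100002), (unp (nat_lit 4) (nat_lit 0x682858280c6b6a6cbd12))),
  ((nat_lit 0x20100402008000100802010040000800010000001), (unp (nat_lit 4) (nat_lit 0x6842806ca6ca6c6cdf12))),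
  ((nat_lit 0x20100402008040100002000040000004000080001), (unp (nat_lit 4) (nat_lit 0x635852816a6c6c6b6a12))),
  ((nat_lit 0x20100400000040100802000000200804010000001), (unp (nat_lit 4) (nat_lit 0x635822286ca6b6a610))),
  ((nat_lit 0x20000400008000100002000040000800010000200), [nat_lit 0]),
  ((nat_lit 0x2000200100001000004000400020002000001), (unp (nat_lit 4) (nat_lit 0x638585280c6c6a6cd11)))]

noncomputable def m3lc : List ℕ :=
  mapR Prod.fst m3es

noncomputable def m3v0 : VL :=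
  ⟨(nat_lit 1), [[nat_lit 0], [nat_lit 1]], nat_lit 2, [(nat_lit 0x1a002a02098015580208215a531)], nat_lit 5, nat_lit 27⟩

noncomputable def m3v1 : VL :=
  ⟨(nat_lit 8), [[nat_lit 2], [nat_lit 3], [nat_lit 4]], nat_lit 2, [(nat_lit 1282)], nat_lit 2, nat_lit 3⟩

noncomputable def m3v2 : VL :=
  ⟨(nat_lit 128), [(unp (nat_lit 2) (nat_lit 0x3e03)), [nat_lit 4]], nat_lit 2, [(nat_lit 2562)], nat_lit 2, nat_lit 3⟩

noncomputable def m3v3 : VL :=
  ⟨(nat_lit 16), [(unp (nat_lit 2) (nat_lit 0x3e03))], nat_lit 1, [(nat_lit 770)], nat_lit 2, nat_lit 3⟩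

noncomputable def m3vl : List VL :=
  [m3v0, m3v1, m3v2, m3v3]

theorem m3ok : m3D.ok = true := by decide +kernel

theorem m3cn : Nat.beq m3cs.length 20 = true := by decide +kernel

theorem m3h3 : band (Nat.ble m3cs.length m3D.fuel) (allL (fun f => force (m3D.wd f) (bdOk m3D.b m3D.N m3D.t)) m3Fs) = true := by decide +kernel

theorem m3c_0 : rng (fun i => cnOk m3D (nthD (.con [] 0 0, 0) m3cs i)) (nat_lit 0) (nat_lit 20) = true := by decide +kernel

theorem m3t_0 : tgAll m3D m3cs m3Fs m3la (nat_lit 0) (nat_lit 6) = true := by decide +kernel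

theorem m3so : slpOk mul one lc5 m3es = true := by decide +kernel

theorem m3r_0 : rng (pcRow mul one m3lc m3D) (nat_lit 0) (nat_lit 6) = true := by decide +kernel

theorem m3f : allL (fuChk mul one m3lc) m3fr = true := by decide +kernel

theorem m3vc : vchainOk (app 18 1) (wfT 18 1) mul one m3lc [] m3vl = true := by decide +kernel

theorem m3lo : lowOk m3D m3vl = true := by decide +kernel

theorem m3c : ∀ i < 20, (fun i => cnOk m3D (nthD (.con [] 0 0, 0) m3cs i)) i = true :=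
  (rng_add rng_zero m3c_0)

theorem m3ns {G : Type*} [Group G] [Finite G] {g : ℕ → G} (R : PcRel m3D g)
    (hP : m3D.p ^ m3D.n ≤ Nat.card (Subgroup.closure (g '' Set.Iio m3D.n))) (hG : ¬ 3 ^ 7 ∣ Nat.card G) :
    NoStem 3 G :=
  noStem_of (D := m3D) (show Nat.Prime 3 by norm_num) m3ok R (allR m3cn m3c) (rng_add rng_zero (tgAll_rng m3t_0)) m3h3 hP hG

theorem m3r : ∀ i < 6, (pcRow mul one m3lc m3D) i = true :=
  (rng_add rng_zero m3r_0)

section
universe v
variable {R : Type v} {ι : Type} [CommRing R] [Fintype ι] [DecidableEq ι] (V : VCod R ι 9 18 app wfT) (h2 : V.mat one = 1)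

theorem m3 : NoStem 3 (mdl (g V h2) dom5) :=
  have := fin5 V h2
  have : Finite (mdl ((V.sem h1 h2).bg bc) dom5) := this
  have h := Sem.ok_of_slp _ (L5 V h2).ok m3so
  m3ns (Sem.pcRel _ h m3r (allL_iff.1 m3f)) (V.le_pc h1 h2 h m3vc m3lo) (by rw [card5]; decide)

end

end H15.J3
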