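import Cfsg.Agent.H15.J3
import Cfsg.Agent.H15.J3Ag

/-! The third Janko group: involutions and fusion (namespace H15.J3). -/

namespace H15.J3
open H13 Cfsg Subgroup

universe v w
variable {R : Type v} {ι : Type} [CommRing R] [Fintype ι] [DecidableEq ι] (V : VCod R ι 9 18 app wfT)
  (h2 : V.mat one = 1)

theorem invol : (∀ x y : mdl (g V h2) dom5 ⧸ center _, orderOf x = 2 → orderOf y = 2 → IsConj x y) ∧
    (∃ (t : mdl (g V h2) dom5 ⧸ center _) (Q : Subgroup _), Nat.card Q = 32 ∧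
      (∃ f : alternatingGroup (Fin 5) →* _, Ext t Q f) ∧
      ∀ E : Subgroup (Q.subgroupOf (centralizer {t})), IsElementaryAbelian 2 E → Nat.card E ≤ 2 ^ 2) ∧
    ∀ {G : Type w} [Group G] (_ : mdl (g V h2) dom5 ⧸ center _ ≃* G) (P : Sylow 2 G),
      (groupFusionSystem (P : Subgroup G)).IsSimple 2 := by
  have := fin5 V h2
  have C := cov V h2
  have I := (sinj V h2).sub (mdl (g V h2) dom5)
  have L := L5 V h2
  have J := C.inj (zs := zs) I L (by decide +kernel)
  have hz := zs_ok L.ok (zs := zs) (z := [0]) (o := 3) (by decide +kernel)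
  have o := Sem.ok_of_slp _ L.ok fle_so
  obtain ⟨h0, hg⟩ := canon_ok hz J I cone_eq o fl_eq
  have I' := canon_inj hz J I cone_eq
  obtain ⟨EQ, cQ⟩ := en_of I' h0 fq_ok
  obtain ⟨EP, cP⟩ := en_of I' h0 fs_ok
  have hC := card_cent_le' I (π := QuotientGroup.mk' _) (a := 1920) (fun z hz => by
    have c := (QuotientGroup.eq_one_iff z).1 hz
    exact ⟨c, C.card_center ▸ congrArg Subtype.val (pow_card_eq_one' (x := (⟨z, c⟩ : center _)))⟩) o fc_ok
    (by decide +kernel) C.card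
  rw [← hg] at hC
  exact ⟨conj_all I' h0 EP (k := 7) (m := 392445) cP C.card (by decide) fi_ok, ⟨_, _, cQ, ext_of I' h0 EQ cQ f5 fx hC⟩,
    fus_of I' h0 EQ EP cQ cP (by rw [C.card]; decide) f5 fx hC ff⟩

end H15.J3
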