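import Cfsg.Agent.H15.J4Ae
import Cfsg.Agent.H15.J4MAa
import Cfsg.Prelude.Def_Sporadic

/-! The fourth Janko group: a model in dimension 112, its order and simplicity (namespace H15.J4). -/

set_option maxRecDepth 100000

namespace H15.J4
open H13 Cfsg

/-- the coding of vectors of length 12 -/
noncomputable def V12 : VCod (ZMod 2) (Fin 12) 12 12 app wfT := vcodB (Equiv.refl _) (by decide)

theorem h12 : V12.mat one = 1 := V12.mat_one Nat.cast_zero Nat.cast_one (by decide +kernel)

/-- the subgroup of index 173067389 -/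
noncomputable abbrev H : Type := mdl (g V12 h12) dom9

instance : Finite H := fin9 V12 h12

/-- the coding of vectors of length 112 -/
noncomputable def V : VCod (ZMod 2) (Fin 112) 112 112 J4M.app J4M.wfT := vcodB (Equiv.refl _) (by decide)

theorem h2 : V.mat J4M.one = 1 := V.mat_one Nat.cast_zero Nat.cast_one (by decide +kernel)

/-- the model of the fourth Janko group -/
def M : Type := J4M.M V h2

noncomputable instance : Group M := inferInstanceAs (Group (J4M.M V h2))

/-- its generators -/
noncomputable def gm : ℕ → M := mgen (J4M.g V h2) (List.range 10)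

theorem rel : Rels R10 gm := (J4M.rr_m V h2).sub (by decide +kernel)

theorem gm_top : mdl gm (List.range 10) = ⊤ := mdl_mgen _ _

theorem U10 : UP.{0} (mgen (g V12 h12) dom9) dom9 R10 := (U9 V12 h12).weaken fun _ _ _ h => h.left

theorem fin_le : Finite M ∧ Nat.card M ≤ 86775571046077562880 := by
  have := (C9 V12 h12).card_le U10 rel
  rw [show mdl gm [0, 1, 2, 3, 4, 5, 6, 7, 8, 9] = ⊤ from gm_top, Subgroup.card_top, card9, pk9] at this
  exact ⟨have := this.1; Subgroup.topEquiv.toEquiv.finite_iff.1 this, this.2⟩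

instance : Finite M := fin_le.1

theorem card_M : Nat.card M = 86775571046077562880 := by
  have c := @Nat.Coprime.mul_dvd_of_dvd_of_dvd
  have : Finite (J4M.M V h2) := fin_le.1
  exact fin_le.2.antisymm (Nat.le_of_dvd Nat.card_pos (c (by norm_num) (c (by norm_num) (c (by norm_num) (c (by norm_num)
    (c (by norm_num) (c (by norm_num) (c (by norm_num) (c (by norm_num) (c (by norm_num) (J4M.m2d V h2) (J4M.m3d V h2))
    (J4M.m11d V h2)) (J4M.o5 V h2)) (J4M.o7 V h2)) (J4M.o23 V h2)) (J4M.o29 V h2)) (J4M.o31 V h2)) (J4M.o37 V h2))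
    (J4M.o43 V h2)))

/-- the embedding of the subgroup -/
noncomputable def ψ : H →* M := (U10 _ _ rel).choose

theorem hψ : ∀ i ∈ dom9, ψ (mgen (g V12 h12) dom9 i) = gm i := (U10 _ _ rel).choose_spec

theorem range_dvd : Nat.card ψ.range ∣ 501397585920 := card9 V12 h12 ▸ Subgroup.card_range_dvd ψ

theorem prim : ψ.range.index = 173067389 ∧ (∀ K, ψ.range < K → K.index < 43) ∧ ψ.range.normalCore = ⊥ ∧
    ∃ r : ℕ → M ⧸ ψ.range, Orbs ψ.range Set.univ r [1, 15180, 28336, 3400320, 32643072, 54405120, 82575360] :=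
  prim9 V12 h12 rel hψ gm_top (le_index (Nat.le_of_dvd (by norm_num) range_dvd) card_M.ge)

theorem simple_M : IsSimpleGroup M :=
  (simple_of_kill prim range_dvd (by norm_num) (J4M.kl_m V h2) J4M.kl_ok gm_top).2

theorem ψ_inj : Function.Injective ψ := by
  have := ψ.range.index_mul_card
  rw [prim.1, card_M] at this
  exact (Subgroup.subtype_injective _).comp
    (ψ.rangeRestrict_surjective.bijective_of_nat_card_le (by rw [card9]; omega)).1

theorem UM : UP.{0} gm (List.range 10) R10 := fun G _ g h =>
  U10.lift (C9 V12 h12) gm_top rel (by rw [card_M, card9, pk9]; decide) G _ h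

theorem mult_M : HasCyclicSchurMultiplier M 1 :=
  have : Finite (J4M.M V h2) := fin_le.1
  have k : ∀ {a}, ¬ a ∣ 86775571046077562880 → ¬ a ∣ Nat.card (J4M.M V h2) := fun h c => h (card_M ▸ c)
  hasTrivial_of_list card_M [2, 3, 11] [5, 7, 23, 29, 31, 37, 43] (by
    simp only [List.forall_mem_cons]
    exact ⟨J4M.m2 V h2 (k (by decide)), J4M.m3 V h2 (k (by decide)), J4M.m11 V h2 (k (by decide)), by simp⟩) 21 (by decide)

end H15.J4
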