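import Cfsg.Agent.H15.Simple

/-! The fourth Janko group: tower of enumerations. Generators. -/

set_option maxRecDepth 100000
set_option Elab.async false

namespace H15.J4
open H13

noncomputable def one : ℕ :=
  (nat_lit 0x800400200100080040020010008004002001)

noncomputable def app : ℕ → ℕ → ℕ → ℕ → ℕ :=
  appB (nat_lit 12)

noncomputable def wfT : ℕ → ℕ → ℕ → Bool :=
  wfB (nat_lit 12)

noncomputable def mul : ℕ → ℕ → ℕ :=
  skp (app (nat_lit 12) (nat_lit 12)) one

noncomputable def wf : ℕ → Bool :=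
  wfT (nat_lit 12) (nat_lit 12)

noncomputable def bc : List ℕ :=
  [(nat_lit 0x8001ed3ef1d208049054d12d4585bb5ef56c),
  (nat_lit 0x8001ed3ef1d208049054d12d4585bb5ef56c),
  (nat_lit 0x8006782001c32a70930bc01004726c2b904e),
  (nat_lit 0x8006782001c32a70930bc01004726c2b904e),
  (nat_lit 0x8004cb2086aa4d03797823e200845c4993f3),
  (nat_lit 0x8004cb2086aa4d03797823e200845c4993f3),
  (nat_lit 0x8000e822e2891ef6604e62d87696245855a8),
  (nat_lit 0x8000e822e2891ef6604e62d87696245855a8),
  (nat_lit 0x80068522e12e74709354c01059928127a56d),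
  (nat_lit 0x80068522e12e74709354c01059928127a56d),
  (nat_lit 0x80065b22e28917c3d025524b1c30043bc391),
  (nat_lit 0x80065b22e28917c3d025524b1c30043bc391),
  (nat_lit 0x8005415253b41ef2f472b28a5993df143001),
  (nat_lit 0x8005415253b41ef2f472b28a5993df143001),
  (nat_lit 0x8005e77b012e7475f04772491c16243bc391),
  (nat_lit 0x8005e77b012e7475f04772491c16243bc391),
  (nat_lit 0xd9e400200100080040020010008004002001),
  (nat_lit 0xd9e400200100080040020010008004002001),
  (nat_lit 0x800400200100080040020010008004002001),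
  (nat_lit 0x800400200100080040020010008004002001)]

theorem h1 : wfT 12 12 one = true := by decide +kernel

theorem bcw : band (allL (wfT 12 12) bc) (Nat.beq bc.length (2 * 10)) = true := by decide +kernel

theorem bco : bcOk mul one bc 10 = true := by decide +kernel

section
universe u v
variable {R : Type v} {ι : Type} [CommRing R] [Fintype ι] [DecidableEq ι] (V : VCod R ι 12 12 app wfT) (h2 : V.mat one = 1)

/-- the coding of the general linear group -/
noncomputable def S : Sem (Matrix ι ι R)ˣ mul one wf := V.sem h1 h2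

theorem h0 : ∀ c ∈ bc, (S V h2).ok c := V.ok_of_bc h1 h2 bcw bco

/-- the generators -/
noncomputable def g : ℕ → (Matrix ι ι R)ˣ := (S V h2).bg bc

end

def dom0 : List ℕ := []

noncomputable def us0 : List (List ℕ) :=
  []

noncomputable def lc0 : List ℕ :=
  [one,
  one,
  one,
  one,
  one,
  one,
  one,
  one,
  one,
  one,
  one,
  one,
  one,
  one,
  one,
  one,
  one,
  one,
  one,
  one]

noncomputable def R0 : List (List ℕ × ℕ) :=
  []

theorem lco0 : lcOk mul one bc lc0 dom0 (2 * 10) us0 20 = true := by decide +kernel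

theorem Rn0 : Nat.beq R0.length 0 = true := by decide +kernel

section
universe u v
variable {R : Type v} {ι : Type} [CommRing R] [Fintype ι] [DecidableEq ι] (V : VCod R ι 12 12 app wfT) (h2 : V.mat one = 1)

theorem L0 : Lc ((S V h2).sub (mdl (g V h2) dom0)) (mgen (g V h2) dom0) lc0 dom0 (2 * 10) us0 20 :=
  lc_of (S V h2) (h0 V h2) bco lco0

theorem rel0 : Rels R0 (g V h2) := fun _ h => nomatch h

theorem card0 : Nat.card (mdl (g V h2) dom0) = 1 := card_mdl_nil _

theorem fin0 : Finite (mdl (g V h2) dom0) := Nat.finite_of_card_ne_zero (by rw [card0]; decide)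

theorem U0 : UP.{0} (mgen (g V h2) dom0) dom0 R0 := up_nil _ _

end

noncomputable def N1 : List (List ℕ × ℕ) :=
  [([nat_lit 0], nat_lit 2)]

noncomputable def R1 : List (List ℕ × ℕ) :=
  R0 ++ N1

noncomputable def n0 : List Net :=
  [Net.nil, Net.nil, Net.nil, Net.nil, Net.nil, Net.nil, Net.nil, Net.nil, Net.nil, Net.nil, Net.nil, Net.nil, Net.nil, Net.nil, Net.nil, Net.nil, Net.nil, Net.nil, Net.nil, Net.nil]

def nodes0 : List ℕ := [0]

def sb0 : List (ℕ × ℕ × ℕ) := [(1, 0, 0)]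

noncomputable def rs0 : List (ℕ × ℕ × List (ℕ × ℕ)) :=
  [(nat_lit 0, nat_lit 0, [(nat_lit 1, (nat_lit 0x800400200100080040020010008004002001)), (nat_lit 1, (nat_lit 0x800400200100080040020010008004002001))])]

noncomputable def T0 : Tr :=
  (.nd (nat_lit 1) (.lf ⟨nat_lit 0, nat_lit 0, nat_lit 0, one, one, one, .triv⟩)
 (.nd (nat_lit 2) (.lf ⟨nat_lit 0, nat_lit 0, nat_lit 0, one, one, one, .triv⟩)
 (.lf ⟨nat_lit 1, nat_lit 1, nat_lit 0, one, one, one, (.wt (nat_lit 0) (nat_lit 0) one (.sp .nil) [] [])⟩)))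

noncomputable def q0_1 : List Net :=
  [Net.nil, Net.nil, Net.nil, Net.nil, Net.nil, Net.nil, Net.nil, Net.nil, Net.nil, Net.nil, Net.nil, Net.nil, Net.nil, Net.nil, Net.nil, Net.nil, Net.nil, Net.nil, Net.nil, Net.nil]

noncomputable def Qs0 : List (ℕ × ℕ × List Net) :=
  [(nat_lit 1, nat_lit 3, q0_1)]

noncomputable def ls0 : List Ld :=
  [⟨[], [], [], (nat_lit 0)⟩]

noncomputable def lk0 : List (List ℕ) :=
  [[]]

noncomputable def d0_0 : Nd :=
  ⟨nat_lit 1, nat_lit 1, [], [],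
  [⟨[], (nat_lit 0), [(nat_lit 2, nat_lit 0, [])]⟩]⟩

noncomputable def ds0 : List Nd :=
  [d0_0]

noncomputable def ks0 : List ℕ :=
  [nat_lit 1]

def kc0 : List (ℕ × ℕ) := [(0, 1), (1, 1)]

theorem Rn1 : Nat.beq R1.length 1 = true := by decide +kernel

theorem Nn1 : Nat.beq N1.length 1 = true := by decide +kernel

theorem A0_p : actP 3 1 n0 20 = true := by decide +kernel

theorem A0_l_0 : rng (actL 3 1 n0 dom0 (2 * 10) us0) (nat_lit 0) (nat_lit 20) = true := by decide +kernel

theorem hr0 : relsOk mul one lc0 dom0 nodes0 1 (2 * 10) R1 sb0 1 rs0 = true := by decide +kernel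

theorem hc0_0 : rng (chk mul one wf T0 lc0 (mapR (fun e => e.2.2) rs0) 1) (nat_lit 0) (nat_lit 3) = true := by decide +kernel

theorem AQ0_1_p : actP 3 1 q0_1 20 = true := by decide +kernel

theorem AQ0_1_l_0 : rng (actL 3 1 q0_1 dom0 (2 * 10) us0) (nat_lit 0) (nat_lit 20) = true := by decide +kernel

theorem la0 : ldA mul one T0 3 lc0 1 3 n0 ls0 1 = true := by decide +kernel

theorem lb0 : ldB 1 Qs0 ls0 1 = true := by decide +kernel

theorem na0_0 : rng (fun i => ndA mul one T0 3 lc0 1 3 n0 1 (nthD ⟨nat_lit 0, nat_lit 0, [], [], []⟩ ds0 i)) (nat_lit 0) (nat_lit 1) = true := by decide +kernel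

theorem nb0_0 : rng (fun i => ndB mul one T0 3 lc0 ks0 Qs0 1 (nthD ⟨nat_lit 0, nat_lit 0, [], [], []⟩ ds0 i)) (nat_lit 0) (nat_lit 1) = true := by decide +kernel

theorem dn0 : Nat.beq ds0.length 1 = true := by decide +kernel

theorem hk0 : ks0 = ds0.map Nd.k := by decide +kernel

theorem hkc0 : kc0 = (0, 1) :: ds0.map fun d => (d.k, d.c) := by decide +kernel

theorem lo0 : linkOk mul one T0 3 ks0 lk0 1 = true := by decide +kernel

theorem do0 : domOk dom0 [0] nodes0 1 R1 sb0 1 = true := by decide +kernel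

theorem A0_l : ∀ i < 20, (actL 3 1 n0 dom0 (2 * 10) us0) i = true :=
  (rng_add rng_zero A0_l_0)

theorem A0_r : ∀ i < 0, (fun i => relN 3 1 n0 (2 * 10) (nthD ([], nat_lit 0) R0 i)) i = true :=
  rng_zero

theorem hc0 : ∀ i < 3, (chk mul one wf T0 lc0 (mapR (fun e => e.2.2) rs0) 1) i = true :=
  (rng_add rng_zero hc0_0)

theorem AQ0_1_l : ∀ i < 20, (actL 3 1 q0_1 dom0 (2 * 10) us0) i = true :=
  (rng_add rng_zero AQ0_1_l_0)

theorem AQ0_1_r : ∀ i < 0, (fun i => relN 3 1 q0_1 (2 * 10) (nthD ([], nat_lit 0) R0 i)) i = true :=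
  rng_zero

theorem na0 : ∀ i < 1, (fun i => ndA mul one T0 3 lc0 1 3 n0 1 (nthD ⟨nat_lit 0, nat_lit 0, [], [], []⟩ ds0 i)) i = true :=
  (rng_add rng_zero na0_0)

theorem nb0 : ∀ i < 1, (fun i => ndB mul one T0 3 lc0 ks0 Qs0 1 (nthD ⟨nat_lit 0, nat_lit 0, [], [], []⟩ ds0 i)) i = true :=
  (rng_add rng_zero nb0_0)

section
universe u v
variable {R : Type v} {ι : Type} [CommRing R] [Fintype ι] [DecidableEq ι] (V : VCod R ι 12 12 app wfT) (h2 : V.mat one = 1)

theorem A0 : Act.{0} (((S V h2).sub (mdl (g V h2) dom0)).gen lc0) 1 3 n0 :=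
  act_of_up (L0 V h2) (U0 V h2) A0_p A0_l (by decide) (allR Rn0 A0_r)

theorem AQ0_1 : Act.{0} (((S V h2).sub (mdl (g V h2) dom0)).gen lc0) 1 3 q0_1 :=
  act_of_up (L0 V h2) (U0 V h2) AQ0_1_p AQ0_1_l (by decide) (allR Rn0 AQ0_1_r)

theorem C0 : Cert.{u} ((S V h2).sub (mdl (g V h2) dom0)) T0 3 (mgen (g V h2) dom0) dom0 [0] nodes0 1 (R0 ++ N1) kc0 :=
  have := fin0 V h2
  cert_of (L0 V h2) (card0 V h2).le (A0 V h2) (Qs := Qs0) (List.forall_mem_cons.2 ⟨AQ0_1 V h2, List.forall_mem_nil _⟩) hr0 hc0 la0 lb0 hk0 (allR dn0 na0) (allR dn0 nb0) lo0 do0 hkc0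

end

def dom1 : List ℕ := [0]

noncomputable def us1 : List (List ℕ) :=
  []

noncomputable def lc1 : List ℕ :=
  [nthD one bc (nat_lit 0),
  nthD one bc (nat_lit 1),
  one,
  one,
  one,
  one,
  one,
  one,
  one,
  one,
  one,
  one,
  one,
  one,
  one,
  one,
  one,
  one,
  one,
  one]

noncomputable def v1_0 : VL :=
  ⟨(nat_lit 1268), [[nat_lit 0]], nat_lit 1, [(nat_lit 257)], nat_lit 1, nat_lit 2⟩

noncomputable def vl1 : List VL :=
  [v1_0]

theorem lco1 : lcOk mul one bc lc1 dom1 (2 * 10) us1 20 = true := by decide +kernel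

theorem rc1_0 : rng (fun i => relC mul one bc (2 * 10) (nthD ([], nat_lit 0) N1 i)) (nat_lit 0) (nat_lit 1) = true := by decide +kernel

theorem sm0 : Nat.beq ((kc0.map Prod.snd).sum * 1) 2 = true := by decide +kernel

theorem vc1 : vchainOk (app 12 1) (wfT 12 1) mul one lc1 [] vl1 = true := by decide +kernel

theorem vf1 : band (allL (fun i => memL i dom1) dom0) (VCod.fixD (app 12 1) (wfT 12 1) one bc dom0 vl1) = true := by decide +kernel

theorem vp1 : (vl1.map VL.d).prod * 1 = 2 := by decide +kernel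

theorem rd1 : allL (fun r => allL (fun l => memL (Nat.shiftRight l (nat_lit 1)) dom1) r.1) (R0 ++ N1) = true := by decide +kernel

theorem rc1 : ∀ i < 1, (fun i => relC mul one bc (2 * 10) (nthD ([], nat_lit 0) N1 i)) i = true :=
  (rng_add rng_zero rc1_0)

section
universe u v
variable {R : Type v} {ι : Type} [CommRing R] [Fintype ι] [DecidableEq ι] (V : VCod R ι 12 12 app wfT) (h2 : V.mat one = 1)

theorem L1 : Lc ((S V h2).sub (mdl (g V h2) dom1)) (mgen (g V h2) dom1) lc1 dom1 (2 * 10) us1 20 :=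
  lc_of (S V h2) (h0 V h2) bco lco1

theorem rel1 : Rels R1 (g V h2) := (rel0 V h2).append ((S V h2).rels (h0 V h2) bco (allR Nn1 rc1))

theorem le1 : Finite (mdl (g V h2) dom1) ∧ Nat.card (mdl (g V h2) dom1) ≤ 2 :=
  have := fin0 V h2
  step_le (C0 V h2) (U0 V h2) (rel1 V h2) (card0 V h2) sm0

theorem fin1 : Finite (mdl (g V h2) dom1) := (le1 V h2).1

theorem card1 : Nat.card (mdl (g V h2) dom1) = 2 := by
  have : Finite (mdl ((V.sem h1 h2).bg bc) dom1) := fin1 V h2
  have h := V.le_card_mdl h1 h2 (h0 V h2) (L1 V h2).ok vc1 vf1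
  exact le_antisymm (le1 V h2).2 (le_trans (vp1.symm.trans (congrArg (HMul.hMul (vl1.map VL.d).prod) (card0 V h2).symm)).le h)

theorem U1 : UP.{0} (mgen (g V h2) dom1) dom1 R1 :=
  have := fin0 V h2
  step_up (C0 V h2) (U0 V h2) (rel1 V h2) (card0 V h2) sm0 (card1 V h2) rd1

end

noncomputable def N2 : List (List ℕ × ℕ) :=
  [([nat_lit 2], nat_lit 2),
  ((unp (nat_lit 2) (nat_lit 0x999cd0a)), nat_lit 1)]

noncomputable def R2 : List (List ℕ × ℕ) :=
  R1 ++ N2

noncomputable def n1_0 : Net :=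
  mkNet (nat_lit 3) (nat_lit 2) (nat_lit 1)

noncomputable def n1 : List Net :=
  [n1_0, n1_0, Net.nil, Net.nil, Net.nil, Net.nil, Net.nil, Net.nil, Net.nil, Net.nil, Net.nil, Net.nil, Net.nil, Net.nil, Net.nil, Net.nil, Net.nil, Net.nil, Net.nil, Net.nil]

def nodes1 : List ℕ := [2]

def sb1 : List (ℕ × ℕ × ℕ) := [(3, 1, 0)]

noncomputable def rs1 : List (ℕ × ℕ × List (ℕ × ℕ)) :=
  [(nat_lit 1, nat_lit 0, [(nat_lit 1, (nat_lit 0x800400200100080040020010008004002001)), (nat_lit 1, (nat_lit 0x800400200100080040020010008004002001))]),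
  (nat_lit 2, nat_lit 0, [(nat_lit 1, (nat_lit 0x8001ed3ef1d208049054d12d4585bb5ef56c)), (nat_lit 1, (nat_lit 0x8001ed3ef1d208049054d12d4585bb5ef56c)), (nat_lit 1, (nat_lit 0x8001ed3ef1d208049054d12d4585bb5ef56c)), (nat_lit 1, (nat_lit 0x8001ed3ef1d208049054d12d4585bb5ef56c)), (nat_lit 1, (nat_lit 0x8001ed3ef1d208049054d12d4585bb5ef56c))])]

noncomputable def T1 : Tr :=
  (.nd (nat_lit 3) (.nd (nat_lit 1) (.lf ⟨nat_lit 0, nat_lit 0, nat_lit 0, one, one, one, .triv⟩)
 (.nd (nat_lit 2) (.lf ⟨nat_lit 0, nat_lit 0, nat_lit 0, one, one, one, .triv⟩)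
 (.lf ⟨nat_lit 1, nat_lit 1, nat_lit 0, one, one, one, (.wt (nat_lit 0) (nat_lit 0) one (.sp .nil) [] [])⟩)))
 (.nd (nat_lit 4) (.lf ⟨nat_lit 1, nat_lit 1, nat_lit 3, (nat_lit 0x8001ed3ef1d208049054d12d4585bb5ef56c), one, one, (.df [nat_lit 0])⟩)
 (.nd (nat_lit 5) (.lf ⟨nat_lit 1, nat_lit 3, nat_lit 1, one, (nat_lit 0x8001ed3ef1d208049054d12d4585bb5ef56c), one, (.wt (nat_lit 0) (nat_lit 0) (nat_lit 0x8001ed3ef1d208049054d12d4585bb5ef56c) (.st (nat_lit 3) [] [] .nil) [] [])⟩)
 (.lf ⟨nat_lit 1, nat_lit 3, nat_lit 3, (nat_lit 0x8001ed3ef1d208049054d12d4585bb5ef56c), (nat_lit 0x8001ed3ef1d208049054d12d4585bb5ef56c), (nat_lit 0x8001ed3ef1d208049054d12d4585bb5ef56c), (.wt (nat_lit 1) (nat_lit 2) one (.st (nat_lit 4) [] [] (.st (nat_lit 2) [] [] (.sp (.st (nat_lit 3) [] [] .nil)))) [] [])⟩))))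

noncomputable def q1_1_0 : Net :=
  mkNet (nat_lit 3) (nat_lit 2) (nat_lit 1)

noncomputable def q1_1 : List Net :=
  [q1_1_0, q1_1_0, Net.nil, Net.nil, Net.nil, Net.nil, Net.nil, Net.nil, Net.nil, Net.nil, Net.nil, Net.nil, Net.nil, Net.nil, Net.nil, Net.nil, Net.nil, Net.nil, Net.nil, Net.nil]

noncomputable def Qs1 : List (ℕ × ℕ × List Net) :=
  [(nat_lit 2, nat_lit 3, q1_1)]

noncomputable def ls1 : List Ld :=
  [⟨[], [], [[nat_lit 1]], (nat_lit 8)⟩]

noncomputable def lk1 : List (List ℕ) :=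
  [[]]

noncomputable def d1_0 : Nd :=
  ⟨nat_lit 1, nat_lit 2, [], [],
  [⟨[], (nat_lit 0), [(nat_lit 2, nat_lit 0, []), (nat_lit 3, nat_lit 1, [nat_lit 0])]⟩]⟩

noncomputable def d1_1 : Nd :=
  ⟨nat_lit 3, nat_lit 2, [], [],
  [⟨[], (nat_lit 0), [(nat_lit 4, nat_lit 0, []), (nat_lit 5, nat_lit 1, [nat_lit 0])]⟩]⟩

noncomputable def ds1 : List Nd :=
  [d1_0, d1_1]

noncomputable def ks1 : List ℕ :=
  [nat_lit 1, nat_lit 3]

def kc1 : List (ℕ × ℕ) := [(0, 1), (1, 2), (3, 2)]

theorem Rn2 : Nat.beq R2.length 3 = true := by decide +kernel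

theorem Nn2 : Nat.beq N2.length 2 = true := by decide +kernel

theorem A1_p : actP 3 2 n1 20 = true := by decide +kernel

theorem A1_l_0 : rng (actL 3 2 n1 dom1 (2 * 10) us1) (nat_lit 0) (nat_lit 20) = true := by decide +kernel

theorem A1_r_0 : rng (fun i => relN 3 2 n1 (2 * 10) (nthD ([], nat_lit 0) R1 i)) (nat_lit 0) (nat_lit 1) = true := by decide +kernel

theorem hr1 : relsOk mul one lc1 dom1 nodes1 1 (2 * 10) R2 sb1 1 rs1 = true := by decide +kernel

theorem hc1_0 : rng (chk mul one wf T1 lc1 (mapR (fun e => e.2.2) rs1) 1) (nat_lit 0) (nat_lit 6) = true := by decide +kernel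

theorem AQ1_1_p : actP 3 2 q1_1 20 = true := by decide +kernel

theorem AQ1_1_l_0 : rng (actL 3 2 q1_1 dom1 (2 * 10) us1) (nat_lit 0) (nat_lit 20) = true := by decide +kernel

theorem AQ1_1_r_0 : rng (fun i => relN 3 2 q1_1 (2 * 10) (nthD ([], nat_lit 0) R1 i)) (nat_lit 0) (nat_lit 1) = true := by decide +kernel

theorem la1 : ldA mul one T1 6 lc1 2 3 n1 ls1 1 = true := by decide +kernel

theorem lb1 : ldB 2 Qs1 ls1 1 = true := by decide +kernel

theorem na1_0 : rng (fun i => ndA mul one T1 6 lc1 2 3 n1 2 (nthD ⟨nat_lit 0, nat_lit 0, [], [], []⟩ ds1 i)) (nat_lit 0) (nat_lit 2) = true := by decide +kernel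

theorem nb1_0 : rng (fun i => ndB mul one T1 6 lc1 ks1 Qs1 1 (nthD ⟨nat_lit 0, nat_lit 0, [], [], []⟩ ds1 i)) (nat_lit 0) (nat_lit 2) = true := by decide +kernel

theorem dn1 : Nat.beq ds1.length 2 = true := by decide +kernel

theorem hk1 : ks1 = ds1.map Nd.k := by decide +kernel

theorem hkc1 : kc1 = (0, 1) :: ds1.map fun d => (d.k, d.c) := by decide +kernel

theorem lo1 : linkOk mul one T1 6 ks1 lk1 1 = true := by decide +kernel

theorem do1 : domOk dom1 [0, 1] nodes1 1 R2 sb1 1 = true := by decide +kernel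

theorem A1_l : ∀ i < 20, (actL 3 2 n1 dom1 (2 * 10) us1) i = true :=
  (rng_add rng_zero A1_l_0)

theorem A1_r : ∀ i < 1, (fun i => relN 3 2 n1 (2 * 10) (nthD ([], nat_lit 0) R1 i)) i = true :=
  (rng_add rng_zero A1_r_0)

theorem hc1 : ∀ i < 6, (chk mul one wf T1 lc1 (mapR (fun e => e.2.2) rs1) 1) i = true :=
  (rng_add rng_zero hc1_0)

theorem AQ1_1_l : ∀ i < 20, (actL 3 2 q1_1 dom1 (2 * 10) us1) i = true :=
  (rng_add rng_zero AQ1_1_l_0)

theorem AQ1_1_r : ∀ i < 1, (fun i => relN 3 2 q1_1 (2 * 10) (nthD ([], nat_lit 0) R1 i)) i = true :=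
  (rng_add rng_zero AQ1_1_r_0)

theorem na1 : ∀ i < 2, (fun i => ndA mul one T1 6 lc1 2 3 n1 2 (nthD ⟨nat_lit 0, nat_lit 0, [], [], []⟩ ds1 i)) i = true :=
  (rng_add rng_zero na1_0)

theorem nb1 : ∀ i < 2, (fun i => ndB mul one T1 6 lc1 ks1 Qs1 1 (nthD ⟨nat_lit 0, nat_lit 0, [], [], []⟩ ds1 i)) i = true :=
  (rng_add rng_zero nb1_0)

section
universe u v
variable {R : Type v} {ι : Type} [CommRing R] [Fintype ι] [DecidableEq ι] (V : VCod R ι 12 12 app wfT) (h2 : V.mat one = 1)

theorem A1 : Act.{0} (((S V h2).sub (mdl (g V h2) dom1)).gen lc1) 2 3 n1 :=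
  act_of_up (L1 V h2) (U1 V h2) A1_p A1_l (by decide) (allR Rn1 A1_r)

theorem AQ1_1 : Act.{0} (((S V h2).sub (mdl (g V h2) dom1)).gen lc1) 2 3 q1_1 :=
  act_of_up (L1 V h2) (U1 V h2) AQ1_1_p AQ1_1_l (by decide) (allR Rn1 AQ1_1_r)

theorem C1 : Cert.{u} ((S V h2).sub (mdl (g V h2) dom1)) T1 6 (mgen (g V h2) dom1) dom1 [0, 1] nodes1 1 (R1 ++ N2) kc1 :=
  have := fin1 V h2
  cert_of (L1 V h2) (card1 V h2).le (A1 V h2) (Qs := Qs1) (List.forall_mem_cons.2 ⟨AQ1_1 V h2, List.forall_mem_nil _⟩) hr1 hc1 la1 lb1 hk1 (allR dn1 na1) (allR dn1 nb1) lo1 do1 hkc1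

end

def dom2 : List ℕ := [0, 1]

noncomputable def us2 : List (List ℕ) :=
  [(unp (nat_lit 2) (nat_lit 2051))]

noncomputable def lc2 : List ℕ :=
  [nthD one bc (nat_lit 0),
  nthD one bc (nat_lit 1),
  nthD one bc (nat_lit 2),
  nthD one bc (nat_lit 3),
  one,
  one,
  one,
  one,
  one,
  one,
  one,
  one,
  one,
  one,
  one,
  one,
  one,
  one,
  one,
  one,
  (nat_lit 0x80009354706331a49d0202a77013d00025bf)]

noncomputable def v2_0 : VL :=
  ⟨(nat_lit 1354), [[nat_lit 0], [nat_lit 2]], nat_lit 2, [(nat_lit 0x66001990e)], nat_lit 4, nat_lit 10⟩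

noncomputable def vl2 : List VL :=
  [v2_0]

theorem lco2 : lcOk mul one bc lc2 dom2 (2 * 10) us2 21 = true := by decide +kernel

theorem rc2_0 : rng (fun i => relC mul one bc (2 * 10) (nthD ([], nat_lit 0) N2 i)) (nat_lit 0) (nat_lit 2) = true := by decide +kernel

theorem sm1 : Nat.beq ((kc1.map Prod.snd).sum * 2) 10 = true := by decide +kernel

theorem vc2 : vchainOk (app 12 1) (wfT 12 1) mul one lc2 [] vl2 = true := by decide +kernel

theorem vf2 : band (allL (fun i => memL i dom2) dom0) (VCod.fixD (app 12 1) (wfT 12 1) one bc dom0 vl2) = true := by decide +kernel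

theorem vp2 : (vl2.map VL.d).prod * 1 = 10 := by decide +kernel

theorem rd2 : allL (fun r => allL (fun l => memL (Nat.shiftRight l (nat_lit 1)) dom2) r.1) (R1 ++ N2) = true := by decide +kernel

theorem rc2 : ∀ i < 2, (fun i => relC mul one bc (2 * 10) (nthD ([], nat_lit 0) N2 i)) i = true :=
  (rng_add rng_zero rc2_0)

section
universe u v
variable {R : Type v} {ι : Type} [CommRing R] [Fintype ι] [DecidableEq ι] (V : VCod R ι 12 12 app wfT) (h2 : V.mat one = 1)

theorem L2 : Lc ((S V h2).sub (mdl (g V h2) dom2)) (mgen (g V h2) dom2) lc2 dom2 (2 * 10) us2 21 :=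
  lc_of (S V h2) (h0 V h2) bco lco2

theorem rel2 : Rels R2 (g V h2) := (rel1 V h2).append ((S V h2).rels (h0 V h2) bco (allR Nn2 rc2))

theorem le2 : Finite (mdl (g V h2) dom2) ∧ Nat.card (mdl (g V h2) dom2) ≤ 10 :=
  have := fin1 V h2
  step_le (C1 V h2) (U1 V h2) (rel2 V h2) (card1 V h2) sm1

theorem fin2 : Finite (mdl (g V h2) dom2) := (le2 V h2).1

theorem card2 : Nat.card (mdl (g V h2) dom2) = 10 := by
  have : Finite (mdl ((V.sem h1 h2).bg bc) dom2) := fin2 V h2
  have h := V.le_card_mdl h1 h2 (h0 V h2) (L2 V h2).ok vc2 vf2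
  exact le_antisymm (le2 V h2).2 (le_trans (vp2.symm.trans (congrArg (HMul.hMul (vl2.map VL.d).prod) (card0 V h2).symm)).le h)

theorem U2 : UP.{0} (mgen (g V h2) dom2) dom2 R2 :=
  have := fin1 V h2
  step_up (C1 V h2) (U1 V h2) (rel2 V h2) (card1 V h2) sm1 (card2 V h2) rd2

end

noncomputable def N3 : List (List ℕ × ℕ) :=
  [([nat_lit 4], nat_lit 2),
  ((unp (nat_lit 3) (nat_lit 0x34c04)), nat_lit 1),
  ((unp (nat_lit 3) (nat_lit 0x238eb06)), nat_lit 1),
  ((unp (nat_lit 3) (nat_lit 0x11970b2e96590f)), nat_lit 1)]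

noncomputable def R3 : List (List ℕ × ℕ) :=
  R2 ++ N3

noncomputable def n2_0 : Net :=
  mkNet (nat_lit 4) (nat_lit 5) (nat_lit 5)

noncomputable def n2_2 : Net :=
  mkNet (nat_lit 4) (nat_lit 5) (nat_lit 0x408464)

noncomputable def n2_20 : Net :=
  mkNet (nat_lit 4) (nat_lit 5) (nat_lit 0x108461)

noncomputable def n2 : List Net :=
  [n2_0, n2_0, n2_2, n2_2, Net.nil, Net.nil, Net.nil, Net.nil, Net.nil, Net.nil, Net.nil, Net.nil, Net.nil, Net.nil, Net.nil, Net.nil, Net.nil, Net.nil, Net.nil, Net.nil, n2_20]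

def nodes2 : List ℕ := [4]

def sb2 : List (ℕ × ℕ × ℕ) := [(5, 3, 0)]

noncomputable def rs2 : List (ℕ × ℕ × List (ℕ × ℕ)) :=
  [(nat_lit 3, nat_lit 0, [(nat_lit 1, (nat_lit 0x800400200100080040020010008004002001)), (nat_lit 1, (nat_lit 0x800400200100080040020010008004002001))]),
  (nat_lit 4, nat_lit 3, [(nat_lit 1, (nat_lit 0x8001ed3ef1d208049054d12d4585bb5ef56c)), (nat_lit 1, (nat_lit 0x8001ed3ef1d208049054d12d4585bb5ef56c))]),
  (nat_lit 5, nat_lit 0, [(nat_lit 1, (nat_lit 0x8006782001c32a70930bc01004726c2b904e)), (nat_lit 1, (nat_lit 0x8006782001c32a70930bc01004726c2b904e)), (nat_lit 1, (nat_lit 0x8006782001c32a70930bc01004726c2b904e))]),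
  (nat_lit 6, nat_lit 0, [(nat_lit 1, (nat_lit 0x80049d19776612d1ed54c31a39f1a966409c)), (nat_lit 1, (nat_lit 0x8000407b32d812d6aa0bc0805f51e72b956c)), (nat_lit 1, (nat_lit 0x8004907b328a0106785030800985b763b001))])]

noncomputable def T2 : Tr :=
  (.nd (nat_lit 3) (.nd (nat_lit 1) (.lf ⟨nat_lit 0, nat_lit 0, nat_lit 0, one, one, one, .triv⟩)
 (.nd (nat_lit 2) (.lf ⟨nat_lit 0, nat_lit 0, nat_lit 0, one, one, one, .triv⟩)
 (.lf ⟨nat_lit 1, nat_lit 1, nat_lit 0, (nat_lit 0x8001ed3ef1d208049054d12d4585bb5ef56c), (nat_lit 0x8001ed3ef1d208049054d12d4585bb5ef56c), one, (.wt (nat_lit 1) (nat_lit 0) one (.sp .nil) [] [])⟩)))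
 (.nd (nat_lit 5) (.nd (nat_lit 4) (.lf ⟨nat_lit 0, nat_lit 1, nat_lit 1, (nat_lit 0x8001ed3ef1d208049054d12d4585bb5ef56c), one, (nat_lit 0x8001ed3ef1d208049054d12d4585bb5ef56c), (.we (nat_lit 0) (nat_lit 1) (nat_lit 0x8001ed3ef1d208049054d12d4585bb5ef56c) (.st (nat_lit 2) [] [] (.sp .nil)))⟩)
 (.lf ⟨nat_lit 1, nat_lit 1, nat_lit 0, one, one, one, (.wt (nat_lit 0) (nat_lit 0) one (.sp .nil) [] [])⟩))
 (.nd (nat_lit 6) (.lf ⟨nat_lit 1, nat_lit 1, nat_lit 1, (nat_lit 0x8006782001c32a70930bc01004726c2b904e), (nat_lit 0x80012e19715e2a74cf54d31a6bc7005ef5bf), (nat_lit 0x8006aa3ef54131a12e50312d1a83d163b09c), (.wt (nat_lit 2) (nat_lit 0) (nat_lit 0x8001ed3ef1d208049054d12d4585bb5ef56c) (.st (nat_lit 4) [nat_lit 3] [] (.sp .nil)) [] [])⟩)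
 (.lf ⟨nat_lit 1, nat_lit 1, nat_lit 1, (nat_lit 0x8000407b32d812d6aa0bc0805f51e72b956c), (nat_lit 0x8004907b328a0106785030800985b763b001), (nat_lit 0x80049d19776612d1ed54c31a39f1a966409c), (.wt (nat_lit 3) (nat_lit 0) one (.st (nat_lit 4) [] [] (.sp .nil)) [] [])⟩))))

noncomputable def q2_1_0 : Net :=
  mkNet (nat_lit 4) (nat_lit 5) (nat_lit 0x408464)

noncomputable def q2_1_2 : Net :=
  mkNet (nat_lit 4) (nat_lit 5) (nat_lit 0x8421)

noncomputable def q2_1_20 : Net :=
  mkNet (nat_lit 4) (nat_lit 5) (nat_lit 96)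

noncomputable def q2_1 : List Net :=
  [q2_1_0, q2_1_0, q2_1_2, q2_1_2, Net.nil, Net.nil, Net.nil, Net.nil, Net.nil, Net.nil, Net.nil, Net.nil, Net.nil, Net.nil, Net.nil, Net.nil, Net.nil, Net.nil, Net.nil, Net.nil, q2_1_20]

noncomputable def Qs2 : List (ℕ × ℕ × List Net) :=
  [(nat_lit 5, nat_lit 4, q2_1)]

noncomputable def ls2 : List Ld :=
  [⟨[(nat_lit 3, [nat_lit 0])], [⟨nat_lit 0, [nat_lit 0], (nat_lit 0x77710), nat_lit 2⟩], [[nat_lit 1], [nat_lit 3]], (nat_lit 0x34210)⟩]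

noncomputable def lk2 : List (List ℕ) :=
  [[]]

noncomputable def d2_0 : Nd :=
  ⟨nat_lit 1, nat_lit 5, [(nat_lit 3, [nat_lit 0])], [⟨nat_lit 0, [nat_lit 0], (nat_lit 0x77710), nat_lit 2⟩],
  [⟨[nat_lit 0], (nat_lit 0x10100), [(nat_lit 4, nat_lit 0, []), (nat_lit 5, nat_lit 1, [nat_lit 2]), (nat_lit 6, nat_lit 3, [nat_lit 2, nat_lit 20])]⟩]⟩

noncomputable def ds2 : List Nd :=
  [d2_0]

noncomputable def ks2 : List ℕ :=
  [nat_lit 1]

def kc2 : List (ℕ × ℕ) := [(0, 1), (1, 5)]

theorem Rn3 : Nat.beq R3.length 7 = true := by decide +kernel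

theorem Nn3 : Nat.beq N3.length 4 = true := by decide +kernel

theorem A2_p : actP 4 5 n2 21 = true := by decide +kernel

theorem A2_l_0 : rng (actL 4 5 n2 dom2 (2 * 10) us2) (nat_lit 0) (nat_lit 21) = true := by decide +kernel

theorem A2_r_0 : rng (fun i => relN 4 5 n2 (2 * 10) (nthD ([], nat_lit 0) R2 i)) (nat_lit 0) (nat_lit 3) = true := by decide +kernel

theorem hr2 : relsOk mul one lc2 dom2 nodes2 1 (2 * 10) R3 sb2 1 rs2 = true := by decide +kernel

theorem hc2_0 : rng (chk mul one wf T2 lc2 (mapR (fun e => e.2.2) rs2) 1) (nat_lit 0) (nat_lit 7) = true := by decide +kernel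

theorem AQ2_1_p : actP 4 5 q2_1 21 = true := by decide +kernel

theorem AQ2_1_l_0 : rng (actL 4 5 q2_1 dom2 (2 * 10) us2) (nat_lit 0) (nat_lit 21) = true := by decide +kernel

theorem AQ2_1_r_0 : rng (fun i => relN 4 5 q2_1 (2 * 10) (nthD ([], nat_lit 0) R2 i)) (nat_lit 0) (nat_lit 3) = true := by decide +kernel

theorem la2 : ldA mul one T2 7 lc2 5 4 n2 ls2 1 = true := by decide +kernel

theorem lb2 : ldB 10 Qs2 ls2 1 = true := by decide +kernel

theorem na2_0 : rng (fun i => ndA mul one T2 7 lc2 5 4 n2 10 (nthD ⟨nat_lit 0, nat_lit 0, [], [], []⟩ ds2 i)) (nat_lit 0) (nat_lit 1) = true := by decide +kernel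

theorem nb2_0 : rng (fun i => ndB mul one T2 7 lc2 ks2 Qs2 1 (nthD ⟨nat_lit 0, nat_lit 0, [], [], []⟩ ds2 i)) (nat_lit 0) (nat_lit 1) = true := by decide +kernel

theorem dn2 : Nat.beq ds2.length 1 = true := by decide +kernel

theorem hk2 : ks2 = ds2.map Nd.k := by decide +kernel

theorem hkc2 : kc2 = (0, 1) :: ds2.map fun d => (d.k, d.c) := by decide +kernel

theorem lo2 : linkOk mul one T2 7 ks2 lk2 1 = true := by decide +kernel

theorem do2 : domOk dom2 [0, 1, 2] nodes2 1 R3 sb2 1 = true := by decide +kernel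

theorem A2_l : ∀ i < 21, (actL 4 5 n2 dom2 (2 * 10) us2) i = true :=
  (rng_add rng_zero A2_l_0)

theorem A2_r : ∀ i < 3, (fun i => relN 4 5 n2 (2 * 10) (nthD ([], nat_lit 0) R2 i)) i = true :=
  (rng_add rng_zero A2_r_0)

theorem hc2 : ∀ i < 7, (chk mul one wf T2 lc2 (mapR (fun e => e.2.2) rs2) 1) i = true :=
  (rng_add rng_zero hc2_0)

theorem AQ2_1_l : ∀ i < 21, (actL 4 5 q2_1 dom2 (2 * 10) us2) i = true :=
  (rng_add rng_zero AQ2_1_l_0)

theorem AQ2_1_r : ∀ i < 3, (fun i => relN 4 5 q2_1 (2 * 10) (nthD ([], nat_lit 0) R2 i)) i = true :=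
  (rng_add rng_zero AQ2_1_r_0)

theorem na2 : ∀ i < 1, (fun i => ndA mul one T2 7 lc2 5 4 n2 10 (nthD ⟨nat_lit 0, nat_lit 0, [], [], []⟩ ds2 i)) i = true :=
  (rng_add rng_zero na2_0)

theorem nb2 : ∀ i < 1, (fun i => ndB mul one T2 7 lc2 ks2 Qs2 1 (nthD ⟨nat_lit 0, nat_lit 0, [], [], []⟩ ds2 i)) i = true :=
  (rng_add rng_zero nb2_0)

section
universe u v
variable {R : Type v} {ι : Type} [CommRing R] [Fintype ι] [DecidableEq ι] (V : VCod R ι 12 12 app wfT) (h2 : V.mat one = 1)

theorem A2 : Act.{0} (((S V h2).sub (mdl (g V h2) dom2)).gen lc2) 5 4 n2 :=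
  act_of_up (L2 V h2) (U2 V h2) A2_p A2_l (by decide) (allR Rn2 A2_r)

theorem AQ2_1 : Act.{0} (((S V h2).sub (mdl (g V h2) dom2)).gen lc2) 5 4 q2_1 :=
  act_of_up (L2 V h2) (U2 V h2) AQ2_1_p AQ2_1_l (by decide) (allR Rn2 AQ2_1_r)

theorem C2 : Cert.{u} ((S V h2).sub (mdl (g V h2) dom2)) T2 7 (mgen (g V h2) dom2) dom2 [0, 1, 2] nodes2 1 (R2 ++ N3) kc2 :=
  have := fin2 V h2
  cert_of (L2 V h2) (card2 V h2).le (A2 V h2) (Qs := Qs2) (List.forall_mem_cons.2 ⟨AQ2_1 V h2, List.forall_mem_nil _⟩) hr2 hc2 la2 lb2 hk2 (allR dn2 na2) (allR dn2 nb2) lo2 do2 hkc2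

end

def dom3 : List ℕ := [0, 1, 2]

noncomputable def us3 : List (List ℕ) :=
  [(unp (nat_lit 3) (nat_lit 0x15004)), [nat_lit 20, nat_lit 2]]

noncomputable def lc3 : List ℕ :=
  [nthD one bc (nat_lit 0),
  nthD one bc (nat_lit 1),
  nthD one bc (nat_lit 2),
  nthD one bc (nat_lit 3),
  nthD one bc (nat_lit 4),
  nthD one bc (nat_lit 5),
  one,
  one,
  one,
  one,
  one,
  one,
  one,
  one,
  one,
  one,
  one,
  one,
  one,
  one,
  (nat_lit 0x8005a82461ed5b31806af281701278390599),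
  (nat_lit 0x8005412463d752b13b4e42815f1010143769)]

noncomputable def v3_0 : VL :=
  ⟨(nat_lit 2806), [[nat_lit 0], [nat_lit 2], [nat_lit 4]], nat_lit 2, [(nat_lit 0x302d9b000c366c00319b0026c01b66000c366c00319b0026c01b02d9971)], nat_lit 6, nat_lit 60⟩

noncomputable def vl3 : List VL :=
  [v3_0]

theorem lco3 : lcOk mul one bc lc3 dom3 (2 * 10) us3 22 = true := by decide +kernel

theorem rc3_0 : rng (fun i => relC mul one bc (2 * 10) (nthD ([], nat_lit 0) N3 i)) (nat_lit 0) (nat_lit 4) = true := by decide +kernel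

theorem sm2 : Nat.beq ((kc2.map Prod.snd).sum * 10) 60 = true := by decide +kernel

theorem vc3 : vchainOk (app 12 1) (wfT 12 1) mul one lc3 [] vl3 = true := by decide +kernel

theorem vf3 : band (allL (fun i => memL i dom3) dom0) (VCod.fixD (app 12 1) (wfT 12 1) one bc dom0 vl3) = true := by decide +kernel

theorem vp3 : (vl3.map VL.d).prod * 1 = 60 := by decide +kernel

theorem rd3 : allL (fun r => allL (fun l => memL (Nat.shiftRight l (nat_lit 1)) dom3) r.1) (R2 ++ N3) = true := by decide +kernel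

theorem rc3 : ∀ i < 4, (fun i => relC mul one bc (2 * 10) (nthD ([], nat_lit 0) N3 i)) i = true :=
  (rng_add rng_zero rc3_0)

section
universe u v
variable {R : Type v} {ι : Type} [CommRing R] [Fintype ι] [DecidableEq ι] (V : VCod R ι 12 12 app wfT) (h2 : V.mat one = 1)

theorem L3 : Lc ((S V h2).sub (mdl (g V h2) dom3)) (mgen (g V h2) dom3) lc3 dom3 (2 * 10) us3 22 :=
  lc_of (S V h2) (h0 V h2) bco lco3

theorem rel3 : Rels R3 (g V h2) := (rel2 V h2).append ((S V h2).rels (h0 V h2) bco (allR Nn3 rc3))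

theorem le3 : Finite (mdl (g V h2) dom3) ∧ Nat.card (mdl (g V h2) dom3) ≤ 60 :=
  have := fin2 V h2
  step_le (C2 V h2) (U2 V h2) (rel3 V h2) (card2 V h2) sm2

theorem fin3 : Finite (mdl (g V h2) dom3) := (le3 V h2).1

theorem card3 : Nat.card (mdl (g V h2) dom3) = 60 := by
  have : Finite (mdl ((V.sem h1 h2).bg bc) dom3) := fin3 V h2
  have h := V.le_card_mdl h1 h2 (h0 V h2) (L3 V h2).ok vc3 vf3
  exact le_antisymm (le3 V h2).2 (le_trans (vp3.symm.trans (congrArg (HMul.hMul (vl3.map VL.d).prod) (card0 V h2).symm)).le h)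

theorem U3 : UP.{0} (mgen (g V h2) dom3) dom3 R3 :=
  have := fin2 V h2
  step_up (C2 V h2) (U2 V h2) (rel3 V h2) (card2 V h2) sm2 (card3 V h2) rd3

end

noncomputable def N4 : List (List ℕ × ℕ) :=
  [([nat_lit 6], nat_lit 2),
  ((unp (nat_lit 3) (nat_lit 0x3c604)), nat_lit 1),
  ((unp (nat_lit 3) (nat_lit 0xbe604)), nat_lit 1),
  ((unp (nat_lit 3) (nat_lit 0x674b2f3a597d9acb15)), nat_lit 1),
  ((unp (nat_lit 3) (nat_lit 0x67abeeb09)), nat_lit 1),
  ((unp (nat_lit 3) (nat_lit 0x332f52cbe6b2cd12)), nat_lit 1)]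

noncomputable def R4 : List (List ℕ × ℕ) :=
  R3 ++ N4

noncomputable def n3_0 : Net :=
  mkNet (nat_lit 4) (nat_lit 5) (nat_lit 5)

noncomputable def n3_2 : Net :=
  mkNet (nat_lit 4) (nat_lit 5) (nat_lit 0x8460)

noncomputable def n3_4 : Net :=
  mkNet (nat_lit 4) (nat_lit 5) (nat_lit 96)

noncomputable def n3_20 : Net :=
  mkNet (nat_lit 4) (nat_lit 5) (nat_lit 0x500425)

noncomputable def n3_21 : Net :=
  mkNet (nat_lit 4) (nat_lit 5) (nat_lit 0x408420)

noncomputable def n3 : List Net :=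
  [n3_0, n3_0, n3_2, n3_2, n3_4, n3_4, Net.nil, Net.nil, Net.nil, Net.nil, Net.nil, Net.nil, Net.nil, Net.nil, Net.nil, Net.nil, Net.nil, Net.nil, Net.nil, Net.nil, n3_20, n3_21]

def nodes3 : List ℕ := [6]

def sb3 : List (ℕ × ℕ × ℕ) := [(7, 7, 0)]

noncomputable def rs3 : List (ℕ × ℕ × List (ℕ × ℕ)) :=
  [(nat_lit 7, nat_lit 0, [(nat_lit 1, (nat_lit 0x800400200100080040020010008004002001)), (nat_lit 1, (nat_lit 0x800400200100080040020010008004002001))]),
  (nat_lit 8, nat_lit 3, [(nat_lit 1, (nat_lit 0x8001ed3ef1d208049054d12d4585bb5ef56c)), (nat_lit 1, (nat_lit 0x8001ed3ef1d208049054d12d4585bb5ef56c))]),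
  (nat_lit 9, nat_lit 3, [(nat_lit 1, (nat_lit 0x8004cb2086aa4d03797823e200845c4993f3)), (nat_lit 1, (nat_lit 0x8004cb2086aa4d03797823e200845c4993f3))]),
  (nat_lit 10, nat_lit 0, [(nat_lit 1, (nat_lit 0x80076624617c5b73df69c0e956d0103a759d)), (nat_lit 1, (nat_lit 0x80076624617c5b73df69c0e956d0103a759d)), (nat_lit 1, (nat_lit 0x80076624617c5b73df69c0e956d0103a759d))]),
  (nat_lit 11, nat_lit 0, [(nat_lit 1, (nat_lit 0x8006782001c32a70930bc01004726c2b904e)), (nat_lit 1, (nat_lit 0x8006fc24749d45c3f55a53f20474d04c63ac)), (nat_lit 1, (nat_lit 0x80015e24745e0040c469c3f204f0803a73a4))]),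
  (nat_lit 12, nat_lit 0, [(nat_lit 1, (nat_lit 0x80049d19776612d1ed54c31a39f1a966409c)), (nat_lit 1, (nat_lit 0x8005e724612e7473646bf0e95f5278174505)), (nat_lit 1, (nat_lit 0x8000c108905851913a02070073a026002023))])]

noncomputable def T3 : Tr :=
  (.nd (nat_lit 6) (.nd (nat_lit 3) (.nd (nat_lit 1) (.lf ⟨nat_lit 0, nat_lit 0, nat_lit 0, one, one, one, .triv⟩)
 (.nd (nat_lit 2) (.lf ⟨nat_lit 0, nat_lit 0, nat_lit 0, one, one, one, .triv⟩)
 (.lf ⟨nat_lit 1, nat_lit 1, nat_lit 0, (nat_lit 0x8001ed3ef1d208049054d12d4585bb5ef56c), (nat_lit 0x8001ed3ef1d208049054d12d4585bb5ef56c), one, (.wt (nat_lit 1) (nat_lit 0) one (.sp .nil) [] [])⟩)))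
 (.nd (nat_lit 4) (.lf ⟨nat_lit 0, nat_lit 1, nat_lit 1, (nat_lit 0x8001ed3ef1d208049054d12d4585bb5ef56c), one, (nat_lit 0x8001ed3ef1d208049054d12d4585bb5ef56c), (.we (nat_lit 0) (nat_lit 1) (nat_lit 0x8001ed3ef1d208049054d12d4585bb5ef56c) (.st (nat_lit 2) [] [] (.sp .nil)))⟩)
 (.nd (nat_lit 5) (.lf ⟨nat_lit 1, nat_lit 1, nat_lit 0, (nat_lit 0x8004cb2086aa4d03797823e200845c4993f3), (nat_lit 0x8004cb2086aa4d03797823e200845c4993f3), one, (.wt (nat_lit 2) (nat_lit 0) one (.sp .nil) [] [])⟩)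
 (.lf ⟨nat_lit 0, nat_lit 1, nat_lit 1, (nat_lit 0x8004cb2086aa4d03797823e200845c4993f3), one, (nat_lit 0x8004cb2086aa4d03797823e200845c4993f3), (.we (nat_lit 0) (nat_lit 1) (nat_lit 0x8004cb2086aa4d03797823e200845c4993f3) (.st (nat_lit 4) [] [] (.sp .nil)))⟩))))
 (.nd (nat_lit 9) (.nd (nat_lit 7) (.lf ⟨nat_lit 0, nat_lit 1, nat_lit 1, (nat_lit 0x8001267b76784d03f96bf68f4585b31742ce), one, (nat_lit 0x8001267b76784d03f96bf68f4585b31742ce), (.prod [nat_lit 3, nat_lit 5])⟩)
 (.nd (nat_lit 8) (.lf ⟨nat_lit 1, nat_lit 1, nat_lit 0, one, one, one, (.wt (nat_lit 0) (nat_lit 0) one (.sp .nil) [] [])⟩)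
 (.lf ⟨nat_lit 1, nat_lit 1, nat_lit 1, (nat_lit 0x80076624617c5b73df69c0e956d0103a759d), (nat_lit 0x8002a822e1ab3f26fc5030043b90e963b3a4), (nat_lit 0x8002a822e1ab3f26fc5030043b90e963b3a4), (.wt (nat_lit 3) (nat_lit 0) one (.st (nat_lit 7) [] [] (.sp .nil)) [] [])⟩)))
 (.nd (nat_lit 11) (.nd (nat_lit 10) (.lf ⟨nat_lit 1, nat_lit 1, nat_lit 1, (nat_lit 0x8002a822e1ab3f26fc5030043b90e963b3a4), (nat_lit 0x80076624617c5b73df69c0e956d0103a759d), (nat_lit 0x80076624617c5b73df69c0e956d0103a759d), (.wt (nat_lit 0) (nat_lit 0) (nat_lit 0x80076624617c5b73df69c0e956d0103a759d) (.st (nat_lit 8) [] [] .nil) [] [])⟩)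
 (.lf ⟨nat_lit 1, nat_lit 1, nat_lit 1, (nat_lit 0x8006fc24749d45c3f55a53f20474d04c63ac), (nat_lit 0x8001e52ae6fc26c05c6bf3d12270691741ef), (nat_lit 0x8001007b72eb3d11e550b68f5f031a5c1366), (.wt (nat_lit 4) (nat_lit 0) (nat_lit 0x8001267b76784d03f96bf68f4585b31742ce) (.st (nat_lit 7) [nat_lit 6] [] (.sp .nil)) [] [])⟩))
 (.nd (nat_lit 12) (.lf ⟨nat_lit 1, nat_lit 1, nat_lit 1, (nat_lit 0x8005e724612e7473646bf0e95f5278174505), (nat_lit 0x80005c22e1683e24cb54c26c1c12816643b4), (nat_lit 0x80005c22e1683e24cb54c26c1c12816643b4), (.wt (nat_lit 5) (nat_lit 0) (nat_lit 0x8001267b76784d03f96bf68f4585b31742ce) (.st (nat_lit 7) [nat_lit 6] [] (.sp .nil)) [] [])⟩)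
 (.lf ⟨nat_lit 1, nat_lit 1, nat_lit 1, (nat_lit 0x8005412463d752b13b4e42815f1010143769), (nat_lit 0x8002d82082a87001680b85195232a7073023), (nat_lit 0x80029a19736428154124c5b30331a92c8599), (.wt (nat_lit 4) (nat_lit 0) (nat_lit 0x80016808945a5b723852570013d68f5a9624) (.st (nat_lit 8) [nat_lit 6] [] (.st (nat_lit 11) [nat_lit 6] [nat_lit 3] .nil)) [nat_lit 6] [])⟩)))))

noncomputable def q3_1_0 : Net :=
  mkNet (nat_lit 6) (nat_lit 15) (nat_lit 0x150988000000880c009990054)

noncomputable def q3_1_2 : Net :=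
  mkNet (nat_lit 6) (nat_lit 15) (nat_lit 0x4040118030000700c109181011)

noncomputable def q3_1_4 : Net :=
  mkNet (nat_lit 6) (nat_lit 15) (nat_lit 0x4150908000000880c289081054)

noncomputable def q3_1_20 : Net :=
  mkNet (nat_lit 6) (nat_lit 15) (nat_lit 0x900100007010100818100)

noncomputable def q3_1_21 : Net :=
  mkNet (nat_lit 6) (nat_lit 15) (nat_lit 0x1050180020000c804200899014)

noncomputable def q3_1 : List Net :=
  [q3_1_0, q3_1_0, q3_1_2, q3_1_2, q3_1_4, q3_1_4, Net.nil, Net.nil, Net.nil, Net.nil, Net.nil, Net.nil, Net.nil, Net.nil, Net.nil, Net.nil, Net.nil, Net.nil, Net.nil, Net.nil, q3_1_20, q3_1_21]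

noncomputable def Qs3 : List (ℕ × ℕ × List Net) :=
  [(nat_lit 15, nat_lit 6, q3_1)]

noncomputable def ls3 : List Ld :=
  [⟨[(nat_lit 3, [nat_lit 0]), (nat_lit 5, [nat_lit 4])], [⟨nat_lit 0, [nat_lit 0, nat_lit 1], (nat_lit 0x72110), nat_lit 4⟩], [[nat_lit 1], [nat_lit 3], [nat_lit 5]], (nat_lit 0x51041461841830c2142040)⟩]

noncomputable def lk3 : List (List ℕ) :=
  [[]]

noncomputable def d3_0 : Nd :=
  ⟨nat_lit 1, nat_lit 15, [(nat_lit 3, [nat_lit 0]), (nat_lit 5, [nat_lit 4])], [⟨nat_lit 0, [nat_lit 0, nat_lit 1], (nat_lit 0x72110), nat_lit 4⟩],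
  [⟨[nat_lit 0, nat_lit 1], (nat_lit 0x1041002000001080042040), [(nat_lit 7, nat_lit 0, []), (nat_lit 8, nat_lit 7, [nat_lit 2, nat_lit 21]), (nat_lit 9, nat_lit 9, [nat_lit 21, nat_lit 20]), (nat_lit 10, nat_lit 4, [nat_lit 2, nat_lit 4]), (nat_lit 11, nat_lit 11, [nat_lit 2, nat_lit 20]), (nat_lit 12, nat_lit 8, [nat_lit 21])]⟩]⟩

noncomputable def ds3 : List Nd :=
  [d3_0]

noncomputable def ks3 : List ℕ :=
  [nat_lit 1]

def kc3 : List (ℕ × ℕ) := [(0, 1), (1, 15)]

theorem Rn4 : Nat.beq R4.length 13 = true := by decide +kernel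

theorem Nn4 : Nat.beq N4.length 6 = true := by decide +kernel

theorem A3_p : actP 4 5 n3 22 = true := by decide +kernel

theorem A3_l_0 : rng (actL 4 5 n3 dom3 (2 * 10) us3) (nat_lit 0) (nat_lit 22) = true := by decide +kernel

theorem A3_r_0 : rng (fun i => relN 4 5 n3 (2 * 10) (nthD ([], nat_lit 0) R3 i)) (nat_lit 0) (nat_lit 7) = true := by decide +kernel

theorem hr3 : relsOk mul one lc3 dom3 nodes3 1 (2 * 10) R4 sb3 1 rs3 = true := by decide +kernel

theorem hc3_0 : rng (chk mul one wf T3 lc3 (mapR (fun e => e.2.2) rs3) 1) (nat_lit 0) (nat_lit 13) = true := by decide +kernel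

theorem AQ3_1_p : actP 6 15 q3_1 22 = true := by decide +kernel

theorem AQ3_1_l_0 : rng (actL 6 15 q3_1 dom3 (2 * 10) us3) (nat_lit 0) (nat_lit 22) = true := by decide +kernel

theorem AQ3_1_r_0 : rng (fun i => relN 6 15 q3_1 (2 * 10) (nthD ([], nat_lit 0) R3 i)) (nat_lit 0) (nat_lit 7) = true := by decide +kernel

theorem la3 : ldA mul one T3 13 lc3 5 4 n3 ls3 1 = true := by decide +kernel

theorem lb3 : ldB 60 Qs3 ls3 1 = true := by decide +kernel

theorem na3_0 : rng (fun i => ndA mul one T3 13 lc3 5 4 n3 60 (nthD ⟨nat_lit 0, nat_lit 0, [], [], []⟩ ds3 i)) (nat_lit 0) (nat_lit 1) = true := by decide +kernel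

theorem nb3_0 : rng (fun i => ndB mul one T3 13 lc3 ks3 Qs3 1 (nthD ⟨nat_lit 0, nat_lit 0, [], [], []⟩ ds3 i)) (nat_lit 0) (nat_lit 1) = true := by decide +kernel

theorem dn3 : Nat.beq ds3.length 1 = true := by decide +kernel

theorem hk3 : ks3 = ds3.map Nd.k := by decide +kernel

theorem hkc3 : kc3 = (0, 1) :: ds3.map fun d => (d.k, d.c) := by decide +kernel

theorem lo3 : linkOk mul one T3 13 ks3 lk3 1 = true := by decide +kernel

theorem do3 : domOk dom3 [0, 1, 2, 3] nodes3 1 R4 sb3 1 = true := by decide +kernel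

theorem A3_l : ∀ i < 22, (actL 4 5 n3 dom3 (2 * 10) us3) i = true :=
  (rng_add rng_zero A3_l_0)

theorem A3_r : ∀ i < 7, (fun i => relN 4 5 n3 (2 * 10) (nthD ([], nat_lit 0) R3 i)) i = true :=
  (rng_add rng_zero A3_r_0)

theorem hc3 : ∀ i < 13, (chk mul one wf T3 lc3 (mapR (fun e => e.2.2) rs3) 1) i = true :=
  (rng_add rng_zero hc3_0)

theorem AQ3_1_l : ∀ i < 22, (actL 6 15 q3_1 dom3 (2 * 10) us3) i = true :=
  (rng_add rng_zero AQ3_1_l_0)

theorem AQ3_1_r : ∀ i < 7, (fun i => relN 6 15 q3_1 (2 * 10) (nthD ([], nat_lit 0) R3 i)) i = true :=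
  (rng_add rng_zero AQ3_1_r_0)

theorem na3 : ∀ i < 1, (fun i => ndA mul one T3 13 lc3 5 4 n3 60 (nthD ⟨nat_lit 0, nat_lit 0, [], [], []⟩ ds3 i)) i = true :=
  (rng_add rng_zero na3_0)

theorem nb3 : ∀ i < 1, (fun i => ndB mul one T3 13 lc3 ks3 Qs3 1 (nthD ⟨nat_lit 0, nat_lit 0, [], [], []⟩ ds3 i)) i = true :=
  (rng_add rng_zero nb3_0)

section
universe u v
variable {R : Type v} {ι : Type} [CommRing R] [Fintype ι] [DecidableEq ι] (V : VCod R ι 12 12 app wfT) (h2 : V.mat one = 1)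

theorem A3 : Act.{0} (((S V h2).sub (mdl (g V h2) dom3)).gen lc3) 5 4 n3 :=
  act_of_up (L3 V h2) (U3 V h2) A3_p A3_l (by decide) (allR Rn3 A3_r)

theorem AQ3_1 : Act.{0} (((S V h2).sub (mdl (g V h2) dom3)).gen lc3) 15 6 q3_1 :=
  act_of_up (L3 V h2) (U3 V h2) AQ3_1_p AQ3_1_l (by decide) (allR Rn3 AQ3_1_r)

theorem C3 : Cert.{u} ((S V h2).sub (mdl (g V h2) dom3)) T3 13 (mgen (g V h2) dom3) dom3 [0, 1, 2, 3] nodes3 1 (R3 ++ N4) kc3 :=
  have := fin3 V h2
  cert_of (L3 V h2) (card3 V h2).le (A3 V h2) (Qs := Qs3) (List.forall_mem_cons.2 ⟨AQ3_1 V h2, List.forall_mem_nil _⟩) hr3 hc3 la3 lb3 hk3 (allR dn3 na3) (allR dn3 nb3) lo3 do3 hkc3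

end

def dom4 : List ℕ := [0, 1, 2, 3]

noncomputable def us4 : List (List ℕ) :=
  [(unp (nat_lit 3) (nat_lit 0x31f5006)), (unp (nat_lit 3) (nat_lit 0x754a59009)), (unp (nat_lit 5) (nat_lit 0x2b51568206))]

noncomputable def lc4 : List ℕ :=
  [nthD one bc (nat_lit 0),
  nthD one bc (nat_lit 1),
  nthD one bc (nat_lit 2),
  nthD one bc (nat_lit 3),
  nthD one bc (nat_lit 4),
  nthD one bc (nat_lit 5),
  nthD one bc (nat_lit 6),
  nthD one bc (nat_lit 7),
  one,
  one,
  one,
  one,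
  one,
  one,
  one,
  one,
  one,
  one,
  one,
  one,
  (nat_lit 0x8005a82461ed5b31806af281701278390599),
  (nat_lit 0x8004022460471ef3df0200523d12f414339a),
  (nat_lit 0x8005412463d752b13b4e42815f1010143769)]

noncomputable def v4_0 : VL :=
  ⟨(nat_lit 520), [[nat_lit 0], [nat_lit 2], [nat_lit 4], [nat_lit 6]], nat_lit 3, [(nat_lit 0x5008c20201181008c080050265124)], nat_lit 5, nat_lit 20⟩

noncomputable def v4_1 : VL :=
  ⟨(nat_lit 836), [(unp (nat_lit 2) (nat_lit 0x2203)), (unp (nat_lit 3) (nat_lit 0xa203)), (unp (nat_lit 3) (nat_lit 0x40b005))], nat_lit 2, [(nat_lit 0xe0c39c0c3780c3b03e70037203c9e003b03e09c0c82795a)], nat_lit 6, nat_lit 48⟩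

noncomputable def vl4 : List VL :=
  [v4_0, v4_1]

theorem lco4 : lcOk mul one bc lc4 dom4 (2 * 10) us4 23 = true := by decide +kernel

theorem rc4_0 : rng (fun i => relC mul one bc (2 * 10) (nthD ([], nat_lit 0) N4 i)) (nat_lit 0) (nat_lit 6) = true := by decide +kernel

theorem sm3 : Nat.beq ((kc3.map Prod.snd).sum * 60) 960 = true := by decide +kernel

theorem vc4 : vchainOk (app 12 1) (wfT 12 1) mul one lc4 [] vl4 = true := by decide +kernel

theorem vf4 : band (allL (fun i => memL i dom4) dom0) (VCod.fixD (app 12 1) (wfT 12 1) one bc dom0 vl4) = true := by decide +kernel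

theorem vp4 : (vl4.map VL.d).prod * 1 = 960 := by decide +kernel

theorem rd4 : allL (fun r => allL (fun l => memL (Nat.shiftRight l (nat_lit 1)) dom4) r.1) (R3 ++ N4) = true := by decide +kernel

theorem rc4 : ∀ i < 6, (fun i => relC mul one bc (2 * 10) (nthD ([], nat_lit 0) N4 i)) i = true :=
  (rng_add rng_zero rc4_0)

section
universe u v
variable {R : Type v} {ι : Type} [CommRing R] [Fintype ι] [DecidableEq ι] (V : VCod R ι 12 12 app wfT) (h2 : V.mat one = 1)

theorem L4 : Lc ((S V h2).sub (mdl (g V h2) dom4)) (mgen (g V h2) dom4) lc4 dom4 (2 * 10) us4 23 :=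
  lc_of (S V h2) (h0 V h2) bco lco4

theorem rel4 : Rels R4 (g V h2) := (rel3 V h2).append ((S V h2).rels (h0 V h2) bco (allR Nn4 rc4))

theorem le4 : Finite (mdl (g V h2) dom4) ∧ Nat.card (mdl (g V h2) dom4) ≤ 960 :=
  have := fin3 V h2
  step_le (C3 V h2) (U3 V h2) (rel4 V h2) (card3 V h2) sm3

theorem fin4 : Finite (mdl (g V h2) dom4) := (le4 V h2).1

theorem card4 : Nat.card (mdl (g V h2) dom4) = 960 := by
  have : Finite (mdl ((V.sem h1 h2).bg bc) dom4) := fin4 V h2
  have h := V.le_card_mdl h1 h2 (h0 V h2) (L4 V h2).ok vc4 vf4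
  exact le_antisymm (le4 V h2).2 (le_trans (vp4.symm.trans (congrArg (HMul.hMul (vl4.map VL.d).prod) (card0 V h2).symm)).le h)

theorem U4 : UP.{0} (mgen (g V h2) dom4) dom4 R4 :=
  have := fin3 V h2
  step_up (C3 V h2) (U3 V h2) (rel4 V h2) (card3 V h2) sm3 (card4 V h2) rd4

end

noncomputable def N5 : List (List ℕ × ℕ) :=
  [([nat_lit 8], nat_lit 2),
  ((unp (nat_lit 4) (nat_lit 0x392804)), nat_lit 1),
  ((unp (nat_lit 4) (nat_lit 0x3153139403180c)), nat_lit 1),
  ((unp (nat_lit 4) (nat_lit 0x5731357902620213731814)), nat_lit 1),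
  ((unp (nat_lit 4) (nat_lit 0x81819106)), nat_lit 1)]

noncomputable def R5 : List (List ℕ × ℕ) :=
  R4 ++ N5

noncomputable def n4_0 : Net :=
  mkNet (nat_lit 6) (nat_lit 20) (nat_lit 0x100000300060000006000060002600f0c0003000101)

noncomputable def n4_2 : Net :=
  mkNet (nat_lit 6) (nat_lit 20) (nat_lit 0x415400000005000000100001000510050a0220044154)

noncomputable def n4_4 : Net :=
  mkNet (nat_lit 6) (nat_lit 20) (nat_lit 0x14010000000050000005000050001500f0a0000114010)

noncomputable def n4_6 : Net :=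
  mkNet (nat_lit 6) (nat_lit 20) (nat_lit 0x14004000000050000005000050001500f0a1320114004)

noncomputable def n4_20 : Net :=
  mkNet (nat_lit 6) (nat_lit 20) (nat_lit 0x141143220000d010000f0000f0008a006033233015044)

noncomputable def n4_21 : Net :=
  mkNet (nat_lit 6) (nat_lit 20) (nat_lit 0x50440100300080c0000a0000e000e80040a3132001004)

noncomputable def n4_22 : Net :=
  mkNet (nat_lit 6) (nat_lit 20) (nat_lit 0x10031000009020000b0000b0008100f062133000100)

noncomputable def n4 : List Net :=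
  [n4_0, n4_0, n4_2, n4_2, n4_4, n4_4, n4_6, n4_6, Net.nil, Net.nil, Net.nil, Net.nil, Net.nil, Net.nil, Net.nil, Net.nil, Net.nil, Net.nil, Net.nil, Net.nil, n4_20, n4_21, n4_22]

def nodes4 : List ℕ := [8]

def sb4 : List (ℕ × ℕ × ℕ) := [(9, 13, 0)]

noncomputable def rs4 : List (ℕ × ℕ × List (ℕ × ℕ)) :=
  [(nat_lit 13, nat_lit 0, [(nat_lit 1, (nat_lit 0x800400200100080040020010008004002001)), (nat_lit 1, (nat_lit 0x800400200100080040020010008004002001))]),
  (nat_lit 14, nat_lit 3, [(nat_lit 1, (nat_lit 0x8006782001c32a70930bc01004726c2b904e)), (nat_lit 1, (nat_lit 0x8006782001c32a70930bc01004726c2b904e))]),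
  (nat_lit 15, nat_lit 6, [(nat_lit 1, (nat_lit 0x8005a82461ed5b31806af281701278390599)), (nat_lit 1, (nat_lit 0x80076624617c5b73df69c0e956d0103a759d))]),
  (nat_lit 16, nat_lit 13, [(nat_lit 1, (nat_lit 0x8007662005053b97e942504f3a409173e3f2)), (nat_lit 1, (nat_lit 0x8002a820006915273a6bf09c1ed03374f168))]),
  (nat_lit 17, nat_lit 0, [(nat_lit 1, (nat_lit 0x8001ed3ef1d208049054d12d4585bb5ef56c)), (nat_lit 1, (nat_lit 0x8001ed3ef1d208049054d12d4585bb5ef56c)), (nat_lit 1, (nat_lit 0x8001ed3ef1d208049054d12d4585bb5ef56c))])]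

noncomputable def T4 : Tr :=
  (.nd (nat_lit 8) (.nd (nat_lit 4) (.nd (nat_lit 2) (.nd (nat_lit 1) (.lf ⟨nat_lit 0, nat_lit 0, nat_lit 0, one, one, one, .triv⟩)
 (.lf ⟨nat_lit 0, nat_lit 0, nat_lit 0, one, one, one, .triv⟩))
 (.nd (nat_lit 3) (.lf ⟨nat_lit 1, nat_lit 1, nat_lit 0, (nat_lit 0x8006782001c32a70930bc01004726c2b904e), (nat_lit 0x8006782001c32a70930bc01004726c2b904e), one, (.wt (nat_lit 1) (nat_lit 0) one (.sp .nil) [] [])⟩)
 (.lf ⟨nat_lit 0, nat_lit 1, nat_lit 1, (nat_lit 0x8006782001c32a70930bc01004726c2b904e), one, (nat_lit 0x8006782001c32a70930bc01004726c2b904e), (.we (nat_lit 0) (nat_lit 1) (nat_lit 0x8006782001c32a70930bc01004726c2b904e) (.st (nat_lit 2) [] [] (.sp .nil)))⟩)))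
 (.nd (nat_lit 6) (.nd (nat_lit 5) (.lf ⟨nat_lit 1, nat_lit 1, nat_lit 0, (nat_lit 0x8005a82461ed5b31806af281701278390599), (nat_lit 0x8002a822e1ab3f26fc5030043b90e963b3a4), one, (.wt (nat_lit 2) (nat_lit 0) one (.sp .nil) [] [])⟩)
 (.lf ⟨nat_lit 0, nat_lit 1, nat_lit 1, (nat_lit 0x8005a82461ed5b31806af281701278390599), one, (nat_lit 0x8002a822e1ab3f26fc5030043b90e963b3a4), (.we (nat_lit 0) (nat_lit 1) (nat_lit 0x8005a82461ed5b31806af281701278390599) (.st (nat_lit 4) [] [] (.sp .nil)))⟩))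
 (.nd (nat_lit 7) (.lf ⟨nat_lit 0, nat_lit 1, nat_lit 1, (nat_lit 0x8005412463d752b13b4e42815f1010143769), one, (nat_lit 0x8000c422e13a1a96695a500438a2814c6397), (.prod [nat_lit 3, nat_lit 5])⟩)
 (.lf ⟨nat_lit 0, nat_lit 1, nat_lit 1, (nat_lit 0x8000c422e13a1a96695a500438a2814c6397), one, (nat_lit 0x8005412463d752b13b4e42815f1010143769), (.prod [nat_lit 6, nat_lit 6])⟩))))
 (.nd (nat_lit 12) (.nd (nat_lit 10) (.nd (nat_lit 9) (.lf ⟨nat_lit 0, nat_lit 1, nat_lit 1, (nat_lit 0x8005412463d752b13b4e42815f1010143769), one, (nat_lit 0x8000c422e13a1a96695a500438a2814c6397), (.prod [nat_lit 3, nat_lit 5])⟩)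
 (.lf ⟨nat_lit 1, nat_lit 1, nat_lit 0, (nat_lit 0x8007662005053b97e942504f3a409173e3f2), (nat_lit 0x8002a820006915273a6bf09c1ed03374f168), one, (.wt (nat_lit 3) (nat_lit 0) one (.sp .nil) [] [])⟩))
 (.nd (nat_lit 11) (.lf ⟨nat_lit 0, nat_lit 1, nat_lit 1, (nat_lit 0x8007662005053b97e942504f3a409173e3f2), one, (nat_lit 0x8002a820006915273a6bf09c1ed03374f168), (.we (nat_lit 0) (nat_lit 1) (nat_lit 0x8007662005053b97e942504f3a409173e3f2) (.st (nat_lit 9) [] [] (.sp .nil)))⟩)
 (.lf ⟨nat_lit 0, nat_lit 1, nat_lit 1, (nat_lit 0x8005412005991c173a4e604f3b42f95853e2), one, (nat_lit 0x80005c2000263f97e96af09c12e25b5f41ab), (.prod [nat_lit 3, nat_lit 10])⟩)))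
 (.nd (nat_lit 14) (.nd (nat_lit 13) (.lf ⟨nat_lit 0, nat_lit 1, nat_lit 1, (nat_lit 0x80065b2465b717c6bc50324b3912274f31c3), one, (nat_lit 0x80040022e04e56d13d4e603359d0521415b7), (.prod [nat_lit 5, nat_lit 10])⟩)
 (.lf ⟨nat_lit 0, nat_lit 1, nat_lit 1, (nat_lit 0x8000c42463a40ae6074e62f02cf2ab4c4026), one, (nat_lit 0x80076622e3e21681a80bc0a615209811e1ed), (.prod [nat_lit 10, nat_lit 5])⟩))
 (.nd (nat_lit 15) (.lf ⟨nat_lit 1, nat_lit 1, nat_lit 0, one, one, one, (.wt (nat_lit 0) (nat_lit 0) one (.sp .nil) [] [])⟩)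
 (.nd (nat_lit 16) (.lf ⟨nat_lit 1, nat_lit 1, nat_lit 1, (nat_lit 0x8001ed3ef1d208049054d12d4585bb5ef56c), (nat_lit 0x8001ab3ef31a54104f50b6240c14e30686fc), (nat_lit 0x80074720869f39a45a54d12d3df0c15ef2eb), (.wt (nat_lit 4) (nat_lit 0) (nat_lit 0x8000c42002a71c35f04e42f417c033585391) (.st (nat_lit 14) [nat_lit 7, nat_lit 12] [] (.sp .nil)) [] [])⟩)
 (.lf ⟨nat_lit 1, nat_lit 1, nat_lit 1, (nat_lit 0x8005b322e4025a82276dc29a1524586173d1), (nat_lit 0x8000802464c14000334e649013a5f05855b3), (nat_lit 0x8003b47ef00104e62424c18040012d2c8599), (.wt (nat_lit 4) (nat_lit 0) (nat_lit 0x8000ae72b1e51c33f354d49d6bc2d85ef238) (.st (nat_lit 15) [nat_lit 7, nat_lit 12] [] (.st (nat_lit 15) [nat_lit 6, nat_lit 13] [nat_lit 10] .nil)) [nat_lit 11] [])⟩))))))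

noncomputable def q4_1_0 : Net :=
  mkNet (nat_lit 6) (nat_lit 20) (nat_lit 0x44000023000a0000008000080002800a0c1123004501)

noncomputable def q4_1_2 : Net :=
  mkNet (nat_lit 6) (nat_lit 20) (nat_lit 0x40154101000040000004000040005400e0a3010040154)

noncomputable def q4_1_4 : Net :=
  mkNet (nat_lit 6) (nat_lit 20) (nat_lit 0x101102220000b08000060000e0009600b0a2320110110)

noncomputable def q4_1_6 : Net :=
  mkNet (nat_lit 6) (nat_lit 20) (nat_lit 0x451000110007040000d0000d000ed007020011304405)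

noncomputable def q4_1_20 : Net :=
  mkNet (nat_lit 6) (nat_lit 20) (nat_lit 0x1500110000805000090000d00004003071213051450)

noncomputable def q4_1_21 : Net :=
  mkNet (nat_lit 6) (nat_lit 20) (nat_lit 0x50003122000b02000070000700059003040212244500)

noncomputable def q4_1_22 : Net :=
  mkNet (nat_lit 6) (nat_lit 20) (nat_lit 0x500012000000000000e0000e00026000040303044500)

noncomputable def q4_1 : List Net :=
  [q4_1_0, q4_1_0, q4_1_2, q4_1_2, q4_1_4, q4_1_4, q4_1_6, q4_1_6, Net.nil, Net.nil, Net.nil, Net.nil, Net.nil, Net.nil, Net.nil, Net.nil, Net.nil, Net.nil, Net.nil, Net.nil, q4_1_20, q4_1_21, q4_1_22]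

noncomputable def Qs4 : List (ℕ × ℕ × List Net) :=
  [(nat_lit 20, nat_lit 6, q4_1)]

noncomputable def ls4 : List Ld :=
  [⟨[(nat_lit 6, [nat_lit 22, nat_lit 22]), (nat_lit 3, [nat_lit 2]), (nat_lit 10, (unp (nat_lit 5) (nat_lit 0x5a9503)))], [⟨nat_lit 1, (unp (nat_lit 2) (nat_lit 0x2403)), (nat_lit 0x1037c27c41011030831020c17c301f), nat_lit 16⟩, ⟨nat_lit 2, [nat_lit 0], (nat_lit 0x7df7df7df7df7df7df7c27c17c07df), nat_lit 3⟩], [[nat_lit 1], [nat_lit 3], [nat_lit 7]], (nat_lit 0x1851841051431450c4104082043040)⟩]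

noncomputable def lk4 : List (List ℕ) :=
  [[]]

noncomputable def d4_0 : Nd :=
  ⟨nat_lit 1, nat_lit 20, [(nat_lit 8, [nat_lit 22]), (nat_lit 3, [nat_lit 2]), (nat_lit 10, (unp (nat_lit 5) (nat_lit 0xb0ab404)))], [⟨nat_lit 1, (unp (nat_lit 2) (nat_lit 0x2403)), (nat_lit 0xc47c37c41020c30441030817c201f), nat_lit 16⟩, ⟨nat_lit 2, [nat_lit 0], (nat_lit 0x7df7df7df7df7df7df7c17c27c07df), nat_lit 3⟩],
  [⟨(unp (nat_lit 2) (nat_lit 0x2403)), (nat_lit 0x840c40840c10c01040c3081042000), [(nat_lit 14, nat_lit 0, []), (nat_lit 15, nat_lit 1, [nat_lit 0]), (nat_lit 16, nat_lit 10, (unp (nat_lit 5) (nat_lit 0x1a8603)))]⟩]⟩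

noncomputable def ds4 : List Nd :=
  [d4_0]

noncomputable def ks4 : List ℕ :=
  [nat_lit 1]

def kc4 : List (ℕ × ℕ) := [(0, 1), (1, 20)]

theorem Rn5 : Nat.beq R5.length 18 = true := by decide +kernel

theorem Nn5 : Nat.beq N5.length 5 = true := by decide +kernel

theorem A4_p : actP 6 20 n4 23 = true := by decide +kernel

theorem A4_l_0 : rng (actL 6 20 n4 dom4 (2 * 10) us4) (nat_lit 0) (nat_lit 23) = true := by decide +kernel

theorem A4_r_0 : rng (fun i => relN 6 20 n4 (2 * 10) (nthD ([], nat_lit 0) R4 i)) (nat_lit 0) (nat_lit 13) = true := by decide +kernel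

theorem hr4 : relsOk mul one lc4 dom4 nodes4 1 (2 * 10) R5 sb4 1 rs4 = true := by decide +kernel

theorem hc4_0 : rng (chk mul one wf T4 lc4 (mapR (fun e => e.2.2) rs4) 1) (nat_lit 0) (nat_lit 17) = true := by decide +kernel

theorem AQ4_1_p : actP 6 20 q4_1 23 = true := by decide +kernel

theorem AQ4_1_l_0 : rng (actL 6 20 q4_1 dom4 (2 * 10) us4) (nat_lit 0) (nat_lit 23) = true := by decide +kernel

theorem AQ4_1_r_0 : rng (fun i => relN 6 20 q4_1 (2 * 10) (nthD ([], nat_lit 0) R4 i)) (nat_lit 0) (nat_lit 13) = true := by decide +kernel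

theorem la4 : ldA mul one T4 17 lc4 20 6 n4 ls4 1 = true := by decide +kernel

theorem lb4 : ldB 960 Qs4 ls4 1 = true := by decide +kernel

theorem na4_0 : rng (fun i => ndA mul one T4 17 lc4 20 6 n4 960 (nthD ⟨nat_lit 0, nat_lit 0, [], [], []⟩ ds4 i)) (nat_lit 0) (nat_lit 1) = true := by decide +kernel

theorem nb4_0 : rng (fun i => ndB mul one T4 17 lc4 ks4 Qs4 1 (nthD ⟨nat_lit 0, nat_lit 0, [], [], []⟩ ds4 i)) (nat_lit 0) (nat_lit 1) = true := by decide +kernel

theorem dn4 : Nat.beq ds4.length 1 = true := by decide +kernel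

theorem hk4 : ks4 = ds4.map Nd.k := by decide +kernel

theorem hkc4 : kc4 = (0, 1) :: ds4.map fun d => (d.k, d.c) := by decide +kernel

theorem lo4 : linkOk mul one T4 17 ks4 lk4 1 = true := by decide +kernel

theorem do4 : domOk dom4 [0, 1, 2, 3, 4] nodes4 1 R5 sb4 1 = true := by decide +kernel

theorem A4_l : ∀ i < 23, (actL 6 20 n4 dom4 (2 * 10) us4) i = true :=
  (rng_add rng_zero A4_l_0)

theorem A4_r : ∀ i < 13, (fun i => relN 6 20 n4 (2 * 10) (nthD ([], nat_lit 0) R4 i)) i = true :=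
  (rng_add rng_zero A4_r_0)

theorem hc4 : ∀ i < 17, (chk mul one wf T4 lc4 (mapR (fun e => e.2.2) rs4) 1) i = true :=
  (rng_add rng_zero hc4_0)

theorem AQ4_1_l : ∀ i < 23, (actL 6 20 q4_1 dom4 (2 * 10) us4) i = true :=
  (rng_add rng_zero AQ4_1_l_0)

theorem AQ4_1_r : ∀ i < 13, (fun i => relN 6 20 q4_1 (2 * 10) (nthD ([], nat_lit 0) R4 i)) i = true :=
  (rng_add rng_zero AQ4_1_r_0)

theorem na4 : ∀ i < 1, (fun i => ndA mul one T4 17 lc4 20 6 n4 960 (nthD ⟨nat_lit 0, nat_lit 0, [], [], []⟩ ds4 i)) i = true :=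
  (rng_add rng_zero na4_0)

theorem nb4 : ∀ i < 1, (fun i => ndB mul one T4 17 lc4 ks4 Qs4 1 (nthD ⟨nat_lit 0, nat_lit 0, [], [], []⟩ ds4 i)) i = true :=
  (rng_add rng_zero nb4_0)

section
universe u v
variable {R : Type v} {ι : Type} [CommRing R] [Fintype ι] [DecidableEq ι] (V : VCod R ι 12 12 app wfT) (h2 : V.mat one = 1)

theorem A4 : Act.{0} (((S V h2).sub (mdl (g V h2) dom4)).gen lc4) 20 6 n4 :=
  act_of_up (L4 V h2) (U4 V h2) A4_p A4_l (by decide) (allR Rn4 A4_r)

theorem AQ4_1 : Act.{0} (((S V h2).sub (mdl (g V h2) dom4)).gen lc4) 20 6 q4_1 :=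
  act_of_up (L4 V h2) (U4 V h2) AQ4_1_p AQ4_1_l (by decide) (allR Rn4 AQ4_1_r)

theorem C4 : Cert.{u} ((S V h2).sub (mdl (g V h2) dom4)) T4 17 (mgen (g V h2) dom4) dom4 [0, 1, 2, 3, 4] nodes4 1 (R4 ++ N5) kc4 :=
  have := fin4 V h2
  cert_of (L4 V h2) (card4 V h2).le (A4 V h2) (Qs := Qs4) (List.forall_mem_cons.2 ⟨AQ4_1 V h2, List.forall_mem_nil _⟩) hr4 hc4 la4 lb4 hk4 (allR dn4 na4) (allR dn4 nb4) lo4 do4 hkc4

end

def dom5 : List ℕ := [0, 1, 2, 3, 4]

noncomputable def us5 : List (List ℕ) :=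
  [(unp (nat_lit 4) (nat_lit 0x18781282600a)), (unp (nat_lit 4) (nat_lit 0x4596725808)), (unp (nat_lit 4) (nat_lit 0x93102818009)), (unp (nat_lit 5) (nat_lit 0x2d6ad2b506)), (unp (nat_lit 5) (nat_lit 0x5ab6a52f407)), (unp (nat_lit 5) (nat_lit 0x5ed703)), (unp (nat_lit 5) (nat_lit 0xa5eb5b5af408)), (unp (nat_lit 5) (nat_lit 0x6b5903))]

noncomputable def lc5 : List ℕ :=
  [nthD one bc (nat_lit 0),
  nthD one bc (nat_lit 1),
  nthD one bc (nat_lit 2),
  nthD one bc (nat_lit 3),
  nthD one bc (nat_lit 4),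
  nthD one bc (nat_lit 5),
  nthD one bc (nat_lit 6),
  nthD one bc (nat_lit 7),
  nthD one bc (nat_lit 8),
  nthD one bc (nat_lit 9),
  one,
  one,
  one,
  one,
  one,
  one,
  one,
  one,
  one,
  one,
  (nat_lit 0x8000581974f374f5b302028a3392385f14ff),
  (nat_lit 0x8005e72ae49973e63b5253e251d4c41e5023),
  (nat_lit 0x8005415470402781000206172f03bc5bc001),
  (nat_lit 0x8005ef3ef5f551d6fc69c2594fd5993a43a7),
  (nat_lit 0x8000fd1b45994585f40202813b41684ff490),
  (nat_lit 0x8004932ae13d3b43d10b802630a039091390),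
  (nat_lit 0x8006383ef60759d7477823e24585bc23a2b9),
  (nat_lit 0x8005412463d752b13b4e42815f1010143769)]

noncomputable def v5_0 : VL :=
  ⟨(nat_lit 1143), [[nat_lit 0], [nat_lit 2], [nat_lit 4], [nat_lit 6], [nat_lit 8]], nat_lit 3, [(nat_lit 0x140288c200502881810a800a0151126)], nat_lit 5, nat_lit 21⟩

noncomputable def v5_1 : VL :=
  ⟨(nat_lit 512), [(unp (nat_lit 5) (nat_lit 0x1846056b6a671b0b)), (unp (nat_lit 5) (nat_lit 0x2f4c637b06)), (unp (nat_lit 5) (nat_lit 0x2d8c677b06))], nat_lit 2, [(nat_lit 0x2c1870c18072600e1923)], nat_lit 5, nat_lit 20⟩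

noncomputable def v5_2 : VL :=
  ⟨(nat_lit 480), [(unp (nat_lit 5) (nat_lit 0x8c0b5ed808)), (unp (nat_lit 5) (nat_lit 0xc4bda99d677b0a)), (unp (nat_lit 5) (nat_lit 0x20c0a631b07))], nat_lit 2, [(nat_lit 0x30c609700c385c070e0d6001825c01701c35802701c3655b)], nat_lit 6, nat_lit 48⟩

noncomputable def vl5 : List VL :=
  [v5_0, v5_1, v5_2]

theorem lco5 : lcOk mul one bc lc5 dom5 (2 * 10) us5 28 = true := by decide +kernel

theorem rc5_0 : rng (fun i => relC mul one bc (2 * 10) (nthD ([], nat_lit 0) N5 i)) (nat_lit 0) (nat_lit 5) = true := by decide +kernel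

theorem sm4 : Nat.beq ((kc4.map Prod.snd).sum * 960) 20160 = true := by decide +kernel

theorem vc5 : vchainOk (app 12 1) (wfT 12 1) mul one lc5 [] vl5 = true := by decide +kernel

theorem vf5 : band (allL (fun i => memL i dom5) dom0) (VCod.fixD (app 12 1) (wfT 12 1) one bc dom0 vl5) = true := by decide +kernel

theorem vp5 : (vl5.map VL.d).prod * 1 = 20160 := by decide +kernel

theorem rd5 : allL (fun r => allL (fun l => memL (Nat.shiftRight l (nat_lit 1)) dom5) r.1) (R4 ++ N5) = true := by decide +kernel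

theorem rc5 : ∀ i < 5, (fun i => relC mul one bc (2 * 10) (nthD ([], nat_lit 0) N5 i)) i = true :=
  (rng_add rng_zero rc5_0)

section
universe u v
variable {R : Type v} {ι : Type} [CommRing R] [Fintype ι] [DecidableEq ι] (V : VCod R ι 12 12 app wfT) (h2 : V.mat one = 1)

theorem L5 : Lc ((S V h2).sub (mdl (g V h2) dom5)) (mgen (g V h2) dom5) lc5 dom5 (2 * 10) us5 28 :=
  lc_of (S V h2) (h0 V h2) bco lco5

theorem rel5 : Rels R5 (g V h2) := (rel4 V h2).append ((S V h2).rels (h0 V h2) bco (allR Nn5 rc5))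

theorem le5 : Finite (mdl (g V h2) dom5) ∧ Nat.card (mdl (g V h2) dom5) ≤ 20160 :=
  have := fin4 V h2
  step_le (C4 V h2) (U4 V h2) (rel5 V h2) (card4 V h2) sm4

theorem fin5 : Finite (mdl (g V h2) dom5) := (le5 V h2).1

theorem card5 : Nat.card (mdl (g V h2) dom5) = 20160 := by
  have : Finite (mdl ((V.sem h1 h2).bg bc) dom5) := fin5 V h2
  have h := V.le_card_mdl h1 h2 (h0 V h2) (L5 V h2).ok vc5 vf5
  exact le_antisymm (le5 V h2).2 (le_trans (vp5.symm.trans (congrArg (HMul.hMul (vl5.map VL.d).prod) (card0 V h2).symm)).le h)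

theorem U5 : UP.{0} (mgen (g V h2) dom5) dom5 R5 :=
  have := fin4 V h2
  step_up (C4 V h2) (U4 V h2) (rel5 V h2) (card4 V h2) sm4 (card5 V h2) rd5

end

noncomputable def N6 : List (List ℕ × ℕ) :=
  [([nat_lit 10], nat_lit 2),
  ((unp (nat_lit 4) (nat_lit 0x31731353b0202402a11)), nat_lit 1),
  ((unp (nat_lit 4) (nat_lit 0x7b6a04)), nat_lit 1),
  ((unp (nat_lit 4) (nat_lit 0x31357313b242a0d)), nat_lit 1),
  ((unp (nat_lit 4) (nat_lit 0xa9a9b906)), nat_lit 1)]

noncomputable def R6 : List (List ℕ × ℕ) :=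
  R5 ++ N6

noncomputable def n5_0 : Net :=
  mkNet (nat_lit 6) (nat_lit 21) (nat_lit 0x5054008880010000000800004000020414104226405154)

noncomputable def n5_2 : Net :=
  mkNet (nat_lit 6) (nat_lit 21) (nat_lit 0x4001008888000400000020000100008803c302222050010)

noncomputable def n5_4 : Net :=
  mkNet (nat_lit 6) (nat_lit 21) (nat_lit 0x411008808040c000000e000070001b840c102202444110)

noncomputable def n5_6 : Net :=
  mkNet (nat_lit 6) (nat_lit 21) (nat_lit 0x1011008100002c200001c0000e0004f042c382040010110)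

noncomputable def n5_8 : Net :=
  mkNet (nat_lit 6) (nat_lit 21) (nat_lit 0x50018800001800000040000200021043c206200010501)

noncomputable def n5_20 : Net :=
  mkNet (nat_lit 6) (nat_lit 21) (nat_lit 0x15500100880008000001000008000548408104222055500)

noncomputable def n5_21 : Net :=
  mkNet (nat_lit 6) (nat_lit 21) (nat_lit 0x14544110008408200000e0000f0000f8424302040051044)

noncomputable def n5_22 : Net :=
  mkNet (nat_lit 6) (nat_lit 21) (nat_lit 0x41400088080010000000800004000220434006206241400)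

noncomputable def n5_23 : Net :=
  mkNet (nat_lit 6) (nat_lit 21) (nat_lit 0x4504411800000c20000040000e00041840c204640045054)

noncomputable def n5_24 : Net :=
  mkNet (nat_lit 6) (nat_lit 21) (nat_lit 0x5010019900014000000e000170001f0424006440005010)

noncomputable def n5_25 : Net :=
  mkNet (nat_lit 6) (nat_lit 21) (nat_lit 0x5111010000840400000060000b0002b8404004404251110)

noncomputable def n5_26 : Net :=
  mkNet (nat_lit 6) (nat_lit 21) (nat_lit 0x41050199088434000000c0001600069003c300460205440)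

noncomputable def n5_27 : Net :=
  mkNet (nat_lit 6) (nat_lit 21) (nat_lit 0x1110018800001010000100001c000060424302604000400)

noncomputable def n5 : List Net :=
  [n5_0, n5_0, n5_2, n5_2, n5_4, n5_4, n5_6, n5_6, n5_8, n5_8, Net.nil, Net.nil, Net.nil, Net.nil, Net.nil, Net.nil, Net.nil, Net.nil, Net.nil, Net.nil, n5_20, n5_21, n5_22, n5_23, n5_24, n5_25, n5_26, n5_27]

def nodes5 : List ℕ := [10]

def sb5 : List (ℕ × ℕ × ℕ) := [(11, 18, 0)]

noncomputable def rs5 : List (ℕ × ℕ × List (ℕ × ℕ)) :=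
  [(nat_lit 18, nat_lit 0, [(nat_lit 1, (nat_lit 0x800400200100080040020010008004002001)), (nat_lit 1, (nat_lit 0x800400200100080040020010008004002001))]),
  (nat_lit 19, nat_lit 9, [(nat_lit 1, (nat_lit 0x80015254729a3f215e50b45c7e93d05c13ac)), (nat_lit 1, (nat_lit 0x8000081b44d02a800452523831a28a04613b))]),
  (nat_lit 20, nat_lit 3, [(nat_lit 1, (nat_lit 0x8000e822e2891ef6604e62d87696245855a8)), (nat_lit 1, (nat_lit 0x8000e822e2891ef6604e62d87696245855a8))]),
  (nat_lit 21, nat_lit 5, [(nat_lit 1, (nat_lit 0x80015e24745e0040c469c3f204f0803a73a4)), (nat_lit 1, (nat_lit 0x8001a87b306337976902016873a17c00264b))]),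
  (nat_lit 22, nat_lit 0, [(nat_lit 1, (nat_lit 0x80068522e12e74709354c01059928127a56d)), (nat_lit 1, (nat_lit 0x80068522e12e74709354c01059928127a56d)), (nat_lit 1, (nat_lit 0x80068522e12e74709354c01059928127a56d))])]

noncomputable def T5 : Tr :=
  (.nd (nat_lit 17) (.nd (nat_lit 8) (.nd (nat_lit 4) (.nd (nat_lit 2) (.nd (nat_lit 1) (.lf ⟨nat_lit 0, nat_lit 0, nat_lit 0, one, one, one, .triv⟩)
 (.lf ⟨nat_lit 0, nat_lit 0, nat_lit 0, one, one, one, .triv⟩))
 (.nd (nat_lit 3) (.lf ⟨nat_lit 1, nat_lit 1, nat_lit 0, (nat_lit 0x80015254729a3f215e50b45c7e93d05c13ac), (nat_lit 0x80031a3ef09c52328a24c5b34000402c81aa), one, (.wt (nat_lit 1) (nat_lit 0) one (.sp .nil) [] [])⟩)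
 (.lf ⟨nat_lit 0, nat_lit 1, nat_lit 1, (nat_lit 0x80015254729a3f215e50b45c7e93d05c13ac), one, (nat_lit 0x80031a3ef09c52328a24c5b34000402c81aa), (.we (nat_lit 0) (nat_lit 1) (nat_lit 0x80015254729a3f215e50b45c7e93d05c13ac) (.st (nat_lit 2) [] [] (.sp .nil)))⟩)))
 (.nd (nat_lit 6) (.nd (nat_lit 5) (.lf ⟨nat_lit 0, nat_lit 1, nat_lit 1, (nat_lit 0x80025972b0c11e766024c06956d12d2c851d), one, (nat_lit 0x8000081b44d02a800452523831a28a04613b), (.prod [nat_lit 3, nat_lit 3])⟩)
 (.lf ⟨nat_lit 0, nat_lit 1, nat_lit 1, (nat_lit 0x80025972b0c11e766024c06956d12d2c851d), one, (nat_lit 0x8000081b44d02a800452523831a28a04613b), (.prod [nat_lit 3, nat_lit 3])⟩))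
 (.nd (nat_lit 7) (.lf ⟨nat_lit 1, nat_lit 1, nat_lit 0, (nat_lit 0x8000081b44d02a800452523831a28a04613b), (nat_lit 0x80025972b0c11e766024c06956d12d2c851d), one, (.wt (nat_lit 1) (nat_lit 1) one (.sp .nil) [] [])⟩)
 (.lf ⟨nat_lit 0, nat_lit 1, nat_lit 1, (nat_lit 0x8000081b44d02a800452523831a28a04613b), one, (nat_lit 0x80025972b0c11e766024c06956d12d2c851d), (.we (nat_lit 0) (nat_lit 1) (nat_lit 0x8000081b44d02a800452523831a28a04613b) (.st (nat_lit 6) [] [] (.sp .nil)))⟩))))
 (.nd (nat_lit 12) (.nd (nat_lit 10) (.nd (nat_lit 9) (.lf ⟨nat_lit 0, nat_lit 1, nat_lit 1, (nat_lit 0x8001a922e3970ae49d02070015215e00264b), one, (nat_lit 0x80056d22e5b71ed12d4e406302616958505c), (.prod [nat_lit 4, nat_lit 7])⟩)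
 (.lf ⟨nat_lit 0, nat_lit 1, nat_lit 1, (nat_lit 0x80015254729a3f215e50b45c7e93d05c13ac), one, (nat_lit 0x80031a3ef09c52328a24c5b34000402c81aa), (.inv (nat_lit 4))⟩))
 (.nd (nat_lit 11) (.lf ⟨nat_lit 0, nat_lit 1, nat_lit 1, (nat_lit 0x8000c42002a71c35f04e42f417c033585391), one, (nat_lit 0x8000c42002a71c35f04e42f417c033585391), (.prod (unp (nat_lit 4) (nat_lit 0x97303)))⟩)
 (.lf ⟨nat_lit 0, nat_lit 1, nat_lit 1, (nat_lit 0x8001a922e3970ae49d02070015215e00264b), one, (nat_lit 0x80056d22e5b71ed12d4e406302616958505c), (.prod [nat_lit 5, nat_lit 7])⟩)))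
 (.nd (nat_lit 14) (.nd (nat_lit 13) (.lf ⟨nat_lit 0, nat_lit 1, nat_lit 1, (nat_lit 0x80015254729a3f215e50b45c7e93d05c13ac), one, (nat_lit 0x80031a3ef09c52328a24c5b34000402c81aa), (.inv (nat_lit 5))⟩)
 (.lf ⟨nat_lit 0, nat_lit 1, nat_lit 1, (nat_lit 0x8000c42002a71c35f04e42f417c033585391), one, (nat_lit 0x8000c42002a71c35f04e42f417c033585391), (.prod (unp (nat_lit 4) (nat_lit 0xc7303)))⟩))
 (.nd (nat_lit 15) (.lf ⟨nat_lit 1, nat_lit 1, nat_lit 0, (nat_lit 0x8000e822e2891ef6604e62d87696245855a8), (nat_lit 0x8000e822e2891ef6604e62d87696245855a8), one, (.wt (nat_lit 2) (nat_lit 0) one (.sp .nil) [] [])⟩)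
 (.nd (nat_lit 16) (.lf ⟨nat_lit 0, nat_lit 1, nat_lit 1, (nat_lit 0x8000e822e2891ef6604e62d87696245855a8), one, (nat_lit 0x8000e822e2891ef6604e62d87696245855a8), (.we (nat_lit 0) (nat_lit 1) (nat_lit 0x8000e822e2891ef6604e62d87696245855a8) (.st (nat_lit 14) [] [] (.sp .nil)))⟩)
 (.lf ⟨nat_lit 0, nat_lit 1, nat_lit 1, (nat_lit 0x8001a922e3970ae49d02070015215e00264b), one, (nat_lit 0x80056d22e5b71ed12d4e406302616958505c), (.inv (nat_lit 8))⟩))))))
 (.nd (nat_lit 25) (.nd (nat_lit 21) (.nd (nat_lit 19) (.nd (nat_lit 18) (.lf ⟨nat_lit 0, nat_lit 1, nat_lit 1, (nat_lit 0x8005412005991c173a4e604f3b42f95853e2), one, (nat_lit 0x8004022003b950528a5a52ab7472ce0025f5), (.prod [nat_lit 15, nat_lit 16])⟩)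
 (.lf ⟨nat_lit 0, nat_lit 1, nat_lit 1, (nat_lit 0x8004022003b950528a5a52ab7472ce0025f5), one, (nat_lit 0x8005412005991c173a4e604f3b42f95853e2), (.prod [nat_lit 10, nat_lit 17])⟩))
 (.nd (nat_lit 20) (.lf ⟨nat_lit 0, nat_lit 1, nat_lit 1, (nat_lit 0x8001a922e3970ae49d02070015215e00264b), one, (nat_lit 0x80056d22e5b71ed12d4e406302616958505c), (.inv (nat_lit 11))⟩)
 (.lf ⟨nat_lit 0, nat_lit 1, nat_lit 1, (nat_lit 0x8005412005991c173a4e604f3b42f95853e2), one, (nat_lit 0x8004022003b950528a5a52ab7472ce0025f5), (.prod [nat_lit 15, nat_lit 19])⟩)))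
 (.nd (nat_lit 23) (.nd (nat_lit 22) (.lf ⟨nat_lit 1, nat_lit 1, nat_lit 0, (nat_lit 0x80015e24745e0040c469c3f204f0803a73a4), (nat_lit 0x8001a87b306337976902016873a17c00264b), one, (.wt (nat_lit 3) (nat_lit 0) one (.sp .nil) [] [])⟩)
 (.lf ⟨nat_lit 0, nat_lit 1, nat_lit 1, (nat_lit 0x80015e24745e0040c469c3f204f0803a73a4), one, (nat_lit 0x8001a87b306337976902016873a17c00264b), (.we (nat_lit 0) (nat_lit 1) (nat_lit 0x80015e24745e0040c469c3f204f0803a73a4) (.st (nat_lit 21) [] [] (.sp .nil)))⟩))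
 (.nd (nat_lit 24) (.lf ⟨nat_lit 0, nat_lit 1, nat_lit 1, (nat_lit 0x80025972b0c11e766024c06956d12d2c851d), one, (nat_lit 0x8000081b44d02a800452523831a28a04613b), (.inv (nat_lit 3))⟩)
 (.lf ⟨nat_lit 0, nat_lit 1, nat_lit 1, (nat_lit 0x80064b2001520692590b827828926c0730e8), one, (nat_lit 0x8006782001c32a70930bc01004726c2b904e), (.prod (unp (nat_lit 5) (nat_lit 0x5ec303)))⟩))))
 (.nd (nat_lit 29) (.nd (nat_lit 27) (.nd (nat_lit 26) (.lf ⟨nat_lit 0, nat_lit 1, nat_lit 1, (nat_lit 0x80063820039a59d09354c0c35b70a607356d), one, (nat_lit 0x8007662005053b97e942504f3a409173e3f2), (.prod [nat_lit 18, nat_lit 24])⟩)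
 (.lf ⟨nat_lit 0, nat_lit 1, nat_lit 1, (nat_lit 0x80015e24745e0040c469c3f204f0803a73a4), one, (nat_lit 0x8001a87b306337976902016873a17c00264b), (.inv (nat_lit 22))⟩))
 (.nd (nat_lit 28) (.lf ⟨nat_lit 0, nat_lit 1, nat_lit 1, (nat_lit 0x80063820039a59d09354c0c35b70a607356d), one, (nat_lit 0x8007662005053b97e942504f3a409173e3f2), (.inv (nat_lit 25))⟩)
 (.lf ⟨nat_lit 0, nat_lit 1, nat_lit 1, (nat_lit 0x80005c2461ef0476bc6dc2f004e0c36172a7), one, (nat_lit 0x8000c422e13a1a96695a500438a2814c6397), (.prod (unp (nat_lit 5) (nat_lit 0xde87604)))⟩)))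
 (.nd (nat_lit 31) (.nd (nat_lit 30) (.lf ⟨nat_lit 0, nat_lit 1, nat_lit 1, (nat_lit 0x8004c122e5f52cf6fc69c09102624b4990ae), one, (nat_lit 0x8005412463d752b13b4e42815f1010143769), (.prod [nat_lit 28, nat_lit 28])⟩)
 (.lf ⟨nat_lit 0, nat_lit 1, nat_lit 1, (nat_lit 0x80064b2001520692590b827828926c0730e8), one, (nat_lit 0x8006782001c32a70930bc01004726c2b904e), (.prod (unp (nat_lit 5) (nat_lit 0x5ec303)))⟩))
 (.nd (nat_lit 32) (.lf ⟨nat_lit 0, nat_lit 1, nat_lit 1, (nat_lit 0x8005412463d752b13b4e42815f1010143769), one, (nat_lit 0x8004c122e5f52cf6fc69c09102624b4990ae), (.prod (unp (nat_lit 5) (nat_lit 0x687603)))⟩)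
 (.nd (nat_lit 33) (.lf ⟨nat_lit 1, nat_lit 1, nat_lit 0, one, one, one, (.wt (nat_lit 0) (nat_lit 0) one (.sp .nil) [] [])⟩)
 (.lf ⟨nat_lit 1, nat_lit 1, nat_lit 1, (nat_lit 0x80068522e12e74709354c01059928127a56d), (nat_lit 0x8004f33ed2eb0402890bc1001e503931a001), (nat_lit 0x8005bc1a456c00165b78212e2491c17e93df), (.wt (nat_lit 4) (nat_lit 0) (nat_lit 0x80031a3ed23809359d50312e45a5a84f356d) (.st (nat_lit 32) (unp (nat_lit 5) (nat_lit 0xe5d03)) [] (.sp .nil)) [] [])⟩)))))))

noncomputable def q5_1_0 : Net :=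
  mkNet (nat_lit 6) (nat_lit 21) (nat_lit 0x40150000000000200002000018000080028282462040150)

noncomputable def q5_1_2 : Net :=
  mkNet (nat_lit 6) (nat_lit 21) (nat_lit 0x111501018800040000004000020005d0404104666011150)

noncomputable def q5_1_4 : Net :=
  mkNet (nat_lit 6) (nat_lit 21) (nat_lit 0x5510009000040828000220001b000348438282602014540)

noncomputable def q5_1_6 : Net :=
  mkNet (nat_lit 6) (nat_lit 21) (nat_lit 0x54000080080430000000200011000718430006202054000)

noncomputable def q5_1_8 : Net :=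
  mkNet (nat_lit 6) (nat_lit 21) (nat_lit 0x5100109000000000000400002000270000006644005101)

noncomputable def q5_1_20 : Net :=
  mkNet (nat_lit 6) (nat_lit 21) (nat_lit 0x5414010800040c30000160000f0004d840c304204254140)

noncomputable def q5_1_21 : Net :=
  mkNet (nat_lit 6) (nat_lit 21) (nat_lit 0x15101009100028080001e0000f000608400380244414541)

noncomputable def q5_1_22 : Net :=
  mkNet (nat_lit 6) (nat_lit 21) (nat_lit 0x5010000880001830000340001e0006d0018340224050100)

noncomputable def q5_1_23 : Net :=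
  mkNet (nat_lit 6) (nat_lit 21) (nat_lit 0x4411000800003008000100000a00006003c0c2200044510)

noncomputable def q5_1_24 : Net :=
  mkNet (nat_lit 6) (nat_lit 21) (nat_lit 0x44150000008030300000c0001e00041841c200040205014)

noncomputable def q5_1_25 : Net :=
  mkNet (nat_lit 6) (nat_lit 21) (nat_lit 0x1115418888001030000040000e000210414346622011154)

noncomputable def q5_1_26 : Net :=
  mkNet (nat_lit 6) (nat_lit 21) (nat_lit 0x505400888001020000200001c0004a003c042400040150)

noncomputable def q5_1_27 : Net :=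
  mkNet (nat_lit 6) (nat_lit 21) (nat_lit 0x1051410818040028000320001b00046800c282464000050)

noncomputable def q5_1 : List Net :=
  [q5_1_0, q5_1_0, q5_1_2, q5_1_2, q5_1_4, q5_1_4, q5_1_6, q5_1_6, q5_1_8, q5_1_8, Net.nil, Net.nil, Net.nil, Net.nil, Net.nil, Net.nil, Net.nil, Net.nil, Net.nil, Net.nil, q5_1_20, q5_1_21, q5_1_22, q5_1_23, q5_1_24, q5_1_25, q5_1_26, q5_1_27]

noncomputable def Qs5 : List (ℕ × ℕ × List Net) :=
  [(nat_lit 21, nat_lit 6, q5_1)]

noncomputable def ls5 : List Ld :=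
  [⟨[(nat_lit 28, [nat_lit 27, nat_lit 27]), (nat_lit 24, (unp (nat_lit 5) (nat_lit 0x1bde29705))), (nat_lit 10, (unp (nat_lit 5) (nat_lit 0x6f38cdaf407))), (nat_lit 7, (unp (nat_lit 5) (nat_lit 0xc52e004)))], [⟨nat_lit 1, (unp (nat_lit 2) (nat_lit 0x3803)), (nat_lit 0x51451050840c41030c50c408404201f), nat_lit 20⟩, ⟨nat_lit 2, (unp (nat_lit 2) (nat_lit 0x2403)), (nat_lit 0x1f11f1031030440c308408205f0c07df), nat_lit 16⟩, ⟨nat_lit 3, [nat_lit 0], (nat_lit 0x1f7df7df7df7df7df7df09f05f01f7df), nat_lit 3⟩], [[nat_lit 1], [nat_lit 3], [nat_lit 7], [nat_lit 9]], (nat_lit 0x51861870c5184143084105142144040)⟩]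

noncomputable def lk5 : List (List ℕ) :=
  [[]]

noncomputable def d5_0 : Nd :=
  ⟨nat_lit 1, nat_lit 21, [(nat_lit 31, [nat_lit 27]), (nat_lit 20, (unp (nat_lit 5) (nat_lit 0x37aa5ab706))), (nat_lit 30, (unp (nat_lit 5) (nat_lit 0x6f78c66d507))), (nat_lit 22, (unp (nat_lit 5) (nat_lit 0x6f78a5c8207)))], [⟨nat_lit 1, (unp (nat_lit 2) (nat_lit 0x3403)), (nat_lit 0x51031041021051430c40440840c301f), nat_lit 20⟩, ⟨nat_lit 2, (unp (nat_lit 2) (nat_lit 0x2403)), (nat_lit 0x1f11f1031020840c30c404109f0c07df), nat_lit 16⟩, ⟨nat_lit 3, [nat_lit 0], (nat_lit 0x1f7df7df7df7df7df7df05f09f01f7df), nat_lit 3⟩],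
  [⟨(unp (nat_lit 2) (nat_lit 0x3403)), (nat_lit 0x41031450821031041030c4103045000), [(nat_lit 32, nat_lit 0, []), (nat_lit 33, nat_lit 1, [nat_lit 8])]⟩]⟩

noncomputable def ds5 : List Nd :=
  [d5_0]

noncomputable def ks5 : List ℕ :=
  [nat_lit 1]

def kc5 : List (ℕ × ℕ) := [(0, 1), (1, 21)]

theorem Rn6 : Nat.beq R6.length 23 = true := by decide +kernel

theorem Nn6 : Nat.beq N6.length 5 = true := by decide +kernel

theorem A5_p : actP 6 21 n5 28 = true := by decide +kernel

theorem A5_l_0 : rng (actL 6 21 n5 dom5 (2 * 10) us5) (nat_lit 0) (nat_lit 28) = true := by decide +kernel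

theorem A5_r_0 : rng (fun i => relN 6 21 n5 (2 * 10) (nthD ([], nat_lit 0) R5 i)) (nat_lit 0) (nat_lit 18) = true := by decide +kernel

theorem hr5 : relsOk mul one lc5 dom5 nodes5 1 (2 * 10) R6 sb5 1 rs5 = true := by decide +kernel

theorem hc5_0 : rng (chk mul one wf T5 lc5 (mapR (fun e => e.2.2) rs5) 1) (nat_lit 0) (nat_lit 34) = true := by decide +kernel

theorem AQ5_1_p : actP 6 21 q5_1 28 = true := by decide +kernel

theorem AQ5_1_l_0 : rng (actL 6 21 q5_1 dom5 (2 * 10) us5) (nat_lit 0) (nat_lit 28) = true := by decide +kernel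

theorem AQ5_1_r_0 : rng (fun i => relN 6 21 q5_1 (2 * 10) (nthD ([], nat_lit 0) R5 i)) (nat_lit 0) (nat_lit 18) = true := by decide +kernel

theorem la5 : ldA mul one T5 34 lc5 21 6 n5 ls5 1 = true := by decide +kernel

theorem lb5 : ldB 20160 Qs5 ls5 1 = true := by decide +kernel

theorem na5_0 : rng (fun i => ndA mul one T5 34 lc5 21 6 n5 20160 (nthD ⟨nat_lit 0, nat_lit 0, [], [], []⟩ ds5 i)) (nat_lit 0) (nat_lit 1) = true := by decide +kernel

theorem nb5_0 : rng (fun i => ndB mul one T5 34 lc5 ks5 Qs5 1 (nthD ⟨nat_lit 0, nat_lit 0, [], [], []⟩ ds5 i)) (nat_lit 0) (nat_lit 1) = true := by decide +kernel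

theorem dn5 : Nat.beq ds5.length 1 = true := by decide +kernel

theorem hk5 : ks5 = ds5.map Nd.k := by decide +kernel

theorem hkc5 : kc5 = (0, 1) :: ds5.map fun d => (d.k, d.c) := by decide +kernel

theorem lo5 : linkOk mul one T5 34 ks5 lk5 1 = true := by decide +kernel

theorem do5 : domOk dom5 [0, 1, 2, 3, 4, 5] nodes5 1 R6 sb5 1 = true := by decide +kernel

theorem A5_l : ∀ i < 28, (actL 6 21 n5 dom5 (2 * 10) us5) i = true :=
  (rng_add rng_zero A5_l_0)

theorem A5_r : ∀ i < 18, (fun i => relN 6 21 n5 (2 * 10) (nthD ([], nat_lit 0) R5 i)) i = true :=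
  (rng_add rng_zero A5_r_0)

theorem hc5 : ∀ i < 34, (chk mul one wf T5 lc5 (mapR (fun e => e.2.2) rs5) 1) i = true :=
  (rng_add rng_zero hc5_0)

theorem AQ5_1_l : ∀ i < 28, (actL 6 21 q5_1 dom5 (2 * 10) us5) i = true :=
  (rng_add rng_zero AQ5_1_l_0)

theorem AQ5_1_r : ∀ i < 18, (fun i => relN 6 21 q5_1 (2 * 10) (nthD ([], nat_lit 0) R5 i)) i = true :=
  (rng_add rng_zero AQ5_1_r_0)

theorem na5 : ∀ i < 1, (fun i => ndA mul one T5 34 lc5 21 6 n5 20160 (nthD ⟨nat_lit 0, nat_lit 0, [], [], []⟩ ds5 i)) i = true :=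
  (rng_add rng_zero na5_0)

theorem nb5 : ∀ i < 1, (fun i => ndB mul one T5 34 lc5 ks5 Qs5 1 (nthD ⟨nat_lit 0, nat_lit 0, [], [], []⟩ ds5 i)) i = true :=
  (rng_add rng_zero nb5_0)

section
universe u v
variable {R : Type v} {ι : Type} [CommRing R] [Fintype ι] [DecidableEq ι] (V : VCod R ι 12 12 app wfT) (h2 : V.mat one = 1)

theorem A5 : Act.{0} (((S V h2).sub (mdl (g V h2) dom5)).gen lc5) 21 6 n5 :=
  act_of_up (L5 V h2) (U5 V h2) A5_p A5_l (by decide) (allR Rn5 A5_r)

theorem AQ5_1 : Act.{0} (((S V h2).sub (mdl (g V h2) dom5)).gen lc5) 21 6 q5_1 :=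
  act_of_up (L5 V h2) (U5 V h2) AQ5_1_p AQ5_1_l (by decide) (allR Rn5 AQ5_1_r)

theorem C5 : Cert.{u} ((S V h2).sub (mdl (g V h2) dom5)) T5 34 (mgen (g V h2) dom5) dom5 [0, 1, 2, 3, 4, 5] nodes5 1 (R5 ++ N6) kc5 :=
  have := fin5 V h2
  cert_of (L5 V h2) (card5 V h2).le (A5 V h2) (Qs := Qs5) (List.forall_mem_cons.2 ⟨AQ5_1 V h2, List.forall_mem_nil _⟩) hr5 hc5 la5 lb5 hk5 (allR dn5 na5) (allR dn5 nb5) lo5 do5 hkc5

end

def dom6 : List ℕ := [0, 1, 2, 3, 4, 5]

noncomputable def us6 : List (List ℕ) :=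
  [(unp (nat_lit 4) (nat_lit 0x5b79726008)), (unp (nat_lit 4) (nat_lit 0x67b92806)), (unp (nat_lit 5) (nat_lit 0x52b403)), (unp (nat_lit 5) (nat_lit 0x16a52b505)), (unp (nat_lit 5) (nat_lit 0xb52b6b5a9408)), (unp (nat_lit 5) (nat_lit 0x5f18bdf1707)), (unp (nat_lit 5) (nat_lit 0x62f703)), (unp (nat_lit 5) (nat_lit 0x6317c5f18c63170b)), (unp (nat_lit 5) (nat_lit 0xceb7a04))]

noncomputable def lc6 : List ℕ :=
  [nthD one bc (nat_lit 0),
  nthD one bc (nat_lit 1),
  nthD one bc (nat_lit 2),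
  nthD one bc (nat_lit 3),
  nthD one bc (nat_lit 4),
  nthD one bc (nat_lit 5),
  nthD one bc (nat_lit 6),
  nthD one bc (nat_lit 7),
  nthD one bc (nat_lit 8),
  nthD one bc (nat_lit 9),
  nthD one bc (nat_lit 10),
  nthD one bc (nat_lit 11),
  one,
  one,
  one,
  one,
  one,
  one,
  one,
  one,
  (nat_lit 0x80049319774f2f406345a43c3392cf17c3e3),
  (nat_lit 0x80064b22e0ae3d71e70a102310026c3e313a),
  (nat_lit 0x8005c137c28136637961345e2c8047769039),
  (nat_lit 0x80065b7b309c26c55408012d0b82f925913b),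
  (nat_lit 0x80064b20079b7a24e42f439112e31a2495f0),
  (nat_lit 0x80064b1d709c5f13974254fd2ab2a72490e9),
  (nat_lit 0x8004001d760769f4e301917c2f9281002620),
  (nat_lit 0x8005a92ae3d72f904f6af4cf0804fd1ab2f0),
  (nat_lit 0x8000c422e13a1a96695a500438a2814c6397)]

noncomputable def v6_0 : VL :=
  ⟨(nat_lit 661), [[nat_lit 0], [nat_lit 2], [nat_lit 4], [nat_lit 6], [nat_lit 8], [nat_lit 10]], nat_lit 3, [(nat_lit 0x1000c1c060a04c00f01850a002c46e27)], nat_lit 5, nat_lit 22⟩

noncomputable def v6_1 : VL :=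
  ⟨(nat_lit 1283), [(unp (nat_lit 5) (nat_lit 0x41814adef8d6b9c0c)), (unp (nat_lit 5) (nat_lit 0x14b5b18beb3c09))], nat_lit 2, [(nat_lit 0x160082158200600595525)], nat_lit 5, nat_lit 21⟩

noncomputable def v6_2 : VL :=
  ⟨(nat_lit 512), [(unp (nat_lit 5) (nat_lit 0xc0adb79d6b9c0a)), (unp (nat_lit 5) (nat_lit 0x231294ae317c6f5c0d)), (unp (nat_lit 5) (nat_lit 0x356bbdeb3c08))], nat_lit 2, [(nat_lit 0x1870061c601c070e1523)], nat_lit 5, nat_lit 20⟩

noncomputable def v6_3 : VL :=
  ⟨(nat_lit 3721), [(unp (nat_lit 5) (nat_lit 0x205ab7c5f17d679c0d)), (unp (nat_lit 5) (nat_lit 0x14b5297c6b9c0a)), (unp (nat_lit 5) (nat_lit 0x114a5af8deb3c0a)), (unp (nat_lit 5) (nat_lit 0x205ab7c5f17d679c0d))], nat_lit 3, [(nat_lit 0x580500c22c00c20184580184c00c261140061300309848a00308160061300309a0515b)], nat_lit 6, nat_lit 48⟩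

noncomputable def vl6 : List VL :=
  [v6_0, v6_1, v6_2, v6_3]

theorem lco6 : lcOk mul one bc lc6 dom6 (2 * 10) us6 29 = true := by decide +kernel

theorem rc6_0 : rng (fun i => relC mul one bc (2 * 10) (nthD ([], nat_lit 0) N6 i)) (nat_lit 0) (nat_lit 5) = true := by decide +kernel

theorem sm5 : Nat.beq ((kc5.map Prod.snd).sum * 20160) 443520 = true := by decide +kernel

theorem vc6 : vchainOk (app 12 1) (wfT 12 1) mul one lc6 [] vl6 = true := by decide +kernel

theorem vf6 : band (allL (fun i => memL i dom6) dom0) (VCod.fixD (app 12 1) (wfT 12 1) one bc dom0 vl6) = true := by decide +kernel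

theorem vp6 : (vl6.map VL.d).prod * 1 = 443520 := by decide +kernel

theorem rd6 : allL (fun r => allL (fun l => memL (Nat.shiftRight l (nat_lit 1)) dom6) r.1) (R5 ++ N6) = true := by decide +kernel

theorem rc6 : ∀ i < 5, (fun i => relC mul one bc (2 * 10) (nthD ([], nat_lit 0) N6 i)) i = true :=
  (rng_add rng_zero rc6_0)

section
universe u v
variable {R : Type v} {ι : Type} [CommRing R] [Fintype ι] [DecidableEq ι] (V : VCod R ι 12 12 app wfT) (h2 : V.mat one = 1)

theorem L6 : Lc ((S V h2).sub (mdl (g V h2) dom6)) (mgen (g V h2) dom6) lc6 dom6 (2 * 10) us6 29 :=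
  lc_of (S V h2) (h0 V h2) bco lco6

theorem rel6 : Rels R6 (g V h2) := (rel5 V h2).append ((S V h2).rels (h0 V h2) bco (allR Nn6 rc6))

theorem le6 : Finite (mdl (g V h2) dom6) ∧ Nat.card (mdl (g V h2) dom6) ≤ 443520 :=
  have := fin5 V h2
  step_le (C5 V h2) (U5 V h2) (rel6 V h2) (card5 V h2) sm5

theorem fin6 : Finite (mdl (g V h2) dom6) := (le6 V h2).1

theorem card6 : Nat.card (mdl (g V h2) dom6) = 443520 := by
  have : Finite (mdl ((V.sem h1 h2).bg bc) dom6) := fin6 V h2
  have h := V.le_card_mdl h1 h2 (h0 V h2) (L6 V h2).ok vc6 vf6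
  exact le_antisymm (le6 V h2).2 (le_trans (vp6.symm.trans (congrArg (HMul.hMul (vl6.map VL.d).prod) (card0 V h2).symm)).le h)

theorem U6 : UP.{0} (mgen (g V h2) dom6) dom6 R6 :=
  have := fin5 V h2
  step_up (C5 V h2) (U5 V h2) (rel6 V h2) (card5 V h2) sm5 (card6 V h2) rd6

end

noncomputable def N7 : List (List ℕ × ℕ) :=
  [([nat_lit 12], nat_lit 2),
  ((unp (nat_lit 4) (nat_lit 0x97b1b37da0a20208c11)), nat_lit 1),
  ((unp (nat_lit 4) (nat_lit 0x7b37bda2ac0a)), nat_lit 1),
  ((unp (nat_lit 4) (nat_lit 0x353b1b35d6262c0e)), nat_lit 1),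
  ((unp (nat_lit 4) (nat_lit 0xcbcbdb06)), nat_lit 1)]

noncomputable def R7 : List (List ℕ × ℕ) :=
  R6 ++ N7

noncomputable def n6_0 : Net :=
  mkNet (nat_lit 6) (nat_lit 22) (nat_lit 0x1514000080000000000009000024000090009000880c151404)

noncomputable def n6_2 : Net :=
  mkNet (nat_lit 6) (nat_lit 22) (nat_lit 0x1551400c4000101000000140000500015430b080cc80155140)

noncomputable def n6_4 : Net :=
  mkNet (nat_lit 6) (nat_lit 22) (nat_lit 0x444400c4c040020000005c000170001dc103090c4c0444440)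

noncomputable def n6_6 : Net :=
  mkNet (nat_lit 6) (nat_lit 22) (nat_lit 0x114410040c402020000000c000030000cc2060c0c0c4114410)

noncomputable def n6_8 : Net :=
  mkNet (nat_lit 6) (nat_lit 22) (nat_lit 0x1445040800001010000000400001000244307000c000944504)

noncomputable def n6_10 : Net :=
  mkNet (nat_lit 6) (nat_lit 22) (nat_lit 0x405000808000040000000800002000368001000c4c4040501)

noncomputable def n6_20 : Net :=
  mkNet (nat_lit 6) (nat_lit 22) (nat_lit 0x145004000c4430d080000b80002f00005820d0908808004455)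

noncomputable def n6_21 : Net :=
  mkNet (nat_lit 6) (nat_lit 22) (nat_lit 0x1011000084c030a00000004000210001e410b000c4cc054441)

noncomputable def n6_22 : Net :=
  mkNet (nat_lit 6) (nat_lit 22) (nat_lit 0x140410000c4c104000000c40003500029c2070004c80c10041)

noncomputable def n6_23 : Net :=
  mkNet (nat_lit 6) (nat_lit 22) (nat_lit 0x14001000c40410c080000140002f00016c0020c00400511540)

noncomputable def n6_24 : Net :=
  mkNet (nat_lit 6) (nat_lit 22) (nat_lit 0x11451004c4c0000080000500003c00017c0090b00c4c015541)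

noncomputable def n6_25 : Net :=
  mkNet (nat_lit 6) (nat_lit 22) (nat_lit 0x41510040c8000900000094000250002dc009000c0c8041550)

noncomputable def n6_26 : Net :=
  mkNet (nat_lit 6) (nat_lit 22) (nat_lit 0x1550000888c0001040000a00003c0002f8001060888c140000)

noncomputable def n6_27 : Net :=
  mkNet (nat_lit 6) (nat_lit 22) (nat_lit 0x55100448c01050000003c0003f0001343010200480001410)

noncomputable def n6_28 : Net :=
  mkNet (nat_lit 6) (nat_lit 22) (nat_lit 0x104000088cc03000c00009c0002f00002c10b0c0c8c0150140)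

noncomputable def n6 : List Net :=
  [n6_0, n6_0, n6_2, n6_2, n6_4, n6_4, n6_6, n6_6, n6_8, n6_8, n6_10, n6_10, Net.nil, Net.nil, Net.nil, Net.nil, Net.nil, Net.nil, Net.nil, Net.nil, n6_20, n6_21, n6_22, n6_23, n6_24, n6_25, n6_26, n6_27, n6_28]

def nodes6 : List ℕ := [12]

def sb6 : List (ℕ × ℕ × ℕ) := [(13, 23, 0)]

noncomputable def rs6 : List (ℕ × ℕ × List (ℕ × ℕ)) :=
  [(nat_lit 23, nat_lit 0, [(nat_lit 1, (nat_lit 0x800400200100080040020010008004002001)), (nat_lit 1, (nat_lit 0x800400200100080040020010008004002001))]),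
  (nat_lit 24, nat_lit 10, [(nat_lit 1, (nat_lit 0x8001e532e73a2f403969c3b42f91521aa1a9)), (nat_lit 1, (nat_lit 0x80079b1d728a3e21ef24c1520400582271aa))]),
  (nat_lit 25, nat_lit 5, [(nat_lit 1, (nat_lit 0x80064b2001520692590b827828926c0730e8)), (nat_lit 1, (nat_lit 0x8005a820076938a5236dc2273970915f41a9))]),
  (nat_lit 26, nat_lit 6, [(nat_lit 1, (nat_lit 0x8004022003b950528a5a52ab7472ce0025f5)), (nat_lit 1, (nat_lit 0x8000c42002a71c35f04e42f417c033585391))]),
  (nat_lit 27, nat_lit 0, [(nat_lit 1, (nat_lit 0x80065b22e28917c3d025524b1c30043bc391)), (nat_lit 1, (nat_lit 0x80065b22e28917c3d025524b1c30043bc391)), (nat_lit 1, (nat_lit 0x80065b22e28917c3d025524b1c30043bc391))])]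

noncomputable def T6 : Tr :=
  (.nd (nat_lit 28) (.nd (nat_lit 14) (.nd (nat_lit 7) (.nd (nat_lit 3) (.nd (nat_lit 1) (.lf ⟨nat_lit 0, nat_lit 0, nat_lit 0, one, one, one, .triv⟩)
 (.nd (nat_lit 2) (.lf ⟨nat_lit 0, nat_lit 0, nat_lit 0, one, one, one, .triv⟩)
 (.lf ⟨nat_lit 1, nat_lit 1, nat_lit 0, (nat_lit 0x8001e532e73a2f403969c3b42f91521aa1a9), (nat_lit 0x8006201d729a25900824c15215e0a13d00e8), one, (.wt (nat_lit 1) (nat_lit 0) one (.sp .nil) [] [])⟩)))
 (.nd (nat_lit 5) (.nd (nat_lit 4) (.lf ⟨nat_lit 0, nat_lit 1, nat_lit 1, (nat_lit 0x8001e532e73a2f403969c3b42f91521aa1a9), one, (nat_lit 0x8006201d729a25900824c15215e0a13d00e8), (.we (nat_lit 0) (nat_lit 1) (nat_lit 0x8001e532e73a2f403969c3b42f91521aa1a9) (.st (nat_lit 2) [] [] (.sp .nil)))⟩)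
 (.lf ⟨nat_lit 0, nat_lit 1, nat_lit 1, (nat_lit 0x80039008938a59967802029a79b51d001002), one, (nat_lit 0x8005bb20005213b15e0200101ef0fd04e143), (.prod [nat_lit 3, nat_lit 3])⟩))
 (.nd (nat_lit 6) (.lf ⟨nat_lit 0, nat_lit 1, nat_lit 1, (nat_lit 0x8005541a45b34cf52369c13d64b7691a91aa), one, (nat_lit 0x80079b1d728a3e21ef24c1520400582271aa), (.prod [nat_lit 4, nat_lit 3])⟩)
 (.lf ⟨nat_lit 0, nat_lit 1, nat_lit 1, (nat_lit 0x80039008938a59967802029a79b51d001002), one, (nat_lit 0x8005bb20005213b15e0200101ef0fd04e143), (.prod [nat_lit 3, nat_lit 3])⟩))))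
 (.nd (nat_lit 10) (.nd (nat_lit 8) (.lf ⟨nat_lit 0, nat_lit 1, nat_lit 1, (nat_lit 0x8005541a45b34cf52369c13d64b7691a91aa), one, (nat_lit 0x80079b1d728a3e21ef24c1520400582271aa), (.prod [nat_lit 6, nat_lit 3])⟩)
 (.nd (nat_lit 9) (.lf ⟨nat_lit 1, nat_lit 1, nat_lit 0, (nat_lit 0x80079b1d728a3e21ef24c1520400582271aa), (nat_lit 0x8005541a45b34cf52369c13d64b7691a91aa), one, (.wt (nat_lit 1) (nat_lit 1) one (.sp .nil) [] [])⟩)
 (.lf ⟨nat_lit 0, nat_lit 1, nat_lit 1, (nat_lit 0x80079b1d728a3e21ef24c1520400582271aa), one, (nat_lit 0x8005541a45b34cf52369c13d64b7691a91aa), (.we (nat_lit 0) (nat_lit 1) (nat_lit 0x80079b1d728a3e21ef24c1520400582271aa) (.st (nat_lit 8) [] [] (.sp .nil)))⟩)))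
 (.nd (nat_lit 12) (.nd (nat_lit 11) (.lf ⟨nat_lit 0, nat_lit 1, nat_lit 1, (nat_lit 0x8001e532e73a2f403969c3b42f91521aa1a9), one, (nat_lit 0x8006201d729a25900824c15215e0a13d00e8), (.inv (nat_lit 5))⟩)
 (.lf ⟨nat_lit 0, nat_lit 1, nat_lit 1, (nat_lit 0x80064b7122891ef0c30bc51d0391744e3001), one, (nat_lit 0x80054122e6c56b65ce50309359969f339001), (.prod [nat_lit 9, nat_lit 10])⟩))
 (.nd (nat_lit 13) (.lf ⟨nat_lit 0, nat_lit 1, nat_lit 1, (nat_lit 0x80026c0892ab2eb5994e60a13a73b47003e2), one, (nat_lit 0x80026c0892ab2eb5994e60a13a73b47003e2), (.prod [nat_lit 3, nat_lit 11])⟩)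
 (.lf ⟨nat_lit 0, nat_lit 1, nat_lit 1, (nat_lit 0x8001691d70ae0084020bc73a3f90930014e3), one, (nat_lit 0x80060322e6645f43a75030930805ef5f1033), (.prod [nat_lit 4, nat_lit 11])⟩)))))
 (.nd (nat_lit 21) (.nd (nat_lit 17) (.nd (nat_lit 15) (.lf ⟨nat_lit 0, nat_lit 1, nat_lit 1, (nat_lit 0x8006201a45bc5854cf54c5c112d29a5f11ef), one, (nat_lit 0x80026c3ef3a43ac60754c0fd0c12ab56d080), (.prod [nat_lit 12, nat_lit 3])⟩)
 (.nd (nat_lit 16) (.lf ⟨nat_lit 0, nat_lit 1, nat_lit 1, (nat_lit 0x8002cf7126692f904f47738a0a11431a95b7), one, (nat_lit 0x8004cf1b45125540c178203325966051d026), (.prod [nat_lit 13, nat_lit 3])⟩)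
 (.lf ⟨nat_lit 0, nat_lit 1, nat_lit 1, (nat_lit 0x80054122e6c56b65ce50309359969f339001), one, (nat_lit 0x80064b7122891ef0c30bc51d0391744e3001), (.prod [nat_lit 11, nat_lit 11])⟩)))
 (.nd (nat_lit 19) (.nd (nat_lit 18) (.lf ⟨nat_lit 0, nat_lit 1, nat_lit 1, (nat_lit 0x80036424739a6075bc4774e339004e45a278), one, (nat_lit 0x8002ab32e3d01aa6037823a416845c3df7e9), (.inv (nat_lit 15))⟩)
 (.lf ⟨nat_lit 0, nat_lit 1, nat_lit 1, (nat_lit 0x80067822e1ed17c3a76dc5850694e32780a1), one, (nat_lit 0x80076622e52b7476200b800238a13b2276c5), (.prod (unp (nat_lit 5) (nat_lit 0x456d03)))⟩))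
 (.nd (nat_lit 20) (.lf ⟨nat_lit 0, nat_lit 1, nat_lit 1, (nat_lit 0x8004022002556a615e425458047339249152), one, (nat_lit 0x8004c17120261c326c6bf3394fd5f428a289), (.prod [nat_lit 18, nat_lit 11])⟩)
 (.lf ⟨nat_lit 0, nat_lit 1, nat_lit 1, (nat_lit 0x8002a87123b959d2f97823ac5550027e93b4), one, (nat_lit 0x8006382000a56851e54774e30ae3f3238100), (.prod [nat_lit 19, nat_lit 11])⟩))))
 (.nd (nat_lit 24) (.nd (nat_lit 22) (.lf ⟨nat_lit 0, nat_lit 1, nat_lit 1, (nat_lit 0x8005e724612e7473646bf0e95f5278174505), one, (nat_lit 0x80067822e0015f130a42525b76923a11e52b), (.prod [nat_lit 20, nat_lit 18])⟩)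
 (.nd (nat_lit 23) (.lf ⟨nat_lit 0, nat_lit 1, nat_lit 1, (nat_lit 0x80064b7122891ef0c30bc51d0391744e3001), one, (nat_lit 0x80054122e6c56b65ce50309359969f339001), (.inv (nat_lit 16))⟩)
 (.lf ⟨nat_lit 0, nat_lit 1, nat_lit 1, (nat_lit 0x8007667123a40082f46dc29a46e4c43643d1), one, (nat_lit 0x80005822e6a646e56c0b828a08015e45a701), (.prod (unp (nat_lit 5) (nat_lit 0x5a5203)))⟩)))
 (.nd (nat_lit 26) (.nd (nat_lit 25) (.lf ⟨nat_lit 0, nat_lit 1, nat_lit 1, (nat_lit 0x80046e7b33df15e1800e45f12f40234571aa), one, (nat_lit 0x80046e7b33df15e1800e45f12f40234571aa), (.inv (nat_lit 12))⟩)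
 (.lf ⟨nat_lit 0, nat_lit 1, nat_lit 1, (nat_lit 0x80005c22e1683e24cb54c26c1c12816643b4), one, (nat_lit 0x80064b24652b3d745854c02313a227617100), (.inv (nat_lit 21))⟩))
 (.nd (nat_lit 27) (.lf ⟨nat_lit 0, nat_lit 1, nat_lit 1, (nat_lit 0x8005a92080a16172eb6bf5850082a71ab1a8), one, (nat_lit 0x80064b1d709c5f13974254fd2ab2a72490e9), (.prod (unp (nat_lit 5) (nat_lit 0xce06e04)))⟩)
 (.lf ⟨nat_lit 0, nat_lit 1, nat_lit 1, (nat_lit 0x8006787b31e53df0a54770105f47e93d1100), one, (nat_lit 0x80005c7b72f94903b978224945804f5f53b4), (.prod [nat_lit 18, nat_lit 26])⟩))))))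
 (.nd (nat_lit 42) (.nd (nat_lit 35) (.nd (nat_lit 31) (.nd (nat_lit 29) (.lf ⟨nat_lit 0, nat_lit 1, nat_lit 1, (nat_lit 0x8005a937c50569f7e94253df46e5b71ab11e), one, (nat_lit 0x8004c172b73a2cf0696bf5b75234fd0c363b), (.prod [nat_lit 26, nat_lit 23])⟩)
 (.nd (nat_lit 30) (.lf ⟨nat_lit 0, nat_lit 1, nat_lit 1, (nat_lit 0x8005a92ae3d72f904f6af4cf0804fd1ab2f0), one, (nat_lit 0x80065b7b32381a92556af2a751d5b725939f), (.prod [nat_lit 28, nat_lit 23])⟩)
 (.lf ⟨nat_lit 0, nat_lit 1, nat_lit 1, (nat_lit 0x80054122e6c56b65ce50309359969f339001), one, (nat_lit 0x80064b7122891ef0c30bc51d0391744e3001), (.inv (nat_lit 11))⟩)))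
 (.nd (nat_lit 33) (.nd (nat_lit 32) (.lf ⟨nat_lit 0, nat_lit 1, nat_lit 1, (nat_lit 0x80005832e0a60087694770392f93f245a278), one, (nat_lit 0x8005c17b76a63bc1697824c45f15b31c37e9), (.inv (nat_lit 29))⟩)
 (.lf ⟨nat_lit 0, nat_lit 1, nat_lit 1, (nat_lit 0x8000c422e13a1a96695a500438a2814c6397), one, (nat_lit 0x8005412463d752b13b4e42815f1010143769), (.prod (unp (nat_lit 5) (nat_lit 0xffb4b04)))⟩))
 (.nd (nat_lit 34) (.lf ⟨nat_lit 0, nat_lit 1, nat_lit 1, (nat_lit 0x8001e532e73a2f403969c3b42f91521aa1a9), one, (nat_lit 0x8006201d729a25900824c15215e0a13d00e8), (.inv (nat_lit 7))⟩)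
 (.lf ⟨nat_lit 0, nat_lit 1, nat_lit 1, (nat_lit 0x80064b7122891ef0c30bc51d0391744e3001), one, (nat_lit 0x80054122e6c56b65ce50309359969f339001), (.prod [nat_lit 9, nat_lit 33])⟩))))
 (.nd (nat_lit 38) (.nd (nat_lit 36) (.lf ⟨nat_lit 0, nat_lit 1, nat_lit 1, (nat_lit 0x80026c0892ab2eb5994e60a13a73b47003e2), one, (nat_lit 0x80026c0892ab2eb5994e60a13a73b47003e2), (.prod [nat_lit 3, nat_lit 34])⟩)
 (.nd (nat_lit 37) (.lf ⟨nat_lit 0, nat_lit 1, nat_lit 1, (nat_lit 0x8001691d70ae0084020bc73a3f90930014e3), one, (nat_lit 0x80060322e6645f43a75030930805ef5f1033), (.prod [nat_lit 6, nat_lit 34])⟩)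
 (.lf ⟨nat_lit 0, nat_lit 1, nat_lit 1, (nat_lit 0x8006201a45bc5854cf54c5c112d29a5f11ef), one, (nat_lit 0x80026c3ef3a43ac60754c0fd0c12ab56d080), (.prod [nat_lit 35, nat_lit 3])⟩)))
 (.nd (nat_lit 40) (.nd (nat_lit 39) (.lf ⟨nat_lit 0, nat_lit 1, nat_lit 1, (nat_lit 0x8002cf7126692f904f47738a0a11431a95b7), one, (nat_lit 0x8004cf1b45125540c178203325966051d026), (.prod [nat_lit 36, nat_lit 3])⟩)
 (.lf ⟨nat_lit 0, nat_lit 1, nat_lit 1, (nat_lit 0x80054122e6c56b65ce50309359969f339001), one, (nat_lit 0x80064b7122891ef0c30bc51d0391744e3001), (.prod [nat_lit 34, nat_lit 34])⟩))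
 (.nd (nat_lit 41) (.lf ⟨nat_lit 0, nat_lit 1, nat_lit 1, (nat_lit 0x80036424739a6075bc4774e339004e45a278), one, (nat_lit 0x8002ab32e3d01aa6037823a416845c3df7e9), (.inv (nat_lit 38))⟩)
 (.lf ⟨nat_lit 0, nat_lit 1, nat_lit 1, (nat_lit 0x80067822e1ed17c3a76dc5850694e32780a1), one, (nat_lit 0x80076622e52b7476200b800238a13b2276c5), (.prod (unp (nat_lit 6) (nat_lit 0x288a403)))⟩)))))
 (.nd (nat_lit 49) (.nd (nat_lit 45) (.nd (nat_lit 43) (.lf ⟨nat_lit 0, nat_lit 1, nat_lit 1, (nat_lit 0x8004022002556a615e425458047339249152), one, (nat_lit 0x8004c17120261c326c6bf3394fd5f428a289), (.prod [nat_lit 41, nat_lit 34])⟩)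
 (.nd (nat_lit 44) (.lf ⟨nat_lit 0, nat_lit 1, nat_lit 1, (nat_lit 0x8002a87123b959d2f97823ac5550027e93b4), one, (nat_lit 0x8006382000a56851e54774e30ae3f3238100), (.prod [nat_lit 42, nat_lit 34])⟩)
 (.lf ⟨nat_lit 0, nat_lit 1, nat_lit 1, (nat_lit 0x8005e724612e7473646bf0e95f5278174505), one, (nat_lit 0x80067822e0015f130a42525b76923a11e52b), (.prod [nat_lit 43, nat_lit 41])⟩)))
 (.nd (nat_lit 47) (.nd (nat_lit 46) (.lf ⟨nat_lit 0, nat_lit 1, nat_lit 1, (nat_lit 0x80064b7122891ef0c30bc51d0391744e3001), one, (nat_lit 0x80054122e6c56b65ce50309359969f339001), (.inv (nat_lit 39))⟩)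
 (.lf ⟨nat_lit 0, nat_lit 1, nat_lit 1, (nat_lit 0x8007667123a40082f46dc29a46e4c43643d1), one, (nat_lit 0x80005822e6a646e56c0b828a08015e45a701), (.prod (unp (nat_lit 6) (nat_lit 0x2da6903)))⟩))
 (.nd (nat_lit 48) (.lf ⟨nat_lit 0, nat_lit 1, nat_lit 1, (nat_lit 0x80046e7b33df15e1800e45f12f40234571aa), one, (nat_lit 0x80046e7b33df15e1800e45f12f40234571aa), (.inv (nat_lit 35))⟩)
 (.lf ⟨nat_lit 0, nat_lit 1, nat_lit 1, (nat_lit 0x80005c22e1683e24cb54c26c1c12816643b4), one, (nat_lit 0x80064b24652b3d745854c02313a227617100), (.inv (nat_lit 44))⟩))))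
 (.nd (nat_lit 53) (.nd (nat_lit 51) (.nd (nat_lit 50) (.lf ⟨nat_lit 0, nat_lit 1, nat_lit 1, (nat_lit 0x8005a92080a16172eb6bf5850082a71ab1a8), one, (nat_lit 0x80064b1d709c5f13974254fd2ab2a72490e9), (.prod (unp (nat_lit 6) (nat_lit 0xc2f0e504)))⟩)
 (.lf ⟨nat_lit 0, nat_lit 1, nat_lit 1, (nat_lit 0x8005a937c50569f7e94253df46e5b71ab11e), one, (nat_lit 0x8004c172b73a2cf0696bf5b75234fd0c363b), (.prod [nat_lit 49, nat_lit 46])⟩))
 (.nd (nat_lit 52) (.lf ⟨nat_lit 0, nat_lit 1, nat_lit 1, (nat_lit 0x8005a92ae3d72f904f6af4cf0804fd1ab2f0), one, (nat_lit 0x80065b7b32381a92556af2a751d5b725939f), (.prod [nat_lit 50, nat_lit 46])⟩)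
 (.lf ⟨nat_lit 0, nat_lit 1, nat_lit 1, (nat_lit 0x80054122e6c56b65ce50309359969f339001), one, (nat_lit 0x80064b7122891ef0c30bc51d0391744e3001), (.inv (nat_lit 34))⟩)))
 (.nd (nat_lit 55) (.nd (nat_lit 54) (.lf ⟨nat_lit 0, nat_lit 1, nat_lit 1, (nat_lit 0x80005832e0a60087694770392f93f245a278), one, (nat_lit 0x8005c17b76a63bc1697824c45f15b31c37e9), (.inv (nat_lit 51))⟩)
 (.lf ⟨nat_lit 0, nat_lit 1, nat_lit 1, (nat_lit 0x8000c422e13a1a96695a500438a2814c6397), one, (nat_lit 0x8005412463d752b13b4e42815f1010143769), (.prod (unp (nat_lit 6) (nat_lit 0xd74c6204)))⟩))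
 (.nd (nat_lit 56) (.lf ⟨nat_lit 1, nat_lit 1, nat_lit 0, one, one, one, (.wt (nat_lit 0) (nat_lit 0) one (.sp .nil) [] [])⟩)
 (.lf ⟨nat_lit 1, nat_lit 1, nat_lit 1, (nat_lit 0x80065b22e28917c3d025524b1c30043bc391), (nat_lit 0x80005c7b72ce56c39743c3ac60323a5f51c1), (nat_lit 0x80065b24763b26c1e76246b61693d739a143), (.wt (nat_lit 4) (nat_lit 0) (nat_lit 0x80005c7b72f94903b978224945804f5f53b4) (.st (nat_lit 55) [nat_lit 27] [] (.sp .nil)) [] [])⟩)))))))

noncomputable def q6_1_0 : Net :=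
  mkNet (nat_lit 6) (nat_lit 22) (nat_lit 0x140100008002000800001c0003f00001c2080c0c0c8014010)

noncomputable def q6_1_2 : Net :=
  mkNet (nat_lit 6) (nat_lit 22) (nat_lit 0x40000080840008080000280000a0003b81090808084040000)

noncomputable def q6_1_4 : Net :=
  mkNet (nat_lit 6) (nat_lit 22) (nat_lit 0x1440000800800070c0000800003c00014000f0c04004014150)

noncomputable def q6_1_6 : Net :=
  mkNet (nat_lit 6) (nat_lit 22) (nat_lit 0x544000800401070c0000800003c00014020f0c04008104550)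

noncomputable def q6_1_8 : Net :=
  mkNet (nat_lit 6) (nat_lit 22) (nat_lit 0x41140000080008040000280000e0000281020608c88041150)

noncomputable def q6_1_10 : Net :=
  mkNet (nat_lit 6) (nat_lit 22) (nat_lit 0x1100008440030208000080000380000303030800cc8011001)

noncomputable def q6_1_20 : Net :=
  mkNet (nat_lit 6) (nat_lit 22) (nat_lit 0x41104000cc8004080000580003e0001e80080e0848cd55011)

noncomputable def q6_1_21 : Net :=
  mkNet (nat_lit 6) (nat_lit 22) (nat_lit 0x14404004808830e0c0000c00003c0001a81000800c4c954045)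

noncomputable def q6_1_22 : Net :=
  mkNet (nat_lit 6) (nat_lit 22) (nat_lit 0x1445408c40800304000048000360001883030604cc0d15145)

noncomputable def q6_1_23 : Net :=
  mkNet (nat_lit 6) (nat_lit 22) (nat_lit 0x1110100040801030800003c0000f0002fc0010b00008804000)

noncomputable def q6_1_24 : Net :=
  mkNet (nat_lit 6) (nat_lit 22) (nat_lit 0x10010400080010f040000700003c000138009070c040514515)

noncomputable def q6_1_25 : Net :=
  mkNet (nat_lit 6) (nat_lit 22) (nat_lit 0x111000080000000000000040001900020c0000008400151400)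

noncomputable def q6_1_26 : Net :=
  mkNet (nat_lit 6) (nat_lit 22) (nat_lit 0x111000c48000020000004c0001300028c2050a08440151410)

noncomputable def q6_1_27 : Net :=
  mkNet (nat_lit 6) (nat_lit 22) (nat_lit 0x4440400880830a00000004000250000f4007000c8c8954014)

noncomputable def q6_1_28 : Net :=
  mkNet (nat_lit 6) (nat_lit 22) (nat_lit 0x1145400c8800003040000840003d0000343040400004045040)

noncomputable def q6_1 : List Net :=
  [q6_1_0, q6_1_0, q6_1_2, q6_1_2, q6_1_4, q6_1_4, q6_1_6, q6_1_6, q6_1_8, q6_1_8, q6_1_10, q6_1_10, Net.nil, Net.nil, Net.nil, Net.nil, Net.nil, Net.nil, Net.nil, Net.nil, q6_1_20, q6_1_21, q6_1_22, q6_1_23, q6_1_24, q6_1_25, q6_1_26, q6_1_27, q6_1_28]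

noncomputable def Qs6 : List (ℕ × ℕ × List Net) :=
  [(nat_lit 22, nat_lit 6, q6_1)]

noncomputable def ls6 : List Ld :=
  [⟨[(nat_lit 32, [nat_lit 28, nat_lit 28]), (nat_lit 26, [nat_lit 25]), (nat_lit 23, (unp (nat_lit 5) (nat_lit 0x6b7b03))), (nat_lit 18, (unp (nat_lit 5) (nat_lit 0x33ad5f18bd2960a))), (nat_lit 3, (unp (nat_lit 5) (nat_lit 0x1cceb17c5f14a00c20d)))], [⟨nat_lit 2, [nat_lit 0, nat_lit 4], (nat_lit 0x851461471870c32041c41c818620005f), nat_lit 21⟩, ⟨nat_lit 3, (unp (nat_lit 2) (nat_lit 0x3403)), (nat_lit 0x841441440831030c11450c40c501f09f), nat_lit 20⟩, ⟨nat_lit 1, (unp (nat_lit 2) (nat_lit 0x2403)), (nat_lit 0x9f0430c27df0830c10c30c20837df01f), nat_lit 16⟩, ⟨nat_lit 4, [nat_lit 0], (nat_lit 0x7df7df7df7df7df7df05f7c27c07df7df), nat_lit 3⟩], [[nat_lit 3], [nat_lit 5], [nat_lit 9], [nat_lit 11]], (nat_lit 0x2051870c61051851861c61c2144207040)⟩]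

noncomputable def lk6 : List (List ℕ) :=
  [[]]

noncomputable def d6_0 : Nd :=
  ⟨nat_lit 1, nat_lit 22, [(nat_lit 54, [nat_lit 28]), (nat_lit 49, [nat_lit 27, nat_lit 26]), (nat_lit 46, (unp (nat_lit 5) (nat_lit 0x1ce675a05))), (nat_lit 41, (unp (nat_lit 5) (nat_lit 0x739ad6f18bded40b))), (nat_lit 3, (unp (nat_lit 5) (nat_lit 0x1ace314a500a09)))], [⟨nat_lit 2, [nat_lit 0, nat_lit 4], (nat_lit 0x1c61c81451471061880831c418320005f), nat_lit 21⟩, ⟨nat_lit 3, (unp (nat_lit 2) (nat_lit 0x3403)), (nat_lit 0x1421031451031451040840c10c301f09f), nat_lit 20⟩, ⟨nat_lit 1, (unp (nat_lit 2) (nat_lit 0x2403)), (nat_lit 0xdf0830c17df0c30c20820c10837df01f), nat_lit 16⟩, ⟨nat_lit 4, [nat_lit 0], (nat_lit 0x7df7df7df7df7df7df09f7c17c07df7df), nat_lit 3⟩],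
  [⟨[nat_lit 0, nat_lit 4], (nat_lit 0x1451830870451861831c2103105107000), [(nat_lit 55, nat_lit 0, []), (nat_lit 56, nat_lit 1, [nat_lit 10])]⟩]⟩

noncomputable def ds6 : List Nd :=
  [d6_0]

noncomputable def ks6 : List ℕ :=
  [nat_lit 1]

def kc6 : List (ℕ × ℕ) := [(0, 1), (1, 22)]

theorem Rn7 : Nat.beq R7.length 28 = true := by decide +kernel

theorem Nn7 : Nat.beq N7.length 5 = true := by decide +kernel

theorem A6_p : actP 6 22 n6 29 = true := by decide +kernel

theorem A6_l_0 : rng (actL 6 22 n6 dom6 (2 * 10) us6) (nat_lit 0) (nat_lit 29) = true := by decide +kernel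

theorem A6_r_0 : rng (fun i => relN 6 22 n6 (2 * 10) (nthD ([], nat_lit 0) R6 i)) (nat_lit 0) (nat_lit 23) = true := by decide +kernel

theorem hr6 : relsOk mul one lc6 dom6 nodes6 1 (2 * 10) R7 sb6 1 rs6 = true := by decide +kernel

theorem hc6_0 : rng (chk mul one wf T6 lc6 (mapR (fun e => e.2.2) rs6) 1) (nat_lit 0) (nat_lit 57) = true := by decide +kernel

theorem AQ6_1_p : actP 6 22 q6_1 29 = true := by decide +kernel

theorem AQ6_1_l_0 : rng (actL 6 22 q6_1 dom6 (2 * 10) us6) (nat_lit 0) (nat_lit 29) = true := by decide +kernel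

theorem AQ6_1_r_0 : rng (fun i => relN 6 22 q6_1 (2 * 10) (nthD ([], nat_lit 0) R6 i)) (nat_lit 0) (nat_lit 23) = true := by decide +kernel

theorem la6 : ldA mul one T6 57 lc6 22 6 n6 ls6 1 = true := by decide +kernel

theorem lb6 : ldB 443520 Qs6 ls6 1 = true := by decide +kernel

theorem na6_0 : rng (fun i => ndA mul one T6 57 lc6 22 6 n6 443520 (nthD ⟨nat_lit 0, nat_lit 0, [], [], []⟩ ds6 i)) (nat_lit 0) (nat_lit 1) = true := by decide +kernel

theorem nb6_0 : rng (fun i => ndB mul one T6 57 lc6 ks6 Qs6 1 (nthD ⟨nat_lit 0, nat_lit 0, [], [], []⟩ ds6 i)) (nat_lit 0) (nat_lit 1) = true := by decide +kernel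

theorem dn6 : Nat.beq ds6.length 1 = true := by decide +kernel

theorem hk6 : ks6 = ds6.map Nd.k := by decide +kernel

theorem hkc6 : kc6 = (0, 1) :: ds6.map fun d => (d.k, d.c) := by decide +kernel

theorem lo6 : linkOk mul one T6 57 ks6 lk6 1 = true := by decide +kernel

theorem do6 : domOk dom6 [0, 1, 2, 3, 4, 5, 6] nodes6 1 R7 sb6 1 = true := by decide +kernel

theorem A6_l : ∀ i < 29, (actL 6 22 n6 dom6 (2 * 10) us6) i = true :=
  (rng_add rng_zero A6_l_0)

theorem A6_r : ∀ i < 23, (fun i => relN 6 22 n6 (2 * 10) (nthD ([], nat_lit 0) R6 i)) i = true :=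
  (rng_add rng_zero A6_r_0)

theorem hc6 : ∀ i < 57, (chk mul one wf T6 lc6 (mapR (fun e => e.2.2) rs6) 1) i = true :=
  (rng_add rng_zero hc6_0)

theorem AQ6_1_l : ∀ i < 29, (actL 6 22 q6_1 dom6 (2 * 10) us6) i = true :=
  (rng_add rng_zero AQ6_1_l_0)

theorem AQ6_1_r : ∀ i < 23, (fun i => relN 6 22 q6_1 (2 * 10) (nthD ([], nat_lit 0) R6 i)) i = true :=
  (rng_add rng_zero AQ6_1_r_0)

theorem na6 : ∀ i < 1, (fun i => ndA mul one T6 57 lc6 22 6 n6 443520 (nthD ⟨nat_lit 0, nat_lit 0, [], [], []⟩ ds6 i)) i = true :=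
  (rng_add rng_zero na6_0)

theorem nb6 : ∀ i < 1, (fun i => ndB mul one T6 57 lc6 ks6 Qs6 1 (nthD ⟨nat_lit 0, nat_lit 0, [], [], []⟩ ds6 i)) i = true :=
  (rng_add rng_zero nb6_0)

section
universe u v
variable {R : Type v} {ι : Type} [CommRing R] [Fintype ι] [DecidableEq ι] (V : VCod R ι 12 12 app wfT) (h2 : V.mat one = 1)

theorem A6 : Act.{0} (((S V h2).sub (mdl (g V h2) dom6)).gen lc6) 22 6 n6 :=
  act_of_up (L6 V h2) (U6 V h2) A6_p A6_l (by decide) (allR Rn6 A6_r)

theorem AQ6_1 : Act.{0} (((S V h2).sub (mdl (g V h2) dom6)).gen lc6) 22 6 q6_1 :=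
  act_of_up (L6 V h2) (U6 V h2) AQ6_1_p AQ6_1_l (by decide) (allR Rn6 AQ6_1_r)

theorem C6 : Cert.{u} ((S V h2).sub (mdl (g V h2) dom6)) T6 57 (mgen (g V h2) dom6) dom6 [0, 1, 2, 3, 4, 5, 6] nodes6 1 (R6 ++ N7) kc6 :=
  have := fin6 V h2
  cert_of (L6 V h2) (card6 V h2).le (A6 V h2) (Qs := Qs6) (List.forall_mem_cons.2 ⟨AQ6_1 V h2, List.forall_mem_nil _⟩) hr6 hc6 la6 lb6 hk6 (allR dn6 na6) (allR dn6 nb6) lo6 do6 hkc6

end

def dom7 : List ℕ := [0, 1, 2, 3, 4, 5, 6]

noncomputable def us7 : List (List ℕ) :=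
  [(unp (nat_lit 4) (nat_lit 0xd7b604)), (unp (nat_lit 4) (nat_lit 0x34686406)), (unp (nat_lit 5) (nat_lit 0x2acad18c06)), (unp (nat_lit 5) (nat_lit 0x599503)), (unp (nat_lit 5) (nat_lit 0x2aca52d506)), (unp (nat_lit 5) (nat_lit 0x317c62f706)), (unp (nat_lit 5) (nat_lit 0x18c62f805)), (unp (nat_lit 5) (nat_lit 0xce75a04)), (unp (nat_lit 5) (nat_lit 0x359ce759ce73a0a)), (unp (nat_lit 5) (nat_lit 0xceb59d673908)), (unp (nat_lit 5) (nat_lit 0xe6fbbef79b08))]

noncomputable def lc7 : List ℕ :=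
  [nthD one bc (nat_lit 0),
  nthD one bc (nat_lit 1),
  nthD one bc (nat_lit 2),
  nthD one bc (nat_lit 3),
  nthD one bc (nat_lit 4),
  nthD one bc (nat_lit 5),
  nthD one bc (nat_lit 6),
  nthD one bc (nat_lit 7),
  nthD one bc (nat_lit 8),
  nthD one bc (nat_lit 9),
  nthD one bc (nat_lit 10),
  nthD one bc (nat_lit 11),
  nthD one bc (nat_lit 12),
  nthD one bc (nat_lit 13),
  one,
  one,
  one,
  one,
  one,
  one,
  (nat_lit 0x8004935121c139a09854712d5b71aa174391),
  (nat_lit 0x8004007b751d2272eb50b6b64995231a8490),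
  (nat_lit 0x8005413ef05213a0266a678224b74733909c),
  (nat_lit 0x80040078238a3f909c60724679b33900212e),
  (nat_lit 0x8005a84d05b373a6af3f222e04043c1aa1d2),
  (nat_lit 0x8004c17b713d02352b6640265f05540c36af),
  (nat_lit 0x8000fd1b40a639f6642d873e4f31684ff047),
  (nat_lit 0x80049320824b4580e950b3f252315e091669),
  (nat_lit 0x8005e72ae49973e63b5253e251d4c41e5023),
  (nat_lit 0x80064b3ef1743bc39054d5b73665852492f4),
  (nat_lit 0x8005412463d752b13b4e42815f1010143769)]

noncomputable def v7_0 : VL :=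
  ⟨(nat_lit 2601), [[nat_lit 0], [nat_lit 2], [nat_lit 4], [nat_lit 6], [nat_lit 8], [nat_lit 10], [nat_lit 12]], nat_lit 3, [(nat_lit 0x1000b08c01d828008003ea700a01181912b)], nat_lit 5, nat_lit 23⟩

noncomputable def v7_1 : VL :=
  ⟨(nat_lit 156), [(unp (nat_lit 5) (nat_lit 0x451296ae739cebbddefde11)), (unp (nat_lit 5) (nat_lit 0x8302b4c6317be7bb0d))], nat_lit 2, [(nat_lit 0x56015600980601815524)], nat_lit 5, nat_lit 22⟩

noncomputable def v7_2 : VL :=
  ⟨(nat_lit 1303), [(unp (nat_lit 5) (nat_lit 0xcb6317be37ddefde0d)), (unp (nat_lit 5) (nat_lit 0xc25ab5c62f7ceb59e737e11))], nat_lit 2, [(nat_lit 0x299a000286a00199921)], nat_lit 5, nat_lit 21⟩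

noncomputable def v7_3 : VL :=
  ⟨(nat_lit 1082), [(unp (nat_lit 5) (nat_lit 0x14465b17c675acf37e0e)), (unp (nat_lit 5) (nat_lit 0x112d6c5ef9d6b39ef79b10))], nat_lit 2, [(nat_lit 0x85a001809609801a522)], nat_lit 5, nat_lit 20⟩

noncomputable def v7_4 : VL :=
  ⟨(nat_lit 2857), [(unp (nat_lit 5) (nat_lit 0x16adf59d6b3de6fde0d)), (unp (nat_lit 5) (nat_lit 0x5f17be739d6f7e0c)), (unp (nat_lit 5) (nat_lit 0x44a5717c6b3ad67de0e))], nat_lit 2, [(nat_lit 0x30c609700c385c070e0d6001825c01701c35802701c3655b)], nat_lit 6, nat_lit 48⟩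

noncomputable def vl7 : List VL :=
  [v7_0, v7_1, v7_2, v7_3, v7_4]

theorem lco7 : lcOk mul one bc lc7 dom7 (2 * 10) us7 31 = true := by decide +kernel

theorem rc7_0 : rng (fun i => relC mul one bc (2 * 10) (nthD ([], nat_lit 0) N7 i)) (nat_lit 0) (nat_lit 5) = true := by decide +kernel

theorem sm6 : Nat.beq ((kc6.map Prod.snd).sum * 443520) 10200960 = true := by decide +kernel

theorem vc7 : vchainOk (app 12 1) (wfT 12 1) mul one lc7 [] vl7 = true := by decide +kernel

theorem vf7 : band (allL (fun i => memL i dom7) dom0) (VCod.fixD (app 12 1) (wfT 12 1) one bc dom0 vl7) = true := by decide +kernel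

theorem vp7 : (vl7.map VL.d).prod * 1 = 10200960 := by decide +kernel

theorem rd7 : allL (fun r => allL (fun l => memL (Nat.shiftRight l (nat_lit 1)) dom7) r.1) (R6 ++ N7) = true := by decide +kernel

theorem rc7 : ∀ i < 5, (fun i => relC mul one bc (2 * 10) (nthD ([], nat_lit 0) N7 i)) i = true :=
  (rng_add rng_zero rc7_0)

section
universe u v
variable {R : Type v} {ι : Type} [CommRing R] [Fintype ι] [DecidableEq ι] (V : VCod R ι 12 12 app wfT) (h2 : V.mat one = 1)

theorem L7 : Lc ((S V h2).sub (mdl (g V h2) dom7)) (mgen (g V h2) dom7) lc7 dom7 (2 * 10) us7 31 :=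
  lc_of (S V h2) (h0 V h2) bco lco7

theorem rel7 : Rels R7 (g V h2) := (rel6 V h2).append ((S V h2).rels (h0 V h2) bco (allR Nn7 rc7))

theorem le7 : Finite (mdl (g V h2) dom7) ∧ Nat.card (mdl (g V h2) dom7) ≤ 10200960 :=
  have := fin6 V h2
  step_le (C6 V h2) (U6 V h2) (rel7 V h2) (card6 V h2) sm6

theorem fin7 : Finite (mdl (g V h2) dom7) := (le7 V h2).1

theorem card7 : Nat.card (mdl (g V h2) dom7) = 10200960 := by
  have : Finite (mdl ((V.sem h1 h2).bg bc) dom7) := fin7 V h2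
  have h := V.le_card_mdl h1 h2 (h0 V h2) (L7 V h2).ok vc7 vf7
  exact le_antisymm (le7 V h2).2 (le_trans (vp7.symm.trans (congrArg (HMul.hMul (vl7.map VL.d).prod) (card0 V h2).symm)).le h)

theorem U7 : UP.{0} (mgen (g V h2) dom7) dom7 R7 :=
  have := fin6 V h2
  step_up (C6 V h2) (U6 V h2) (rel7 V h2) (card6 V h2) sm6 (card7 V h2) rd7

end

noncomputable def N8 : List (List ℕ × ℕ) :=
  [([nat_lit 14], nat_lit 2),
  ((unp (nat_lit 4) (nat_lit 0xb1bd359df820a02a2e12)), nat_lit 1),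
  ((unp (nat_lit 4) (nat_lit 0x1531b9f86020a0e0f)), nat_lit 1),
  ((unp (nat_lit 4) (nat_lit 0xededfd06)), nat_lit 1)]

noncomputable def R8 : List (List ℕ × ℕ) :=
  R7 ++ N8

noncomputable def n7_0 : Net :=
  mkNet (nat_lit 6) (nat_lit 23) (nat_lit 0x100150206040000800000200000400000c00c2c2081818100150)

noncomputable def n7_2 : Net :=
  mkNet (nat_lit 6) (nat_lit 23) (nat_lit 0x5044000240000080000002000004000048002c0090908051440)

noncomputable def n7_4 : Net :=
  mkNet (nat_lit 6) (nat_lit 23) (nat_lit 0x10140004440000800000288000510000e208282081918010140)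

noncomputable def n7_6 : Net :=
  mkNet (nat_lit 6) (nat_lit 23) (nat_lit 0x1110402624000c0c000000580000b0000f61c0c2098900111040)

noncomputable def n7_8 : Net :=
  mkNet (nat_lit 6) (nat_lit 23) (nat_lit 0x4040002604010200000024000048000190182c0089810044504)

noncomputable def n7_10 : Net :=
  mkNet (nat_lit 6) (nat_lit 23) (nat_lit 0x1151440406000810000000500000a0000f40c040010909115144)

noncomputable def n7_12 : Net :=
  mkNet (nat_lit 6) (nat_lit 23) (nat_lit 0x4000206400000800000220000440001c80c200080810004001)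

noncomputable def n7_20 : Net :=
  mkNet (nat_lit 6) (nat_lit 23) (nat_lit 0x50502040000400000000280004500004a00380081008804051)

noncomputable def n7_21 : Net :=
  mkNet (nat_lit 6) (nat_lit 23) (nat_lit 0x500500024401820000001580006b00011e100c1010908011410)

noncomputable def n7_22 : Net :=
  mkNet (nat_lit 6) (nat_lit 23) (nat_lit 0x1401042200000000000002280007500007a18240098109151114)

noncomputable def n7_23 : Net :=
  mkNet (nat_lit 6) (nat_lit 23) (nat_lit 0x140040400400800000002080006900009618140019191011045)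

noncomputable def n7_24 : Net :=
  mkNet (nat_lit 6) (nat_lit 23) (nat_lit 0x111000244040020200000900001b0001ec18280011881844141)

noncomputable def n7_25 : Net :=
  mkNet (nat_lit 6) (nat_lit 23) (nat_lit 0x1041440464041008200002c0000780001340c2c0008891055404)

noncomputable def n7_26 : Net :=
  mkNet (nat_lit 6) (nat_lit 23) (nat_lit 0x1401040240441000000001a80003f0000ae08242880101005104)

noncomputable def n7_27 : Net :=
  mkNet (nat_lit 6) (nat_lit 23) (nat_lit 0x1055002020000010200000900003e00002c04302081800005440)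

noncomputable def n7_28 : Net :=
  mkNet (nat_lit 6) (nat_lit 23) (nat_lit 0x41500600601c00000003580006b00009e08281009118005150)

noncomputable def n7_29 : Net :=
  mkNet (nat_lit 6) (nat_lit 23) (nat_lit 0x5150024060040800000280000700000e0182c1018010145050)

noncomputable def n7_30 : Net :=
  mkNet (nat_lit 6) (nat_lit 23) (nat_lit 0x450500200401830000000e80003d0000ba04180009018004150)

noncomputable def n7 : List Net :=
  [n7_0, n7_0, n7_2, n7_2, n7_4, n7_4, n7_6, n7_6, n7_8, n7_8, n7_10, n7_10, n7_12, n7_12, Net.nil, Net.nil, Net.nil, Net.nil, Net.nil, Net.nil, n7_20, n7_21, n7_22, n7_23, n7_24, n7_25, n7_26, n7_27, n7_28, n7_29, n7_30]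

def nodes7 : List ℕ := [14]

def sb7 : List (ℕ × ℕ × ℕ) := [(15, 28, 0)]

noncomputable def rs7 : List (ℕ × ℕ × List (ℕ × ℕ)) :=
  [(nat_lit 28, nat_lit 0, [(nat_lit 1, (nat_lit 0x800400200100080040020010008004002001)), (nat_lit 1, (nat_lit 0x800400200100080040020010008004002001))]),
  (nat_lit 29, nat_lit 10, [(nat_lit 1, (nat_lit 0x8004ff24737966016847739f56c3661ed64b)), (nat_lit 1, (nat_lit 0x8000732ae3f313d76947704e51d4ff68f5b7))]),
  (nat_lit 30, nat_lit 9, [(nat_lit 1, (nat_lit 0x8006dc2463a452b0c151a0915f50e9040599)), (nat_lit 1, (nat_lit 0x80046e2465b728966464b0c300125b457026))]),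
  (nat_lit 31, nat_lit 0, [(nat_lit 1, (nat_lit 0x8005415253b41ef2f472b28a5993df143001)), (nat_lit 1, (nat_lit 0x8005415253b41ef2f472b28a5993df143001)), (nat_lit 1, (nat_lit 0x8005415253b41ef2f472b28a5993df143001))])]

noncomputable def T7_0 : Tr :=
  (.nd (nat_lit 19) (.nd (nat_lit 9) (.nd (nat_lit 4) (.nd (nat_lit 2) (.nd (nat_lit 1) (.lf ⟨nat_lit 0, nat_lit 0, nat_lit 0, one, one, one, .triv⟩)
 (.lf ⟨nat_lit 0, nat_lit 0, nat_lit 0, one, one, one, .triv⟩))
 (.nd (nat_lit 3) (.lf ⟨nat_lit 1, nat_lit 1, nat_lit 0, (nat_lit 0x8004ff24737966016847739f56c3661ed64b), (nat_lit 0x80046e2474903d77664e61c13f304e4cb28a), one, (.wt (nat_lit 1) (nat_lit 0) one (.sp .nil) [] [])⟩)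
 (.lf ⟨nat_lit 0, nat_lit 1, nat_lit 1, (nat_lit 0x8004ff24737966016847739f56c3661ed64b), one, (nat_lit 0x80046e2474903d77664e61c13f304e4cb28a), (.we (nat_lit 0) (nat_lit 1) (nat_lit 0x8004ff24737966016847739f56c3661ed64b) (.st (nat_lit 2) [] [] (.sp .nil)))⟩)))
 (.nd (nat_lit 6) (.nd (nat_lit 5) (.lf ⟨nat_lit 0, nat_lit 1, nat_lit 1, (nat_lit 0x8005b37ef4993a730a6bf56d4936aa04751a), one, (nat_lit 0x80009832e6785a85bc0bc2ab10001056d6a8), (.prod [nat_lit 3, nat_lit 3])⟩)
 (.lf ⟨nat_lit 0, nat_lit 1, nat_lit 1, (nat_lit 0x8001a87122277e95bf69c2d86a602e5a8098), one, (nat_lit 0x8001e554779b43c5b354d0c44901c12492eb), (.prod [nat_lit 4, nat_lit 3])⟩))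
 (.nd (nat_lit 7) (.lf ⟨nat_lit 0, nat_lit 1, nat_lit 1, (nat_lit 0x8004027b32f05997a254d3bc6243900fd093), one, (nat_lit 0x80060319751d2f404f6af4ff6782ab4587a2), (.prod [nat_lit 5, nat_lit 3])⟩)
 (.nd (nat_lit 8) (.lf ⟨nat_lit 0, nat_lit 1, nat_lit 1, (nat_lit 0x8005123ef2a715e63b6af6bc1a94c10a1259), one, (nat_lit 0x80006808900839f29a4e400479b0c413a143), (.prod [nat_lit 6, nat_lit 3])⟩)
 (.lf ⟨nat_lit 0, nat_lit 1, nat_lit 1, (nat_lit 0x8005f43ed49066939a50313a2495bc45c397), one, (nat_lit 0x8000732ae3f313d76947704e51d4ff68f5b7), (.prod [nat_lit 7, nat_lit 3])⟩)))))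
 (.nd (nat_lit 14) (.nd (nat_lit 11) (.nd (nat_lit 10) (.lf ⟨nat_lit 0, nat_lit 1, nat_lit 1, (nat_lit 0x8005b37ef4993a730a6bf56d4936aa04751a), one, (nat_lit 0x80009832e6785a85bc0bc2ab10001056d6a8), (.prod [nat_lit 3, nat_lit 3])⟩)
 (.lf ⟨nat_lit 0, nat_lit 1, nat_lit 1, (nat_lit 0x8001a87122277e95bf69c2d86a602e5a8098), one, (nat_lit 0x8001e554779b43c5b354d0c44901c12492eb), (.prod [nat_lit 9, nat_lit 3])⟩))
 (.nd (nat_lit 12) (.lf ⟨nat_lit 0, nat_lit 1, nat_lit 1, (nat_lit 0x8004027b32f05997a254d3bc6243900fd093), one, (nat_lit 0x80060319751d2f404f6af4ff6782ab4587a2), (.prod [nat_lit 10, nat_lit 3])⟩)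
 (.nd (nat_lit 13) (.lf ⟨nat_lit 0, nat_lit 1, nat_lit 1, (nat_lit 0x8005123ef2a715e63b6af6bc1a94c10a1259), one, (nat_lit 0x80006808900839f29a4e400479b0c413a143), (.prod [nat_lit 11, nat_lit 3])⟩)
 (.lf ⟨nat_lit 0, nat_lit 1, nat_lit 1, (nat_lit 0x8005f43ed49066939a50313a2495bc45c397), one, (nat_lit 0x8000732ae3f313d76947704e51d4ff68f5b7), (.prod [nat_lit 12, nat_lit 3])⟩))))
 (.nd (nat_lit 16) (.nd (nat_lit 15) (.lf ⟨nat_lit 1, nat_lit 1, nat_lit 0, (nat_lit 0x8000732ae3f313d76947704e51d4ff68f5b7), (nat_lit 0x8005f43ed49066939a50313a2495bc45c397), one, (.wt (nat_lit 1) (nat_lit 1) one (.sp .nil) [] [])⟩)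
 (.lf ⟨nat_lit 0, nat_lit 1, nat_lit 1, (nat_lit 0x8000732ae3f313d76947704e51d4ff68f5b7), one, (nat_lit 0x8005f43ed49066939a50313a2495bc45c397), (.we (nat_lit 0) (nat_lit 1) (nat_lit 0x8000732ae3f313d76947704e51d4ff68f5b7) (.st (nat_lit 14) [] [] (.sp .nil)))⟩))
 (.nd (nat_lit 17) (.lf ⟨nat_lit 0, nat_lit 1, nat_lit 1, (nat_lit 0x8006fc7120c32592eb0bc5bb25502e63824b), one, (nat_lit 0x8001d21b443c79b3a454d4003f350551d5bf), (.prod [nat_lit 6, nat_lit 15])⟩)
 (.nd (nat_lit 18) (.lf ⟨nat_lit 0, nat_lit 1, nat_lit 1, (nat_lit 0x8000527b30ae3973f27824c459d39043c1e5), one, (nat_lit 0x80052b22e2f451d1a86af46e10023a0083f2), (.prod [nat_lit 16, nat_lit 3])⟩)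
 (.lf ⟨nat_lit 0, nat_lit 1, nat_lit 1, (nat_lit 0x8000c42002a71c35f04e42f417c033585391), one, (nat_lit 0x8000c42002a71c35f04e42f417c033585391), (.prod [nat_lit 3, nat_lit 15])⟩))))))
 (.nd (nat_lit 28) (.nd (nat_lit 23) (.nd (nat_lit 21) (.nd (nat_lit 20) (.lf ⟨nat_lit 0, nat_lit 1, nat_lit 1, (nat_lit 0x8005f43ed49066939a50313a2495bc45c397), one, (nat_lit 0x8000732ae3f313d76947704e51d4ff68f5b7), (.inv (nat_lit 3))⟩)
 (.lf ⟨nat_lit 0, nat_lit 1, nat_lit 1, (nat_lit 0x8004c122e1ef3b46206af58559d3df0c3555), one, (nat_lit 0x80005c22e0080ae3907822c81004582f4685), (.prod (unp (nat_lit 5) (nat_lit 0x4de403)))⟩))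
 (.nd (nat_lit 22) (.lf ⟨nat_lit 0, nat_lit 1, nat_lit 1, (nat_lit 0x80076622e52b7476200b800238a13b2276c5), one, (nat_lit 0x80064b22e17c1ed39042574f2a76bc0100a5), (.prod [nat_lit 20, nat_lit 18])⟩)
 (.lf ⟨nat_lit 0, nat_lit 1, nat_lit 1, (nat_lit 0x8000c42002a71c35f04e42f417c033585391), one, (nat_lit 0x8000c42002a71c35f04e42f417c033585391), (.inv (nat_lit 18))⟩)))
 (.nd (nat_lit 25) (.nd (nat_lit 24) (.lf ⟨nat_lit 0, nat_lit 1, nat_lit 1, (nat_lit 0x80005c22e0080ae3907822c81004582f4685), one, (nat_lit 0x8004c122e1ef3b46206af58559d3df0c3555), (.prod (unp (nat_lit 5) (nat_lit 0x5a9203)))⟩)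
 (.lf ⟨nat_lit 0, nat_lit 1, nat_lit 1, (nat_lit 0x8005b37ef4993a730a6bf56d4936aa04751a), one, (nat_lit 0x80009832e6785a85bc0bc2ab10001056d6a8), (.inv (nat_lit 7))⟩))
 (.nd (nat_lit 26) (.lf ⟨nat_lit 0, nat_lit 1, nat_lit 1, (nat_lit 0x8004001b44990a513a4e67473bc59d4c415e), one, (nat_lit 0x8004001970c32492890bc1d239f0981c1001), (.prod (unp (nat_lit 5) (nat_lit 0x61e803)))⟩)
 (.nd (nat_lit 27) (.lf ⟨nat_lit 0, nat_lit 1, nat_lit 1, (nat_lit 0x8004021b45f009c2a74e461702363b4ff391), one, (nat_lit 0x80005819723a1c356d4e40a10230ae6132ce), (.prod [nat_lit 18, nat_lit 25])⟩)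
 (.lf ⟨nat_lit 0, nat_lit 1, nat_lit 1, (nat_lit 0x8004c17b725b3b415224c4ff00404e405227), one, (nat_lit 0x80005c3ed39f0332cf6dc2c80c34c40a1747), (.prod [nat_lit 20, nat_lit 25])⟩)))))
 (.nd (nat_lit 33) (.nd (nat_lit 30) (.nd (nat_lit 29) (.lf ⟨nat_lit 0, nat_lit 1, nat_lit 1, (nat_lit 0x8005a87b72590101520b84c42f011e5550e8), one, (nat_lit 0x8005413ed0233b92cf42551a23a5b71d226c), (.prod [nat_lit 21, nat_lit 25])⟩)
 (.lf ⟨nat_lit 0, nat_lit 1, nat_lit 1, (nat_lit 0x8004001d718008028924c1ab3df0a124b2c8), one, (nat_lit 0x80040054716913b0396dc01074f73a1a91c3), (.prod [nat_lit 27, nat_lit 20])⟩))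
 (.nd (nat_lit 31) (.lf ⟨nat_lit 0, nat_lit 1, nat_lit 1, (nat_lit 0x8006381977e92f40266af4c40234996c51ab), one, (nat_lit 0x8004022ae2f059916878246e0e93971e525b), (.prod [nat_lit 28, nat_lit 18])⟩)
 (.nd (nat_lit 32) (.lf ⟨nat_lit 0, nat_lit 1, nat_lit 1, (nat_lit 0x80040024643c0a53f36af6fc04e51d6a8397), one, (nat_lit 0x8004007121683f22f07821d251a6641a81c3), (.prod [nat_lit 29, nat_lit 25])⟩)
 (.lf ⟨nat_lit 0, nat_lit 1, nat_lit 1, (nat_lit 0x8000581974f374f5b302028a3392385f14ff), one, (nat_lit 0x8002a82ae45a5b751a0203e2339069669607), (.prod [nat_lit 30, nat_lit 20])⟩))))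
 (.nd (nat_lit 35) (.nd (nat_lit 34) (.lf ⟨nat_lit 0, nat_lit 1, nat_lit 1, (nat_lit 0x8000c424679b6854900b81a813a24969f5b7), one, (nat_lit 0x8000c47122cf7010234251e546e3e36fc080), (.prod [nat_lit 31, nat_lit 18])⟩)
 (.lf ⟨nat_lit 0, nat_lit 1, nat_lit 1, (nat_lit 0x8004001b44990a513a4e67473bc59d4c415e), one, (nat_lit 0x8004001970c32492890bc1d239f0981c1001), (.inv (nat_lit 25))⟩))
 (.nd (nat_lit 36) (.lf ⟨nat_lit 0, nat_lit 1, nat_lit 1, (nat_lit 0x8004021a413b1d23df0193b40332f00023a7), one, (nat_lit 0x80005872b0736172b950b02669f14145a2ce), (.prod (unp (nat_lit 6) (nat_lit 0x2249903)))⟩)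
 (.nd (nat_lit 37) (.lf ⟨nat_lit 0, nat_lit 1, nat_lit 1, (nat_lit 0x80064b5472eb3d10a16bf0805ce52b28a1a8), one, (nat_lit 0x8007667b758514102654c6696134cf2896c5), (.inv (nat_lit 28))⟩)
 (.lf ⟨nat_lit 0, nat_lit 1, nat_lit 1, (nat_lit 0x8004c12464fd5bc49047713d5f55bf1691ed), one, (nat_lit 0x80005c71204e5f102347715e43c14145e069), (.prod (unp (nat_lit 6) (nat_lit 0x2451a03)))⟩)))))))

noncomputable def T7_38 : Tr :=
  (.nd (nat_lit 57) (.nd (nat_lit 47) (.nd (nat_lit 42) (.nd (nat_lit 40) (.nd (nat_lit 39) (.lf ⟨nat_lit 0, nat_lit 1, nat_lit 1, (nat_lit 0x80013d22e1e71265196af2eb0695123f2664), one, (nat_lit 0x80015e3ef0080ae0a10e456d0027696603d0), (.inv (nat_lit 17))⟩)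
 (.lf ⟨nat_lit 0, nat_lit 1, nat_lit 1, (nat_lit 0x80064b22e17c1ed39042574f2a76bc0100a5), one, (nat_lit 0x80076622e52b7476200b800238a13b2276c5), (.inv (nat_lit 21))⟩))
 (.nd (nat_lit 41) (.lf ⟨nat_lit 0, nat_lit 1, nat_lit 1, (nat_lit 0x8007663ef5235bf7e901939a24b2ab11e5f4), one, (nat_lit 0x80064b3ef1743bc39054d5b73665852492f4), (.prod (unp (nat_lit 6) (nat_lit 0x9e63d004)))⟩)
 (.lf ⟨nat_lit 0, nat_lit 1, nat_lit 1, (nat_lit 0x80067822e0015f130a42525b76923a11e52b), one, (nat_lit 0x8005412463d752b13b4e42815f1010143769), (.prod [nat_lit 35, nat_lit 40])⟩)))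
 (.nd (nat_lit 44) (.nd (nat_lit 43) (.lf ⟨nat_lit 0, nat_lit 1, nat_lit 1, (nat_lit 0x8006fc7120c32592eb0bc5bb25502e63824b), one, (nat_lit 0x8001d21b443c79b3a454d4003f350551d5bf), (.prod [nat_lit 11, nat_lit 15])⟩)
 (.lf ⟨nat_lit 0, nat_lit 1, nat_lit 1, (nat_lit 0x8000527b30ae3973f27824c459d39043c1e5), one, (nat_lit 0x80052b22e2f451d1a86af46e10023a0083f2), (.prod [nat_lit 42, nat_lit 3])⟩))
 (.nd (nat_lit 45) (.lf ⟨nat_lit 0, nat_lit 1, nat_lit 1, (nat_lit 0x8000c42002a71c35f04e42f417c033585391), one, (nat_lit 0x8000c42002a71c35f04e42f417c033585391), (.prod [nat_lit 3, nat_lit 15])⟩)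
 (.nd (nat_lit 46) (.lf ⟨nat_lit 0, nat_lit 1, nat_lit 1, (nat_lit 0x8004c122e1ef3b46206af58559d3df0c3555), one, (nat_lit 0x80005c22e0080ae3907822c81004582f4685), (.prod (unp (nat_lit 5) (nat_lit 0x4de903)))⟩)
 (.lf ⟨nat_lit 0, nat_lit 1, nat_lit 1, (nat_lit 0x80064b22e17c1ed39042574f2a76bc0100a5), one, (nat_lit 0x80076622e52b7476200b800238a13b2276c5), (.prod [nat_lit 44, nat_lit 45])⟩)))))
 (.nd (nat_lit 52) (.nd (nat_lit 49) (.nd (nat_lit 48) (.lf ⟨nat_lit 0, nat_lit 1, nat_lit 1, (nat_lit 0x80005c22e0080ae3907822c81004582f4685), one, (nat_lit 0x8004c122e1ef3b46206af58559d3df0c3555), (.prod [nat_lit 46, nat_lit 44])⟩)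
 (.lf ⟨nat_lit 0, nat_lit 1, nat_lit 1, (nat_lit 0x8005b37ef4993a730a6bf56d4936aa04751a), one, (nat_lit 0x80009832e6785a85bc0bc2ab10001056d6a8), (.inv (nat_lit 12))⟩))
 (.nd (nat_lit 50) (.lf ⟨nat_lit 0, nat_lit 1, nat_lit 1, (nat_lit 0x8004001b44990a513a4e67473bc59d4c415e), one, (nat_lit 0x8004001970c32492890bc1d239f0981c1001), (.prod (unp (nat_lit 6) (nat_lit 0x303cd03)))⟩)
 (.nd (nat_lit 51) (.lf ⟨nat_lit 0, nat_lit 1, nat_lit 1, (nat_lit 0x8004021b45f009c2a74e461702363b4ff391), one, (nat_lit 0x80005819723a1c356d4e40a10230ae6132ce), (.prod [nat_lit 44, nat_lit 49])⟩)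
 (.lf ⟨nat_lit 0, nat_lit 1, nat_lit 1, (nat_lit 0x8002a87b702369f2cf4253ac5f0091747080), one, (nat_lit 0x8006383ed62068552b0b81c11433f20735ce), (.prod [nat_lit 46, nat_lit 49])⟩))))
 (.nd (nat_lit 54) (.nd (nat_lit 53) (.lf ⟨nat_lit 0, nat_lit 1, nat_lit 1, (nat_lit 0x80005c7b73bc6a62cf54c3974991c16171d2), one, (nat_lit 0x8004c13ed2782eb52b5a561345e281100701), (.prod [nat_lit 47, nat_lit 49])⟩)
 (.lf ⟨nat_lit 0, nat_lit 1, nat_lit 1, (nat_lit 0x8004022ae39007317c4255233395ce1ab0a5), one, (nat_lit 0x80005824749074779b0b81a93f30804cb6bc), (.prod [nat_lit 50, nat_lit 45])⟩))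
 (.nd (nat_lit 55) (.lf ⟨nat_lit 0, nat_lit 1, nat_lit 1, (nat_lit 0x8002a81d733930a46e4e40983903647693b4), one, (nat_lit 0x8006385475f00012a74e45b37e96a62ab4c6), (.prod [nat_lit 51, nat_lit 45])⟩)
 (.nd (nat_lit 56) (.lf ⟨nat_lit 0, nat_lit 1, nat_lit 1, (nat_lit 0x80064b24646e2553394e445e2cf56c6133b4), one, (nat_lit 0x80076671256d00123a4e46246b663b13d599), (.prod [nat_lit 54, nat_lit 49])⟩)
 (.lf ⟨nat_lit 0, nat_lit 1, nat_lit 1, (nat_lit 0x80005c1b45bf5f16b624c1c329a1ef73a6fc), one, (nat_lit 0x8004c11970024c61526dc13d6243ac12e555), (.inv (nat_lit 52))⟩))))))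
 (.nd (nat_lit 67) (.nd (nat_lit 62) (.nd (nat_lit 59) (.nd (nat_lit 58) (.lf ⟨nat_lit 0, nat_lit 1, nat_lit 1, (nat_lit 0x8005e72460a16c53397824cb1a929a1e5047), one, (nat_lit 0x8005e77125f50e823a6af69f4fd49939f769), (.prod (unp (nat_lit 6) (nat_lit 0x38b7103)))⟩)
 (.lf ⟨nat_lit 0, nat_lit 1, nat_lit 1, (nat_lit 0x80005c71204e5f102347715e43c14145e069), one, (nat_lit 0x8004c12464fd5bc49047713d5f55bf1691ed), (.prod [nat_lit 45, nat_lit 57])⟩))
 (.nd (nat_lit 60) (.lf ⟨nat_lit 0, nat_lit 1, nat_lit 1, (nat_lit 0x8000c454711e68504e5a53b463b38a4c4169), one, (nat_lit 0x8000c47b722751d12e69c1e54cb24b505391), (.inv (nat_lit 50))⟩)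
 (.nd (nat_lit 61) (.lf ⟨nat_lit 0, nat_lit 1, nat_lit 1, (nat_lit 0x8000fd7b304e52311e5a501059d17c4ff169), one, (nat_lit 0x8005ef3ef5f551d6fc69c2594fd5993a43a7), (.prod (unp (nat_lit 6) (nat_lit 0x3bb3203)))⟩)
 (.lf ⟨nat_lit 0, nat_lit 1, nat_lit 1, (nat_lit 0x8005ef3ef1000520330bc15e1a90391ed04f), one, (nat_lit 0x8005a932e0080a62ab24c3f31000a52cf24b), (.prod [nat_lit 58, nat_lit 60])⟩))))
 (.nd (nat_lit 64) (.nd (nat_lit 63) (.lf ⟨nat_lit 0, nat_lit 1, nat_lit 1, (nat_lit 0x80013d22e1e71265196af2eb0695123f2664), one, (nat_lit 0x80015e3ef0080ae0a10e456d0027696603d0), (.inv (nat_lit 43))⟩)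
 (.lf ⟨nat_lit 0, nat_lit 1, nat_lit 1, (nat_lit 0x8000c424679b6854900b81a813a24969f5b7), one, (nat_lit 0x8000c47122cf7010234251e546e3e36fc080), (.inv (nat_lit 55))⟩))
 (.nd (nat_lit 65) (.lf ⟨nat_lit 0, nat_lit 1, nat_lit 1, (nat_lit 0x8005ef3ef1000520330bc15e1a90391ed04f), one, (nat_lit 0x8005a932e0080a62ab24c3f31000a52cf24b), (.inv (nat_lit 61))⟩)
 (.nd (nat_lit 66) (.lf ⟨nat_lit 0, nat_lit 1, nat_lit 1, (nat_lit 0x8005412463d752b13b4e42815f1010143769), one, (nat_lit 0x80067822e0015f130a42525b76923a11e52b), (.prod (unp (nat_lit 7) (nat_lit 0x407ef87aa05)))⟩)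
 (.lf ⟨nat_lit 1, nat_lit 1, nat_lit 0, (nat_lit 0x8006dc2463a452b0c151a0915f50e9040599), (nat_lit 0x8000b822e3e22cf4d04ff09c0692f9607008), one, (.wt (nat_lit 2) (nat_lit 0) one (.sp .nil) [] [])⟩)))))
 (.nd (nat_lit 72) (.nd (nat_lit 69) (.nd (nat_lit 68) (.lf ⟨nat_lit 0, nat_lit 1, nat_lit 1, (nat_lit 0x8006dc2463a452b0c151a0915f50e9040599), one, (nat_lit 0x8000b822e3e22cf4d04ff09c0692f9607008), (.we (nat_lit 0) (nat_lit 1) (nat_lit 0x8006dc2463a452b0c151a0915f50e9040599) (.st (nat_lit 66) [] [] (.sp .nil)))⟩)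
 (.lf ⟨nat_lit 0, nat_lit 1, nat_lit 1, (nat_lit 0x8000581974f374f5b302028a3392385f14ff), one, (nat_lit 0x8002a82ae45a5b751a0203e2339069669607), (.inv (nat_lit 32))⟩))
 (.nd (nat_lit 70) (.lf ⟨nat_lit 0, nat_lit 1, nat_lit 1, (nat_lit 0x8005ef3ef09c5bf4e316906314159d1ed477), one, (nat_lit 0x8002a81971745bf50b3913f33b951d6aa68f), (.prod (unp (nat_lit 7) (nat_lit 0x11218303)))⟩)
 (.nd (nat_lit 71) (.lf ⟨nat_lit 0, nat_lit 1, nat_lit 1, (nat_lit 0x8004c137c79b2550335f450b13a23a29a1c1), one, (nat_lit 0x8005a97127a24c43b42ab1c343c3e354d5bf), (.prod [nat_lit 33, nat_lit 69])⟩)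
 (.lf ⟨nat_lit 0, nat_lit 1, nat_lit 1, (nat_lit 0x80076619726c7470266bf5bc03313a3660c3), one, (nat_lit 0x80064b2ae4cb00416854c74f2274c46b63b4), (.inv (nat_lit 53))⟩))))
 (.nd (nat_lit 74) (.nd (nat_lit 73) (.lf ⟨nat_lit 0, nat_lit 1, nat_lit 1, (nat_lit 0x8005e724613d2897e95554573e259d1e56dc), one, (nat_lit 0x80064b0891ab5f10b83df69f3660ae2d8700), (.prod (unp (nat_lit 7) (nat_lit 0x11e18303)))⟩)
 (.lf ⟨nat_lit 0, nat_lit 1, nat_lit 1, (nat_lit 0x8007663ed56c00143c5a539a24917c73a39f), one, (nat_lit 0x80064b1d72c83bc1c169c45e15e4053a40a5), (.inv (nat_lit 51))⟩))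
 (.nd (nat_lit 75) (.lf ⟨nat_lit 0, nat_lit 1, nat_lit 1, (nat_lit 0x8002a81973d76644773ac16911e4586aa554), one, (nat_lit 0x8007662475992f004e0020630e96bc3a7019), (.prod (unp (nat_lit 7) (nat_lit 0x12642c03)))⟩)
 (.nd (nat_lit 76) (.lf ⟨nat_lit 1, nat_lit 1, nat_lit 0, one, one, one, (.wt (nat_lit 0) (nat_lit 0) one (.sp .nil) [] [])⟩)
 (.lf ⟨nat_lit 1, nat_lit 1, nat_lit 1, (nat_lit 0x8005415253b41ef2f472b28a5993df143001), (nat_lit 0x8005a901945758510073a1ed6a63e32465bf), (nat_lit 0x8007663f32493e258537c2785552f473e503), (.wt (nat_lit 3) (nat_lit 0) (nat_lit 0x8005a97127a24c43b42ab1c343c3e354d5bf) (.st (nat_lit 75) [nat_lit 70] [] (.sp .nil)) [] [])⟩)))))))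

noncomputable def T7 : Tr :=
  (.nd (nat_lit 38) T7_0
 T7_38)

noncomputable def q7_1_0 : Net :=
  mkNet (nat_lit 6) (nat_lit 23) (nat_lit 0x141100020000808200000980003b00012618082010810014510)

noncomputable def q7_1_2 : Net :=
  mkNet (nat_lit 6) (nat_lit 23) (nat_lit 0x14000040001408200002d00007a0001b414082001008001500)

noncomputable def q7_1_4 : Net :=
  mkNet (nat_lit 6) (nat_lit 23) (nat_lit 0x101000022401028200000700003e00011c102c2008890010100)

noncomputable def q7_1_6 : Net :=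
  mkNet (nat_lit 6) (nat_lit 23) (nat_lit 0x1414000404400024200002780007f00019e10342018910155400)

noncomputable def q7_1_8 : Net :=
  mkNet (nat_lit 6) (nat_lit 23) (nat_lit 0x444400020000020200002700006e00019c10343000800044440)

noncomputable def q7_1_10 : Net :=
  mkNet (nat_lit 6) (nat_lit 23) (nat_lit 0x4504260640143000000318000730001ce1c380098191004504)

noncomputable def q7_1_12 : Net :=
  mkNet (nat_lit 6) (nat_lit 23) (nat_lit 0x1444000200001000200000700000e00017c14002008000145411)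

noncomputable def q7_1_20 : Net :=
  mkNet (nat_lit 6) (nat_lit 23) (nat_lit 0x110400020400000c200000500001a00017404002018000945411)

noncomputable def q7_1_21 : Net :=
  mkNet (nat_lit 6) (nat_lit 23) (nat_lit 0x1541002624000400000000a00003c00003800141090188055500)

noncomputable def q7_1_22 : Net :=
  mkNet (nat_lit 6) (nat_lit 23) (nat_lit 0x1540502424040010200002100004a0000bc0c242888980004444)

noncomputable def q7_1_23 : Net :=
  mkNet (nat_lit 6) (nat_lit 23) (nat_lit 0x51010000400101000000008000510000b204100881188055015)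

noncomputable def q7_1_24 : Net :=
  mkNet (nat_lit 6) (nat_lit 23) (nat_lit 0x455500442640008000003c00007a0001fc00243881098800155)

noncomputable def q7_1_25 : Net :=
  mkNet (nat_lit 6) (nat_lit 23) (nat_lit 0x100052406040400000003800007400000c08141c11901811511)

noncomputable def q7_1_26 : Net :=
  mkNet (nat_lit 6) (nat_lit 23) (nat_lit 0x50542004000004200002800007c00019008300880090100040)

noncomputable def q7_1_27 : Net :=
  mkNet (nat_lit 6) (nat_lit 23) (nat_lit 0x1455000464400820000000f00005e0001a4003c2080890004500)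

noncomputable def q7_1_28 : Net :=
  mkNet (nat_lit 6) (nat_lit 23) (nat_lit 0x410042602040418000000580006b00001e00200898089041004)

noncomputable def q7_1_29 : Net :=
  mkNet (nat_lit 6) (nat_lit 23) (nat_lit 0x110040442041804000001180007300006a04180010181110004)

noncomputable def q7_1_30 : Net :=
  mkNet (nat_lit 6) (nat_lit 23) (nat_lit 0x1004440602000020200000580003b00006e04182088180041044)

noncomputable def q7_1 : List Net :=
  [q7_1_0, q7_1_0, q7_1_2, q7_1_2, q7_1_4, q7_1_4, q7_1_6, q7_1_6, q7_1_8, q7_1_8, q7_1_10, q7_1_10, q7_1_12, q7_1_12, Net.nil, Net.nil, Net.nil, Net.nil, Net.nil, Net.nil, q7_1_20, q7_1_21, q7_1_22, q7_1_23, q7_1_24, q7_1_25, q7_1_26, q7_1_27, q7_1_28, q7_1_29, q7_1_30]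

noncomputable def Qs7 : List (ℕ × ℕ × List Net) :=
  [(nat_lit 23, nat_lit 6, q7_1)]

noncomputable def ls7 : List Ld :=
  [⟨[(nat_lit 41, [nat_lit 30]), (nat_lit 40, [nat_lit 29]), (nat_lit 23, (unp (nat_lit 5) (nat_lit 0x6fbd03))), (nat_lit 69, (unp (nat_lit 5) (nat_lit 0x3dee6f7906))), (nat_lit 20, (unp (nat_lit 5) (nat_lit 0x72b503))), (nat_lit 3, (unp (nat_lit 5) (nat_lit 0xeef59d5e8808)))], [⟨nat_lit 3, (unp (nat_lit 3) (nat_lit 0x15903)), (nat_lit 0x40861841451850c40c10c618518600509f), nat_lit 22⟩, ⟨nat_lit 4, (unp (nat_lit 3) (nat_lit 0x11803)), (nat_lit 0x31420c31010841041451431441007c519f), nat_lit 21⟩, ⟨nat_lit 1, (unp (nat_lit 2) (nat_lit 0x3803)), (nat_lit 0x61031041441421031010c40850df7c601f), nat_lit 20⟩, ⟨nat_lit 2, (unp (nat_lit 2) (nat_lit 0x2403)), (nat_lit 0x1f0c30c309f7c30830c20c208105f7c07df), nat_lit 16⟩, ⟨nat_lit 5, [nat_lit 0], (nat_lit 0x1f7df7df7df7df7df7c17df09f01f7df7df), nat_lit 3⟩], [[nat_lit 3], [nat_lit 5], [nat_lit 9], [nat_lit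 11], [nat_lit 13]], (nat_lit 0x81081461c71861861c51c60c8147182040)⟩]

noncomputable def lk7 : List (List ℕ) :=
  [[]]

noncomputable def d7_0 : Nd :=
  ⟨nat_lit 1, nat_lit 23, [(nat_lit 65, [nat_lit 30]), (nat_lit 60, [nat_lit 28, nat_lit 27]), (nat_lit 45, (unp (nat_lit 5) (nat_lit 0x6fbd03))), (nat_lit 74, (unp (nat_lit 5) (nat_lit 0x3dedeb3a06))), (nat_lit 49, (unp (nat_lit 5) (nat_lit 0x6b39d66b607))), (nat_lit 3, (unp (nat_lit 5) (nat_lit 0x39bdeb37ad2c80a)))], [⟨nat_lit 3, [nat_lit 3, nat_lit 5], (nat_lit 0x41440850860451861041030c314300415f), nat_lit 22⟩, ⟨nat_lit 4, (unp (nat_lit 3) (nat_lit 0x11803)), (nat_lit 0x51431051031041421441411431807c219f), nat_lit 21⟩, ⟨nat_lit 1, [nat_lit 0, nat_lit 3], (nat_lit 0x40861441051060c50c11060830df7c701f), nat_lit 20⟩, ⟨nat_lit 2, (unp (nat_lit 2) (nat_lit 0x2403)), (nat_lit 0x1f0c10c309f7c41031041020810df7c07df), nat_lit 16⟩, ⟨nat_lit 5, [nat_lit 0], (nat_lit 0x1f7df7df7df7df7df7c17df09f01f7df7df), nat_lit 3⟩],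
  [⟨[nat_lit 3, nat_lit 5], (nat_lit 0x82060c41091871850851071c50470c6000), [(nat_lit 75, nat_lit 0, []), (nat_lit 76, nat_lit 1, [nat_lit 12])]⟩]⟩

noncomputable def ds7 : List Nd :=
  [d7_0]

noncomputable def ks7 : List ℕ :=
  [nat_lit 1]

def kc7 : List (ℕ × ℕ) := [(0, 1), (1, 23)]

theorem Rn8 : Nat.beq R8.length 32 = true := by decide +kernel

theorem Nn8 : Nat.beq N8.length 4 = true := by decide +kernel

theorem A7_p : actP 6 23 n7 31 = true := by decide +kernel

theorem A7_l_0 : rng (actL 6 23 n7 dom7 (2 * 10) us7) (nat_lit 0) (nat_lit 31) = true := by decide +kernel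

theorem A7_r_0 : rng (fun i => relN 6 23 n7 (2 * 10) (nthD ([], nat_lit 0) R7 i)) (nat_lit 0) (nat_lit 28) = true := by decide +kernel

theorem hr7 : relsOk mul one lc7 dom7 nodes7 1 (2 * 10) R8 sb7 1 rs7 = true := by decide +kernel

theorem hc7_0 : rng (chk mul one wf T7 lc7 (mapR (fun e => e.2.2) rs7) 1) (nat_lit 0) (nat_lit 77) = true := by decide +kernel

theorem AQ7_1_p : actP 6 23 q7_1 31 = true := by decide +kernel

theorem AQ7_1_l_0 : rng (actL 6 23 q7_1 dom7 (2 * 10) us7) (nat_lit 0) (nat_lit 31) = true := by decide +kernel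

theorem AQ7_1_r_0 : rng (fun i => relN 6 23 q7_1 (2 * 10) (nthD ([], nat_lit 0) R7 i)) (nat_lit 0) (nat_lit 28) = true := by decide +kernel

theorem la7 : ldA mul one T7 77 lc7 23 6 n7 ls7 1 = true := by decide +kernel

theorem lb7 : ldB 10200960 Qs7 ls7 1 = true := by decide +kernel

theorem na7_0 : rng (fun i => ndA mul one T7 77 lc7 23 6 n7 10200960 (nthD ⟨nat_lit 0, nat_lit 0, [], [], []⟩ ds7 i)) (nat_lit 0) (nat_lit 1) = true := by decide +kernel

theorem nb7_0 : rng (fun i => ndB mul one T7 77 lc7 ks7 Qs7 1 (nthD ⟨nat_lit 0, nat_lit 0, [], [], []⟩ ds7 i)) (nat_lit 0) (nat_lit 1) = true := by decide +kernel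

theorem dn7 : Nat.beq ds7.length 1 = true := by decide +kernel

theorem hk7 : ks7 = ds7.map Nd.k := by decide +kernel

theorem hkc7 : kc7 = (0, 1) :: ds7.map fun d => (d.k, d.c) := by decide +kernel

theorem lo7 : linkOk mul one T7 77 ks7 lk7 1 = true := by decide +kernel

theorem do7 : domOk dom7 [0, 1, 2, 3, 4, 5, 6, 7] nodes7 1 R8 sb7 1 = true := by decide +kernel

theorem A7_l : ∀ i < 31, (actL 6 23 n7 dom7 (2 * 10) us7) i = true :=
  (rng_add rng_zero A7_l_0)

theorem A7_r : ∀ i < 28, (fun i => relN 6 23 n7 (2 * 10) (nthD ([], nat_lit 0) R7 i)) i = true :=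
  (rng_add rng_zero A7_r_0)

theorem hc7 : ∀ i < 77, (chk mul one wf T7 lc7 (mapR (fun e => e.2.2) rs7) 1) i = true :=
  (rng_add rng_zero hc7_0)

theorem AQ7_1_l : ∀ i < 31, (actL 6 23 q7_1 dom7 (2 * 10) us7) i = true :=
  (rng_add rng_zero AQ7_1_l_0)

theorem AQ7_1_r : ∀ i < 28, (fun i => relN 6 23 q7_1 (2 * 10) (nthD ([], nat_lit 0) R7 i)) i = true :=
  (rng_add rng_zero AQ7_1_r_0)

theorem na7 : ∀ i < 1, (fun i => ndA mul one T7 77 lc7 23 6 n7 10200960 (nthD ⟨nat_lit 0, nat_lit 0, [], [], []⟩ ds7 i)) i = true :=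
  (rng_add rng_zero na7_0)

theorem nb7 : ∀ i < 1, (fun i => ndB mul one T7 77 lc7 ks7 Qs7 1 (nthD ⟨nat_lit 0, nat_lit 0, [], [], []⟩ ds7 i)) i = true :=
  (rng_add rng_zero nb7_0)

section
universe u v
variable {R : Type v} {ι : Type} [CommRing R] [Fintype ι] [DecidableEq ι] (V : VCod R ι 12 12 app wfT) (h2 : V.mat one = 1)

theorem A7 : Act.{0} (((S V h2).sub (mdl (g V h2) dom7)).gen lc7) 23 6 n7 :=
  act_of_up (L7 V h2) (U7 V h2) A7_p A7_l (by decide) (allR Rn7 A7_r)

theorem AQ7_1 : Act.{0} (((S V h2).sub (mdl (g V h2) dom7)).gen lc7) 23 6 q7_1 :=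
  act_of_up (L7 V h2) (U7 V h2) AQ7_1_p AQ7_1_l (by decide) (allR Rn7 AQ7_1_r)

theorem C7 : Cert.{u} ((S V h2).sub (mdl (g V h2) dom7)) T7 77 (mgen (g V h2) dom7) dom7 [0, 1, 2, 3, 4, 5, 6, 7] nodes7 1 (R7 ++ N8) kc7 :=
  have := fin7 V h2
  cert_of (L7 V h2) (card7 V h2).le (A7 V h2) (Qs := Qs7) (List.forall_mem_cons.2 ⟨AQ7_1 V h2, List.forall_mem_nil _⟩) hr7 hc7 la7 lb7 hk7 (allR dn7 na7) (allR dn7 nb7) lo7 do7 hkc7

end

def dom8 : List ℕ := [0, 1, 2, 3, 4, 5, 6, 7]

noncomputable def us8 : List (List ℕ) :=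
  [(unp (nat_lit 4) (nat_lit 0x5fec84ac240a)), (unp (nat_lit 4) (nat_lit 0xa6216006)), [nat_lit 20, nat_lit 21], (unp (nat_lit 5) (nat_lit 0x73ab604)), (unp (nat_lit 5) (nat_lit 0x15a55d505)), (unp (nat_lit 5) (nat_lit 0x62f703)), (unp (nat_lit 5) (nat_lit 0x18ce2f705)), (unp (nat_lit 5) (nat_lit 0x18d671705)), (unp (nat_lit 5) (nat_lit 0x677b03)), (unp (nat_lit 5) (nat_lit 0xde79904)), (unp (nat_lit 5) (nat_lit 0xe733904)), (unp (nat_lit 5) (nat_lit 0xf7bdd04)), (unp (nat_lit 5) (nat_lit 0x1eeffbf05)), (unp (nat_lit 5) (nat_lit 0xf77dfef7ff08)), (unp (nat_lit 6) (nat_lit 0x85d76176006))]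

noncomputable def lc8 : List ℕ :=
  [nthD one bc (nat_lit 0),
  nthD one bc (nat_lit 1),
  nthD one bc (nat_lit 2),
  nthD one bc (nat_lit 3),
  nthD one bc (nat_lit 4),
  nthD one bc (nat_lit 5),
  nthD one bc (nat_lit 6),
  nthD one bc (nat_lit 7),
  nthD one bc (nat_lit 8),
  nthD one bc (nat_lit 9),
  nthD one bc (nat_lit 10),
  nthD one bc (nat_lit 11),
  nthD one bc (nat_lit 12),
  nthD one bc (nat_lit 13),
  nthD one bc (nat_lit 14),
  nthD one bc (nat_lit 15),
  one,
  one,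
  one,
  one,
  (nat_lit 0x8004c151a3905f462050b56d1e563b29a12d),
  (nat_lit 0x80063822e52b3a46aa5550523b90a66643f2),
  (nat_lit 0x80005855500804e25b30a1d73d045e4cb7a2),
  (nat_lit 0x80040051a3e32471520207473bc3d100215e),
  (nat_lit 0x8007660a10800e869f13b43a49d3df3644d0),
  (nat_lit 0x8005a937c6c50a55233b96b063b0471ab617),
  (nat_lit 0x8007662eb54c0476c57d85191744f3364100),
  (nat_lit 0x8000fd2476714e42a739718056c3ac4ff4cf),
  (nat_lit 0x8005e77b30c11800472553f961713a1e5020),
  (nat_lit 0x80065b71259938a2ce4254cf6c5585259747),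
  (nat_lit 0x8005412466075f445773e1e754d6c51432b9),
  (nat_lit 0x80005832e24b09353c5b326c16804045a3bc),
  (nat_lit 0x80064b1d709c5f13974254fd2ab2a72490e9),
  (nat_lit 0x80005c1b42382ab5ce50b0393bc28a45e339),
  (nat_lit 0x8005412463d752b13b4e42815f1010143769)]

noncomputable def v8_0 : VL :=
  ⟨(nat_lit 625), [[nat_lit 0], [nat_lit 2], [nat_lit 4], [nat_lit 6], [nat_lit 8], [nat_lit 10], [nat_lit 12], [nat_lit 14]], nat_lit 4, [(nat_lit 0x260000070630061562700728070000004006300604156780301600602400000040156780723000000000630124000160500723000280080705002302016006024030006706042150004007063006153000300615167000004007001630080086040302156720051800070071800078360060500078240000004007301567821ff), (nat_lit 0x4007060502300603021560237000004000360024021567007600723000004008070400806230002804030215000403015300005301526706180007800807650000000056006500706230003020160300421567840000004008070056040230002800805020160060502402150004008043006040215300040001605300615ff),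 (nat_lit 0x400807063008060415300040080435160022)], nat_lit 9, nat_lit 276⟩

noncomputable def v8_1 : VL :=
  ⟨(nat_lit 1438), [(unp (nat_lit 6) (nat_lit 0x39565a5d76dc65f7607620e)), (unp (nat_lit 6) (nat_lit 0xe30a21651661c65c6dd79e7618a213))], nat_lit 2, [(nat_lit 0x808666020001a002098269a000180a609a006999952)], nat_lit 6, nat_lit 44⟩

noncomputable def v8_2 : VL :=
  ⟨(nat_lit 351), [(unp (nat_lit 6) (nat_lit 0x54e5586db6dd7e08618a20e)), (unp (nat_lit 6) (nat_lit 0x153986db6df79e8610b))], nat_lit 2, [(nat_lit 0x86085809600860258524)], nat_lit 5, nat_lit 21⟩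

noncomputable def v8_3 : VL :=
  ⟨(nat_lit 200), [(unp (nat_lit 6) (nat_lit 0x51665a5d76db79d79d8a20e)), (unp (nat_lit 6) (nat_lit 0x51459a61765b65d7a17620e))], nat_lit 2, [(nat_lit 0x2602580019602185521)], nat_lit 5, nat_lit 20⟩

noncomputable def v8_4 : VL :=
  ⟨(nat_lit 3986), [(unp (nat_lit 6) (nat_lit 0x145166985d96d97e18a20d)), (unp (nat_lit 6) (nat_lit 0x55539561b6db79d79d7600e)), (unp (nat_lit 6) (nat_lit 0x1d7dd7a176207))], nat_lit 2, [(nat_lit 0x1c183270320c9c0cb032c980cb032ca60321c0cb032e195b)], nat_lit 6, nat_lit 48⟩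

noncomputable def vl8 : List VL :=
  [v8_0, v8_1, v8_2, v8_3, v8_4]

theorem lco8 : lcOk mul one bc lc8 dom8 (2 * 10) us8 35 = true := by decide +kernel

theorem rc8_0 : rng (fun i => relC mul one bc (2 * 10) (nthD ([], nat_lit 0) N8 i)) (nat_lit 0) (nat_lit 4) = true := by decide +kernel

theorem sm7 : Nat.beq ((kc7.map Prod.snd).sum * 10200960) 244823040 = true := by decide +kernel

theorem vc8 : vchainOk (app 12 1) (wfT 12 1) mul one lc8 [] vl8 = true := by decide +kernel

theorem vf8 : band (allL (fun i => memL i dom8) dom0) (VCod.fixD (app 12 1) (wfT 12 1) one bc dom0 vl8) = true := by decide +kernel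

theorem vp8 : (vl8.map VL.d).prod * 1 = 244823040 := by decide +kernel

theorem rd8 : allL (fun r => allL (fun l => memL (Nat.shiftRight l (nat_lit 1)) dom8) r.1) (R7 ++ N8) = true := by decide +kernel

theorem rc8 : ∀ i < 4, (fun i => relC mul one bc (2 * 10) (nthD ([], nat_lit 0) N8 i)) i = true :=
  (rng_add rng_zero rc8_0)

section
universe u v
variable {R : Type v} {ι : Type} [CommRing R] [Fintype ι] [DecidableEq ι] (V : VCod R ι 12 12 app wfT) (h2 : V.mat one = 1)

theorem L8 : Lc ((S V h2).sub (mdl (g V h2) dom8)) (mgen (g V h2) dom8) lc8 dom8 (2 * 10) us8 35 :=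
  lc_of (S V h2) (h0 V h2) bco lco8

theorem rel8 : Rels R8 (g V h2) := (rel7 V h2).append ((S V h2).rels (h0 V h2) bco (allR Nn8 rc8))

theorem le8 : Finite (mdl (g V h2) dom8) ∧ Nat.card (mdl (g V h2) dom8) ≤ 244823040 :=
  have := fin7 V h2
  step_le (C7 V h2) (U7 V h2) (rel8 V h2) (card7 V h2) sm7

theorem fin8 : Finite (mdl (g V h2) dom8) := (le8 V h2).1

theorem card8 : Nat.card (mdl (g V h2) dom8) = 244823040 := by
  have : Finite (mdl ((V.sem h1 h2).bg bc) dom8) := fin8 V h2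
  have h := V.le_card_mdl h1 h2 (h0 V h2) (L8 V h2).ok vc8 vf8
  exact le_antisymm (le8 V h2).2 (le_trans (vp8.symm.trans (congrArg (HMul.hMul (vl8.map VL.d).prod) (card0 V h2).symm)).le h)

theorem U8 : UP.{0} (mgen (g V h2) dom8) dom8 R8 :=
  have := fin7 V h2
  step_up (C7 V h2) (U7 V h2) (rel8 V h2) (card7 V h2) sm7 (card8 V h2) rd8

end

noncomputable def N9 : List (List ℕ × ℕ) :=
  [([nat_lit 16], nat_lit 2),
  ([nat_lit 16, nat_lit 0], nat_lit 2),
  ([nat_lit 16, nat_lit 2], nat_lit 2),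
  ([nat_lit 16, nat_lit 4], nat_lit 2),
  ([nat_lit 16, nat_lit 6], nat_lit 2),
  ([nat_lit 16, nat_lit 8], nat_lit 2),
  ([nat_lit 16, nat_lit 10], nat_lit 2),
  ([nat_lit 16, nat_lit 14], nat_lit 2),
  ((unp (nat_lit 5) (nat_lit 0x31d003)), nat_lit 3),
  ((unp (nat_lit 5) (nat_lit 0x1808228085304a701900f)), nat_lit 4)]

noncomputable def R9 : List (List ℕ × ℕ) :=
  R8 ++ N9

noncomputable def n8_0 : Net :=
  mkNet (nat_lit 6) (nat_lit 24) (nat_lit 0x410000103300080c000000080000080000c8090f00103300454410)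

noncomputable def n8_2 : Net :=
  mkNet (nat_lit 6) (nat_lit 24) (nat_lit 0x1410013100004020000000c00000c00006c0a0300313000104500)

noncomputable def n8_4 : Net :=
  mkNet (nat_lit 6) (nat_lit 24) (nat_lit 0x10100301000020a0000000e00000e0000ae030b00301010010100)

noncomputable def n8_6 : Net :=
  mkNet (nat_lit 6) (nat_lit 24) (nat_lit 0x10040131000080a0000000e00000e0000ae090b00131010010040)

noncomputable def n8_8 : Net :=
  mkNet (nat_lit 6) (nat_lit 24) (nat_lit 0x41101311200800000000a40000a40000e4030108313120004110)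

noncomputable def n8_10 : Net :=
  mkNet (nat_lit 6) (nat_lit 24) (nat_lit 0x455500001200000200000007000007000067080a00001200455504)

noncomputable def n8_12 : Net :=
  mkNet (nat_lit 6) (nat_lit 24) (nat_lit 0x1004040200000200000000300000300000700e0800020102100404)

noncomputable def n8_14 : Net :=
  mkNet (nat_lit 6) (nat_lit 24) (nat_lit 0x444100111300000600000017000017000077080600111300444101)

noncomputable def n8_20 : Net :=
  mkNet (nat_lit 6) (nat_lit 24) (nat_lit 0x114401100000902000000f00000f00000980a0b08022322140140)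

noncomputable def n8_21 : Net :=
  mkNet (nat_lit 6) (nat_lit 24) (nat_lit 0x55003111000002000000ce0000ee00008e090a00112000005404)

noncomputable def n8_22 : Net :=
  mkNet (nat_lit 6) (nat_lit 24) (nat_lit 0x1505143302200a000000009b0000db0000b3070d00213332054010)

noncomputable def n8_23 : Net :=
  mkNet (nat_lit 6) (nat_lit 24) (nat_lit 0x4401002020200908000000920000d20000ba0a0800102022154500)

noncomputable def n8_24 : Net :=
  mkNet (nat_lit 6) (nat_lit 24) (nat_lit 0x10100420320003000000000b0000cb00004b070808121102155041)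

noncomputable def n8_25 : Net :=
  mkNet (nat_lit 6) (nat_lit 24) (nat_lit 0x4001040203200f00000000850000ed0000840c0900022120051100)

noncomputable def n8_26 : Net :=
  mkNet (nat_lit 6) (nat_lit 24) (nat_lit 0x141440301300030c0000001c0000de0000d402050c220202001441)

noncomputable def n8_27 : Net :=
  mkNet (nat_lit 6) (nat_lit 24) (nat_lit 0x11500001322002060000009a0000be000097040700000120444140)

noncomputable def n8_28 : Net :=
  mkNet (nat_lit 6) (nat_lit 24) (nat_lit 0x11050012010004040000001a00001f0000d2090d04330200514404)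

noncomputable def n8_29 : Net :=
  mkNet (nat_lit 6) (nat_lit 24) (nat_lit 0x1454003010000804000000040000c40000440e0908303000055500)

noncomputable def n8_30 : Net :=
  mkNet (nat_lit 6) (nat_lit 24) (nat_lit 0x1010400100300509000000c10000f90000ed0e0f00302330504440)

noncomputable def n8_31 : Net :=
  mkNet (nat_lit 6) (nat_lit 24) (nat_lit 0x44010023200000000000005b00005f00009f060904131000105544)

noncomputable def n8_32 : Net :=
  mkNet (nat_lit 6) (nat_lit 24) (nat_lit 0x5000003120000504000000340000340000fc0d0400312000500100)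

noncomputable def n8_33 : Net :=
  mkNet (nat_lit 6) (nat_lit 24) (nat_lit 0x1500002102200900000000c90000c90000e1020800211020140040)

noncomputable def n8_34 : Net :=
  mkNet (nat_lit 6) (nat_lit 24) (nat_lit 0x4501000130000800000000310000b1000071040f00010300545000)

noncomputable def n8 : List Net :=
  [n8_0, n8_0, n8_2, n8_2, n8_4, n8_4, n8_6, n8_6, n8_8, n8_8, n8_10, n8_10, n8_12, n8_12, n8_14, n8_14, Net.nil, Net.nil, Net.nil, Net.nil, n8_20, n8_21, n8_22, n8_23, n8_24, n8_25, n8_26, n8_27, n8_28, n8_29, n8_30, n8_31, n8_32, n8_33, n8_34]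

def nodes8 : List ℕ := [16]

def sb8 : List (ℕ × ℕ × ℕ) := [(17, 32, 0)]

noncomputable def rs8 : List (ℕ × ℕ × List (ℕ × ℕ)) :=
  [(nat_lit 32, nat_lit 0, [(nat_lit 1, (nat_lit 0x800400200100080040020010008004002001)), (nat_lit 1, (nat_lit 0x800400200100080040020010008004002001))]),
  (nat_lit 33, nat_lit 3, [(nat_lit 1, (nat_lit 0x8001ed3ef1d208049054d12d4585bb5ef56c)), (nat_lit 1, (nat_lit 0x8001ed3ef1d208049054d12d4585bb5ef56c))]),
  (nat_lit 34, nat_lit 3, [(nat_lit 1, (nat_lit 0x8006782001c32a70930bc01004726c2b904e)), (nat_lit 1, (nat_lit 0x8006782001c32a70930bc01004726c2b904e))]),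
  (nat_lit 35, nat_lit 3, [(nat_lit 1, (nat_lit 0x8004cb2086aa4d03797823e200845c4993f3)), (nat_lit 1, (nat_lit 0x8004cb2086aa4d03797823e200845c4993f3))]),
  (nat_lit 36, nat_lit 3, [(nat_lit 1, (nat_lit 0x8000e822e2891ef6604e62d87696245855a8)), (nat_lit 1, (nat_lit 0x8000e822e2891ef6604e62d87696245855a8))]),
  (nat_lit 37, nat_lit 3, [(nat_lit 1, (nat_lit 0x80068522e12e74709354c01059928127a56d)), (nat_lit 1, (nat_lit 0x80068522e12e74709354c01059928127a56d))]),
  (nat_lit 38, nat_lit 3, [(nat_lit 1, (nat_lit 0x80065b22e28917c3d025524b1c30043bc391)), (nat_lit 1, (nat_lit 0x80065b22e28917c3d025524b1c30043bc391))]),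
  (nat_lit 39, nat_lit 3, [(nat_lit 1, (nat_lit 0x8005e77b012e7475f04772491c16243bc391)), (nat_lit 1, (nat_lit 0x8005e77b012e7475f04772491c16243bc391))]),
  (nat_lit 40, nat_lit 7, [(nat_lit 1, (nat_lit 0x8002a850b1c302651d6e228a3971a84f3391)), (nat_lit 1, (nat_lit 0x8002a850b1c302651d6e228a3971a84f3391)), (nat_lit 1, (nat_lit 0x8002a850b1c302651d6e228a3971a84f3391))]),
  (nat_lit 41, nat_lit 46, [(nat_lit 1, (nat_lit 0x8002296c56070987473ed1263900686713f5)), (nat_lit 1, (nat_lit 0x8002296c56070987473ed1263900686713f5)), (nat_lit 1, (nat_lit 0x8002296c56070987473ed1263900686713f5)), (nat_lit 1, (nat_lit 0x8002296c56070987473ed1263900686713f5))])]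

noncomputable def T8_0 : Tr :=
  (.nd (nat_lit 22) (.nd (nat_lit 11) (.nd (nat_lit 5) (.nd (nat_lit 2) (.nd (nat_lit 1) (.lf ⟨nat_lit 0, nat_lit 0, nat_lit 0, one, one, one, .triv⟩)
 (.lf ⟨nat_lit 0, nat_lit 0, nat_lit 0, one, one, one, .triv⟩))
 (.nd (nat_lit 3) (.lf ⟨nat_lit 1, nat_lit 1, nat_lit 0, (nat_lit 0x8001ed3ef1d208049054d12d4585bb5ef56c), (nat_lit 0x8001ed3ef1d208049054d12d4585bb5ef56c), one, (.wt (nat_lit 1) (nat_lit 0) one (.sp .nil) [] [])⟩)
 (.nd (nat_lit 4) (.lf ⟨nat_lit 0, nat_lit 1, nat_lit 1, (nat_lit 0x8001ed3ef1d208049054d12d4585bb5ef56c), one, (nat_lit 0x8001ed3ef1d208049054d12d4585bb5ef56c), (.we (nat_lit 0) (nat_lit 1) (nat_lit 0x8001ed3ef1d208049054d12d4585bb5ef56c) (.st (nat_lit 2) [] [] (.sp .nil)))⟩)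
 (.lf ⟨nat_lit 1, nat_lit 1, nat_lit 0, (nat_lit 0x8006782001c32a70930bc01004726c2b904e), (nat_lit 0x8006782001c32a70930bc01004726c2b904e), one, (.wt (nat_lit 2) (nat_lit 0) one (.sp .nil) [] [])⟩))))
 (.nd (nat_lit 8) (.nd (nat_lit 6) (.lf ⟨nat_lit 0, nat_lit 1, nat_lit 1, (nat_lit 0x8006782001c32a70930bc01004726c2b904e), one, (nat_lit 0x8006782001c32a70930bc01004726c2b904e), (.we (nat_lit 0) (nat_lit 1) (nat_lit 0x8006782001c32a70930bc01004726c2b904e) (.st (nat_lit 4) [] [] (.sp .nil)))⟩)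
 (.nd (nat_lit 7) (.lf ⟨nat_lit 0, nat_lit 1, nat_lit 1, (nat_lit 0x80012e19715e2a74cf54d31a6bc7005ef5bf), one, (nat_lit 0x80012e19715e2a74cf54d31a6bc7005ef5bf), (.prod [nat_lit 3, nat_lit 5])⟩)
 (.lf ⟨nat_lit 0, nat_lit 1, nat_lit 1, (nat_lit 0x80009354706331a49d0202a77013d00025bf), one, (nat_lit 0x80009354706331a49d0202a77013d00025bf), (.prod [nat_lit 6, nat_lit 3])⟩)))
 (.nd (nat_lit 9) (.lf ⟨nat_lit 0, nat_lit 1, nat_lit 1, (nat_lit 0x8000407b32d812d6aa0bc0805f51e72b956c), one, (nat_lit 0x8000407b32d812d6aa0bc0805f51e72b956c), (.prod [nat_lit 7, nat_lit 5])⟩)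
 (.nd (nat_lit 10) (.lf ⟨nat_lit 0, nat_lit 1, nat_lit 1, (nat_lit 0x80012e19715e2a74cf54d31a6bc7005ef5bf), one, (nat_lit 0x80012e19715e2a74cf54d31a6bc7005ef5bf), (.prod [nat_lit 3, nat_lit 5])⟩)
 (.lf ⟨nat_lit 0, nat_lit 1, nat_lit 1, (nat_lit 0x80009354706331a49d0202a77013d00025bf), one, (nat_lit 0x80009354706331a49d0202a77013d00025bf), (.prod [nat_lit 9, nat_lit 3])⟩)))))
 (.nd (nat_lit 16) (.nd (nat_lit 13) (.nd (nat_lit 12) (.lf ⟨nat_lit 0, nat_lit 1, nat_lit 1, (nat_lit 0x8000407b32d812d6aa0bc0805f51e72b956c), one, (nat_lit 0x8000407b32d812d6aa0bc0805f51e72b956c), (.prod [nat_lit 10, nat_lit 5])⟩)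
 (.lf ⟨nat_lit 1, nat_lit 1, nat_lit 0, (nat_lit 0x8004cb2086aa4d03797823e200845c4993f3), (nat_lit 0x8004cb2086aa4d03797823e200845c4993f3), one, (.wt (nat_lit 3) (nat_lit 0) one (.sp .nil) [] [])⟩))
 (.nd (nat_lit 14) (.lf ⟨nat_lit 0, nat_lit 1, nat_lit 1, (nat_lit 0x8004cb2086aa4d03797823e200845c4993f3), one, (nat_lit 0x8004cb2086aa4d03797823e200845c4993f3), (.we (nat_lit 0) (nat_lit 1) (nat_lit 0x8004cb2086aa4d03797823e200845c4993f3) (.st (nat_lit 12) [] [] (.sp .nil)))⟩)
 (.nd (nat_lit 15) (.lf ⟨nat_lit 0, nat_lit 1, nat_lit 1, (nat_lit 0x80009354706331a49d0202a77013d00025bf), one, (nat_lit 0x80009354706331a49d0202a77013d00025bf), (.inv (nat_lit 7))⟩)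
 (.lf ⟨nat_lit 0, nat_lit 1, nat_lit 1, (nat_lit 0x8005a82461ed5b31806af281701278390599), one, (nat_lit 0x8005a82461ed5b31806af281701278390599), (.prod [nat_lit 13, nat_lit 14])⟩))))
 (.nd (nat_lit 19) (.nd (nat_lit 17) (.lf ⟨nat_lit 0, nat_lit 1, nat_lit 1, (nat_lit 0x8005e724612e7473646bf0e95f5278174505), one, (nat_lit 0x8005e724612e7473646bf0e95f5278174505), (.prod [nat_lit 15, nat_lit 5])⟩)
 (.nd (nat_lit 18) (.lf ⟨nat_lit 0, nat_lit 1, nat_lit 1, (nat_lit 0x8005412463d752b13b4e42815f1010143769), one, (nat_lit 0x8005412463d752b13b4e42815f1010143769), (.prod [nat_lit 5, nat_lit 15])⟩)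
 (.lf ⟨nat_lit 0, nat_lit 1, nat_lit 1, (nat_lit 0x8000c422e13a1a96695a500438a2814c6397), one, (nat_lit 0x8000c422e13a1a96695a500438a2814c6397), (.prod [nat_lit 17, nat_lit 17])⟩)))
 (.nd (nat_lit 20) (.lf ⟨nat_lit 0, nat_lit 1, nat_lit 1, (nat_lit 0x80009354706331a49d0202a77013d00025bf), one, (nat_lit 0x80009354706331a49d0202a77013d00025bf), (.inv (nat_lit 10))⟩)
 (.nd (nat_lit 21) (.lf ⟨nat_lit 0, nat_lit 1, nat_lit 1, (nat_lit 0x8005a82461ed5b31806af281701278390599), one, (nat_lit 0x8005a82461ed5b31806af281701278390599), (.prod [nat_lit 13, nat_lit 19])⟩)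
 (.lf ⟨nat_lit 0, nat_lit 1, nat_lit 1, (nat_lit 0x8005e724612e7473646bf0e95f5278174505), one, (nat_lit 0x8005e724612e7473646bf0e95f5278174505), (.prod [nat_lit 20, nat_lit 5])⟩))))))
 (.nd (nat_lit 33) (.nd (nat_lit 27) (.nd (nat_lit 24) (.nd (nat_lit 23) (.lf ⟨nat_lit 0, nat_lit 1, nat_lit 1, (nat_lit 0x8005412463d752b13b4e42815f1010143769), one, (nat_lit 0x8005412463d752b13b4e42815f1010143769), (.prod [nat_lit 5, nat_lit 20])⟩)
 (.lf ⟨nat_lit 0, nat_lit 1, nat_lit 1, (nat_lit 0x8000c422e13a1a96695a500438a2814c6397), one, (nat_lit 0x8000c422e13a1a96695a500438a2814c6397), (.prod [nat_lit 22, nat_lit 22])⟩))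
 (.nd (nat_lit 25) (.lf ⟨nat_lit 1, nat_lit 1, nat_lit 0, (nat_lit 0x8000e822e2891ef6604e62d87696245855a8), (nat_lit 0x8000e822e2891ef6604e62d87696245855a8), one, (.wt (nat_lit 4) (nat_lit 0) one (.sp .nil) [] [])⟩)
 (.nd (nat_lit 26) (.lf ⟨nat_lit 0, nat_lit 1, nat_lit 1, (nat_lit 0x8000e822e2891ef6604e62d87696245855a8), one, (nat_lit 0x8000e822e2891ef6604e62d87696245855a8), (.we (nat_lit 0) (nat_lit 1) (nat_lit 0x8000e822e2891ef6604e62d87696245855a8) (.st (nat_lit 24) [] [] (.sp .nil)))⟩)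
 (.lf ⟨nat_lit 0, nat_lit 1, nat_lit 1, (nat_lit 0x8005052ae25b1ef3df0e428a3392f40681aa), one, (nat_lit 0x8005052ae25b1ef3df0e428a3392f40681aa), (.prod [nat_lit 3, nat_lit 25])⟩))))
 (.nd (nat_lit 30) (.nd (nat_lit 28) (.lf ⟨nat_lit 0, nat_lit 1, nat_lit 1, (nat_lit 0x8002a77b72f912e6070e409345a04f0684d0), one, (nat_lit 0x8002a77b72f912e6070e409345a04f0684d0), (.prod [nat_lit 6, nat_lit 25])⟩)
 (.nd (nat_lit 29) (.lf ⟨nat_lit 0, nat_lit 1, nat_lit 1, (nat_lit 0x80031a2082ab09373a4e612e5e75f05854d0), one, (nat_lit 0x80031a2082ab09373a4e612e5e75f05854d0), (.prod [nat_lit 7, nat_lit 25])⟩)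
 (.lf ⟨nat_lit 0, nat_lit 1, nat_lit 1, (nat_lit 0x80059908903339713b0e42593662f4068126), one, (nat_lit 0x80059908903339713b0e42593662f4068126), (.prod [nat_lit 26, nat_lit 5])⟩)))
 (.nd (nat_lit 31) (.lf ⟨nat_lit 0, nat_lit 1, nat_lit 1, (nat_lit 0x8003a47b304f0016690e436451d02302e660), one, (nat_lit 0x8003a47b304f0016690e436451d02302e660), (.prod [nat_lit 26, nat_lit 15])⟩)
 (.nd (nat_lit 32) (.lf ⟨nat_lit 0, nat_lit 1, nat_lit 1, (nat_lit 0x80008072b0911ed4e30e404040504f06845c), one, (nat_lit 0x80008072b0911ed4e30e404040504f06845c), (.prod [nat_lit 27, nat_lit 5])⟩)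
 (.lf ⟨nat_lit 0, nat_lit 1, nat_lit 1, (nat_lit 0x8005bb54705213b6bc6dc1ab2a845861731a), one, (nat_lit 0x8005bb54705213b6bc6dc1ab2a845861731a), (.prod [nat_lit 28, nat_lit 15])⟩)))))
 (.nd (nat_lit 39) (.nd (nat_lit 36) (.nd (nat_lit 34) (.lf ⟨nat_lit 0, nat_lit 1, nat_lit 1, (nat_lit 0x80039732e6135993f354d4571805bb5ef5ce), one, (nat_lit 0x80039732e6135993f354d4571805bb5ef5ce), (.prod [nat_lit 29, nat_lit 25])⟩)
 (.nd (nat_lit 35) (.lf ⟨nat_lit 0, nat_lit 1, nat_lit 1, (nat_lit 0x8005b31a42ab39113d0e41802492f002e3d0), one, (nat_lit 0x8005b31a42ab39113d0e41802492f002e3d0), (.prod [nat_lit 31, nat_lit 15])⟩)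
 (.lf ⟨nat_lit 0, nat_lit 1, nat_lit 1, (nat_lit 0x8007007b323a3df45847716805c6bc4f312d), one, (nat_lit 0x8007007b323a3df45847716805c6bc4f312d), (.prod [nat_lit 32, nat_lit 5])⟩)))
 (.nd (nat_lit 37) (.lf ⟨nat_lit 0, nat_lit 1, nat_lit 1, (nat_lit 0x8004d01b40914cb30a4253f965b1a811e5bb), one, (nat_lit 0x8004d01b40914cb30a4253f965b1a811e5bb), (.prod [nat_lit 32, nat_lit 15])⟩)
 (.nd (nat_lit 38) (.lf ⟨nat_lit 0, nat_lit 1, nat_lit 1, (nat_lit 0x8004cf54725901040054c2a72f052b66404e), one, (nat_lit 0x8004cf54725901040054c2a72f052b66404e), (.inv (nat_lit 8))⟩)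
 (.lf ⟨nat_lit 0, nat_lit 1, nat_lit 1, (nat_lit 0x8000c42002a71c35f04e42f417c033585391), one, (nat_lit 0x8000c42002a71c35f04e42f417c033585391), (.prod (unp (nat_lit 6) (nat_lit 0x2564803)))⟩))))
 (.nd (nat_lit 42) (.nd (nat_lit 40) (.lf ⟨nat_lit 0, nat_lit 1, nat_lit 1, (nat_lit 0x80005820008010052369c2f43d725b73e13a), one, (nat_lit 0x80005820008010052369c2f43d725b73e13a), (.prod [nat_lit 5, nat_lit 38])⟩)
 (.nd (nat_lit 41) (.lf ⟨nat_lit 0, nat_lit 1, nat_lit 1, (nat_lit 0x8006382460ae3a43640b80523f209c3903b9), one, (nat_lit 0x8006382460ae3a43640b80523f209c3903b9), (.prod [nat_lit 15, nat_lit 38])⟩)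
 (.lf ⟨nat_lit 0, nat_lit 1, nat_lit 1, (nat_lit 0x8004932462893b418024c23a3e209c1741c1), one, (nat_lit 0x8004932462893b418024c23a3e209c1741c1), (.prod [nat_lit 16, nat_lit 38])⟩)))
 (.nd (nat_lit 43) (.lf ⟨nat_lit 0, nat_lit 1, nat_lit 1, (nat_lit 0x80064b24652b3d745854c02313a227617100), one, (nat_lit 0x80064b24652b3d745854c02313a227617100), (.prod [nat_lit 38, nat_lit 15])⟩)
 (.nd (nat_lit 44) (.lf ⟨nat_lit 0, nat_lit 1, nat_lit 1, (nat_lit 0x8004002465b31ed4e35a502316804f4c4152), one, (nat_lit 0x8004002465b31ed4e35a502316804f4c4152), (.prod [nat_lit 39, nat_lit 15])⟩)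
 (.lf ⟨nat_lit 0, nat_lit 1, nat_lit 1, (nat_lit 0x8004c122e5f52cf6fc69c09102624b4990ae), one, (nat_lit 0x8004c122e5f52cf6fc69c09102624b4990ae), (.prod [nat_lit 40, nat_lit 15])⟩)))))))

noncomputable def T8_45 : Tr :=
  (.nd (nat_lit 68) (.nd (nat_lit 56) (.nd (nat_lit 50) (.nd (nat_lit 47) (.nd (nat_lit 46) (.lf ⟨nat_lit 0, nat_lit 1, nat_lit 1, (nat_lit 0x80049322e56d04e45e6bf2f92a724b63b047), one, (nat_lit 0x80049322e56d04e45e6bf2f92a724b63b047), (.prod [nat_lit 41, nat_lit 15])⟩)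
 (.lf ⟨nat_lit 0, nat_lit 1, nat_lit 1, (nat_lit 0x80076622e3e21681a80bc0a615209811e1ed), one, (nat_lit 0x80076622e3e21681a80bc0a615209811e1ed), (.prod [nat_lit 42, nat_lit 15])⟩))
 (.nd (nat_lit 48) (.lf ⟨nat_lit 0, nat_lit 1, nat_lit 1, (nat_lit 0x80005c2461ef0476bc6dc2f004e0c36172a7), one, (nat_lit 0x80005c2461ef0476bc6dc2f004e0c36172a7), (.prod [nat_lit 42, nat_lit 38])⟩)
 (.nd (nat_lit 49) (.lf ⟨nat_lit 0, nat_lit 1, nat_lit 1, (nat_lit 0x8000c42463a40ae6074e62f02cf2ab4c4026), one, (nat_lit 0x8000c42463a40ae6074e62f02cf2ab4c4026), (.prod [nat_lit 43, nat_lit 38])⟩)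
 (.lf ⟨nat_lit 0, nat_lit 1, nat_lit 1, (nat_lit 0x80049320038a7690405030c352b2ce2c85f1), one, (nat_lit 0x80049320038a7690405030c352b2ce2c85f1), (.prod [nat_lit 45, nat_lit 15])⟩))))
 (.nd (nat_lit 53) (.nd (nat_lit 51) (.lf ⟨nat_lit 0, nat_lit 1, nat_lit 1, (nat_lit 0x80031a2082ab09373a4e612e5e75f05854d0), one, (nat_lit 0x80031a2082ab09373a4e612e5e75f05854d0), (.prod [nat_lit 10, nat_lit 25])⟩)
 (.nd (nat_lit 52) (.lf ⟨nat_lit 0, nat_lit 1, nat_lit 1, (nat_lit 0x80059d20056d0010c16dc3f53b4339617058), one, (nat_lit 0x80059d20056d0010c16dc3f53b4339617058), (.prod [nat_lit 25, nat_lit 20])⟩)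
 (.lf ⟨nat_lit 0, nat_lit 1, nat_lit 1, (nat_lit 0x8005bb54705213b6bc6dc1ab2a845861731a), one, (nat_lit 0x8005bb54705213b6bc6dc1ab2a845861731a), (.prod [nat_lit 50, nat_lit 20])⟩)))
 (.nd (nat_lit 54) (.lf ⟨nat_lit 0, nat_lit 1, nat_lit 1, (nat_lit 0x80039724638a5991aa42545704e51d11e400), one, (nat_lit 0x80039724638a5991aa42545704e51d11e400), (.prod [nat_lit 51, nat_lit 20])⟩)
 (.nd (nat_lit 55) (.lf ⟨nat_lit 0, nat_lit 1, nat_lit 1, (nat_lit 0x8004cf54725901040054c2a72f052b66404e), one, (nat_lit 0x8004cf54725901040054c2a72f052b66404e), (.inv (nat_lit 11))⟩)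
 (.lf ⟨nat_lit 0, nat_lit 1, nat_lit 1, (nat_lit 0x8000c42002a71c35f04e42f417c033585391), one, (nat_lit 0x8000c42002a71c35f04e42f417c033585391), (.prod (unp (nat_lit 6) (nat_lit 0x3664b03)))⟩)))))
 (.nd (nat_lit 62) (.nd (nat_lit 59) (.nd (nat_lit 57) (.lf ⟨nat_lit 0, nat_lit 1, nat_lit 1, (nat_lit 0x80005820008010052369c2f43d725b73e13a), one, (nat_lit 0x80005820008010052369c2f43d725b73e13a), (.prod [nat_lit 5, nat_lit 55])⟩)
 (.nd (nat_lit 58) (.lf ⟨nat_lit 0, nat_lit 1, nat_lit 1, (nat_lit 0x8006382460ae3a43640b80523f209c3903b9), one, (nat_lit 0x8006382460ae3a43640b80523f209c3903b9), (.prod [nat_lit 20, nat_lit 55])⟩)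
 (.lf ⟨nat_lit 0, nat_lit 1, nat_lit 1, (nat_lit 0x8004932462893b418024c23a3e209c1741c1), one, (nat_lit 0x8004932462893b418024c23a3e209c1741c1), (.prod [nat_lit 21, nat_lit 55])⟩)))
 (.nd (nat_lit 60) (.lf ⟨nat_lit 0, nat_lit 1, nat_lit 1, (nat_lit 0x80064b24652b3d745854c02313a227617100), one, (nat_lit 0x80064b24652b3d745854c02313a227617100), (.prod [nat_lit 55, nat_lit 20])⟩)
 (.nd (nat_lit 61) (.lf ⟨nat_lit 0, nat_lit 1, nat_lit 1, (nat_lit 0x8004002465b31ed4e35a502316804f4c4152), one, (nat_lit 0x8004002465b31ed4e35a502316804f4c4152), (.prod [nat_lit 56, nat_lit 20])⟩)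
 (.lf ⟨nat_lit 0, nat_lit 1, nat_lit 1, (nat_lit 0x80049322e56d04e45e6bf2f92a724b63b047), one, (nat_lit 0x80049322e56d04e45e6bf2f92a724b63b047), (.prod [nat_lit 58, nat_lit 20])⟩))))
 (.nd (nat_lit 65) (.nd (nat_lit 63) (.lf ⟨nat_lit 0, nat_lit 1, nat_lit 1, (nat_lit 0x80076622e3e21681a80bc0a615209811e1ed), one, (nat_lit 0x80076622e3e21681a80bc0a615209811e1ed), (.prod [nat_lit 59, nat_lit 20])⟩)
 (.nd (nat_lit 64) (.lf ⟨nat_lit 0, nat_lit 1, nat_lit 1, (nat_lit 0x8000c42463a40ae6074e62f02cf2ab4c4026), one, (nat_lit 0x8000c42463a40ae6074e62f02cf2ab4c4026), (.prod [nat_lit 60, nat_lit 55])⟩)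
 (.lf ⟨nat_lit 0, nat_lit 1, nat_lit 1, (nat_lit 0x80049320038a7690405030c352b2ce2c85f1), one, (nat_lit 0x80049320038a7690405030c352b2ce2c85f1), (.prod [nat_lit 61, nat_lit 20])⟩)))
 (.nd (nat_lit 66) (.lf ⟨nat_lit 1, nat_lit 1, nat_lit 0, (nat_lit 0x80068522e12e74709354c01059928127a56d), (nat_lit 0x80068522e12e74709354c01059928127a56d), one, (.wt (nat_lit 5) (nat_lit 0) one (.sp .nil) [] [])⟩)
 (.nd (nat_lit 67) (.lf ⟨nat_lit 0, nat_lit 1, nat_lit 1, (nat_lit 0x80068522e12e74709354c01059928127a56d), one, (nat_lit 0x80068522e12e74709354c01059928127a56d), (.we (nat_lit 0) (nat_lit 1) (nat_lit 0x80068522e12e74709354c01059928127a56d) (.st (nat_lit 65) [] [] (.sp .nil)))⟩)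
 (.lf ⟨nat_lit 0, nat_lit 1, nat_lit 1, (nat_lit 0x8001ed3ef1d208049054d12d4585bb5ef56c), one, (nat_lit 0x8001ed3ef1d208049054d12d4585bb5ef56c), (.inv (nat_lit 3))⟩))))))
 (.nd (nat_lit 79) (.nd (nat_lit 73) (.nd (nat_lit 70) (.nd (nat_lit 69) (.lf ⟨nat_lit 0, nat_lit 1, nat_lit 1, (nat_lit 0x8005415470402781000206172f03bc5bc001), one, (nat_lit 0x8005415470402781000206172f03bc5bc001), (.prod (unp (nat_lit 7) (nat_lit 0x10e10303)))⟩)
 (.lf ⟨nat_lit 0, nat_lit 1, nat_lit 1, (nat_lit 0x8007661973e33900e85034582eb69f2a7255), one, (nat_lit 0x8007661973e33900e85034582eb69f2a7255), (.prod [nat_lit 46, nat_lit 68])⟩))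
 (.nd (nat_lit 71) (.lf ⟨nat_lit 0, nat_lit 1, nat_lit 1, (nat_lit 0x80005822e3913d145e78226c39a0e94991ef), one, (nat_lit 0x80005822e3913d145e78226c39a0e94991ef), (.inv (nat_lit 15))⟩)
 (.nd (nat_lit 72) (.lf ⟨nat_lit 0, nat_lit 1, nat_lit 1, (nat_lit 0x8005a92080a16172eb6bf5850082a71ab1a8), one, (nat_lit 0x8005a92080a16172eb6bf5850082a71ab1a8), (.prod (unp (nat_lit 7) (nat_lit 0x11a20503)))⟩)
 (.lf ⟨nat_lit 0, nat_lit 1, nat_lit 1, (nat_lit 0x8005c17b76a63bc1697824c45f15b31c37e9), one, (nat_lit 0x8005c17b76a63bc1697824c45f15b31c37e9), (.prod [nat_lit 71, nat_lit 17])⟩))))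
 (.nd (nat_lit 76) (.nd (nat_lit 74) (.lf ⟨nat_lit 0, nat_lit 1, nat_lit 1, (nat_lit 0x8005ef1a479b73e4900b814138a3f21ed6bc), one, (nat_lit 0x8005ef1a479b73e4900b814138a3f21ed6bc), (.prod [nat_lit 72, nat_lit 17])⟩)
 (.nd (nat_lit 75) (.lf ⟨nat_lit 0, nat_lit 1, nat_lit 1, (nat_lit 0x80040222e7010e84cb4e42f90690234c6289), one, (nat_lit 0x80040222e7010e84cb4e42f90690234c6289), (.inv (nat_lit 48))⟩)
 (.lf ⟨nat_lit 0, nat_lit 1, nat_lit 1, (nat_lit 0x8004001a417446e0475a53f96171680025ce), one, (nat_lit 0x8004001a417446e0475a53f96171680025ce), (.prod (unp (nat_lit 7) (nat_lit 0x12a22603)))⟩)))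
 (.nd (nat_lit 77) (.lf ⟨nat_lit 0, nat_lit 1, nat_lit 1, (nat_lit 0x8007667b34052f93f35255bc6174cb3646a8), one, (nat_lit 0x8007667b34052f93f35255bc6174cb3646a8), (.prod [nat_lit 71, nat_lit 75])⟩)
 (.nd (nat_lit 78) (.lf ⟨nat_lit 0, nat_lit 1, nat_lit 1, (nat_lit 0x80064b1d709c5f13974254fd2ab2a72490e9), one, (nat_lit 0x80064b1d709c5f13974254fd2ab2a72490e9), (.prod [nat_lit 73, nat_lit 75])⟩)
 (.lf ⟨nat_lit 0, nat_lit 1, nat_lit 1, (nat_lit 0x80005c1b42382ab5ce50b0393bc28a45e339), one, (nat_lit 0x80005c1b42382ab5ce50b0393bc28a45e339), (.prod [nat_lit 76, nat_lit 17])⟩)))))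
 (.nd (nat_lit 85) (.nd (nat_lit 82) (.nd (nat_lit 80) (.lf ⟨nat_lit 0, nat_lit 1, nat_lit 1, (nat_lit 0x8006382000e82cf3e35034c43b44cb23a255), one, (nat_lit 0x8006382000e82cf3e35034c43b44cb23a255), (.prod [nat_lit 77, nat_lit 75])⟩)
 (.nd (nat_lit 81) (.lf ⟨nat_lit 0, nat_lit 1, nat_lit 1, (nat_lit 0x8005415470402781000206172f03bc5bc001), one, (nat_lit 0x8005415470402781000206172f03bc5bc001), (.prod (unp (nat_lit 7) (nat_lit 0x10e10303)))⟩)
 (.lf ⟨nat_lit 0, nat_lit 1, nat_lit 1, (nat_lit 0x8004c12476a84e379b6bf2ab5f45231683b9), one, (nat_lit 0x8004c12476a84e379b6bf2ab5f45231683b9), (.prod [nat_lit 57, nat_lit 80])⟩)))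
 (.nd (nat_lit 83) (.lf ⟨nat_lit 0, nat_lit 1, nat_lit 1, (nat_lit 0x80005822e3913d145e78226c39a0e94991ef), one, (nat_lit 0x80005822e3913d145e78226c39a0e94991ef), (.inv (nat_lit 20))⟩)
 (.nd (nat_lit 84) (.lf ⟨nat_lit 0, nat_lit 1, nat_lit 1, (nat_lit 0x8005a92080a16172eb6bf5850082a71ab1a8), one, (nat_lit 0x8005a92080a16172eb6bf5850082a71ab1a8), (.prod (unp (nat_lit 7) (nat_lit 0x14a80503)))⟩)
 (.lf ⟨nat_lit 0, nat_lit 1, nat_lit 1, (nat_lit 0x8005c17b76a63bc1697824c45f15b31c37e9), one, (nat_lit 0x8005c17b76a63bc1697824c45f15b31c37e9), (.prod [nat_lit 83, nat_lit 22])⟩))))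
 (.nd (nat_lit 88) (.nd (nat_lit 86) (.lf ⟨nat_lit 0, nat_lit 1, nat_lit 1, (nat_lit 0x8005ef1a479b73e4900b814138a3f21ed6bc), one, (nat_lit 0x8005ef1a479b73e4900b814138a3f21ed6bc), (.prod [nat_lit 84, nat_lit 22])⟩)
 (.nd (nat_lit 87) (.lf ⟨nat_lit 0, nat_lit 1, nat_lit 1, (nat_lit 0x80040222e7010e84cb4e42f90690234c6289), one, (nat_lit 0x80040222e7010e84cb4e42f90690234c6289), (.inv (nat_lit 63))⟩)
 (.lf ⟨nat_lit 0, nat_lit 1, nat_lit 1, (nat_lit 0x8004001a417446e0475a53f96171680025ce), one, (nat_lit 0x8004001a417446e0475a53f96171680025ce), (.prod (unp (nat_lit 7) (nat_lit 0x15a83703)))⟩)))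
 (.nd (nat_lit 89) (.lf ⟨nat_lit 0, nat_lit 1, nat_lit 1, (nat_lit 0x8007667b34052f93f35255bc6174cb3646a8), one, (nat_lit 0x8007667b34052f93f35255bc6174cb3646a8), (.prod [nat_lit 83, nat_lit 87])⟩)
 (.nd (nat_lit 90) (.lf ⟨nat_lit 0, nat_lit 1, nat_lit 1, (nat_lit 0x80064b1d709c5f13974254fd2ab2a72490e9), one, (nat_lit 0x80064b1d709c5f13974254fd2ab2a72490e9), (.prod [nat_lit 85, nat_lit 87])⟩)
 (.lf ⟨nat_lit 0, nat_lit 1, nat_lit 1, (nat_lit 0x80054120849943c70102017c3bc3f9143624), one, (nat_lit 0x80054120849943c70102017c3bc3f9143624), (.prod [nat_lit 87, nat_lit 22])⟩)))))))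

noncomputable def T8_91 : Tr :=
  (.nd (nat_lit 113) (.nd (nat_lit 102) (.nd (nat_lit 96) (.nd (nat_lit 93) (.nd (nat_lit 92) (.lf ⟨nat_lit 0, nat_lit 1, nat_lit 1, (nat_lit 0x8005e737c24b38a0016dc5bc0525b31e526c), one, (nat_lit 0x8005e737c24b38a0016dc5bc0525b31e526c), (.prod [nat_lit 89, nat_lit 22])⟩)
 (.lf ⟨nat_lit 1, nat_lit 1, nat_lit 0, (nat_lit 0x80065b22e28917c3d025524b1c30043bc391), (nat_lit 0x80065b22e28917c3d025524b1c30043bc391), one, (.wt (nat_lit 6) (nat_lit 0) one (.sp .nil) [] [])⟩))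
 (.nd (nat_lit 94) (.lf ⟨nat_lit 0, nat_lit 1, nat_lit 1, (nat_lit 0x80065b22e28917c3d025524b1c30043bc391), one, (nat_lit 0x80065b22e28917c3d025524b1c30043bc391), (.we (nat_lit 0) (nat_lit 1) (nat_lit 0x80065b22e28917c3d025524b1c30043bc391) (.st (nat_lit 92) [] [] (.sp .nil)))⟩)
 (.nd (nat_lit 95) (.lf ⟨nat_lit 0, nat_lit 1, nat_lit 1, (nat_lit 0x8005a822e3d139113d0b80a61c32f03e317c), one, (nat_lit 0x8005a822e3d139113d0b80a61c32f03e317c), (.inv (nat_lit 41))⟩)
 (.lf ⟨nat_lit 0, nat_lit 1, nat_lit 1, (nat_lit 0x8005412461001c13f503904f3e22f01433b4), one, (nat_lit 0x8005412461001c13f503904f3e22f01433b4), (.prod [nat_lit 93, nat_lit 94])⟩))))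
 (.nd (nat_lit 99) (.nd (nat_lit 97) (.lf ⟨nat_lit 0, nat_lit 1, nat_lit 1, (nat_lit 0x8004007b33f522710003974f0043e34e43b4), one, (nat_lit 0x8004007b33f522710003974f0043e34e43b4), (.prod [nat_lit 68, nat_lit 95])⟩)
 (.nd (nat_lit 98) (.lf ⟨nat_lit 0, nat_lit 1, nat_lit 1, (nat_lit 0x80064b3ef0a15f566029a0471415ce249523), one, (nat_lit 0x80064b3ef0a15f566029a0471415ce249523), (.prod [nat_lit 95, nat_lit 71])⟩)
 (.lf ⟨nat_lit 0, nat_lit 1, nat_lit 1, (nat_lit 0x8000fd0891740936035852f415e3d14ff38a), one, (nat_lit 0x8000fd0891740936035852f415e3d14ff38a), (.prod [nat_lit 95, nat_lit 75])⟩)))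
 (.nd (nat_lit 100) (.lf ⟨nat_lit 0, nat_lit 1, nat_lit 1, (nat_lit 0x8005e72ae6a639a2d815e7015856241e5458), one, (nat_lit 0x8005e72ae6a639a2d815e7015856241e5458), (.prod [nat_lit 97, nat_lit 17])⟩)
 (.nd (nat_lit 101) (.lf ⟨nat_lit 0, nat_lit 1, nat_lit 1, (nat_lit 0x8006383ef4053a70460264e34fd62023a51d), one, (nat_lit 0x8006383ef4053a70460264e34fd62023a51d), (.prod [nat_lit 97, nat_lit 75])⟩)
 (.lf ⟨nat_lit 0, nat_lit 1, nat_lit 1, (nat_lit 0x8000fd7b349918012d4c40234cf0694ff008), one, (nat_lit 0x8000fd7b349918012d4c40234cf0694ff008), (.prod [nat_lit 98, nat_lit 17])⟩)))))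
 (.nd (nat_lit 107) (.nd (nat_lit 104) (.nd (nat_lit 103) (.lf ⟨nat_lit 0, nat_lit 1, nat_lit 1, (nat_lit 0x8004c17b73d73917a20107694cb2780c351d), one, (nat_lit 0x8004c17b73d73917a20107694cb2780c351d), (.prod [nat_lit 98, nat_lit 71])⟩)
 (.lf ⟨nat_lit 0, nat_lit 1, nat_lit 1, (nat_lit 0x8000c47b760725b0685bc2b95b72ce4c62ab), one, (nat_lit 0x8000c47b760725b0685bc2b95b72ce4c62ab), (.prod [nat_lit 98, nat_lit 75])⟩))
 (.nd (nat_lit 105) (.lf ⟨nat_lit 0, nat_lit 1, nat_lit 1, (nat_lit 0x80005872b79b2891264cf3b94c43f345a30a), one, (nat_lit 0x80005872b79b2891264cf3b94c43f345a30a), (.prod [nat_lit 99, nat_lit 17])⟩)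
 (.nd (nat_lit 106) (.lf ⟨nat_lit 0, nat_lit 1, nat_lit 1, (nat_lit 0x80005c7125051520635b711e5bc16945e1a9), one, (nat_lit 0x80005c7125051520635b711e5bc16945e1a9), (.prod [nat_lit 99, nat_lit 75])⟩)
 (.lf ⟨nat_lit 0, nat_lit 1, nat_lit 1, (nat_lit 0x8004932ae2386640685b739f5bc3e309169f), one, (nat_lit 0x8004932ae2386640685b739f5bc3e309169f), (.prod [nat_lit 100, nat_lit 17])⟩))))
 (.nd (nat_lit 110) (.nd (nat_lit 108) (.lf ⟨nat_lit 0, nat_lit 1, nat_lit 1, (nat_lit 0x8005ef3ef0a65bf12d4cf0404c40011ed43c), one, (nat_lit 0x8005ef3ef0a65bf12d4cf0404c40011ed43c), (.prod [nat_lit 100, nat_lit 75])⟩)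
 (.nd (nat_lit 109) (.lf ⟨nat_lit 0, nat_lit 1, nat_lit 1, (nat_lit 0x8004c122e79b6b65193f26bc3f95f40c3008), one, (nat_lit 0x8004c122e79b6b65193f26bc3f95f40c3008), (.prod [nat_lit 101, nat_lit 71])⟩)
 (.lf ⟨nat_lit 0, nat_lit 1, nat_lit 1, (nat_lit 0x8006381a413a15245c28139728a0e923a69f), one, (nat_lit 0x8006381a413a15245c28139728a0e923a69f), (.prod [nat_lit 102, nat_lit 17])⟩)))
 (.nd (nat_lit 111) (.lf ⟨nat_lit 0, nat_lit 1, nat_lit 1, (nat_lit 0x8004c17b713a17c6bc04f59d6602270c36a8), one, (nat_lit 0x8004c17b713a17c6bc04f59d6602270c36a8), (.prod [nat_lit 102, nat_lit 95])⟩)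
 (.nd (nat_lit 112) (.lf ⟨nat_lit 0, nat_lit 1, nat_lit 1, (nat_lit 0x8005a92ae24b61339f4903f55853b41ab425), one, (nat_lit 0x8005a92ae24b61339f4903f55853b41ab425), (.prod [nat_lit 107, nat_lit 95])⟩)
 (.lf ⟨nat_lit 0, nat_lit 1, nat_lit 1, (nat_lit 0x8005a822e3d139113d0b80a61c32f03e317c), one, (nat_lit 0x8005a822e3d139113d0b80a61c32f03e317c), (.inv (nat_lit 58))⟩))))))
 (.nd (nat_lit 124) (.nd (nat_lit 118) (.nd (nat_lit 115) (.nd (nat_lit 114) (.lf ⟨nat_lit 0, nat_lit 1, nat_lit 1, (nat_lit 0x8005412461001c13f503904f3e22f01433b4), one, (nat_lit 0x8005412461001c13f503904f3e22f01433b4), (.prod [nat_lit 93, nat_lit 112])⟩)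
 (.lf ⟨nat_lit 0, nat_lit 1, nat_lit 1, (nat_lit 0x80078222e1685f53796a604f59903336452b), one, (nat_lit 0x80078222e1685f53796a604f59903336452b), (.prod [nat_lit 66, nat_lit 113])⟩))
 (.nd (nat_lit 116) (.lf ⟨nat_lit 0, nat_lit 1, nat_lit 1, (nat_lit 0x8004007b33f522710003974f0043e34e43b4), one, (nat_lit 0x8004007b33f522710003974f0043e34e43b4), (.prod [nat_lit 80, nat_lit 113])⟩)
 (.nd (nat_lit 117) (.lf ⟨nat_lit 0, nat_lit 1, nat_lit 1, (nat_lit 0x80064b3ef0a15f566029a0471415ce249523), one, (nat_lit 0x80064b3ef0a15f566029a0471415ce249523), (.prod [nat_lit 113, nat_lit 83])⟩)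
 (.lf ⟨nat_lit 0, nat_lit 1, nat_lit 1, (nat_lit 0x8000fd0891740936035852f415e3d14ff38a), one, (nat_lit 0x8000fd0891740936035852f415e3d14ff38a), (.prod [nat_lit 113, nat_lit 87])⟩))))
 (.nd (nat_lit 121) (.nd (nat_lit 119) (.lf ⟨nat_lit 0, nat_lit 1, nat_lit 1, (nat_lit 0x8005e72ae6a639a2d815e7015856241e5458), one, (nat_lit 0x8005e72ae6a639a2d815e7015856241e5458), (.prod [nat_lit 116, nat_lit 22])⟩)
 (.nd (nat_lit 120) (.lf ⟨nat_lit 0, nat_lit 1, nat_lit 1, (nat_lit 0x8006383ef4053a70460264e34fd62023a51d), one, (nat_lit 0x8006383ef4053a70460264e34fd62023a51d), (.prod [nat_lit 116, nat_lit 87])⟩)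
 (.lf ⟨nat_lit 0, nat_lit 1, nat_lit 1, (nat_lit 0x8004c17b73d73917a20107694cb2780c351d), one, (nat_lit 0x8004c17b73d73917a20107694cb2780c351d), (.prod [nat_lit 117, nat_lit 83])⟩)))
 (.nd (nat_lit 122) (.lf ⟨nat_lit 0, nat_lit 1, nat_lit 1, (nat_lit 0x80005872b79b2891264cf3b94c43f345a30a), one, (nat_lit 0x80005872b79b2891264cf3b94c43f345a30a), (.prod [nat_lit 118, nat_lit 22])⟩)
 (.nd (nat_lit 123) (.lf ⟨nat_lit 0, nat_lit 1, nat_lit 1, (nat_lit 0x8004932ae2386640685b739f5bc3e309169f), one, (nat_lit 0x8004932ae2386640685b739f5bc3e309169f), (.prod [nat_lit 119, nat_lit 22])⟩)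
 (.lf ⟨nat_lit 0, nat_lit 1, nat_lit 1, (nat_lit 0x8004932ae4052b904638a5bb5a573e0916a8), one, (nat_lit 0x8004932ae4052b904638a5bb5a573e0916a8), (.prod [nat_lit 119, nat_lit 113])⟩)))))
 (.nd (nat_lit 130) (.nd (nat_lit 127) (.nd (nat_lit 125) (.lf ⟨nat_lit 0, nat_lit 1, nat_lit 1, (nat_lit 0x8004c17b713a17c6bc04f59d6602270c36a8), one, (nat_lit 0x8004c17b713a17c6bc04f59d6602270c36a8), (.prod [nat_lit 120, nat_lit 113])⟩)
 (.nd (nat_lit 126) (.lf ⟨nat_lit 1, nat_lit 1, nat_lit 0, (nat_lit 0x8005e77b012e7475f04772491c16243bc391), (nat_lit 0x8005e77b012e7475f04772491c16243bc391), one, (.wt (nat_lit 7) (nat_lit 0) one (.sp .nil) [] [])⟩)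
 (.lf ⟨nat_lit 0, nat_lit 1, nat_lit 1, (nat_lit 0x8005e77b012e7475f04772491c16243bc391), one, (nat_lit 0x8005e77b012e7475f04772491c16243bc391), (.we (nat_lit 0) (nat_lit 1) (nat_lit 0x8005e77b012e7475f04772491c16243bc391) (.st (nat_lit 125) [] [] (.sp .nil)))⟩)))
 (.nd (nat_lit 128) (.lf ⟨nat_lit 0, nat_lit 1, nat_lit 1, (nat_lit 0x80049320038a7690405030c352b2ce2c85f1), one, (nat_lit 0x80049320038a7690405030c352b2ce2c85f1), (.inv (nat_lit 49))⟩)
 (.nd (nat_lit 129) (.lf ⟨nat_lit 0, nat_lit 1, nat_lit 1, (nat_lit 0x8000c47b03a40ae5f04e429a15215e4c63d1), one, (nat_lit 0x8000c47b03a40ae5f04e429a15215e4c63d1), (.prod [nat_lit 126, nat_lit 127])⟩)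
 (.lf ⟨nat_lit 0, nat_lit 1, nat_lit 1, (nat_lit 0x80049320038a7690405030c352b2ce2c85f1), one, (nat_lit 0x80049320038a7690405030c352b2ce2c85f1), (.inv (nat_lit 64))⟩))))
 (.nd (nat_lit 133) (.nd (nat_lit 131) (.lf ⟨nat_lit 0, nat_lit 1, nat_lit 1, (nat_lit 0x8000c47b03a40ae5f04e429a15215e4c63d1), one, (nat_lit 0x8000c47b03a40ae5f04e429a15215e4c63d1), (.prod [nat_lit 126, nat_lit 129])⟩)
 (.nd (nat_lit 132) (.lf ⟨nat_lit 1, nat_lit 1, nat_lit 0, one, one, one, (.wt (nat_lit 0) (nat_lit 0) one (.sp .nil) [] [])⟩)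
 (.lf ⟨nat_lit 1, nat_lit 1, nat_lit 1, (nat_lit 0x8005415253b41ef2f472b28a5993df143001), (nat_lit 0x80067824745709c1ed79b74f0e961740939a), (nat_lit 0x8005e77d93d111e61722e0a50e92c83df747), (.wt (nat_lit 8) (nat_lit 0) (nat_lit 0x8004007b33f522710003974f0043e34e43b4) (.st (nat_lit 131) [nat_lit 96] [] (.sp .nil)) [nat_lit 128, nat_lit 49] [])⟩)))
 (.nd (nat_lit 134) (.lf ⟨nat_lit 1, nat_lit 1, nat_lit 133, (nat_lit 0x8005ef5bc02029532e25b5f03395bb17c490), one, one, (.df (unp (nat_lit 5) (nat_lit 0x773603)))⟩)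
 (.nd (nat_lit 135) (.lf ⟨nat_lit 0, nat_lit 133, nat_lit 133, (nat_lit 0x8004c46b059d6645f04772491263b4278255), one, (nat_lit 0x8002f97d91c327a22703954d3f34586383a4), (.cmp (nat_lit 133) (nat_lit 133) (unp (nat_lit 8) (nat_lit 0x745806d481106)) (unp (nat_lit 8) (nat_lit 0x982715b04)))⟩)
 (.lf ⟨nat_lit 0, nat_lit 133, nat_lit 133, (nat_lit 0x8004e422e5b30474f34930330260c34580e8), one, (nat_lit 0x8002a71a44025416245235126af6603a7001), (.prod [nat_lit 134, nat_lit 134])⟩)))))))

noncomputable def T8_136 : Tr :=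
  (.nd (nat_lit 159) (.nd (nat_lit 147) (.nd (nat_lit 141) (.nd (nat_lit 138) (.nd (nat_lit 137) (.lf ⟨nat_lit 0, nat_lit 133, nat_lit 133, (nat_lit 0x80009322d12e6691430c46135bb3b925b6c5), one, (nat_lit 0x80045e7d84c12b914169f04f55473e59d3a4), (.prod [nat_lit 135, nat_lit 134])⟩)
 (.lf ⟨nat_lit 0, nat_lit 133, nat_lit 133, (nat_lit 0x8005a51b404f13b4992780c43b44e36dc0a1), one, (nat_lit 0x80050b6735230a66201005f523a6a84776a6), (.cmp (nat_lit 133) (nat_lit 133) (unp (nat_lit 7) (nat_lit 0x3cbb7cf04)) (unp (nat_lit 8) (nat_lit 0x354082795a1606)))⟩))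
 (.nd (nat_lit 139) (.lf ⟨nat_lit 0, nat_lit 133, nat_lit 133, (nat_lit 0x8004e47963e36132f411e63800869f4251ab), one, (nat_lit 0x80009c1b41742eb30a06943c3f24e45b745e), (.prod [nat_lit 134, nat_lit 137])⟩)
 (.nd (nat_lit 140) (.lf ⟨nat_lit 0, nat_lit 133, nat_lit 133, (nat_lit 0x80069c2470106074c62274c10473df24c46e), one, (nat_lit 0x8003ac22d17c0ae4d03f91aa49d45868f6a6), (.prod [nat_lit 135, nat_lit 137])⟩)
 (.lf ⟨nat_lit 0, nat_lit 133, nat_lit 133, (nat_lit 0x80078243a3bc1e52ab1412a83a41690205f1), one, (nat_lit 0x80063b71252b6bc5a506806355524b74f45e), (.prod [nat_lit 136, nat_lit 137])⟩))))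
 (.nd (nat_lit 144) (.nd (nat_lit 142) (.lf ⟨nat_lit 0, nat_lit 133, nat_lit 133, (nat_lit 0x8002ab67374f2a839a4580200c330a13b046), one, (nat_lit 0x8005557ef69f0235191c31ef76649046e503), (.prod [nat_lit 137, nat_lit 134])⟩)
 (.nd (nat_lit 143) (.lf ⟨nat_lit 0, nat_lit 133, nat_lit 133, (nat_lit 0x8004cb0d92491ed69c15e50566904f1d25a9), one, (nat_lit 0x8003f23ef13b3d07e936464b1c166056d503), (.prod [nat_lit 139, nat_lit 134])⟩)
 (.lf ⟨nat_lit 0, nat_lit 133, nat_lit 133, (nat_lit 0x8002b97b30c468f2381520a66075b727a2cf), one, (nat_lit 0x8006645473641436785bf2c826c4e459d001), (.prod [nat_lit 139, nat_lit 137])⟩)))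
 (.nd (nat_lit 145) (.lf ⟨nat_lit 0, nat_lit 133, nat_lit 133, (nat_lit 0x8003b927152b3d773e47714365b5bb278255), one, (nat_lit 0x8007667d91c33b918051a5f13f30b863863b), (.prod [nat_lit 140, nat_lit 137])⟩)
 (.nd (nat_lit 146) (.lf ⟨nat_lit 0, nat_lit 133, nat_lit 133, (nat_lit 0x8005ce6736380632b95991a81e55b33f55bc), one, (nat_lit 0x80055429513d0235412d85b350345853c2f9), (.prod [nat_lit 142, nat_lit 137])⟩)
 (.lf ⟨nat_lit 0, nat_lit 133, nat_lit 133, (nat_lit 0x80000472b42516913d4930404c60084580e8), one, (nat_lit 0x80049d1a44021433b93bc5b76af4fd3a763b), (.prod [nat_lit 144, nat_lit 134])⟩)))))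
 (.nd (nat_lit 153) (.nd (nat_lit 150) (.nd (nat_lit 148) (.lf ⟨nat_lit 0, nat_lit 133, nat_lit 133, (nat_lit 0x8004e33ef39f5bb5052274992383b424c46e), one, (nat_lit 0x80026c22d17c1d239f39100249d54c68f766), (.prod [nat_lit 146, nat_lit 137])⟩)
 (.nd (nat_lit 149) (.lf ⟨nat_lit 0, nat_lit 133, nat_lit 133, (nat_lit 0x8004c46b059d6645f04772491263b4278255), one, (nat_lit 0x8002f97d91c327a22703954d3f34586383a4), (.inv (nat_lit 136))⟩)
 (.lf ⟨nat_lit 0, nat_lit 133, nat_lit 133, (nat_lit 0x80005829512e2890a61522384e66bc6036b6), one, (nat_lit 0x8005c16e236411e37969f74f4cb43c59d3a4), (.prod (unp (nat_lit 8) (nat_lit 0x94898903)))⟩)))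
 (.nd (nat_lit 151) (.lf ⟨nat_lit 0, nat_lit 133, nat_lit 133, (nat_lit 0x80067822e42524c3645b351939a174278391), one, (nat_lit 0x80076624645c1410403bc5f05544e63a763b), (.prod [nat_lit 149, nat_lit 149])⟩)
 (.nd (nat_lit 152) (.lf ⟨nat_lit 0, nat_lit 133, nat_lit 133, (nat_lit 0x8005e779e1000694f302011e1ef45e5bf5bc), one, (nat_lit 0x80040043a1003b93795bf5126af098002001), (.prod [nat_lit 150, nat_lit 149])⟩)
 (.lf ⟨nat_lit 0, nat_lit 133, nat_lit 133, (nat_lit 0x80040270b12e3a41a815274f0bc69f27a2cf), one, (nat_lit 0x8005c15473642270400a547726c29a59d3a4), (.prod [nat_lit 151, nat_lit 149])⟩))))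
 (.nd (nat_lit 156) (.nd (nat_lit 154) (.lf ⟨nat_lit 0, nat_lit 133, nat_lit 133, (nat_lit 0x80065b7b04256dc6135b31aa3b90933bc255), one, (nat_lit 0x8007667d945c27837901956d3f31e53a763b), (.prod [nat_lit 152, nat_lit 149])⟩)
 (.nd (nat_lit 155) (.lf ⟨nat_lit 0, nat_lit 133, nat_lit 133, (nat_lit 0x80064b7963643f569f45859d0083795a8168), one, (nat_lit 0x8002f03ed69f6bc5bc05c3d70c31a85f1503), (.inv (nat_lit 138))⟩)
 (.lf ⟨nat_lit 0, nat_lit 133, nat_lit 133, (nat_lit 0x8002a879e3b959d1745a54991ed1a85ce039), one, (nat_lit 0x80040022d02e3b90a639140545e6b64e42f0), (.prod (unp (nat_lit 8) (nat_lit 0x9a868a03)))⟩)))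
 (.nd (nat_lit 157) (.lf ⟨nat_lit 0, nat_lit 133, nat_lit 133, (nat_lit 0x8004937b069c6af15e04745c10025963b51a), one, (nat_lit 0x8007660d924b2780a64c60a563b6dc2893f3), (.prod [nat_lit 150, nat_lit 155])⟩)
 (.nd (nat_lit 158) (.lf ⟨nat_lit 0, nat_lit 133, nat_lit 133, (nat_lit 0x8007662953975b726c39a2494e41803f56c5), one, (nat_lit 0x8005c142a78211e0a646e3903f252b38a49d), (.prod [nat_lit 152, nat_lit 155])⟩)
 (.lf ⟨nat_lit 0, nat_lit 133, nat_lit 133, (nat_lit 0x80005c2000263f97e96af09c12e25b5f41ab), one, (nat_lit 0x8004002477690806206070190016fc093008), (.prod [nat_lit 156, nat_lit 149])⟩))))))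
 (.nd (nat_lit 170) (.nd (nat_lit 164) (.nd (nat_lit 161) (.nd (nat_lit 160) (.lf ⟨nat_lit 0, nat_lit 133, nat_lit 133, (nat_lit 0x8005a879e1c30266170bc14139766956c79b), one, (nat_lit 0x80040022939a3b95bc68f2ab2f004e1a845e), (.prod [nat_lit 158, nat_lit 155])⟩)
 (.lf ⟨nat_lit 0, nat_lit 133, nat_lit 133, (nat_lit 0x80040270b12e3a41a815274f0bc69f27a2cf), one, (nat_lit 0x8005c15473642270400a547726c29a59d3a4), (.inv (nat_lit 150))⟩))
 (.nd (nat_lit 162) (.lf ⟨nat_lit 0, nat_lit 133, nat_lit 133, (nat_lit 0x80067870b1ef17c66938a5f45a515e27a56d), one, (nat_lit 0x8005c13ed5ce2276bc5bb16923a17c5993f2), (.prod (unp (nat_lit 8) (nat_lit 0xa09b9703)))⟩)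
 (.nd (nat_lit 163) (.lf ⟨nat_lit 0, nat_lit 133, nat_lit 133, (nat_lit 0x8004c122e69c5034580477a21524f30c33e2), one, (nat_lit 0x8007667b724b14139f2ab70109c4e62893f3), (.prod [nat_lit 161, nat_lit 161])⟩)
 (.lf ⟨nat_lit 0, nat_lit 133, nat_lit 133, (nat_lit 0x80065b29500817c2f92a751d54c4e3603039), one, (nat_lit 0x8005c16733f511e5190b816823a4e3505555), (.inv (nat_lit 156))⟩))))
 (.nd (nat_lit 167) (.nd (nat_lit 165) (.lf ⟨nat_lit 0, nat_lit 133, nat_lit 133, (nat_lit 0x8000c47b054c78261339712659d7e94c64fd), one, (nat_lit 0x8007666e21e727830a49956d63b5b37823f3), (.prod (unp (nat_lit 8) (nat_lit 0xa3959b03)))⟩)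
 (.nd (nat_lit 166) (.lf ⟨nat_lit 0, nat_lit 133, nat_lit 133, (nat_lit 0x80013b7303bc2596dc03366951d7661525f1), one, (nat_lit 0x8003a471274f39f5191ab65b5554cf52b1c1), (.inv (nat_lit 142))⟩)
 (.lf ⟨nat_lit 0, nat_lit 133, nat_lit 133, (nat_lit 0x80005879e39a5053a754c63b3d730a5bf0a1), one, (nat_lit 0x8004006b038a3b95a52592f42f90471e7457), (.inv (nat_lit 155))⟩)))
 (.nd (nat_lit 168) (.lf ⟨nat_lit 0, nat_lit 133, nat_lit 133, (nat_lit 0x8005a82953a45b326c1c12eb6bf3df1aa43c), one, (nat_lit 0x8005c122d7a211e7e924939049d0bc1523f2), (.inv (nat_lit 164))⟩)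
 (.nd (nat_lit 169) (.lf ⟨nat_lit 0, nat_lit 133, nat_lit 133, (nat_lit 0x8004c122e1ef3b46206af58559d3df0c3555), one, (nat_lit 0x8007662957690806bc3d73e35030043f53f2), (.prod (unp (nat_lit 8) (nat_lit 0xa7a6a5898d05)))⟩)
 (.lf ⟨nat_lit 1, nat_lit 133, nat_lit 1, one, (nat_lit 0x8005ef5bc02029532e25b5f03395bb17c490), one, (.wt (nat_lit 0) (nat_lit 0) (nat_lit 0x8005ef5bc02029532e25b5f03395bb17c490) (.st (nat_lit 133) [] [] .nil) [] [])⟩)))))
 (.nd (nat_lit 176) (.nd (nat_lit 173) (.nd (nat_lit 171) (.lf ⟨nat_lit 1, nat_lit 133, nat_lit 133, (nat_lit 0x80005855500804e25b30a1d73d045e4cb7a2), (nat_lit 0x8000261a442a3f26aa18017c6174583df2ce), (nat_lit 0x8003e22001c13f97e90a14cb2891e53e365b), (.wt (nat_lit 8) (nat_lit 2) (nat_lit 0x8002553ef7827a23b913a5b71e731a0a1402) (.st (nat_lit 169) (unp (nat_lit 7) (nat_lit 0x48a364804)) [] (.st (nat_lit 133) (unp (nat_lit 7) (nat_lit 0x444344c04)) (unp (nat_lit 7) (nat_lit 0x32fb89604)) .nil)) (unp (nat_lit 8) (nat_lit 0x2310806a04))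 [])⟩)
 (.nd (nat_lit 172) (.lf ⟨nat_lit 1, nat_lit 133, nat_lit 1, (nat_lit 0x8000587b312e3a41c12ce70162450345a6fc), (nat_lit 0x8006b62275bf2082eb0026072a72a828c046), (nat_lit 0x8006134022890897e916846e5e73f90104c4), (.wt (nat_lit 8) (nat_lit 2) (nat_lit 0x80066079e56d54d6244e355500831a7b73f5) (.st (nat_lit 132) (unp (nat_lit 7) (nat_lit 0x40c359204)) (unp (nat_lit 8) (nat_lit 0x1973827b5405)) (.st (nat_lit 133) (unp (nat_lit 8) (nat_lit 0x202c80631105)) (unp (nat_lit 7) (nat_lit 0x68e7e1704)) .nil)) (unp (nat_lit 7) (nat_lit 0x424364b04)) [])⟩)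
 (.lf ⟨nat_lit 0, nat_lit 133, nat_lit 133, (nat_lit 0x8000c137c59d2f43900c41e53f55a525b0a5), one, (nat_lit 0x80023a0e84c16b011e0393b40011520023ac), (.we (nat_lit 0) (nat_lit 0) (nat_lit 0x8000587b312e3a41c12ce70162450345a6fc) (.st (nat_lit 171) (unp (nat_lit 7) (nat_lit 0x194f9e49205)) (unp (nat_lit 8) (nat_lit 0x939fa4a2a805)) (.st (nat_lit 133) (unp (nat_lit 7) (nat_lit 0x6f5cb03)) (unp (nat_lit 8) (nat_lit 0x723e827a581606)) .nil)))⟩)))
 (.nd (nat_lit 174) (.lf ⟨nat_lit 0, nat_lit 133, nat_lit 133, (nat_lit 0x8002b97b30c468f2381520a66075b727a2cf), one, (nat_lit 0x8006645473641436785bf2c826c4e459d001), (.inv (nat_lit 143))⟩)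
 (.nd (nat_lit 175) (.lf ⟨nat_lit 0, nat_lit 133, nat_lit 133, (nat_lit 0x80005829512e2890a61522384e66bc6036b6), one, (nat_lit 0x8005c16e236411e37969f74f4cb43c59d3a4), (.inv (nat_lit 153))⟩)
 (.lf ⟨nat_lit 0, nat_lit 133, nat_lit 133, (nat_lit 0x80065b2002a71000046af13b39774f259039), one, (nat_lit 0x8004003797697b02eb4e61686645bf4c43f3), (.prod (unp (nat_lit 8) (nat_lit 0xa7aeadac04)))⟩))))
 (.nd (nat_lit 179) (.nd (nat_lit 177) (.lf ⟨nat_lit 0, nat_lit 133, nat_lit 133, (nat_lit 0x80064b0680205a57005b311e0262f924942a), one, (nat_lit 0x80076620045c2786b074f54c3a46603643f2), (.prod [nat_lit 164, nat_lit 175])⟩)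
 (.nd (nat_lit 178) (.lf ⟨nat_lit 0, nat_lit 133, nat_lit 133, (nat_lit 0x8004c10193972892380802d80b85f00c3208), one, (nat_lit 0x8005c16e2289227208490603457617525001), (.prod [nat_lit 176, nat_lit 164])⟩)
 (.lf ⟨nat_lit 1, nat_lit 133, nat_lit 133, (nat_lit 0x8002084d04ff6a64491685f03971c15bb30a), (nat_lit 0x80039724b39023a4cf1807966b665b11e525), (nat_lit 0x8004c67b31522d80466dc6b02f467869f79b), (.wt (nat_lit 9) (nat_lit 2) (nat_lit 0x8003f572b59d5bb5a849924c56d3b42d8141) (.st (nat_lit 169) (unp (nat_lit 7) (nat_lit 0x369f4cc04)) [] (.st (nat_lit 132) (unp (nat_lit 7) (nat_lit 0x1f619e71105)) (unp (nat_lit 7) (nat_lit 0x33a3d2d1605)) (.st (nat_lit 133) (unp (nat_lit 8) (nat_lit 0x1a2f80684c1106)) [nat_lit 130, nat_lit 64] .nil))) (unp (nat_lit 7) (nat_lit 0x111774d04)) [])⟩)))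
 (.nd (nat_lit 180) (.lf ⟨nat_lit 0, nat_lit 133, nat_lit 133, (nat_lit 0x8004cb60772b7a238a1686a845e5120bc39f), one, (nat_lit 0x80045e2d84493d769c69f45863b71251d766), (.we (nat_lit 0) (nat_lit 0) (nat_lit 0x8002084d04ff6a64491685f03971c15bb30a) (.st (nat_lit 178) [] [] (.st (nat_lit 178) (unp (nat_lit 7) (nat_lit 0x418344b04)) (unp (nat_lit 8) (nat_lit 0x9199b1af04)) .nil)))⟩)
 (.nd (nat_lit 181) (.lf ⟨nat_lit 0, nat_lit 133, nat_lit 133, (nat_lit 0x8005e77b00bc0b81693d768f2a77e93bc46e), one, (nat_lit 0x80076622d1a827831a4991ed66413a79b3ac), (.inv (nat_lit 157))⟩)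
 (.lf ⟨nat_lit 0, nat_lit 133, nat_lit 133, (nat_lit 0x8000c439a2001ef4e354d5bb1000a54c6227), one, (nat_lit 0x8007665237b038a69c4992c826c1d7227001), (.prod (unp (nat_lit 8) (nat_lit 0xb494b303)))⟩)))))))

noncomputable def T8 : Tr :=
  (.nd (nat_lit 91) (.nd (nat_lit 45) T8_0
 T8_45)
 (.nd (nat_lit 136) T8_91
 T8_136))

noncomputable def q8_1_0 : Net :=
  mkNet (nat_lit 10) (nat_lit 276) (J (nat_lit 4096) (nat_lit 0x40010400544111455001510104550150415554100510414004055000445444000040001122021230120012213022201323212321012223103120301030002011121020000000b0d030000)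
 (nat_lit 0x60c06040d0e0b0000000a0e080a0b020102080f090600080b00000000000140027002b00bd00ca004b00b4001200e90057007a005c000a00f00080000400000000400000a0300004e000000a1310000c8da0000421c0000553800000e1000000010000000000000018ab0d7000000000880401d5000000000c0f041700000000000000900000000000000000000000a3087c0908e8217000000000000000000000000000a05200000000000000000000000000000000000000000000000000000000000000000cb2920000000000000000000000000000000000000000000000000000000000000000eb7b200000000000000000000000000000000000005b32adf2dfbea04544022a14080cb292000000000000000000000298cc7e8b69fc712000000000000000000084001000b5fb00000000000000d3fb4570000000008f5542d3000000006f5f441f0000000011b441b00000400001687000047210000a1140000cdfe00004b380000553c00008f50000005100005c0023002e00bc00cf005e00b5001f00ed0053007b005c000a00f0008c0004000000b0d030002060c06040d0e0b0000000a0e080a0b020102080f090600080b00000000111220212301200122130222013232123210122231031203010300020111210200000400104005441114551015101045501504155541005104140040550004454450000400))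

noncomputable def q8_1_2 : Net :=
  mkNet (nat_lit 10) (nat_lit 276) (J (nat_lit 4096) (nat_lit 0x4004014141504410505155050054411105000500154105404454105445005000410032102000033223313131011020200230031031133023120300000000021300000010000f0e0c0407)
 (nat_lit 0x50d09000f0108000400050e0202020a04000000090009090604000400000700093008300f200b600af00f4008500010041002b004c0090002200ac00000003000000000a1280000e2cb0000e188000048b90000b8b00000a90a00008812000010200000000000000727f565900000000f42625d500000000900d32c00000000000000000000000000000000000000200028008f6984c10000000000000000000000000008928000000000000000000000000000000000000000000000000000000000000000005e1650000000000000000000000000000000000000000000000000000000000000000df3e500000000000000000000000000000000000006383aa288fec4478580a0100000561e5000000000000000000000007e7cf9df6b84c10000000000000000882a1018581ab2810000000000000ee6ff67f00000000fc8785f500000000801db3e2000000000028a402000070000a3290000e3e30000eda4000068b9000090910000ad0a0000aafa00000030000d8008300ab00620096009f00fc00ad003900e10017007c009800020084001c007300f0e0c0407050d09000f0108000400050e0206020a050100000d000b0f0604000400321020001332233131310110202002300310311330231203000000000213020000100040040141415044105051550500554111050005001541054044541454450050404100))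

noncomputable def q8_1_4 : Net :=
  mkNet (nat_lit 10) (nat_lit 276) (J (nat_lit 4096) (nat_lit 0x14140540150011110510011441044054050441014515110405051004401055100400003033320231001023331021011120303303100320122032102002210000103000000000c0a020502)
 (nat_lit 0x50206010c070b0400020301090b030f0e040c0b020d0005010c0900000004c00d30010004000480084004b006e009500b1000200800018004000840011000000009000086a40000f1f400002436000026ba00002c210000b0c20000f11000002000000000000000079014935000000003281c00b0000000010053915000000000000000000000000000000000000020784068aa91988000000000000000000000000000082d400000000000000000000000000000000000000000000000000000000000000000508350000000000000000000000000000000000000000000000000000000000000000d2d7500000000000000000000000000000000000004178706b3a7592bcb0800400818f0035000000000000000000000c8e6196958208ef200000000000000002804080421083d4000000000000008e96d03200000000d610fa310000000034250b0600000000f09091000000900008cdb0000b1f10000264c000076b20000ec5c0000f2f60000e15400002b00000ee00db003f0067005a00940041006c009d00b8000000a20009004000850015000000c0103060207020e000c070a0400030a000900020f0e0f0c0a030e0005010c080100212113202331011233330310111213233033021221220323020022102001230200000141405401500111105100114410440540504410145151104050510054010551004010))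

noncomputable def q8_1_6 : Net :=
  mkNet (nat_lit 10) (nat_lit 276) (J (nat_lit 4096) (nat_lit 0x44144441450440504104111005100004101411100101001504140404411510400030320210230032031000030022303222101220100103132122122213002122100020000c02000200)
 (nat_lit 0x70502050c0e000605090107050c0103090801010c0d0c00010a080302000e1000a0035009100dd00f7008e00620042008800e80097004500040006008a00090000f00005a7e0000fe800000dafa00008c080000137000004341000080840000108000000000000000785537d000000001009706200000000004040a4000000000000020000000000000000000000018104480078b235a0000000000000000000000000002d2b4000000000000000000000000000000000000000000000000000000000000000092f5b0000000000000000000000000000000000000000000000000000000000000000bffff00000000000000000000000000000000000001caf3cbfe6a9284a40904801812b3d4b0000000000000000000003d1146c1089a71ff0000000000000000234002410102c6b5000000000000012e6557d000000001742d37a00000000047341a4000000001a0480900000e00007afd0000fe800000d8f70000ac0300001171000063690000868e0000328a000f300180015009100fd00f7009c00600042008800e800b5007500040006008a000900c02070206050502050c0e070405090305050e01030b0c03030d0f0c00010b090302303202102300320310000300223032221012201001031321221222130021221000200000441444414504405041041110051000041014111001010015041404144115104000))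

noncomputable def q8_1_8 : Net :=
  mkNet (nat_lit 10) (nat_lit 276) (J (nat_lit 4096) (nat_lit 0x44541010414415151004414041540140111045044414551445140011100500500410001032203323030100222222001321201300331110011300120030031120000201000000a0e030804)
 (nat_lit 0xa050d0f0100090f0200020404010a04030d0100020b0101070101090000005006400c8000200c2004700b2005f004b0058004100a1006400a0004a0018000000007000026dc0000aa6d00008098000015b8000089a500000ec0000011520000050000000000000004088a4d50000000012151b050000000047064e9d00000000000000000000000000000000000001945002400403e1c0000000000000000000000000006c4540000000000000000000000000000000000000000000000000000000000000000f2b280000000000000000000000000000000000000000000000000000000000000000fef7c00000000000000000000000000000000000005a880ce0b15117ab43cd0c850a192b3c0000000000000000000003b6da7ad00c43e4800000000000000004309a5900507ec5400000000000000f81e48500000000d3515b450000000042772ecd00000000b5036230000030000a6de0000ee680000c09c000055f80000c9b300004ed0000051070000050c0004d0064009c001a00c6001700b2005f000f0018004500f3002400ab000e0018005000a0a0708000e01090f0500090f0607020604040a00030d01000e0f04050701010d00010222023210301112321220013213013013310100112011200203323200122010110545010104144151510044140415405501110450544155514451400511005005004100))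

noncomputable def q8_1_10 : Net :=
  mkNet (nat_lit 10) (nat_lit 276) (J (nat_lit 4096) (nat_lit 0x5540000105054041401444415054111001501051100001500401500015410001014430012123101222210300100102022222301201213102311301101100023000200000000a0307050d)
 (nat_lit 0x4000306070702060e0700000109010e09020800040a0b080003010100000a8009000a700fe003c0028004500510002007000040094001300800090000000000000d0000912000008402000070410000da060000225900008601000023550000010000000000000000601d0ba0000000018407b0b0000000002492144000000000001a100000000000000000000000020e0b62924af5b60000000000000000000000000009094000000000000000000000000000000000000000000000000000000000000000002f0bf0000000000000000000000000000000000000000000000000000000000000000bf9ff0000000000000000000000000000000000000410fdb6e9a486534ca2100040402f0bf000000000000000000000044e3be1c36bf5b60000000000000000026000100709ad400000000000000a601d7fa000000002a526b2900000000305931e5000000000294a2800000d0000912000009412000060430000ce040000365b000092010000325600002500000ac009a00a700fc003c004a004400d3000200d200060094005300a100b90001001000a0307050d040c03060707020e0e0700000d09010e09060a02040a0b0c0003010104300121231012222103001001020322223012012131023113011011000230002000002055400001050540414014444150541110015010511000015004015000154100010144))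

noncomputable def q8_1_12 : Net :=
  mkNet (nat_lit 10) (nat_lit 276) (J (nat_lit 4096) (nat_lit 0x5554050444014110151505055451054411505114444511100054541444141400100030211210303131200000201032120020210212220203223310221233220132202000000605090900)
 (nat_lit 0x207090c0e090e08010a08090200020600050d020e00040207000800000000100fb009200130013008d001e008800640039009e008a00740086002c008000020000400005c51000058800000c94e00004276000077600000dbcc000005880000300000000000000001294cd060000000024e02c800000000040c00b250000000000004800000000000000000000000c002d000b1221ea200000000000000000000000000027325000000000000000000000000000000000000000000000000000000000000000023e42000000000000000000000000000000000000000000000000000000000000000027f6700000000000000000000000000000000000005016e526fc6238829114344c45863c620000000000000000000007bc14887a03b7fa8000000000000000084c8c8442018d727000000000000083156dd40000000035e12eb20000000053ca9b2d00000000830801700000c0000cfdb0000d8080000794c000043fc0000f7620000dbcd0000958a0000180a000a300fb00930013001300cd001e00890064007900be008a007400a600e40088004a004070909060207090e0c090e0a010a080b020a0806000705020408040a0f00000a00302112103031312000002010321200202102122202032233102212332201322020000055540504440141101515050554510544115051144445111000545414441414001001))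

noncomputable def q8_1_14 : Net :=
  mkNet (nat_lit 10) (nat_lit 276) (J (nat_lit 4096) (nat_lit 0x54050551140105140544405011511040440101040005010141400050450141414000120231213112123300310322101203030010102200013022101100021032100110220003050c0c02)
 (nat_lit 0x6020000070d0b050407010002010c090802040c040b040100060004000003200f0009700d500f900b800790003005900d100880088002c0005000300740000000000000379c0000c4e9000098ae000031510000015e0000348800007810000000500000000000000d420d815000000002a10c18100000000400c2db200000000000000000000000000000000000000270712030431ac400000000000000000000000000040522000000000000000000000000000000000000000000000000000000000000000027ad4000000000000000000000000000000000000000000000000000000000000000067ff6000000000000000000000000000000000000072d03bd1b0c9a08001204229080a7ad4000000000000000000000a270f12354430fd6000000000000000008080005400455720000000000000f755d83f000000000a92c9e700000000642f2dbb0000000016552d00000010000b7bc0000c4c900009cbf000031500000817d0000b48d00007c32000026500002200e0009700d500f900b800790013005900d100880088002c0095000300d60080001050c0c0206020000070d0b05040f010002010e090a02060e040904010004020602120231213112123300310322101303030030102201013032101100021232100110220054050551140105140544405011511040440101040005010141400050450141414004))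

noncomputable def q8_1_20 : Net :=
  mkNet (nat_lit 10) (nat_lit 276) (J (nat_lit 4096) (nat_lit 0x10515055441154101155010401105011045054150101114514504445510045515544010300200200031332031321001131023203220233333311101123112323332100021000e050c020e)
 (nat_lit 0x90a0f07090a010e03030402030f080b0708000a0c010d0003020007000006500020065006f006100ab003b000900180066002500aa00ee0054001100860001000080000398a0000183f00002d1500006b1800002ac50000c8140000345100002f200000000000000856e88b0000000004182a3900000000060025cdb000000000002209e0000000000000000000009101146286a5a3a7000000000000000000000000000b245200000000000000000000000000000000000000000000000000000000000000004ebae0000000000000000000000000000000000000000000000000000000000000000feffe000000000000000000000000000000000000000b5156aceb24903f508a101000dc7720000000000000000000000a690ee69a97e7b000000000000000009000d000620140ed0000000000000920fe8390000000066828e08000000000c031ad900000000f4b1c15e0000f0000a717000095150000054f0000e5400000f4be0000602e000040a30000ab190005f000300c5003c001f008b004a004400de009e00d100c500eb005100b9001b000d00600040f0c0701080e02010808080507020b0e0d0f0c0e010c07050b070303000004202032132033021322032310310020232200200201232121310021003123100111301454054450104010401001504110404001441140510105414150500544555155515040))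

noncomputable def q8_1_21 : Net :=
  mkNet (nat_lit 10) (nat_lit 276) (J (nat_lit 4096) (nat_lit 0x11110014155551505010554555550405145545504114444014005101155004005044430120233110213312120321031321233112010012131002201033103232301010100000a0f0e0805)
 (nat_lit 0x106030d0e0805050d060205020c0b03010402030c0003080208000200000f000d900d8005d002f005b00340029005800a00029005c00540015000d00510000000020000ce5800008ce200000a9a0000d45000009d1500003dc00000a6800000210000000000000008039263b00000000c01570ec000000006c07873c00000000000090080000000000000000000000f34085c432f8b00000000000000000000000000000325b80000000000000000000000000000000000000000000000000000000000000000ebb4c0000000000000000000000000000000000000000000000000000000000000000fbffc00000000000000000000000000000000000002c95997ea778014963a14002c4098bdc00000000000000000000067048ebf192b6b9e00000000000000000a35881344c77eb800000000000003621a77f000000005850906d00000000219b12f500000000940cf8a80000a00005c1500004b3e0000595f000054590000e550000044f10000c74d00004810000af00210068003c00c600ee00fd009100b500e4001d00a6000400e1003f001100000070e00020c000f00050304060a07040f000c03030e020101060d040f030f04090104220101000012032100031312322332330130323003111000120212302131130103222545545010015151011545455440011041504115551451040505400151515414055444))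

noncomputable def q8_1_22 : Net :=
  mkNet (nat_lit 10) (nat_lit 276) (J (nat_lit 4096) (nat_lit 0x15555545505155115415410154010104155141505545105100001114050005145055032111310331120331000203120100223021313213300333113003332111112003330000c04050e08)
 (nat_lit 0xa0b0b020b0509060a0302010f04080c0a09040900050f0a0e040d000a000a500170060005c0065002f00f8008300ef0006007000560080004700a000ce00010000e000008130000d13500002592000033c500007bf60000442e0000027a00002250000000000000000e1116d00000000d0dc3c12000000002890324c000000000000020800000000000000000000080b5855a02ada7220000000000000000000000000001104c00000000000000000000000000000000000000000000000000000000000000007b3b700000000000000000000000000000000000000000000000000000000000000007b3ff0000000000000000000000000000000000000cf73964bd2e7adb904ce1b10500da1a3000000000000000000000870fd009292552af00000000000000000c7909507681d41d00000000000004d1b08fa0000000011173a2600000000f5d2b0120000000030b702020000200006330000039a30000a03f0000f054000083e90000cadf0000a95d00004e910003d00c300f60081002400e3007e00a600ca00c800250012008c003400b000fb00ab0050f01070d080907000f03070b020808070c0b0d030c0b050d01030604060c0c0202313331013231302023122232013132001210231022200212003002111213312323113110455040450045140540454455501111100400511110504550414004015010414111))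

noncomputable def q8_1_23 : Net :=
  mkNet (nat_lit 10) (nat_lit 276) (J (nat_lit 4096) (nat_lit 0x4101055510505415001544405015401400550141101440405401004100514000400142021223001233212021132213033033103000210121323211112203201332000311300050104010d)
 (nat_lit 0x10f020301090902040f07030b0c01040b080501090a0600010d030005000b300a7004600a100da002900960081006300f00004006a0091000800a8002d00040000500004a830000b2c6000071250000e89100008c6100009863000023eb000041000000000000000064ce48400000000c901172d00000000d100ac2a0000000000000410000000000000000000000b3008c191c114083000000000000000000000000000015b00000000000000000000000000000000000000000000000000000000000000000d499e0000000000000000000000000000000000000000000000000000000000000000d5dbe0000000000000000000000000000000000000d00dce3b0c68675563b71020109d5d1e000000000000000000000b7406f5b0d0f7dd500000000000000000999c061c00539b000000000000003b21462f000000005ec4bf2600000000f9c0342c00000000b07e82110000400002c4e00009a02000034a800007a890000fcbb00004c170000e949000099610008a00b50066002400e600fa00cf000d0053003900d0007a0083005e008300fe004800008040304040402030700080a000a04030f040a0b07080e0d030c02040a07080409212132211300331233212121303213211212320103001112111321121331220011211451104041154145555045410101540505141010541400005015111454554400504100))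

noncomputable def q8_1_24 : Net :=
  mkNet (nat_lit 10) (nat_lit 276) (J (nat_lit 4096) (nat_lit 0x44451044055100551544540515015055514114400440004010040101441155544540000111211233002233102032212223100100120032012032000310000131203100031000d02070e06)
 (nat_lit 0x40a0f0806060b0c020e0e060c0400040d030e04090f0907010e0d000000010000500fb004e00140084001f000c0004002400530062000200a2006900d000000000b0000d383000070a00000bf960000d33700001355000089910000b9920000082000000000000009ca44aa8000000003d43384e000000008582943d00000000000240240000000000000000000006141ce840c60d43f000000000000000000000000000089240000000000000000000000000000000000000000000000000000000000000000bde3b0000000000000000000000000000000000000000000000000000000000000000bdf3f0000000000000000000000000000000000000cc7be89ccea56e07350a2749e04b1f1b000000000000000000000e21152fd1ea31fce00000000000000002810a700a191b304000000000000022bd734b0000000034a7174b000000002e34b146000000006d7031f40000e0000f2660000576d00007c56000090770000d6fd0000380d0000e02d00000b98000bc005b0020003e003b008e00de0055006c005c0060002f00c5006c00b000ee00920090b0808020301020f070f05050c03030d06060f040f05080b0b0f03040905050904000131021321221030020033011122021310130232311112003222131230022202003151541414505040005401105411515450115501105444000155045545411004014445))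

noncomputable def q8_1_25 : Net :=
  mkNet (nat_lit 10) (nat_lit 276) (J (nat_lit 4096) (nat_lit 0x54014114104150041054041055100145105545550144441105444401110510445051001120321010322111330021002011023102222121213122002333101202120100112000709040305)
 (nat_lit 0xf0a0200070c00040e040d0a0f050d05090c050309080001050805060b000370061001200e9005300e500730020007700cd00d200bb008200c0007300d000080000f0000e51500009840000090060000938600009d5c0000aa5500000a100000c40000000000000005120e8c9000000003708261a000000000a59d50e0000000000041210000000000000000000000742410094c0efda3000000000000000000000000000010140000000000000000000000000000000000000000000000000000000000000000cfe530000000000000000000000000000000000000000000000000000000000000000cfe5700000000000000000000000000000000000007b22d76f4e6b03bb0c8d2c6402adac53000000000000000000000523b7a12990c154d000000000000000030441b409737101c00000000000001c37aa8d0000000005e29edb00000000afab940500000000491b6358000040000ff8f000086f20000aa240000dbac00001ce40000c57300007d6800004c45000f9002f0095008e0071002600140039000a004700cf00c300eb008b00c6009200210050b0606030807010f07060d0a010d0f080d0f07010108010e030003010608020f06030233020300222031102022221210113302100213110021231301230131311312301145145001511450141041145501400040004004001550550445504041011500114500))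

noncomputable def q8_1_26 : Net :=
  mkNet (nat_lit 10) (nat_lit 276) (J (nat_lit 4096) (nat_lit 0x50515544445014400445400415411040550404150544055110054101000144010444032110220231303311332302201011032202003002232203132203110330303212231000a0d04040c)
 (nat_lit 0x4070a070f030e060a0801040d000a050f040a0d0301080c03020e0108000e8006f00d400b5007200e60073006d00670041008300f900a100f1008c008800010000100004a21000061d00000c52e00001448000018d5000099950000aa11000000000000000000000229b56c0000000002eee4998000000003cb002130000000000010500000000000000000000000a228c080cf0d39d90000000000000000000000000000433000000000000000000000000000000000000000000000000000000000000000003ddd300000000000000000000000000000000000000000000000000000000000000003dff30000000000000000000000000000000000000a42150224fbeb98a0348a08d80819be3000000000000000000000063139da5a1c97d800000000000000003a1e80c407a9593100000000000004359e0d80000000023b067ef00000000f597e5370000000003c5ab71000080000af7f000058980000c81a0000d2c60000d8ac0000b18d00009d1400007aa400002007b001500a7005f00e4004b005c00a10086003400b9000800c500bb0091002f004050a090d090006040b05010e0e0500070105010c0e0f080b030c0c020a0a000c0b301311221010322203133331021020100323331220321110032111230032330102223554150451554015000150515104500554144541004155411450104015045440115155))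

noncomputable def q8_1_27 : Net :=
  mkNet (nat_lit 10) (nat_lit 276) (J (nat_lit 4096) (nat_lit 0x5010150010415401055045504114501155045441015050411555154541401054414101120021311110001221012333003210313033221110132221221211130121210032100080d080002)
 (nat_lit 0xa020b0809050e0908070208060100070e020c09000d010509010b00020006200550025005e00e80026002500d600450079009b00010019000a00e1008800080000c000066a8000031d600006b0a00008a2500008231000055410000e7160000894000000000000001d1753a4000000007ea6345000000000371a00f500000000000488000000000000000000000002200ae32041eff36000000000000000000000000000b027a00000000000000000000000000000000000000000000000000000000000000006df070000000000000000000000000000000000000000000000000000000000000000fdf7f0000000000000000000000000000000000000ee4e8adff81ef1404c8465ac1426557d00000000000000000000067b8989942db5e4f00000000000000003b084c1b8030f97a0000000000000dbeb43fa000000003d0e6fc7000000008f1f7c7b0000000001b82550000070000e4900000666600004c0f000043300000fb8500005cd200008ce600004504000b1002d00cf00a2008500dc005800de000c005700b900b4000b00d600480050007800609070d04020803060a09080c070a0b040e020e0c01020f060c09070f0d08020503232020311012213011212133010323312212012121023122311203322112031120132004441001045005041101015510050111554410444055454004501445544455445105))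

noncomputable def q8_1_28 : Net :=
  mkNet (nat_lit 10) (nat_lit 276) (J (nat_lit 4096) (nat_lit 0x5515150115410154410010540101140010415555015100055545045140015515145502012021303331203312000033020102013022112123301311312022122330102010200000301040c)
 (nat_lit 0x6090a020f0b00090109060408050a0d0b0c0d01010d0a0a090f0d0b0c00091003b00cb000c006b00c7000c009500d80069006800ca00f2000b0024000c00000000c0000dae100002e9c00009b870000e4bd00003812000044b600001a90000098200000000000000af436aca000000001c85104b00000000300c90690000000000000c0200000000000000000000001c4230619aa6e6a000000000000000000000000000090400000000000000000000000000000000000000000000000000000000000000000ace6e0000000000000000000000000000000000000000000000000000000000000000ade6e0000000000000000000000000000000000000e8d10f861f3da8bdf92d20c1409ada2e0000000000000000000004c34dc8e3a0c96bd0000000000000000830759d08092416200000000000007a523389000000005d4e407d00000000625278d40000000008a80616000010000b6ad0000da17000098bf000017590000a2200000fc390000278b000047e00002b00da002c007f0026004600e700c50043004a006d00c70010008e00b30085000200705010e0b0e020101090204030d0f000c00070b05030c090005030803030602060f102030312303231032213111002130020203030032213221210110100022221121322450104041441501554551500051410410410111114010154500155541501145014455))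

noncomputable def q8_1_29 : Net :=
  mkNet (nat_lit 10) (nat_lit 276) (J (nat_lit 4096) (nat_lit 0x10051404005550045541154410141050540014014001055150144141101411005010030021022010212323211301101331133110012212123133120113023333202102210000070c0e0e)
 (nat_lit 0xf0f070803090500070104080903050d0b040204070d0804030c080100000b4007b00ee0052008f00cf00e50015002100b700200012002300bc000e00090002000000000ed9500000e3300006d36000042040000c2c20000090e000013230000500000000000000004d4b632d000000000f46093500000000040b097c000000000002040800000000000000000000040481440c01e27090000000000000000000000000002d9980000000000000000000000000000000000000000000000000000000000000000b2fb90000000000000000000000000000000000000000000000000000000000000000bffb90000000000000000000000000000000000000f5e47c8dc8d56429130b804602e972290000000000000000000001d3c012ec10a610f0000000000000000241a856702875898000000000000065ea3144000000000b67f5f400000000474a84b7000000000ce3b94a0000900005509000044e70000e96900001e27000061ef00008f040000b28300006c74000cc00aa007b001900b0004c00b00098008400e000a300a6001300d400cf0073001a0090602060e09060f0207090d070a0a0c0d07030a070402020402090e0d0508060600022122311113320000101110221323012322223113000330131212003132222103110551004001105445444445450541410101401400051145414444141540005051144000))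

noncomputable def q8_1_30 : Net :=
  mkNet (nat_lit 10) (nat_lit 276) (J (nat_lit 4096) (nat_lit 0x11444150041015014155444154451410114551154451104055111545445150540004003112033300313001121030202201201321331213322220122110120300203003002000b0d030e0a)
 (nat_lit 0x90703040e02070301010a01080b030708020a0102050b080d010405080009100320088006500db00a600520039000c00890078009f005000a700ef004200080000c0000f3390000fe2a0000a5d6000068960000a0a10000996a00005b200000041000000000000009c902bad00000000252800d000000000aa28c9050000000000080901000000000000000000000d1c4b24058508604000000000000000000000000000e4d5900000000000000000000000000000000000000000000000000000000000000002b6140000000000000000000000000000000000000000000000000000000000000000eff5d0000000000000000000000000000000000000474abb7f48502e01b0b40488100cf60d0000000000000000000003871aada8df27f7e0000000000000000a52825ca1a8ea949000000000000017634eb0000000009655ea9e0000000020d9b8da0000000081f45e110000600006e74000088880000f6a00000963c0000e83d0000d051000034d000002cc4000dc00d8007000ef0059007a00050060009f002100d700eb001000b7009f00eb00a60050905060c0d0804030e070b02080f0e0a0e0d050a0d0e0704010203010d01060e0a023003001032131130110333333113301001012110030312311013220121301213122410405440551505405145044101114145444541504140510514151504445551144400))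

noncomputable def q8_1_31 : Net :=
  mkNet (nat_lit 10) (nat_lit 276) (J (nat_lit 4096) (nat_lit 0x104450514004140440551541001400411405155454155554450054510414101104114222322330211230112002103023101200310330232300103212230330300010032210005020f0d04)
 (nat_lit 0x903010e08010604020a0b060a0d020a0e0c0d05070a0a040a020806010004e000300a10082005d00b30025002a00380087000000710051004f002200c600000000e00002310000091510000cdf4000010ed0000a2b20000dd1c00007c16000000000000000000000000f347f000000000420d616000000009a4c242400000000000001480000000000000000000008c9146cac083082b00000000000000000000000000056069000000000000000000000000000000000000000000000000000000000000000020b0f000000000000000000000000000000000000000000000000000000000000000076b6f0000000000000000000000000000000000000cd93f85d44860648004806b280270a2e000000000000000000000a89f58c14657e9ee0000000000000000104842120a31e32100000000000002290d0de00000000498ad2ca00000000f4d75b2e00000000434fffc90000d000076d30000392c0000647d0000e9bd0000e3ae00009fca00003dce000082810000900d600170032003f007d004b00600027002400f700ac00d300320022009f0023007050b09080f04060f080c080f01030c0a0409080d0103040f0f0901010e0f0b0707312302233320100120300301303310030332130120110232302012001313011133002515040045005454141554454404514044114051000555111545145114515051400044))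

noncomputable def q8_1_32 : Net :=
  mkNet (nat_lit 10) (nat_lit 276) (J (nat_lit 4096) (nat_lit 0x15054511551454541511105445540105514141115114100004050005000401150040011023002003320112110123201021210013103111300203020221030030103220001000e0b050702)
 (nat_lit 0x80902040306080c010f050a0409020c00080101020e0a000a09010004000c4008600c60025003300500060005300d6003c0037001a009e006a0030004b0000000080000c7980000a87300003936000089d90000e2000000ed860000ea93000000000000000000000adba4cdc00000000a0400a0c000000009090026000000000000000000000000000000000000003180811b005e4e45000000000000000000000000000280a00000000000000000000000000000000000000000000000000000000000000000acf420000000000000000000000000000000000000000000000000000000000000000acfe200000000000000000000000000000000000007b13d3d5e1df1e558496048a100a4fc2000000000000000000000986a019f2d5e4e690000000000000000108a20a01e8480a000000000000009c2efd480000000013e73a2800000000a11212660000000030e5da100000c0000c7280000a8c30000f916000089f90000e6000000ed960000ea13000041480005c000600ce00e500b300d0006000db005600bc003f00ba0052002a00b0000f004400e0b0507020809020c03060804010f050a04090a0c000801090a0e0a000a09090004110230020033201121101232010212100131031113002030202210300301032200010550545115514545415111054455411055141411151141000044500050004155500400))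

noncomputable def q8_1_33 : Net :=
  mkNet (nat_lit 10) (nat_lit 276) (J (nat_lit 4096) (nat_lit 0x1045550154045411144010011414045554501054514454101154000400104104410012111110233230020212301010211103122200213213031301111120131201100012000a020d0401)
 (nat_lit 0x5070408060303030f040b090d0e0b0107050100000d04010d000807080004900cb0033007500620088002100a000c400cd0084002200130014003c0030000c0000d0000234100003cac00009fa30000faa00000f90f000086030000ce92000004800000000000000d40c0646000000005313f65700000000c018968300000000000602a1000000000000000000000ea65019410b7c7ff0000000000000000000000000003549100000000000000000000000000000000000000000000000000000000000000007a27d00000000000000000000000000000000000000000000000000000000000000007f6fd00000000000000000000000000000000000005d61b49ef3bc8f63a20e2d020904f2cd000000000000000000000dbd9d15992617d1f0000000000000000431d22101903411400000000000002218167500000000f94726b400000000e93be50400000000002a3d250000400009a64000094aa0000c5380000ab830000aa7e0000d13c0000a0b10000ac4000030002b009900fb00920024003300170056009f00aa001d0013005900db00f0009000d0e0100020b06060606070303080d0708050f0e06090e0b09080c06050300040f0c103021011310303113331221322211203102012122030320112021223113111122030010045154005544040144541445544500041104451410510055451105000515500510))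

noncomputable def q8_1_34 : Net :=
  mkNet (nat_lit 10) (nat_lit 276) (J (nat_lit 4096) (nat_lit 0x445100014050004515004550451045154505451510445454144010511114044401040213100232211300130032022202120211301113002221002200312310111300312000003060d030d)
 (nat_lit 0x70a02000103000d040b050a0e060a0206020b0c030e070d0b06030b00000c90055001f00f7002300960061002200dc005e00210050001f002c00a9002300000000200002804000069080000b37c00001107000080a000002a600000183000003c20000000000000037c08524000000004508f95100000000e82db718000000000004411000000000000000000000058950914a05d15fb0000000000000000000000000004e230000000000000000000000000000000000000000000000000000000000000000005dea00000000000000000000000000000000000000000000000000000000000000004fffa0000000000000000000000000000000000000ee9489b4e5b570d7900904084048feca000000000000000000000408d0a21ad0573df000000000000000010211d082e4cc3300000000000000af48761800000000344119c7000000000ba54f6300000000d5fee910000010000c27c000003e30000e76700001fc500009d18000033060000207500007f30000eb000e00c3005f0051000b0029004e004e006e0062001e003600c800a200e30080009040d08060d0005080f02040c02050f03070c0b01090808090a0c060f0906030800232332300321030021312022213131133033101220330330101113231010220210220144140151054154400010141011504015554105411405005145555111515510005450))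

noncomputable def q8_1 : List Net :=
  [q8_1_0, q8_1_0, q8_1_2, q8_1_2, q8_1_4, q8_1_4, q8_1_6, q8_1_6, q8_1_8, q8_1_8, q8_1_10, q8_1_10, q8_1_12, q8_1_12, q8_1_14, q8_1_14, Net.nil, Net.nil, Net.nil, Net.nil, q8_1_20, q8_1_21, q8_1_22, q8_1_23, q8_1_24, q8_1_25, q8_1_26, q8_1_27, q8_1_28, q8_1_29, q8_1_30, q8_1_31, q8_1_32, q8_1_33, q8_1_34]

noncomputable def Qs8 : List (ℕ × ℕ × List Net) :=
  [(nat_lit 276, nat_lit 10, q8_1)]

noncomputable def ls8 : List Ld :=
  [⟨[(nat_lit 17, [nat_lit 34]), (nat_lit 71, (unp (nat_lit 6) (nat_lit 0x8a086004))), (nat_lit 75, (unp (nat_lit 6) (nat_lit 0x8a282104))), (nat_lit 95, (unp (nat_lit 6) (nat_lit 0x8a286179e06))), (nat_lit 128, (unp (nat_lit 6) (nat_lit 0x2075d79e75c65769a0b))), (nat_lit 15, (unp (nat_lit 5) (nat_lit 0x7bdde66fac65d60b))), (nat_lit 3, [nat_lit 0])], [⟨nat_lit 4, (unp (nat_lit 3) (nat_lit 0xd5a04)), (nat_lit 0x1440c41451051461031441421430401877df), nat_lit 22⟩, ⟨nat_lit 5, (unp (nat_lit 3) (nat_lit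 0x15a03)), (nat_lit 0x1040831040c41450c210310114301f1467df), nat_lit 21⟩, ⟨nat_lit 1, [nat_lit 4], (nat_lit 0x7df7df7df7df7df7df7df7df7df7df7df001), nat_lit 2⟩, ⟨nat_lit 2, (unp (nat_lit 2) (nat_lit 0x3903)), (nat_lit 0x1840c30c41051460851040c21057df0407df), nat_lit 20⟩, ⟨nat_lit 3, (unp (nat_lit 2) (nat_lit 0x2403)), (nat_lit 0x7c30820837df0c30430c30810c27df01f7df), nat_lit 16⟩, ⟨nat_lit 6, [nat_lit 0], (nat_lit 0x7df7df7df7df7df7c17df7c27c07df7df7df), nat_lit 3⟩], [[nat_lit 3], [nat_lit 5], [nat_lit 9], [nat_lit 11], [nat_lit 13], [nat_lit 15]], (nat_lit 0x2009028090300a030090300a02c0d0300b024090300b0300d0280c0340b0300b0340c0340b02c0c0300c02c0d0280c0340d0300902c090300b02c0c0300c0240c0300c0240c0200c0240a0300a01c0c02c0a02c0c02c0b0300a0300b0280b03409028090300c0300b0240801c0c01c090300b0280b0300c0380b020070200b030060140a02c0802c0b0300b0280c0300c0300c0300b0280a02c0b0340d0280c0300b02c0b0240b02c0b020060180a0240b0380a02c0901c09024080200602c0a01c05030070300b02c0a0280d0280c0300b02c0c0280a0280b02c0b0200b028090300c0300c0300b02c0b02c0b030080240b0280d028090280b0340d02c0902c0b02c0b03007018070180702c04018060140701c0d02007020080200601c0801c08020080200602c090200601c0601c07018090180802c070100401c080200c0300501c03018070300c0240a014050080601c0600c0200400)⟩]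

noncomputable def lk8 : List (List ℕ) :=
  [[]]

noncomputable def d8_0 : Nd :=
  ⟨nat_lit 1, nat_lit 276, [(nat_lit 22, [nat_lit 34]), (nat_lit 83, (unp (nat_lit 6) (nat_lit 0x8a086004))), (nat_lit 87, (unp (nat_lit 6) (nat_lit 0x8a282104))), (nat_lit 113, (unp (nat_lit 6) (nat_lit 0x8a286179e06))), (nat_lit 130, (unp (nat_lit 6) (nat_lit 0x2075d79e75c65769a0b))), (nat_lit 20, (unp (nat_lit 5) (nat_lit 0x7bdde66fac65d60b))), (nat_lit 3, [nat_lit 0])], [⟨nat_lit 4, (unp (nat_lit 3) (nat_lit 0xd5a04)), (nat_lit 0x1440c41451051461031441421430401877df), nat_lit 22⟩, ⟨nat_lit 5, (unp (nat_lit 3) (nat_lit 0x15a03)), (nat_lit 0x1040831040c41450c210310114301f1467df), nat_lit 21⟩, ⟨nat_lit 1, [nat_lit 4], (nat_lit 0x7df7df7df7df7df7df7df7df7df7df7df001), nat_lit 2⟩, ⟨nat_lit 2, (unp (nat_lit 2) (nat_lit 0x3903)), (nat_lit 0x1840c30c41051460851040c21057df0407df), nat_lit 20⟩, ⟨nat_lit 3, (unp (nat_lit 2) (nat_lit 0x2403)), (nat_lit 0x7c30820837df0c30430c30810c27df01f7df),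 nat_lit 16⟩, ⟨nat_lit 6, [nat_lit 0], (nat_lit 0x7df7df7df7df7df7c17df7c27c07df7df7df), nat_lit 3⟩],
  [⟨(unp (nat_lit 3) (nat_lit 0x6b1a05)), (nat_lit 0x1406010040140401406010060100301003018060140600c0501805008030100401405010050080301003008050180300c0501005008060100500c0400c0201c0401003018050140401803008040140300804008050100401003010040180400c0601006010030080400c0501403010050080300c0101403010030180500c0200c0601c03010040100201003010040100400c0401003010040100500c05010040180400c0400c04014040080501003010040140300c050140501805018060100301805010050100401003010030140201003010040100201002010040100300c050080500c04008050140400c04010040140300c040040400c030100500c030080300401004030100600c050100500c0301003014020100601403010050100401004018030100400c0401004018050100401406014050080501807010050100501004010070100401005014000180200405010030080100000), [(nat_lit 131, nat_lit 0, []), (nat_lit 132, nat_lit 1, [nat_lit 12]), (nat_lit 133, nat_lit 10, (unp (nat_lit 5) (nat_lit 0x773603)))]⟩]⟩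

noncomputable def d8_1 : Nd :=
  ⟨nat_lit 133, nat_lit 1771, [(nat_lit 168, (unp (nat_lit 6) (nat_lit 0x2289d03))), (nat_lit 161, (unp (nat_lit 6) (nat_lit 0x8a181e7df06))), (nat_lit 175, (unp (nat_lit 6) (nat_lit 0x8a275f75965c08))), (nat_lit 181, (unp (nat_lit 6) (nat_lit 0x227606db6975da09))), (nat_lit 149, (unp (nat_lit 6) (nat_lit 0x82179d7ce06))), (nat_lit 137, (unp (nat_lit 6) (nat_lit 0x8a275e7d768e51510a0c)))], [⟨nat_lit 4, (unp (nat_lit 3) (nat_lit 0x16303)), (nat_lit 0x830811040c20c41041451051031400c3103), nat_lit 24⟩, ⟨nat_lit 5, [nat_lit 3, nat_lit 4], (nat_lit 0x9f10511f1c60c614608114410501f0df0c4), nat_lit 20⟩, ⟨nat_lit 1, [nat_lit 1, nat_lit 3], (nat_lit 0x9f1050df7c57c411f0c21811437df0df006), nat_lit 16⟩, ⟨nat_lit 0, [nat_lit 2], (nat_lit 0x7df7df7df7df7df7df7df7df09f7df05f7c0), nat_lit 3⟩, ⟨nat_lit 2, [nat_lit 1], (nat_lit 0x7c27df7c17df7df7df7df7df7df7df7c07df), nat_lit 3⟩, ⟨nat_lit 3, [nat_lit 0], (nat_lit 0x7df7df7df7df7df7df7df7df05f7df01f7df),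 nat_lit 2⟩],
  [⟨(unp (nat_lit 3) (nat_lit 0x16303)), (nat_lit 0x1406010060180601005018050080500c0501406014060100501405014050140401404010050140500c0401005018060140500c04008060100401806010050100501804010050180400c0501804014060100300c05010060180501805014040140501406010050140601804018060140501804014060100501005014060140600c0400c04010050180300c04010060180501405018040100301004018040140501c030140400c05008050100401005018060180300c0601405014050100201405014040140501805014050040401c050140601803014040180501805010050140601004014050100400c05010050140200c0400c06018040080401404010010140301404018060140300c060100301003010030100501005018040180201804010050140501401014030140201403010020100500c050100401804010000140300c04008050040301406014020080401005010030100500c00), [(nat_lit 169, nat_lit 0, []), (nat_lit 170, nat_lit 22, [nat_lit 22])]⟩]⟩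

noncomputable def ds8 : List Nd :=
  [d8_0, d8_1]

noncomputable def ks8 : List ℕ :=
  [nat_lit 1, nat_lit 133]

def kc8 : List (ℕ × ℕ) := [(0, 1), (1, 276), (133, 1771)]

theorem Rn9 : Nat.beq R9.length 42 = true := by decide +kernel

theorem Nn9 : Nat.beq N9.length 10 = true := by decide +kernel

theorem A8_p : actP 6 24 n8 35 = true := by decide +kernel

theorem A8_l_0 : rng (actL 6 24 n8 dom8 (2 * 10) us8) (nat_lit 0) (nat_lit 35) = true := by decide +kernel

theorem A8_r_0 : rng (fun i => relN 6 24 n8 (2 * 10) (nthD ([], nat_lit 0) R8 i)) (nat_lit 0) (nat_lit 32) = true := by decide +kernel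

theorem hr8 : relsOk mul one lc8 dom8 nodes8 1 (2 * 10) R9 sb8 1 rs8 = true := by decide +kernel

theorem hc8_0 : rng (chk mul one wf T8 lc8 (mapR (fun e => e.2.2) rs8) 1) (nat_lit 0) (nat_lit 182) = true := by decide +kernel

theorem AQ8_1_p : actP 10 276 q8_1 35 = true := by decide +kernel

theorem AQ8_1_l_0 : rng (actL 10 276 q8_1 dom8 (2 * 10) us8) (nat_lit 0) (nat_lit 35) = true := by decide +kernel

theorem AQ8_1_r_0 : rng (fun i => relN 10 276 q8_1 (2 * 10) (nthD ([], nat_lit 0) R8 i)) (nat_lit 0) (nat_lit 32) = true := by decide +kernel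

theorem la8 : ldA mul one T8 182 lc8 24 6 n8 ls8 1 = true := by decide +kernel

theorem lb8 : ldB 244823040 Qs8 ls8 1 = true := by decide +kernel

theorem na8_0 : rng (fun i => ndA mul one T8 182 lc8 24 6 n8 244823040 (nthD ⟨nat_lit 0, nat_lit 0, [], [], []⟩ ds8 i)) (nat_lit 0) (nat_lit 2) = true := by decide +kernel

theorem nb8_0 : rng (fun i => ndB mul one T8 182 lc8 ks8 Qs8 1 (nthD ⟨nat_lit 0, nat_lit 0, [], [], []⟩ ds8 i)) (nat_lit 0) (nat_lit 2) = true := by decide +kernel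

theorem dn8 : Nat.beq ds8.length 2 = true := by decide +kernel

theorem hk8 : ks8 = ds8.map Nd.k := by decide +kernel

theorem hkc8 : kc8 = (0, 1) :: ds8.map fun d => (d.k, d.c) := by decide +kernel

theorem lo8 : linkOk mul one T8 182 ks8 lk8 1 = true := by decide +kernel

theorem do8 : domOk dom8 [0, 1, 2, 3, 4, 5, 6, 7, 8] nodes8 1 R9 sb8 1 = true := by decide +kernel

theorem A8_l : ∀ i < 35, (actL 6 24 n8 dom8 (2 * 10) us8) i = true :=
  (rng_add rng_zero A8_l_0)

theorem A8_r : ∀ i < 32, (fun i => relN 6 24 n8 (2 * 10) (nthD ([], nat_lit 0) R8 i)) i = true :=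
  (rng_add rng_zero A8_r_0)

theorem hc8 : ∀ i < 182, (chk mul one wf T8 lc8 (mapR (fun e => e.2.2) rs8) 1) i = true :=
  (rng_add rng_zero hc8_0)

theorem AQ8_1_l : ∀ i < 35, (actL 10 276 q8_1 dom8 (2 * 10) us8) i = true :=
  (rng_add rng_zero AQ8_1_l_0)

theorem AQ8_1_r : ∀ i < 32, (fun i => relN 10 276 q8_1 (2 * 10) (nthD ([], nat_lit 0) R8 i)) i = true :=
  (rng_add rng_zero AQ8_1_r_0)

theorem na8 : ∀ i < 2, (fun i => ndA mul one T8 182 lc8 24 6 n8 244823040 (nthD ⟨nat_lit 0, nat_lit 0, [], [], []⟩ ds8 i)) i = true :=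
  (rng_add rng_zero na8_0)

theorem nb8 : ∀ i < 2, (fun i => ndB mul one T8 182 lc8 ks8 Qs8 1 (nthD ⟨nat_lit 0, nat_lit 0, [], [], []⟩ ds8 i)) i = true :=
  (rng_add rng_zero nb8_0)

section
universe u v
variable {R : Type v} {ι : Type} [CommRing R] [Fintype ι] [DecidableEq ι] (V : VCod R ι 12 12 app wfT) (h2 : V.mat one = 1)

theorem A8 : Act.{0} (((S V h2).sub (mdl (g V h2) dom8)).gen lc8) 24 6 n8 :=
  act_of_up (L8 V h2) (U8 V h2) A8_p A8_l (by decide) (allR Rn8 A8_r)

theorem AQ8_1 : Act.{0} (((S V h2).sub (mdl (g V h2) dom8)).gen lc8) 276 10 q8_1 :=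
  act_of_up (L8 V h2) (U8 V h2) AQ8_1_p AQ8_1_l (by decide) (allR Rn8 AQ8_1_r)

theorem C8 : Cert.{u} ((S V h2).sub (mdl (g V h2) dom8)) T8 182 (mgen (g V h2) dom8) dom8 [0, 1, 2, 3, 4, 5, 6, 7, 8] nodes8 1 (R8 ++ N9) kc8 :=
  have := fin8 V h2
  cert_of (L8 V h2) (card8 V h2).le (A8 V h2) (Qs := Qs8) (List.forall_mem_cons.2 ⟨AQ8_1 V h2, List.forall_mem_nil _⟩) hr8 hc8 la8 lb8 hk8 (allR dn8 na8) (allR dn8 nb8) lo8 do8 hkc8

end

def dom9 : List ℕ := [0, 1, 2, 3, 4, 5, 6, 7, 8]

noncomputable def us9 : List (List ℕ) :=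
  [(unp (nat_lit 5) (nat_lit 0xd5c1f005)), (unp (nat_lit 4) (nat_lit 0xbc8e705)), (unp (nat_lit 4) (nat_lit 0x53c704)), (unp (nat_lit 5) (nat_lit 0x5ab6b5a9607)), [nat_lit 20, nat_lit 23], (unp (nat_lit 5) (nat_lit 0x298a5f14c53140a)), (unp (nat_lit 5) (nat_lit 0xc5f14be29408)), (unp (nat_lit 5) (nat_lit 0x35ad6b5906)), (unp (nat_lit 5) (nat_lit 0x1adeb79d6f3a09)), (unp (nat_lit 5) (nat_lit 0x6b79de73a07)), (unp (nat_lit 5) (nat_lit 0x33bde75bdeb5b0a)), (unp (nat_lit 5) (nat_lit 0x1adef3bceb5b09))]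

noncomputable def lc9 : List ℕ :=
  [nthD one bc (nat_lit 0),
  nthD one bc (nat_lit 1),
  nthD one bc (nat_lit 2),
  nthD one bc (nat_lit 3),
  nthD one bc (nat_lit 4),
  nthD one bc (nat_lit 5),
  nthD one bc (nat_lit 6),
  nthD one bc (nat_lit 7),
  nthD one bc (nat_lit 8),
  nthD one bc (nat_lit 9),
  nthD one bc (nat_lit 10),
  nthD one bc (nat_lit 11),
  nthD one bc (nat_lit 12),
  nthD one bc (nat_lit 13),
  nthD one bc (nat_lit 14),
  nthD one bc (nat_lit 15),
  nthD one bc (nat_lit 16),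
  nthD one bc (nat_lit 17),
  one,
  one,
  (nat_lit 0x8000c453c0081ed4cf73012d3b90634c4001),
  (nat_lit 0x80079b5250475b33bc70124b15245a2274c1),
  (nat_lit 0x80045e54c2ab23829a2ae7660475bf4c6033),
  (nat_lit 0x8001412814c10580986c53ed3f53b91ef001),
  (nat_lit 0x8004c64d05e765b3790b84fd66917c505001),
  (nat_lit 0x8002495235a537979e7b33b90c42f0002001),
  (nat_lit 0x80040012622773045702350b49d53c002001),
  (nat_lit 0x8002490e40636c549d7b072b0bc1d2002001),
  (nat_lit 0x8006aa0ae3ac20804002029a02e004002001),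
  (nat_lit 0x8006aa31a0197123f528a52b42a004002001),
  (nat_lit 0x8004e61520d979613d28a5ef46e004002001),
  (nat_lit 0x8004c42a732e2082c82a8073227004002001)]

noncomputable def v9_0 : VL :=
  ⟨(nat_lit 2048), [[nat_lit 0], [nat_lit 2], [nat_lit 4], [nat_lit 6], [nat_lit 8], [nat_lit 10], [nat_lit 12], [nat_lit 14], [nat_lit 16]], nat_lit 4, [(nat_lit 0x679415679000978000097900097836006050000978240000900009087900009000630007056180000979000978000790078000703800840080604153600900280007900780007900380024030080604156379000090800079007800079007803567940000908000790078009080456027900973000090800867915678215679ff), (nat_lit 0x301804005023500040301536790000879800009009056796000067940000056793000792156720051800009000790000002360080003006150003015260237900000006023015679400000002456008279000005679800970000908790095600900924300000280007028004004356790090092800008790098009360000ff), (nat_lit 0x900008000097800856793000090800079007800950003530167900006796151670009000087900008000037800079007800908009400706301530090078000180084008351600908009080500530004035163790000800078008006023009080603021500040301516794000080080567900970000056796300009080090078ff),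 (nat_lit 0x900009087980007970095009300079200916000000400530080315679009600079240000679300000567900960094215000790000008053008008516008000780001800840080415000401516379000005679400000560279009700009087963000080056790007961530000879000080000978000780006300615300805167ff), (nat_lit 0x802152000301516794000090028009000902700728009007028008400602301567900009080056790091600950000908009007800908040356790097230000900032800009027900302005180007900280090240090060450230150007900097800908009400430153679000090800908009015679000792800009080090567ff), (nat_lit 0x97908009009053500900900235300079000790351630090038000097900097007004530009700751800800804030153000790078009003018008400835160090800005023006156400908000790800850003015361279000090800079000978000790078009080605023009080302150007900780007900301800630090ff), (nat_lit 0x9430000908067900079800079400079315300079000000078000180400807301530080080400835167900008008679000795300079152679000900009080090827900009000001560230060218000090003537900090370009700704530070518000790800153000027900097800079007018009002806008535160090028ff),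 (nat_lit 0x400009080000979080007904567900009067980097009400009080056790007980007962300009002800079000978009080400430040302156009063000040156279000090879000792800000040063002156794000000403015602793000005602792150000908790000900180600906023790007940000906790097000796ff), (nat_lit 0x879000090000097004002301563000097004005023002156021800009790009701800078008008015400800851260090000562800008790009700728000790001280007900324009060024009230090604030215009080090400905040230152600908500908237900009080000908790078000790800602300600804215679ff), (nat_lit 0x679153670009728070000979000900079000060000156379000000301567940000056027900079630000800078056790000879615678030160060240000900900900940000679000790091600079530090007961567900090000879000080080005163790000879400008000780080400930091567915678072300009000090ff), (nat_lit 0x7980097000090001567900956009400079230000000705628000097028000302002180024007060504008042300403004215603027900009000400415679009280000800078004030041567900980007950007920091600000040301567900079600079500079240000056027921500079000060083790007940007930000ff),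 (nat_lit 0x9790009780007900706050230060215005300030151679400009002800079000978009007018040090704023015679000080004030156790007936009009240000000730156792156790009000790000005160002800078008040008706007230060215000403015260085379000000070630061567940000000602156790ff), (nat_lit 0x790000800567900079000795600008067900965000080679009700962300009002600906279000790093009200079160093000027921567840000900009087900009000056380000903790009009053700097000970401530070518000790502300009067900700728000790078009036008064009070604351679000090800ff), (nat_lit 0x40070604150004015260090853790000908000790009780090078567940000900280007900097800908002456009082790097000090800560279600000040356795000090800079009040301560279230000908009056790000908005679600000567930007921560092378000090000879000080080050230051600080623ff), (nat_lit 0x798000090679600000567941530007900000007028008040043008041500040081523000780040043516008008056379000005005301679400000040080615600827900000567980094351600900009087900009000230180000900537900090090537007051800079000970280090604516009080090009780700900703807ff),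 (nat_lit 0x90000879000087900008000097800079007800904007301530090516009080090078009003800840080502300615637900008000780007800706023006004215036794000080007800804009060230090602156008279000005679800970000001567963000090800079007800079003800940090830090215005160279000ff), (nat_lit 0x800009780000b)], nat_lit 11, nat_lit 2048⟩

noncomputable def vl9 : List VL :=
  [v9_0]

theorem lco9 : lcOk mul one bc lc9 dom9 (2 * 10) us9 32 = true := by decide +kernel

theorem rc9_0 : rng (fun i => relC mul one bc (2 * 10) (nthD ([], nat_lit 0) N9 i)) (nat_lit 0) (nat_lit 10) = true := by decide +kernel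

theorem sm8 : Nat.beq ((kc8.map Prod.snd).sum * 244823040) 501397585920 = true := by decide +kernel

theorem vc9 : vchainOk (app 12 1) (wfT 12 1) mul one lc9 [] vl9 = true := by decide +kernel

theorem vf9 : band (allL (fun i => memL i dom9) dom8) (VCod.fixD (app 12 1) (wfT 12 1) one bc dom8 vl9) = true := by decide +kernel

theorem vp9 : (vl9.map VL.d).prod * 244823040 = 501397585920 := by decide +kernel

theorem rd9 : allL (fun r => allL (fun l => memL (Nat.shiftRight l (nat_lit 1)) dom9) r.1) (R8 ++ N9) = true := by decide +kernel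

theorem rc9 : ∀ i < 10, (fun i => relC mul one bc (2 * 10) (nthD ([], nat_lit 0) N9 i)) i = true :=
  (rng_add rng_zero rc9_0)

section
universe u v
variable {R : Type v} {ι : Type} [CommRing R] [Fintype ι] [DecidableEq ι] (V : VCod R ι 12 12 app wfT) (h2 : V.mat one = 1)

theorem L9 : Lc ((S V h2).sub (mdl (g V h2) dom9)) (mgen (g V h2) dom9) lc9 dom9 (2 * 10) us9 32 :=
  lc_of (S V h2) (h0 V h2) bco lco9

theorem rel9 : Rels R9 (g V h2) := (rel8 V h2).append ((S V h2).rels (h0 V h2) bco (allR Nn9 rc9))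

theorem le9 : Finite (mdl (g V h2) dom9) ∧ Nat.card (mdl (g V h2) dom9) ≤ 501397585920 :=
  have := fin8 V h2
  step_le (C8 V h2) (U8 V h2) (rel9 V h2) (card8 V h2) sm8

theorem fin9 : Finite (mdl (g V h2) dom9) := (le9 V h2).1

theorem card9 : Nat.card (mdl (g V h2) dom9) = 501397585920 := by
  have : Finite (mdl ((V.sem h1 h2).bg bc) dom9) := fin9 V h2
  have h := V.le_card_mdl h1 h2 (h0 V h2) (L9 V h2).ok vc9 vf9
  exact le_antisymm (le9 V h2).2 (le_trans (vp9.symm.trans (congrArg (HMul.hMul (vl9.map VL.d).prod) (card8 V h2).symm)).le h)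

theorem U9 : UP.{0} (mgen (g V h2) dom9) dom9 R9 :=
  have := fin8 V h2
  step_up (C8 V h2) (U8 V h2) (rel9 V h2) (card8 V h2) sm8 (card9 V h2) rd9

end

end H15.J4
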