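import Cfsg.Agent.H15.J4Ab

/-! The fourth Janko group: tower of enumerations. Enumeration 9. Checks. -/

set_option maxRecDepth 100000
set_option Elab.async false

namespace H15.J4
open H13

theorem Rn10 : Nat.beq R10.length 56 = true := by decide +kernel

theorem Nn10 : Nat.beq N10.length 14 = true := by decide +kernel

theorem A9_p : actP 13 2048 n9 32 = true := by decide +kernel

theorem A9_l_0 : rng (actL 13 2048 n9 dom9 (2 * 10) us9) (nat_lit 0) (nat_lit 32) = true := by decide +kernel

theorem A9_r_0 : rng (fun i => relN 13 2048 n9 (2 * 10) (nthD ([], nat_lit 0) R9 i)) (nat_lit 0) (nat_lit 42) = true := by decide +kernel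

theorem hr9 : relsOk mul one lc9 dom9 nodes9 1 (2 * 10) R10 sb9 1 rs9 = true := by decide +kernel

theorem hc9_0 : rng (chk mul one wf T9 lc9 (mapR (fun e => e.2.2) rs9) 1) (nat_lit 0) (nat_lit 1177) = true := by decide +kernel

theorem AQ9_1_p : actP 15 15180 q9_1 32 = true := by decide +kernel

theorem AQ9_1_l_0 : rng (actL 15 15180 q9_1 dom9 (2 * 10) us9) (nat_lit 0) (nat_lit 32) = true := by decide +kernel

theorem AQ9_1_r_0 : rng (fun i => relN 15 15180 q9_1 (2 * 10) (nthD ([], nat_lit 0) R9 i)) (nat_lit 0) (nat_lit 28) = true := by decide +kernel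

end H15.J4
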