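import Cfsg.Agent.H15.J4Ab

/-! The fourth Janko group: tower of enumerations. Enumeration 9. Checks. -/

set_option maxRecDepth 100000
set_option Elab.async false

namespace H15.J4
open H13

theorem AQ9_1_r_1 : rng (fun i => relN 15 15180 q9_1 (2 * 10) (nthD ([], nat_lit 0) R9 i)) (nat_lit 28) (nat_lit 14) = true := by decide +kernel

theorem la9 : ldA mul one T9 1177 lc9 2048 13 n9 ls9 1 = true := by decide +kernel

theorem lb9 : ldB 501397585920 Qs9 ls9 1 = true := by decide +kernel

theorem na9_0 : rng (fun i => ndA mul one T9 1177 lc9 2048 13 n9 501397585920 (nthD ⟨nat_lit 0, nat_lit 0, [], [], []⟩ ds9 i)) (nat_lit 0) (nat_lit 6) = true := by decide +kernel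

theorem nb9_0 : rng (fun i => ndB mul one T9 1177 lc9 ks9 Qs9 1 (nthD ⟨nat_lit 0, nat_lit 0, [], [], []⟩ ds9 i)) (nat_lit 0) (nat_lit 4) = true := by decide +kernel

theorem nb9_1 : rng (fun i => ndB mul one T9 1177 lc9 ks9 Qs9 1 (nthD ⟨nat_lit 0, nat_lit 0, [], [], []⟩ ds9 i)) (nat_lit 4) (nat_lit 2) = true := by decide +kernel

theorem dn9 : Nat.beq ds9.length 6 = true := by decide +kernel

theorem hk9 : ks9 = ds9.map Nd.k := by decide +kernel

theorem hkc9 : kc9 = (0, 1) :: ds9.map fun d => (d.k, d.c) := by decide +kernel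

theorem lo9 : linkOk mul one T9 1177 ks9 lk9 1 = true := by decide +kernel

theorem do9 : domOk dom9 [0, 1, 2, 3, 4, 5, 6, 7, 8, 9] nodes9 1 R10 sb9 1 = true := by decide +kernel

end H15.J4
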