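import Cfsg.Agent.H15.Prm

/-!
Tietze transformations and queries (namespace H15).
* `subG`, `expd` (new generators as words), `run`, `Rels.subst`, `Rels.tz` (cyclic rewriting proofs);
* `Rels.qry` (relators read off from a partial enumeration).
-/

namespace H15
open H13

variable {G : Type*} [Group G] {mul : ℕ → ℕ → ℕ} {one : ℕ} {wf : ℕ → Bool}

/-- generators given as words -/
noncomputable def subG (g : ℕ → G) (ws : List (List ℕ)) (i : ℕ) : G := evalW (sg g) (nthW ws i)

/-- replace the letters by their definitions -/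
noncomputable def expd (ws : List (List ℕ)) (u : List ℕ) : List ℕ :=
  List.rec [] (fun l _ ih => force l fun l => forceW (nthW ws (Nat.shiftRight l (nat_lit 1))) fun w =>
    aR (Bool.rec (invW w) w (Nat.beq (Nat.mod l (nat_lit 2)) (nat_lit 0))) ih) u

theorem evalW_expd (g : ℕ → G) (ws : List (List ℕ)) (u : List ℕ) :
    evalW (sg g) (expd ws u) = evalW (sg (subG g ws)) u := by
  induction u with
  | nil => rfl
  | cons l u ih =>
    have e : expd ws (l :: u) = forceW (nthW ws (l >>> 1)) fun w =>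
      aR (Bool.rec (invW w) w (Nat.beq (l % 2) 0)) (expd ws u) := rfl
    rw [e, forceW_eq, evalW_aR, ih, evalW_cons, Nat.shiftRight_one]
    congr 1
    unfold sg subG
    cases h : Nat.beq (l % 2) 0
    · rw [if_neg (Nat.ne_of_beq_eq_false h)]; exact evalW_invW _ _
    · rw [if_pos (Nat.eq_of_beq_eq_true h)]; rfl

/-- rotate the word, put a rotated relator in front, cancel -/
noncomputable def run (R : List (List ℕ × ℕ)) (st : List (ℕ × ℕ × ℕ × Bool)) : List ℕ → List ℕ :=
  List.rec (fun w => w) (fun s _ ih w => forceW (rot s.2.2.1 (pw (nthD ([], nat_lit 0) R s.2.1).1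
    (nthD ([], nat_lit 0) R s.2.1).2)) fun r => forceW (aR (Bool.rec r (invW r) s.2.2.2) (aR (rot s.1 w) [])) ih) st

theorem rot_iff {gen : ℕ → G} {u : List ℕ} (o : ℕ) : evalW gen (rot o u) = 1 ↔ evalW gen u = 1 := by
  conv_rhs => rw [← List.take_append_drop o u, evalW_append]
  rw [rot_eq, evalW_append, mul_eq_one_comm]

theorem Rels.run {R : List (List ℕ × ℕ)} {g : ℕ → G} (h : Rels R g) (st : List (ℕ × ℕ × ℕ × Bool)) (w : List ℕ) :
    evalW (sg g) (run R st w) = 1 ↔ evalW (sg g) w = 1 := by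
  induction st generalizing w with
  | nil => rfl
  | cons s st ih =>
    have a := evalW_rot ((evalW_pw _ _ _).trans (h.nth s.2.1)) s.2.2.1
    have e : H15.run R (s :: st) w = forceW _ fun r =>
      forceW (aR (Bool.rec r (invW r) s.2.2.2) (aR (rot s.1 w) [])) (H15.run R st) := rfl
    rw [e, forceW_eq, forceW_eq, ih, evalW_aR, evalW_aR, evalW_nil, mul_one, ← rot_iff s.1 (u := w)]
    cases s.2.2.2 <;> simp [a, evalW_invW]

/-- unpack steps -/
noncomputable def stps (u : List ℕ) : List (ℕ × ℕ × ℕ × Bool) :=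
  mapR (fun x => (Nat.land x (nat_lit 4095), Nat.land (Nat.shiftRight x (nat_lit 12)) (nat_lit 4095),
    Nat.land (Nat.shiftRight x (nat_lit 24)) (nat_lit 4095), Nat.beq (Nat.shiftRight x (nat_lit 36)) (nat_lit 1))) u

/-- relators in new generators -/
noncomputable def subAll (ws : List (List ℕ)) (R : List (List ℕ × ℕ)) (ns : List ((List ℕ × ℕ) × List ℕ)) : Bool :=
  allL (fun n => eqL (run R (stps n.2) (expd ws (pw n.1.1 n.1.2))) []) ns

theorem Rels.subst {R : List (List ℕ × ℕ)} {g : ℕ → G} (h : Rels R g) {ws : List (List ℕ)}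
    {ns : List ((List ℕ × ℕ) × List ℕ)} (e : subAll ws R ns = true) : Rels (mapR Prod.fst ns) (subG g ws) := by
  rw [mapR_eq]
  refine List.forall_mem_map.2 fun n hn => ?_
  rw [← evalW_pw, ← evalW_expd, ← h.run (stps n.2), eqL_iff.1 (allL_iff.1 e n hn)]; rfl

/-- new relators, built from the empty word -/
noncomputable def tzAll (ns : List ((List ℕ × ℕ) × List ℕ)) : List (List ℕ × ℕ) → Bool :=
  List.rec (fun _ => true) (fun n _ ih R => band (eqL (run R (stps n.2) []) (pw n.1.1 n.1.2)) (ih (apd R [n.1]))) ns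

theorem Rels.tz {R : List (List ℕ × ℕ)} {g : ℕ → G} (h : Rels R g) {ns : List ((List ℕ × ℕ) × List ℕ)}
    (e : tzAll ns R = true) : Rels (mapR Prod.fst ns) g := by
  induction ns generalizing R with
  | nil => exact fun _ h => nomatch h
  | cons n ns ih =>
    obtain ⟨a, b⟩ := band_eq_true.1 e
    have c : evalW (sg g) n.1.1 ^ n.1.2 = 1 := by rw [← evalW_pw, ← eqL_iff.1 a, h.run]; rfl
    exact List.forall_mem_cons.2 ⟨c, ih (apd_eq _ _ ▸ h.append (List.forall_mem_singleton.2 c)) b⟩

/-- the defining relators of the auxiliary generators -/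
noncomputable def qd (m : ℕ) (Q : List (List ℕ × ℕ)) : List (List ℕ × ℕ) :=
  (List.range Q.length).map fun a => ((2 * (m + a) + 1) :: nthW (flat Q) a, 1)

/-- the facts answering the queries -/
noncomputable def qOk (T : Tr) (n nn m : ℕ) (nodes fs : List ℕ) (k : ℕ) : Bool :=
  allLt (fun a => force (nthN fs a) fun i => band (Nat.blt i n) (band (Nat.beq (T.look i).j 0) (band (Nat.beq (T.look i).k 0)
    (band (Nat.beq (T.look i).t (T.look i).al) (band (Nat.ble (T.look i).l nn) (Nat.rec false (fun l _ =>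
      Nat.beq (nthD 0 nodes l) (2 * (m + a) + 1)) (T.look i).l)))))) k

theorem Rels.qry {M : Type*} [Group M] {S : Sem M mul one wf} {g0 : ℕ → M} {lc dom nodes fs : List ℕ} {m2 len nn n k m : ℕ}
    {us : List (List ℕ)} (L : Lc S g0 lc dom m2 us len) {R R' Q : List (List ℕ × ℕ)} (U : UP.{0} g0 dom R) {T : Tr}
    {sb : List (ℕ × ℕ × ℕ)} {rs : List (ℕ × ℕ × List (ℕ × ℕ))}
    (hr : relsOk mul one lc dom nodes nn m2 ((R ++ R') ++ qd m Q) sb k rs = true)
    (hc : ∀ i < n, chk mul one wf T lc (mapR (fun e => e.2.2) rs) nn i = true)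
    (hq : qOk T n nn m nodes fs Q.length = true)
    (hl : allL (fun r => allL (fun l => Nat.blt l (2 * m)) r.1) ((R ++ R') ++ Q) = true) {g : ℕ → G}
    (hR : Rels (R ++ R') g) : Rels Q g := by
  have hl' : ∀ r ∈ (R ++ R') ++ Q, ∀ l ∈ r.1, l < 2 * m := fun r a l b =>
    Nat.blt_eq.mp (allL_iff.1 (allL_iff.1 hl r a) l b)
  have p : ∀ (u : List ℕ) (e l : ℕ), l ∈ pw u e → l ∈ u := fun u e l => by
    induction e with
    | zero => exact fun h => nomatch h
    | succ e ih => exact fun h => (List.mem_append.1 (apd_eq u _ ▸ h)).elim id ih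
  have nq : ∀ a (ha : a < Q.length), nthW (H15.flat Q) a = pw Q[a].1 Q[a].2 := fun a ha => by
    rw [nthW_eq, H15.flat, mapR_eq, List.getD_eq_getElem _ _ (by simpa using ha), List.getElem_map]
  have E : Rels ((R ++ R') ++ qd m Q) (extG g m (H15.flat Q)) :=
    hR.ext ⟨fun r a => hl' r (List.mem_append_left _ a), fun a ha l b =>
      hl' _ (List.mem_append_right _ (List.getElem_mem ha)) l (p _ _ _ (nq a ha ▸ b))⟩
  obtain ⟨ψ, hψ⟩ := U.univ G _ E.left.left
  intro r hr'
  obtain ⟨a, ha, rfl⟩ := List.getElem_of_mem hr'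
  have q := allLt_iff.1 hq a ha
  simp only [force_eq, band_eq_true, Nat.blt_eq, Nat.beq_eq, Nat.ble_eq] at q
  obtain ⟨q1, q2, q3, q4, q5, q6⟩ := q
  have e := (holds_of L hr hc E hψ _ q1).e ((Wd_le (Nat.zero_le _)).trans rfl) q2
  rw [q3, Wd_le (Nat.zero_le _), Wd_le q5, q4] at e
  generalize (T.look (nthN fs a)).l = l at q6 e
  rcases l with _ | l
  · exact nomatch q6
  have f : sg (extG g m (H15.flat Q)) (nthD 0 nodes l) = 1 := mul_eq_right.1 ((mul_one _).symm.trans e).symm
  rwa [Nat.eq_of_beq_eq_true q6, sg_odd, inv_eq_one, extG, if_neg (by omega), Nat.add_sub_cancel_left, nq a ha,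
    evalW_pw] at f

theorem map_subG {G' : Type*} [Group G'] (φ : G →* G') (g : ℕ → G) (ws : List (List ℕ)) (i : ℕ) :
    φ (subG g ws i) = subG (fun i => φ (g i)) ws i :=
  (map_evalW' _ _ _).trans (congrArg (evalW · _) (funext (map_sg φ g)))

end H15
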