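import Cfsg.Agent.H15.J4Ae
import Cfsg.Agent.H15.Tz

/-! The fourth Janko group: tower of enumerations. Queries. -/

set_option maxRecDepth 100000
set_option Elab.async false

namespace H15.J4
open H13

noncomputable def qcN : List (List ℕ × ℕ) :=
  [([nat_lit 18], nat_lit 2),
  ((unp (nat_lit 5) (nat_lit 0x481204)), nat_lit 1),
  ((unp (nat_lit 5) (nat_lit 0x2489204)), nat_lit 1),
  ((unp (nat_lit 5) (nat_lit 0x348d204)), nat_lit 1),
  ((unp (nat_lit 5) (nat_lit 0x5495204)), nat_lit 1),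
  ((unp (nat_lit 5) (nat_lit 0x749d204)), nat_lit 1),
  ((unp (nat_lit 5) (nat_lit 0x118521185208)), nat_lit 1),
  ((unp (nat_lit 5) (nat_lit 0x4c00a42030520a)), nat_lit 1),
  ((unp (nat_lit 5) (nat_lit 0x10442988222482218a4111212)), nat_lit 1),
  ((unp (nat_lit 5) (nat_lit 0x10a6184e429802190652248519062018a438466291222)), nat_lit 1),
  ((unp (nat_lit 5) (nat_lit 0x4104a73142221520c)), nat_lit 3),
  ((unp (nat_lit 5) (nat_lit 0x41840411444314e2218a41244520405204c521cc22904132483010a1018a021cc5208238)), nat_lit 2),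
  ((unp (nat_lit 5) (nat_lit 0x441485220a5b0a)), nat_lit 1),
  ([nat_lit 26], nat_lit 2),
  ((unp (nat_lit 5) (nat_lit 0x681a04)), nat_lit 1),
  ((unp (nat_lit 5) (nat_lit 0x1685a04)), nat_lit 1),
  ((unp (nat_lit 5) (nat_lit 0x2689a04)), nat_lit 1),
  ((unp (nat_lit 5) (nat_lit 0x368da04)), nat_lit 1),
  ((unp (nat_lit 5) (nat_lit 0x5695a04)), nat_lit 1),
  ((unp (nat_lit 5) (nat_lit 0x6699a04)), nat_lit 1),
  ((unp (nat_lit 5) (nat_lit 0x769da04)), nat_lit 1),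
  ((unp (nat_lit 5) (nat_lit 0x4298e3208a600c83291a428c83018a220ce6291a20)), nat_lit 1),
  ((unp (nat_lit 5) (nat_lit 0xe6291a4298e6291a4299111)), nat_lit 1)]

noncomputable def qcQ : List (List ℕ × ℕ) :=
  [([nat_lit 16], nat_lit 2),
  ([nat_lit 16, nat_lit 0], nat_lit 2),
  ([nat_lit 16, nat_lit 2], nat_lit 2),
  ([nat_lit 16, nat_lit 4], nat_lit 2),
  ([nat_lit 16, nat_lit 6], nat_lit 2),
  ([nat_lit 16, nat_lit 8], nat_lit 2),
  ([nat_lit 16, nat_lit 10], nat_lit 2),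
  ([nat_lit 16, nat_lit 14], nat_lit 2),
  ((unp (nat_lit 5) (nat_lit 0x31d003)), nat_lit 3),
  ((unp (nat_lit 5) (nat_lit 0x1808228085304a701900f)), nat_lit 4),
  ([nat_lit 18, nat_lit 0], nat_lit 2),
  ([nat_lit 18, nat_lit 4], nat_lit 2),
  ([nat_lit 18, nat_lit 6], nat_lit 2),
  ([nat_lit 18, nat_lit 10], nat_lit 2),
  ([nat_lit 18, nat_lit 14], nat_lit 2),
  ((unp (nat_lit 5) (nat_lit 0x1185204)), nat_lit 2),
  ((unp (nat_lit 5) (nat_lit 0x1034a1205)), nat_lit 1),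
  ((unp (nat_lit 5) (nat_lit 0x485220a506394c8314e6088213)), nat_lit 1),
  ((unp (nat_lit 5) (nat_lit 0x126494c9298a09)), nat_lit 1)]

noncomputable def qcrs : List (ℕ × ℕ × List (ℕ × ℕ)) :=
  [(nat_lit 32, nat_lit 0, [(nat_lit 1, (nat_lit 0x800400200100080040020010008004002001)), (nat_lit 1, (nat_lit 0x800400200100080040020010008004002001))]),
  (nat_lit 33, nat_lit 3, [(nat_lit 1, (nat_lit 0x8001ed3ef1d208049054d12d4585bb5ef56c)), (nat_lit 1, (nat_lit 0x8001ed3ef1d208049054d12d4585bb5ef56c))]),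
  (nat_lit 34, nat_lit 3, [(nat_lit 1, (nat_lit 0x8004cb2086aa4d03797823e200845c4993f3)), (nat_lit 1, (nat_lit 0x8004cb2086aa4d03797823e200845c4993f3))]),
  (nat_lit 35, nat_lit 3, [(nat_lit 1, (nat_lit 0x8000e822e2891ef6604e62d87696245855a8)), (nat_lit 1, (nat_lit 0x8000e822e2891ef6604e62d87696245855a8))]),
  (nat_lit 36, nat_lit 3, [(nat_lit 1, (nat_lit 0x80065b22e28917c3d025524b1c30043bc391)), (nat_lit 1, (nat_lit 0x80065b22e28917c3d025524b1c30043bc391))]),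
  (nat_lit 37, nat_lit 3, [(nat_lit 1, (nat_lit 0x8005e77b012e7475f04772491c16243bc391)), (nat_lit 1, (nat_lit 0x8005e77b012e7475f04772491c16243bc391))]),
  (nat_lit 38, nat_lit 5, [(nat_lit 1, (nat_lit 0x80056d22e5b71ed12d4e406302616958505c)), (nat_lit 1, (nat_lit 0x80056d22e5b71ed12d4e406302616958505c))]),
  (nat_lit 39, nat_lit 6, [(nat_lit 1, (nat_lit 0x8000c178267827a38a72b0632815f51415f0)), (nat_lit 1, (nat_lit 0x8000c178267827a38a72b0632815f51415f0))]),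
  (nat_lit 40, nat_lit 10, [(nat_lit 1, (nat_lit 0x8005e73912b91805253ef01056d0a574f73a)), (nat_lit 1, (nat_lit 0x8000c47823b933932e3df0103665f0457512))]),
  (nat_lit 41, nat_lit 18, [(nat_lit 1, (nat_lit 0x8000d95f56b63ac3d76bc0c14cf2ce6aa22e)), (nat_lit 1, (nat_lit 0x80042a3913e313b69c7a27693795122597b7))]),
  (nat_lit 42, nat_lit 25, [(nat_lit 1, (nat_lit 0x80072b79e6dc4773e36a645c008620585168)), (nat_lit 1, (nat_lit 0x80072b79e6dc4773e36a645c008620585168)), (nat_lit 1, (nat_lit 0x80072b79e6dc4773e36a645c008620585168))]),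
  (nat_lit 43, nat_lit 94, [(nat_lit 1, (nat_lit 0x8006850ae2c869f0017823f918000251a2f0)), (nat_lit 1, (nat_lit 0x80016845c14336474751a0406075052464cb)), (nat_lit 1, (nat_lit 0x8006850ae2c869f0017823f918000251a2f0)), (nat_lit 1, (nat_lit 0x80016845c14336474751a0406075052464cb))]),
  (nat_lit 44, nat_lit 7, [(nat_lit 1, (nat_lit 0x8006782001c32a70930bc01004726c2b904e)), (nat_lit 1, (nat_lit 0x8006fc24749d45c3f55a53f20474d04c63ac)), (nat_lit 1, (nat_lit 0x800400200100080040020010008004002001)), (nat_lit 2, (nat_lit 0x80015e24745e0040c469c3f204f0803a73a4))]),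
  (nat_lit 45, nat_lit 0, [(nat_lit 2, (nat_lit 0x800400200100080040020010008004002001)), (nat_lit 2, (nat_lit 0x800400200100080040020010008004002001))]),
  (nat_lit 46, nat_lit 3, [(nat_lit 2, (nat_lit 0x8001ed3ef1d208049054d12d4585bb5ef56c)), (nat_lit 2, (nat_lit 0x8001ed3ef1d208049054d12d4585bb5ef56c))]),
  (nat_lit 47, nat_lit 3, [(nat_lit 2, (nat_lit 0x8006782001c32a70930bc01004726c2b904e)), (nat_lit 2, (nat_lit 0x8006782001c32a70930bc01004726c2b904e))]),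
  (nat_lit 48, nat_lit 3, [(nat_lit 2, (nat_lit 0x8004cb2086aa4d03797823e200845c4993f3)), (nat_lit 2, (nat_lit 0x8004cb2086aa4d03797823e200845c4993f3))]),
  (nat_lit 49, nat_lit 3, [(nat_lit 2, (nat_lit 0x8000e822e2891ef6604e62d87696245855a8)), (nat_lit 2, (nat_lit 0x8000e822e2891ef6604e62d87696245855a8))]),
  (nat_lit 50, nat_lit 3, [(nat_lit 2, (nat_lit 0x80065b22e28917c3d025524b1c30043bc391)), (nat_lit 2, (nat_lit 0x80065b22e28917c3d025524b1c30043bc391))]),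
  (nat_lit 51, nat_lit 3, [(nat_lit 2, (nat_lit 0x8005415253b41ef2f472b28a5993df143001)), (nat_lit 2, (nat_lit 0x8005415253b41ef2f472b28a5993df143001))]),
  (nat_lit 52, nat_lit 3, [(nat_lit 2, (nat_lit 0x8005e77b012e7475f04772491c16243bc391)), (nat_lit 2, (nat_lit 0x8005e77b012e7475f04772491c16243bc391))]),
  (nat_lit 53, nat_lit 17, [(nat_lit 2, (nat_lit 0x8002b55547825a53d01c14e351a0044c61d7)), (nat_lit 2, (nat_lit 0x8002b55547825a53d01c14e351a0044c61d7))]),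
  (nat_lit 55, nat_lit 29, [(nat_lit 2, (nat_lit 0x80042a22e0ae12e39f02024b3f90043f31ab)), (nat_lit 2, (nat_lit 0x80042a22e0ae12e39f02024b3f90043f31ab)), (nat_lit 2, (nat_lit 0x80042a22e0ae12e39f02024b3f90043f31ab)), (nat_lit 2, (nat_lit 0x80054752517c52b0c10a130a0262592f03d1)), (nat_lit 3, (nat_lit 0x80051a79e3b91c109132e6133d756c5bb2cf))]),
  (nat_lit 56, nat_lit 30, [(nat_lit 2, (nat_lit 0x80042a22e0ae12e39f02024b3f90043f31ab)), (nat_lit 2, (nat_lit 0x8006733ef39f04e0ae02038a1a825523a29a)), (nat_lit 2, (nat_lit 0x80042a22e0ae12e39f02024b3f90043f31ab)), (nat_lit 2, (nat_lit 0x80054752517c52b0c10a130a0262592f03d1)), (nat_lit 4, (nat_lit 0x8005b37961411c12c82464e304f6fc5123a7))]),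
  (nat_lit 57, nat_lit 30, [(nat_lit 2, (nat_lit 0x80042a22e0ae12e39f02024b3f90043f31ab)), (nat_lit 2, (nat_lit 0x8002b522e17c04745e6bf2f02a703340504e)), (nat_lit 2, (nat_lit 0x80042a22e0ae12e39f02024b3f90043f31ab)), (nat_lit 2, (nat_lit 0x80054752517c52b0c10a130a0262592f03d1)), (nat_lit 5, (nat_lit 0x8004ff79e59d7690a624761328929a27a391))]),
  (nat_lit 58, nat_lit 30, [(nat_lit 2, (nat_lit 0x80042a22e0ae12e39f02024b3f90043f31ab)), (nat_lit 2, (nat_lit 0x8007b01b46c54905f40202493b43d1026458)), (nat_lit 2, (nat_lit 0x80042a22e0ae12e39f02024b3f90043f31ab)), (nat_lit 2, (nat_lit 0x80054752517c52b0c10a130a0262592f03d1)), (nat_lit 6, (nat_lit 0x8000e94496072590935473e23d75233d073e))]),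
  (nat_lit 59, nat_lit 30, [(nat_lit 2, (nat_lit 0x80042a22e0ae12e39f02024b3f90043f31ab)), (nat_lit 2, (nat_lit 0x80044920059959d6a80203ac3b418023a555)), (nat_lit 2, (nat_lit 0x80042a22e0ae12e39f02024b3f90043f31ab)), (nat_lit 2, (nat_lit 0x80054752517c52b0c10a130a0262592f03d1)), (nat_lit 7, (nat_lit 0x8001a97b074700813b7b330a39a4c60c179b))]),
  (nat_lit 60, nat_lit 30, [(nat_lit 2, (nat_lit 0x80042a22e0ae12e39f02024b3f90043f31ab)), (nat_lit 2, (nat_lit 0x8006712001522a727a25501004700423804e)), (nat_lit 2, (nat_lit 0x80042a22e0ae12e39f02024b3f90043f31ab)), (nat_lit 2, (nat_lit 0x80054752517c52b0c10a130a0262592f03d1)), (nat_lit 8, (nat_lit 0x8004e67b03973b40a608961306949045e168))]),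
  (nat_lit 61, nat_lit 30, [(nat_lit 2, (nat_lit 0x80042a22e0ae12e39f02024b3f90043f31ab)), (nat_lit 2, (nat_lit 0x8006b050b1c139a2f072b30a5b33df1691ab)), (nat_lit 2, (nat_lit 0x80042a22e0ae12e39f02024b3f90043f31ab)), (nat_lit 2, (nat_lit 0x80054752517c52b0c10a130a0262592f03d1)), (nat_lit 9, (nat_lit 0x8000a57b07470ae3646bf3ac59d56c66013a))]),
  (nat_lit 62, nat_lit 30, [(nat_lit 2, (nat_lit 0x80042a22e0ae12e39f02024b3f90043f31ab)), (nat_lit 2, (nat_lit 0x800400200100080040020010008004002001)), (nat_lit 2, (nat_lit 0x80042a22e0ae12e39f02024b3f90043f31ab)), (nat_lit 2, (nat_lit 0x80054752517c52b0c10a130a0262592f03d1)), (nat_lit 10, (nat_lit 0x8006c55c13973b42ce2ae6170264c666013a))]),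
  (nat_lit 63, nat_lit 49, [(nat_lit 2, (nat_lit 0x80042a22e0ae12e39f02024b3f90043f31ab)), (nat_lit 2, (nat_lit 0x8002475c17470ae6077820731c362004f1a9)), (nat_lit 2, (nat_lit 0x80042a22e0ae12e39f02024b3f90043f31ab)), (nat_lit 2, (nat_lit 0x8002475c17470ae6077820731c362004f1a9)), (nat_lit 2, (nat_lit 0x80042a22e0ae12e39f02024b3f90043f31ab)), (nat_lit 2, (nat_lit 0x80054752517c52b0c10a130a0262592f03d1)), (nat_lit 11, (nat_lit 0x8006a620059d3f94c45410331ed28160313a))]),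
  (nat_lit 64, nat_lit 103, [(nat_lit 2, (nat_lit 0x80042a22e0ae12e39f02024b3f90043f31ab)), (nat_lit 2, (nat_lit 0x8004e60982d86e20581c12f97a239f1ab4f3)), (nat_lit 2, (nat_lit 0x80042a22e0ae12e39f02024b3f90043f31ab)), (nat_lit 2, (nat_lit 0x8004e60982d86e20581c12f97a239f1ab4f3)), (nat_lit 2, (nat_lit 0x80042a22e0ae12e39f02024b3f90043f31ab)), (nat_lit 2, (nat_lit 0x8004e60982d86e20581c12f97a239f1ab4f3)), (nat_lit 2, (nat_lit 0x80042a22e0ae12e39f02024b3f90043f31ab)), (nat_lit 2, (nat_lit 0x80054752517c52b0c10a130a0262592f03d1)), (nat_lit 12, (nat_lit 0x8005a847709c4053b422d0403f50685e77e9))]),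
  (nat_lit 65, nat_lit 4, [(nat_lit 1, (nat_lit 0x8001ed3ef1d208049054d12d4585bb5ef56c)), (nat_lit 1, (nat_lit 0x800400200100080040020010008004002001)), (nat_lit 13, (nat_lit 0x8001ed3ef1d208049054d12d4585bb5ef56c))]),
  (nat_lit 66, nat_lit 4, [(nat_lit 1, (nat_lit 0x8004cb2086aa4d03797823e200845c4993f3)), (nat_lit 1, (nat_lit 0x800400200100080040020010008004002001)), (nat_lit 14, (nat_lit 0x8004cb2086aa4d03797823e200845c4993f3))]),
  (nat_lit 67, nat_lit 4, [(nat_lit 1, (nat_lit 0x8000e822e2891ef6604e62d87696245855a8)), (nat_lit 1, (nat_lit 0x800400200100080040020010008004002001)), (nat_lit 15, (nat_lit 0x8000e822e2891ef6604e62d87696245855a8))]),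
  (nat_lit 68, nat_lit 4, [(nat_lit 1, (nat_lit 0x80065b22e28917c3d025524b1c30043bc391)), (nat_lit 1, (nat_lit 0x800400200100080040020010008004002001)), (nat_lit 16, (nat_lit 0x80065b22e28917c3d025524b1c30043bc391))]),
  (nat_lit 69, nat_lit 4, [(nat_lit 1, (nat_lit 0x8005e77b012e7475f04772491c16243bc391)), (nat_lit 1, (nat_lit 0x800400200100080040020010008004002001)), (nat_lit 17, (nat_lit 0x8005e77b012e7475f04772491c16243bc391))]),
  (nat_lit 70, nat_lit 6, [(nat_lit 1, (nat_lit 0x80056d22e5b71ed12d4e406302616958505c)), (nat_lit 1, (nat_lit 0x800400200100080040020010008004002001)), (nat_lit 18, (nat_lit 0x80056d22e5b71ed12d4e406302616958505c))]),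
  (nat_lit 71, nat_lit 32, [(nat_lit 2, (nat_lit 0x80042a22e0ae12e39f02024b3f90043f31ab)), (nat_lit 2, (nat_lit 0x80020850b39a1c32270a124b74745739f058)), (nat_lit 1, (nat_lit 0x80051a79e3b91c109132e6133d756c5bb2cf)), (nat_lit 2, (nat_lit 0x80042a22e0ae12e39f02024b3f90043f31ab)), (nat_lit 2, (nat_lit 0x80054752517c52b0c10a130a0262592f03d1)), (nat_lit 1, (nat_lit 0x800400200100080040020010008004002001)), (nat_lit 19, (nat_lit 0x80051a79e3b91c109132e6133d756c5bb2cf))]),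
  (nat_lit 72, nat_lit 0, [(nat_lit 1, (nat_lit 0x8006782001c32a70930bc01004726c2b904e)), (nat_lit 1, (nat_lit 0x8006fc24749d45c3f55a53f20474d04c63ac)), (nat_lit 1, (nat_lit 0x80051a79e3b91c109132e6133d756c5bb2cf)), (nat_lit 2, (nat_lit 0x80042a22e0ae12e39f02024b3f90043f31ab)), (nat_lit 2, (nat_lit 0x8006dc5c15b70081692b561739a141040701)), (nat_lit 2, (nat_lit 0x80042a22e0ae12e39f02024b3f90043f31ab)), (nat_lit 2, (nat_lit 0x80051a22d3f32ce33922e1682f44cb1e524b)), (nat_lit 20, (nat_lit 0x800400200100080040020010008004002001))]),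
  (nat_lit 73, nat_lit 0, [(nat_lit 1, (nat_lit 0x8005415253b41ef2f472b28a5993df143001)), (nat_lit 1, (nat_lit 0x8004c150b1522a770068530a1ed3df4995f5)), (nat_lit 1, (nat_lit 0x80076653c0ae12e6fc69c2d80261aa73e5f5)), (nat_lit 21, (nat_lit 0x800400200100080040020010008004002001))])]

noncomputable def qcT_0 : Tr :=
  (.nd (nat_lit 20) (.nd (nat_lit 10) (.nd (nat_lit 5) (.nd (nat_lit 2) (.nd (nat_lit 1) (.lf ⟨nat_lit 0, nat_lit 0, nat_lit 0, one, one, one, .triv⟩)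
 (.lf ⟨nat_lit 0, nat_lit 0, nat_lit 0, one, one, one, .triv⟩))
 (.nd (nat_lit 3) (.lf ⟨nat_lit 0, nat_lit 0, nat_lit 0, one, one, one, .triv⟩)
 (.nd (nat_lit 4) (.lf ⟨nat_lit 0, nat_lit 0, nat_lit 0, one, one, one, .triv⟩)
 (.lf ⟨nat_lit 0, nat_lit 0, nat_lit 0, one, one, one, .triv⟩))))
 (.nd (nat_lit 7) (.nd (nat_lit 6) (.lf ⟨nat_lit 0, nat_lit 0, nat_lit 0, one, one, one, .triv⟩)
 (.lf ⟨nat_lit 0, nat_lit 0, nat_lit 0, one, one, one, .triv⟩))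
 (.nd (nat_lit 8) (.lf ⟨nat_lit 0, nat_lit 0, nat_lit 0, one, one, one, .triv⟩)
 (.nd (nat_lit 9) (.lf ⟨nat_lit 0, nat_lit 0, nat_lit 0, one, one, one, .triv⟩)
 (.lf ⟨nat_lit 0, nat_lit 0, nat_lit 0, one, one, one, .triv⟩)))))
 (.nd (nat_lit 15) (.nd (nat_lit 12) (.nd (nat_lit 11) (.lf ⟨nat_lit 0, nat_lit 0, nat_lit 0, one, one, one, .triv⟩)
 (.lf ⟨nat_lit 0, nat_lit 0, nat_lit 0, one, one, one, .triv⟩))
 (.nd (nat_lit 13) (.lf ⟨nat_lit 0, nat_lit 0, nat_lit 0, one, one, one, .triv⟩)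
 (.nd (nat_lit 14) (.lf ⟨nat_lit 0, nat_lit 0, nat_lit 0, one, one, one, .triv⟩)
 (.lf ⟨nat_lit 0, nat_lit 0, nat_lit 0, one, one, one, .triv⟩))))
 (.nd (nat_lit 17) (.nd (nat_lit 16) (.lf ⟨nat_lit 0, nat_lit 0, nat_lit 0, one, one, one, .triv⟩)
 (.lf ⟨nat_lit 0, nat_lit 0, nat_lit 0, one, one, one, .triv⟩))
 (.nd (nat_lit 18) (.lf ⟨nat_lit 0, nat_lit 0, nat_lit 0, one, one, one, .triv⟩)
 (.nd (nat_lit 19) (.lf ⟨nat_lit 0, nat_lit 0, nat_lit 0, one, one, one, .triv⟩)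
 (.lf ⟨nat_lit 0, nat_lit 0, nat_lit 0, one, one, one, .triv⟩))))))
 (.nd (nat_lit 30) (.nd (nat_lit 25) (.nd (nat_lit 22) (.nd (nat_lit 21) (.lf ⟨nat_lit 0, nat_lit 0, nat_lit 0, one, one, one, .triv⟩)
 (.lf ⟨nat_lit 0, nat_lit 0, nat_lit 0, one, one, one, .triv⟩))
 (.nd (nat_lit 23) (.lf ⟨nat_lit 1, nat_lit 1, nat_lit 0, (nat_lit 0x8001ed3ef1d208049054d12d4585bb5ef56c), (nat_lit 0x8001ed3ef1d208049054d12d4585bb5ef56c), one, (.wt (nat_lit 1) (nat_lit 0) one (.sp .nil) [] [])⟩)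
 (.nd (nat_lit 24) (.lf ⟨nat_lit 0, nat_lit 1, nat_lit 1, (nat_lit 0x8001ed3ef1d208049054d12d4585bb5ef56c), one, (nat_lit 0x8001ed3ef1d208049054d12d4585bb5ef56c), (.we (nat_lit 0) (nat_lit 1) (nat_lit 0x8001ed3ef1d208049054d12d4585bb5ef56c) (.st (nat_lit 22) [] [] (.sp .nil)))⟩)
 (.lf ⟨nat_lit 1, nat_lit 1, nat_lit 0, (nat_lit 0x8004cb2086aa4d03797823e200845c4993f3), (nat_lit 0x8004cb2086aa4d03797823e200845c4993f3), one, (.wt (nat_lit 2) (nat_lit 0) one (.sp .nil) [] [])⟩))))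
 (.nd (nat_lit 27) (.nd (nat_lit 26) (.lf ⟨nat_lit 0, nat_lit 1, nat_lit 1, (nat_lit 0x8004cb2086aa4d03797823e200845c4993f3), one, (nat_lit 0x8004cb2086aa4d03797823e200845c4993f3), (.we (nat_lit 0) (nat_lit 1) (nat_lit 0x8004cb2086aa4d03797823e200845c4993f3) (.st (nat_lit 24) [] [] (.sp .nil)))⟩)
 (.lf ⟨nat_lit 0, nat_lit 1, nat_lit 1, (nat_lit 0x8001267b76784d03f96bf68f4585b31742ce), one, (nat_lit 0x8001267b76784d03f96bf68f4585b31742ce), (.prod [nat_lit 23, nat_lit 25])⟩))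
 (.nd (nat_lit 28) (.lf ⟨nat_lit 0, nat_lit 1, nat_lit 1, (nat_lit 0x8001267b76784d03f96bf68f4585b31742ce), one, (nat_lit 0x8001267b76784d03f96bf68f4585b31742ce), (.prod [nat_lit 23, nat_lit 25])⟩)
 (.nd (nat_lit 29) (.lf ⟨nat_lit 1, nat_lit 1, nat_lit 0, (nat_lit 0x8000e822e2891ef6604e62d87696245855a8), (nat_lit 0x8000e822e2891ef6604e62d87696245855a8), one, (.wt (nat_lit 3) (nat_lit 0) one (.sp .nil) [] [])⟩)
 (.lf ⟨nat_lit 0, nat_lit 1, nat_lit 1, (nat_lit 0x8000e822e2891ef6604e62d87696245855a8), one, (nat_lit 0x8000e822e2891ef6604e62d87696245855a8), (.we (nat_lit 0) (nat_lit 1) (nat_lit 0x8000e822e2891ef6604e62d87696245855a8) (.st (nat_lit 28) [] [] (.sp .nil)))⟩)))))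
 (.nd (nat_lit 35) (.nd (nat_lit 32) (.nd (nat_lit 31) (.lf ⟨nat_lit 0, nat_lit 1, nat_lit 1, (nat_lit 0x8005052ae25b1ef3df0e428a3392f40681aa), one, (nat_lit 0x8005052ae25b1ef3df0e428a3392f40681aa), (.prod [nat_lit 23, nat_lit 29])⟩)
 (.lf ⟨nat_lit 0, nat_lit 1, nat_lit 1, (nat_lit 0x8000235475235bf23842564b76951d11e13b), one, (nat_lit 0x8000235475235bf23842564b76951d11e13b), (.prod [nat_lit 25, nat_lit 29])⟩))
 (.nd (nat_lit 33) (.lf ⟨nat_lit 0, nat_lit 1, nat_lit 1, (nat_lit 0x8005ce1975f15bf3d747724933959d4f3169), one, (nat_lit 0x8005ce1975f15bf3d747724933959d4f3169), (.prod [nat_lit 26, nat_lit 29])⟩)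
 (.nd (nat_lit 34) (.lf ⟨nat_lit 0, nat_lit 1, nat_lit 1, (nat_lit 0x8005052ae25b1ef3df0e428a3392f40681aa), one, (nat_lit 0x8005052ae25b1ef3df0e428a3392f40681aa), (.prod [nat_lit 23, nat_lit 29])⟩)
 (.lf ⟨nat_lit 0, nat_lit 1, nat_lit 1, (nat_lit 0x8000235475235bf23842564b76951d11e13b), one, (nat_lit 0x8000235475235bf23842564b76951d11e13b), (.prod [nat_lit 25, nat_lit 29])⟩))))
 (.nd (nat_lit 38) (.nd (nat_lit 36) (.lf ⟨nat_lit 0, nat_lit 1, nat_lit 1, (nat_lit 0x8005ce1975f15bf3d747724933959d4f3169), one, (nat_lit 0x8005ce1975f15bf3d747724933959d4f3169), (.prod [nat_lit 27, nat_lit 29])⟩)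
 (.nd (nat_lit 37) (.lf ⟨nat_lit 1, nat_lit 1, nat_lit 0, (nat_lit 0x80065b22e28917c3d025524b1c30043bc391), (nat_lit 0x80065b22e28917c3d025524b1c30043bc391), one, (.wt (nat_lit 4) (nat_lit 0) one (.sp .nil) [] [])⟩)
 (.lf ⟨nat_lit 0, nat_lit 1, nat_lit 1, (nat_lit 0x80065b22e28917c3d025524b1c30043bc391), one, (nat_lit 0x80065b22e28917c3d025524b1c30043bc391), (.we (nat_lit 0) (nat_lit 1) (nat_lit 0x80065b22e28917c3d025524b1c30043bc391) (.st (nat_lit 36) [] [] (.sp .nil)))⟩)))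
 (.nd (nat_lit 39) (.lf ⟨nat_lit 0, nat_lit 1, nat_lit 1, (nat_lit 0x8000261b41d217c56c55428a60345e5c1490), one, (nat_lit 0x8000261b41d217c56c55428a60345e5c1490), (.prod [nat_lit 23, nat_lit 37])⟩)
 (.nd (nat_lit 40) (.lf ⟨nat_lit 0, nat_lit 1, nat_lit 1, (nat_lit 0x8005193ed5236bc13b43c3e21c360773e238), one, (nat_lit 0x8005193ed5236bc13b43c3e21c360773e238), (.prod [nat_lit 25, nat_lit 37])⟩)
 (.lf ⟨nat_lit 0, nat_lit 1, nat_lit 1, (nat_lit 0x80074737c25b39a1aa0fd12d2eb0980463df), one, (nat_lit 0x80074737c25b39a1aa0fd12d2eb0980463df), (.prod [nat_lit 30, nat_lit 37])⟩)))))))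

noncomputable def qcT_41 : Tr :=
  (.nd (nat_lit 61) (.nd (nat_lit 51) (.nd (nat_lit 46) (.nd (nat_lit 43) (.nd (nat_lit 42) (.lf ⟨nat_lit 0, nat_lit 1, nat_lit 1, (nat_lit 0x80027872b6aa45a3f379b64b52b4cf2b9379), one, (nat_lit 0x80027872b6aa45a3f379b64b52b4cf2b9379), (.prod [nat_lit 31, nat_lit 37])⟩)
 (.lf ⟨nat_lit 0, nat_lit 1, nat_lit 1, (nat_lit 0x8005190891000c10010392d828105c143040), one, (nat_lit 0x8005190891000c10010392d828105c143040), (.prod [nat_lit 38, nat_lit 23])⟩))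
 (.nd (nat_lit 44) (.lf ⟨nat_lit 0, nat_lit 1, nat_lit 1, (nat_lit 0x8007472466785e72ce6a62491a949d63b3f9), one, (nat_lit 0x8007472466785e72ce6a62491a949d63b3f9), (.prod [nat_lit 38, nat_lit 25])⟩)
 (.nd (nat_lit 45) (.lf ⟨nat_lit 0, nat_lit 1, nat_lit 1, (nat_lit 0x8000267ef5f170116946e68f54173a3bc3d7), one, (nat_lit 0x8000267ef5f170116946e68f54173a3bc3d7), (.prod [nat_lit 39, nat_lit 23])⟩)
 (.lf ⟨nat_lit 0, nat_lit 1, nat_lit 1, (nat_lit 0x80027832e2892275a84ff0106695f54c4660), one, (nat_lit 0x80027832e2892275a84ff0106695f54c4660), (.prod [nat_lit 39, nat_lit 25])⟩))))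
 (.nd (nat_lit 48) (.nd (nat_lit 47) (.lf ⟨nat_lit 0, nat_lit 1, nat_lit 1, (nat_lit 0x8000261b41d217c56c55428a60345e5c1490), one, (nat_lit 0x8000261b41d217c56c55428a60345e5c1490), (.prod [nat_lit 23, nat_lit 37])⟩)
 (.lf ⟨nat_lit 0, nat_lit 1, nat_lit 1, (nat_lit 0x8005193ed5236bc13b43c3e21c360773e238), one, (nat_lit 0x8005193ed5236bc13b43c3e21c360773e238), (.prod [nat_lit 25, nat_lit 37])⟩))
 (.nd (nat_lit 49) (.lf ⟨nat_lit 0, nat_lit 1, nat_lit 1, (nat_lit 0x80074737c25b39a1aa0fd12d2eb0980463df), one, (nat_lit 0x80074737c25b39a1aa0fd12d2eb0980463df), (.prod [nat_lit 33, nat_lit 37])⟩)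
 (.nd (nat_lit 50) (.lf ⟨nat_lit 0, nat_lit 1, nat_lit 1, (nat_lit 0x80027872b6aa45a3f379b64b52b4cf2b9379), one, (nat_lit 0x80027872b6aa45a3f379b64b52b4cf2b9379), (.prod [nat_lit 34, nat_lit 37])⟩)
 (.lf ⟨nat_lit 0, nat_lit 1, nat_lit 1, (nat_lit 0x8005190891000c10010392d828105c143040), one, (nat_lit 0x8005190891000c10010392d828105c143040), (.prod [nat_lit 46, nat_lit 23])⟩)))))
 (.nd (nat_lit 56) (.nd (nat_lit 53) (.nd (nat_lit 52) (.lf ⟨nat_lit 0, nat_lit 1, nat_lit 1, (nat_lit 0x8007472466785e72ce6a62491a949d63b3f9), one, (nat_lit 0x8007472466785e72ce6a62491a949d63b3f9), (.prod [nat_lit 46, nat_lit 25])⟩)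
 (.lf ⟨nat_lit 0, nat_lit 1, nat_lit 1, (nat_lit 0x8000267ef5f170116946e68f54173a3bc3d7), one, (nat_lit 0x8000267ef5f170116946e68f54173a3bc3d7), (.prod [nat_lit 47, nat_lit 23])⟩))
 (.nd (nat_lit 54) (.lf ⟨nat_lit 0, nat_lit 1, nat_lit 1, (nat_lit 0x80027832e2892275a84ff0106695f54c4660), one, (nat_lit 0x80027832e2892275a84ff0106695f54c4660), (.prod [nat_lit 47, nat_lit 25])⟩)
 (.nd (nat_lit 55) (.lf ⟨nat_lit 1, nat_lit 1, nat_lit 0, (nat_lit 0x8005e77b012e7475f04772491c16243bc391), (nat_lit 0x8005e77b012e7475f04772491c16243bc391), one, (.wt (nat_lit 5) (nat_lit 0) one (.sp .nil) [] [])⟩)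
 (.lf ⟨nat_lit 0, nat_lit 1, nat_lit 1, (nat_lit 0x8005e77b012e7475f04772491c16243bc391), one, (nat_lit 0x8005e77b012e7475f04772491c16243bc391), (.we (nat_lit 0) (nat_lit 1) (nat_lit 0x8005e77b012e7475f04772491c16243bc391) (.st (nat_lit 54) [] [] (.sp .nil)))⟩))))
 (.nd (nat_lit 58) (.nd (nat_lit 57) (.lf ⟨nat_lit 0, nat_lit 1, nat_lit 1, (nat_lit 0x80040279e2a75056605bc3ac3b4624002001), one, (nat_lit 0x80040279e2a75056605bc3ac3b4624002001), (.prod [nat_lit 37, nat_lit 55])⟩)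
 (.lf ⟨nat_lit 0, nat_lit 1, nat_lit 1, (nat_lit 0x80040279e2a75056605bc3ac3b4624002001), one, (nat_lit 0x80040279e2a75056605bc3ac3b4624002001), (.prod [nat_lit 37, nat_lit 55])⟩))
 (.nd (nat_lit 59) (.lf ⟨nat_lit 1, nat_lit 1, nat_lit 0, (nat_lit 0x80056d22e5b71ed12d4e406302616958505c), (nat_lit 0x80056d22e5b71ed12d4e406302616958505c), one, (.wt (nat_lit 6) (nat_lit 0) one (.sp .nil) [] [])⟩)
 (.nd (nat_lit 60) (.lf ⟨nat_lit 0, nat_lit 1, nat_lit 1, (nat_lit 0x80056d22e5b71ed12d4e406302616958505c), one, (nat_lit 0x80056d22e5b71ed12d4e406302616958505c), (.we (nat_lit 0) (nat_lit 1) (nat_lit 0x80056d22e5b71ed12d4e406302616958505c) (.st (nat_lit 58) [] [] (.sp .nil)))⟩)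
 (.lf ⟨nat_lit 0, nat_lit 1, nat_lit 1, (nat_lit 0x8000e822e2891ef6604e62d87696245855a8), one, (nat_lit 0x8000e822e2891ef6604e62d87696245855a8), (.inv (nat_lit 29))⟩))))))
 (.nd (nat_lit 71) (.nd (nat_lit 66) (.nd (nat_lit 63) (.nd (nat_lit 62) (.lf ⟨nat_lit 0, nat_lit 1, nat_lit 1, (nat_lit 0x80040279e2a75056605bc3ac3b4624002001), one, (nat_lit 0x80040279e2a75056605bc3ac3b4624002001), (.inv (nat_lit 56))⟩)
 (.lf ⟨nat_lit 0, nat_lit 1, nat_lit 1, (nat_lit 0x80040079e59908012d03949017c1690025f5), one, (nat_lit 0x80040079e59908012d03949017c1690025f5), (.prod (unp (nat_lit 6) (nat_lit 0x3df3b03)))⟩))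
 (.nd (nat_lit 64) (.lf ⟨nat_lit 0, nat_lit 1, nat_lit 1, (nat_lit 0x8002a87b039700873a6bf2381c316963b3e2), one, (nat_lit 0x8002a87b039700873a6bf2381c316963b3e2), (.prod [nat_lit 37, nat_lit 62])⟩)
 (.nd (nat_lit 65) (.lf ⟨nat_lit 0, nat_lit 1, nat_lit 1, (nat_lit 0x80049322e5b73b449d51a23a1c12ce63b3e2), one, (nat_lit 0x80049322e5b73b449d51a23a1c12ce63b3e2), (.prod [nat_lit 55, nat_lit 62])⟩)
 (.lf ⟨nat_lit 0, nat_lit 1, nat_lit 1, (nat_lit 0x8000c479e3b91c349d4fd3f300815e5853e2), one, (nat_lit 0x8000c479e3b91c349d4fd3f300815e5853e2), (.prod [nat_lit 63, nat_lit 37])⟩))))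
 (.nd (nat_lit 68) (.nd (nat_lit 67) (.lf ⟨nat_lit 0, nat_lit 1, nat_lit 1, (nat_lit 0x8005412005991c173a4e604f3b42f95853e2), one, (nat_lit 0x8005412005991c173a4e604f3b42f95853e2), (.prod [nat_lit 63, nat_lit 55])⟩)
 (.lf ⟨nat_lit 0, nat_lit 1, nat_lit 1, (nat_lit 0x80040279e2a75056605bc3ac3b4624002001), one, (nat_lit 0x80040279e2a75056605bc3ac3b4624002001), (.inv (nat_lit 57))⟩))
 (.nd (nat_lit 69) (.lf ⟨nat_lit 0, nat_lit 1, nat_lit 1, (nat_lit 0x80040079e59908012d03949017c1690025f5), one, (nat_lit 0x80040079e59908012d03949017c1690025f5), (.prod (unp (nat_lit 7) (nat_lit 0x10de3b03)))⟩)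
 (.nd (nat_lit 70) (.lf ⟨nat_lit 0, nat_lit 1, nat_lit 1, (nat_lit 0x8002a87b039700873a6bf2381c316963b3e2), one, (nat_lit 0x8002a87b039700873a6bf2381c316963b3e2), (.prod [nat_lit 37, nat_lit 68])⟩)
 (.lf ⟨nat_lit 0, nat_lit 1, nat_lit 1, (nat_lit 0x80049322e5b73b449d51a23a1c12ce63b3e2), one, (nat_lit 0x80049322e5b73b449d51a23a1c12ce63b3e2), (.prod [nat_lit 55, nat_lit 68])⟩)))))
 (.nd (nat_lit 76) (.nd (nat_lit 73) (.nd (nat_lit 72) (.lf ⟨nat_lit 0, nat_lit 1, nat_lit 1, (nat_lit 0x8000c479e3b91c349d4fd3f300815e5853e2), one, (nat_lit 0x8000c479e3b91c349d4fd3f300815e5853e2), (.prod [nat_lit 69, nat_lit 37])⟩)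
 (.lf ⟨nat_lit 0, nat_lit 1, nat_lit 1, (nat_lit 0x8005412005991c173a4e604f3b42f95853e2), one, (nat_lit 0x8005412005991c173a4e604f3b42f95853e2), (.prod [nat_lit 69, nat_lit 55])⟩))
 (.nd (nat_lit 74) (.lf ⟨nat_lit 1, nat_lit 1, nat_lit 0, (nat_lit 0x8000c178267827a38a72b0632815f51415f0), (nat_lit 0x8000c178267827a38a72b0632815f51415f0), one, (.wt (nat_lit 7) (nat_lit 0) one (.sp .nil) [] [])⟩)
 (.nd (nat_lit 75) (.lf ⟨nat_lit 0, nat_lit 1, nat_lit 1, (nat_lit 0x8000c178267827a38a72b0632815f51415f0), one, (nat_lit 0x8000c178267827a38a72b0632815f51415f0), (.we (nat_lit 0) (nat_lit 1) (nat_lit 0x8000c178267827a38a72b0632815f51415f0) (.st (nat_lit 73) [] [] (.sp .nil)))⟩)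
 (.lf ⟨nat_lit 0, nat_lit 1, nat_lit 1, (nat_lit 0x8001267b76784d03f96bf68f4585b31742ce), one, (nat_lit 0x8001267b76784d03f96bf68f4585b31742ce), (.inv (nat_lit 26))⟩))))
 (.nd (nat_lit 79) (.nd (nat_lit 77) (.lf ⟨nat_lit 0, nat_lit 1, nat_lit 1, (nat_lit 0x8005e722e39774712d46e0e95052f93bc5f5), one, (nat_lit 0x8005e722e39774712d46e0e95052f93bc5f5), (.inv (nat_lit 64))⟩)
 (.nd (nat_lit 78) (.lf ⟨nat_lit 0, nat_lit 1, nat_lit 1, (nat_lit 0x8000c45543971ef2ce2ae2d804e6604c659d), one, (nat_lit 0x8000c45543971ef2ce2ae2d804e6604c659d), (.prod (unp (nat_lit 7) (nat_lit 0x1325ca03)))⟩)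
 (.lf ⟨nat_lit 0, nat_lit 1, nat_lit 1, (nat_lit 0x8000c454d2891ef6247303df13a28a4c6069), one, (nat_lit 0x8000c454d2891ef6247303df13a28a4c6069), (.prod [nat_lit 77, nat_lit 62])⟩)))
 (.nd (nat_lit 80) (.lf ⟨nat_lit 0, nat_lit 1, nat_lit 1, (nat_lit 0x80040079e59908012d03949017c1690025f5), one, (nat_lit 0x80040079e59908012d03949017c1690025f5), (.inv (nat_lit 62))⟩)
 (.nd (nat_lit 81) (.lf ⟨nat_lit 0, nat_lit 1, nat_lit 1, (nat_lit 0x8000c424612e1ef6605bc2f43f22ce4c638a), one, (nat_lit 0x8000c424612e1ef6605bc2f43f22ce4c638a), (.prod (unp (nat_lit 7) (nat_lit 0x13e6be03)))⟩)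
 (.lf ⟨nat_lit 0, nat_lit 1, nat_lit 1, (nat_lit 0x80054122e16856d15e67104f7690331435b3), one, (nat_lit 0x80054122e16856d15e67104f7690331435b3), (.prod [nat_lit 80, nat_lit 80])⟩)))))))

noncomputable def qcT_82 : Tr :=
  (.nd (nat_lit 102) (.nd (nat_lit 92) (.nd (nat_lit 87) (.nd (nat_lit 84) (.nd (nat_lit 83) (.lf ⟨nat_lit 0, nat_lit 1, nat_lit 1, (nat_lit 0x8001267b76784d03f96bf68f4585b31742ce), one, (nat_lit 0x8001267b76784d03f96bf68f4585b31742ce), (.inv (nat_lit 27))⟩)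
 (.lf ⟨nat_lit 0, nat_lit 1, nat_lit 1, (nat_lit 0x8005e722e39774712d46e0e95052f93bc5f5), one, (nat_lit 0x8005e722e39774712d46e0e95052f93bc5f5), (.inv (nat_lit 70))⟩))
 (.nd (nat_lit 85) (.lf ⟨nat_lit 0, nat_lit 1, nat_lit 1, (nat_lit 0x8000c45543971ef2ce2ae2d804e6604c659d), one, (nat_lit 0x8000c45543971ef2ce2ae2d804e6604c659d), (.prod (unp (nat_lit 7) (nat_lit 0x14e94a03)))⟩)
 (.nd (nat_lit 86) (.lf ⟨nat_lit 0, nat_lit 1, nat_lit 1, (nat_lit 0x8000c454d2891ef6247303df13a28a4c6069), one, (nat_lit 0x8000c454d2891ef6247303df13a28a4c6069), (.prod [nat_lit 84, nat_lit 68])⟩)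
 (.lf ⟨nat_lit 0, nat_lit 1, nat_lit 1, (nat_lit 0x80040079e59908012d03949017c1690025f5), one, (nat_lit 0x80040079e59908012d03949017c1690025f5), (.inv (nat_lit 68))⟩))))
 (.nd (nat_lit 89) (.nd (nat_lit 88) (.lf ⟨nat_lit 0, nat_lit 1, nat_lit 1, (nat_lit 0x8000c424612e1ef6605bc2f43f22ce4c638a), one, (nat_lit 0x8000c424612e1ef6605bc2f43f22ce4c638a), (.prod (unp (nat_lit 7) (nat_lit 0x15aa4403)))⟩)
 (.lf ⟨nat_lit 0, nat_lit 1, nat_lit 1, (nat_lit 0x80054122e16856d15e67104f7690331435b3), one, (nat_lit 0x80054122e16856d15e67104f7690331435b3), (.prod [nat_lit 87, nat_lit 87])⟩))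
 (.nd (nat_lit 90) (.lf ⟨nat_lit 1, nat_lit 1, nat_lit 0, (nat_lit 0x8005e73912b91805253ef01056d0a574f73a), (nat_lit 0x8005e73912b91805253ef01056d0a574f73a), one, (.wt (nat_lit 8) (nat_lit 0) one (.sp .nil) [] [])⟩)
 (.nd (nat_lit 91) (.lf ⟨nat_lit 0, nat_lit 1, nat_lit 1, (nat_lit 0x8005e73912b91805253ef01056d0a574f73a), one, (nat_lit 0x8005e73912b91805253ef01056d0a574f73a), (.we (nat_lit 0) (nat_lit 1) (nat_lit 0x8005e73912b91805253ef01056d0a574f73a) (.st (nat_lit 89) [] [] (.sp .nil)))⟩)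
 (.lf ⟨nat_lit 0, nat_lit 1, nat_lit 1, (nat_lit 0x8000c43e211e4d05122080e913a4254c6660), one, (nat_lit 0x8000c43e211e4d05122080e913a4254c6660), (.prod [nat_lit 90, nat_lit 76])⟩)))))
 (.nd (nat_lit 97) (.nd (nat_lit 94) (.nd (nat_lit 93) (.lf ⟨nat_lit 0, nat_lit 1, nat_lit 1, (nat_lit 0x8005e700404656d3f94e33f34cb43c1e569c), one, (nat_lit 0x8005e700404656d3f94e33f34cb43c1e569c), (.prod [nat_lit 77, nat_lit 91])⟩)
 (.lf ⟨nat_lit 0, nat_lit 1, nat_lit 1, (nat_lit 0x8000c439111e13d50b6e251d04e0a54c628a), one, (nat_lit 0x8000c439111e13d50b6e251d04e0a54c628a), (.prod [nat_lit 91, nat_lit 62])⟩))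
 (.nd (nat_lit 95) (.lf ⟨nat_lit 0, nat_lit 1, nat_lit 1, (nat_lit 0x8005e75f002e1ef5f52d84906030891e543c), one, (nat_lit 0x8005e75f002e1ef5f52d84906030891e543c), (.prod [nat_lit 91, nat_lit 91])⟩)
 (.nd (nat_lit 96) (.lf ⟨nat_lit 0, nat_lit 1, nat_lit 1, (nat_lit 0x8000c424673e13d59d13b4e47010334c643c), one, (nat_lit 0x8000c424673e13d59d13b4e47010334c643c), (.prod (unp (nat_lit 7) (nat_lit 0x13edbe03)))⟩)
 (.lf ⟨nat_lit 0, nat_lit 1, nat_lit 1, (nat_lit 0x80049332e5f156d62442a30a0c1512091782), one, (nat_lit 0x80049332e5f156d62442a30a0c1512091782), (.prod [nat_lit 80, nat_lit 95])⟩))))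
 (.nd (nat_lit 99) (.nd (nat_lit 98) (.lf ⟨nat_lit 0, nat_lit 1, nat_lit 1, (nat_lit 0x80049332e3971ef12d51a56c180525091229), one, (nat_lit 0x80049332e3971ef12d51a56c180525091229), (.prod [nat_lit 95, nat_lit 95])⟩)
 (.lf ⟨nat_lit 0, nat_lit 1, nat_lit 1, (nat_lit 0x80049332e2a70805f024c45c4057d8091685), one, (nat_lit 0x80049332e2a70805f024c45c4057d8091685), (.prod [nat_lit 96, nat_lit 80])⟩))
 (.nd (nat_lit 100) (.lf ⟨nat_lit 0, nat_lit 1, nat_lit 1, (nat_lit 0x80065b0894990525b36fc2552275252593e2), one, (nat_lit 0x80065b0894990525b36fc2552275252593e2), (.prod [nat_lit 81, nat_lit 95])⟩)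
 (.nd (nat_lit 101) (.lf ⟨nat_lit 0, nat_lit 1, nat_lit 1, (nat_lit 0x8002a81975995bf7820981a82eb2f96aa554), one, (nat_lit 0x8002a81975995bf7820981a82eb2f96aa554), (.prod [nat_lit 99, nat_lit 99])⟩)
 (.lf ⟨nat_lit 0, nat_lit 1, nat_lit 1, (nat_lit 0x8000c43e211e4d05122080e913a4254c6660), one, (nat_lit 0x8000c43e211e4d05122080e913a4254c6660), (.prod [nat_lit 90, nat_lit 83])⟩))))))
 (.nd (nat_lit 112) (.nd (nat_lit 107) (.nd (nat_lit 104) (.nd (nat_lit 103) (.lf ⟨nat_lit 0, nat_lit 1, nat_lit 1, (nat_lit 0x8005e700404656d3f94e33f34cb43c1e569c), one, (nat_lit 0x8005e700404656d3f94e33f34cb43c1e569c), (.prod [nat_lit 84, nat_lit 101])⟩)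
 (.lf ⟨nat_lit 0, nat_lit 1, nat_lit 1, (nat_lit 0x8000c439111e13d50b6e251d04e0a54c628a), one, (nat_lit 0x8000c439111e13d50b6e251d04e0a54c628a), (.prod [nat_lit 101, nat_lit 68])⟩))
 (.nd (nat_lit 105) (.lf ⟨nat_lit 0, nat_lit 1, nat_lit 1, (nat_lit 0x8005e75f002e1ef5f52d84906030891e543c), one, (nat_lit 0x8005e75f002e1ef5f52d84906030891e543c), (.prod [nat_lit 101, nat_lit 101])⟩)
 (.nd (nat_lit 106) (.lf ⟨nat_lit 0, nat_lit 1, nat_lit 1, (nat_lit 0x8000c424673e13d59d13b4e47010334c643c), one, (nat_lit 0x8000c424673e13d59d13b4e47010334c643c), (.prod (unp (nat_lit 7) (nat_lit 0x15b2c403)))⟩)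
 (.lf ⟨nat_lit 0, nat_lit 1, nat_lit 1, (nat_lit 0x80049332e5f156d62442a30a0c1512091782), one, (nat_lit 0x80049332e5f156d62442a30a0c1512091782), (.prod [nat_lit 87, nat_lit 105])⟩))))
 (.nd (nat_lit 109) (.nd (nat_lit 108) (.lf ⟨nat_lit 0, nat_lit 1, nat_lit 1, (nat_lit 0x80049332e3971ef12d51a56c180525091229), one, (nat_lit 0x80049332e3971ef12d51a56c180525091229), (.prod [nat_lit 105, nat_lit 105])⟩)
 (.lf ⟨nat_lit 0, nat_lit 1, nat_lit 1, (nat_lit 0x80049332e2a70805f024c45c4057d8091685), one, (nat_lit 0x80049332e2a70805f024c45c4057d8091685), (.prod [nat_lit 106, nat_lit 87])⟩))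
 (.nd (nat_lit 110) (.lf ⟨nat_lit 0, nat_lit 1, nat_lit 1, (nat_lit 0x80065b0894990525b36fc2552275252593e2), one, (nat_lit 0x80065b0894990525b36fc2552275252593e2), (.prod [nat_lit 88, nat_lit 105])⟩)
 (.nd (nat_lit 111) (.lf ⟨nat_lit 0, nat_lit 1, nat_lit 1, (nat_lit 0x8002a81975995bf7820981a82eb2f96aa554), one, (nat_lit 0x8002a81975995bf7820981a82eb2f96aa554), (.prod [nat_lit 109, nat_lit 109])⟩)
 (.lf ⟨nat_lit 1, nat_lit 1, nat_lit 0, (nat_lit 0x8000d95f56b63ac3d76bc0c14cf2ce6aa22e), (nat_lit 0x8000d95f56b63ac3d76bc0c14cf2ce6aa22e), one, (.wt (nat_lit 9) (nat_lit 0) one (.sp .nil) [] [])⟩)))))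
 (.nd (nat_lit 117) (.nd (nat_lit 114) (.nd (nat_lit 113) (.lf ⟨nat_lit 0, nat_lit 1, nat_lit 1, (nat_lit 0x8000d95f56b63ac3d76bc0c14cf2ce6aa22e), one, (nat_lit 0x8000d95f56b63ac3d76bc0c14cf2ce6aa22e), (.we (nat_lit 0) (nat_lit 1) (nat_lit 0x8000d95f56b63ac3d76bc0c14cf2ce6aa22e) (.st (nat_lit 111) [] [] (.sp .nil)))⟩)
 (.lf ⟨nat_lit 0, nat_lit 1, nat_lit 1, (nat_lit 0x80046e0014490633a427840570073a1d2525), one, (nat_lit 0x80046e0014490633a427840570073a1d2525), (.prod [nat_lit 26, nat_lit 112])⟩))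
 (.nd (nat_lit 115) (.lf ⟨nat_lit 0, nat_lit 1, nat_lit 1, (nat_lit 0x8002083e20b82f404727a18001015e5237b0), one, (nat_lit 0x8002083e20b82f404727a18001015e5237b0), (.prod [nat_lit 29, nat_lit 112])⟩)
 (.nd (nat_lit 116) (.lf ⟨nat_lit 0, nat_lit 1, nat_lit 1, (nat_lit 0x8006bf39124713b5b33390c33df12d25b53c), one, (nat_lit 0x8006bf39124713b5b33390c33df12d25b53c), (.prod [nat_lit 32, nat_lit 112])⟩)
 (.lf ⟨nat_lit 0, nat_lit 1, nat_lit 1, (nat_lit 0x80004f54d6b625522e09c1804775171e53d7), one, (nat_lit 0x80004f54d6b625522e09c1804775171e53d7), (.prod [nat_lit 42, nat_lit 112])⟩))))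
 (.nd (nat_lit 120) (.nd (nat_lit 118) (.lf ⟨nat_lit 0, nat_lit 1, nat_lit 1, (nat_lit 0x8006072464496e25254580c354779b31a3a4), one, (nat_lit 0x8006072464496e25254580c354779b31a3a4), (.prod [nat_lit 43, nat_lit 112])⟩)
 (.nd (nat_lit 119) (.lf ⟨nat_lit 0, nat_lit 1, nat_lit 1, (nat_lit 0x8002d87d82471b453c5194057967820935b3), one, (nat_lit 0x8002d87d82471b453c5194057967820935b3), (.prod [nat_lit 44, nat_lit 112])⟩)
 (.lf ⟨nat_lit 0, nat_lit 1, nat_lit 1, (nat_lit 0x8004905540b85037b045a0c16a608926c047), one, (nat_lit 0x8004905540b85037b045a0c16a608926c047), (.prod [nat_lit 45, nat_lit 112])⟩)))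
 (.nd (nat_lit 121) (.lf ⟨nat_lit 0, nat_lit 1, nat_lit 1, (nat_lit 0x8001ed3ef1d208049054d12d4585bb5ef56c), one, (nat_lit 0x8001ed3ef1d208049054d12d4585bb5ef56c), (.inv (nat_lit 23))⟩)
 (.nd (nat_lit 122) (.lf ⟨nat_lit 0, nat_lit 1, nat_lit 1, (nat_lit 0x80005c6bc5996133665474773d029a22d0e8), one, (nat_lit 0x80005c6bc5996133665474773d029a22d0e8), (.prod (unp (nat_lit 7) (nat_lit 0x1e381703)))⟩)
 (.lf ⟨nat_lit 0, nat_lit 1, nat_lit 1, (nat_lit 0x8000e409c3976852273df4cf22929a54c1a9), one, (nat_lit 0x8000e409c3976852273df4cf22929a54c1a9), (.prod [nat_lit 37, nat_lit 121])⟩)))))))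

noncomputable def qcT_123 : Tr :=
  (.nd (nat_lit 143) (.nd (nat_lit 133) (.nd (nat_lit 128) (.nd (nat_lit 125) (.nd (nat_lit 124) (.lf ⟨nat_lit 0, nat_lit 1, nat_lit 1, (nat_lit 0x8005a845a3b90401802556e200413d54c1a9), one, (nat_lit 0x8005a845a3b90401802556e200413d54c1a9), (.prod [nat_lit 55, nat_lit 121])⟩)
 (.lf ⟨nat_lit 0, nat_lit 1, nat_lit 1, (nat_lit 0x80027127a5b77b70c13ac13b69c13d22d0e8), one, (nat_lit 0x80027127a5b77b70c13ac13b69c13d22d0e8), (.prod [nat_lit 56, nat_lit 121])⟩))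
 (.nd (nat_lit 126) (.lf ⟨nat_lit 0, nat_lit 1, nat_lit 1, (nat_lit 0x80063845a11e3d03b424c45c2290806c513a), one, (nat_lit 0x80063845a11e3d03b424c45c2290806c513a), (.prod [nat_lit 63, nat_lit 121])⟩)
 (.nd (nat_lit 127) (.lf ⟨nat_lit 0, nat_lit 1, nat_lit 1, (nat_lit 0x8000fd09c2b969c39a04f6710040ae6c513a), one, (nat_lit 0x8000fd09c2b969c39a04f6710040ae6c513a), (.prod [nat_lit 64, nat_lit 121])⟩)
 (.lf ⟨nat_lit 0, nat_lit 1, nat_lit 1, (nat_lit 0x8007ef27a73e22939a5bb5a53d01ef1a413a), one, (nat_lit 0x8007ef27a73e22939a5bb5a53d01ef1a413a), (.prod [nat_lit 65, nat_lit 121])⟩))))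
 (.nd (nat_lit 130) (.nd (nat_lit 129) (.lf ⟨nat_lit 0, nat_lit 1, nat_lit 1, (nat_lit 0x80064b6bc4990043b40d90e969c1c11a413a), one, (nat_lit 0x80064b6bc4990043b40d90e969c1c11a413a), (.prod [nat_lit 66, nat_lit 121])⟩)
 (.lf ⟨nat_lit 0, nat_lit 1, nat_lit 1, (nat_lit 0x80046e0014490633a427840570073a1d2525), one, (nat_lit 0x80046e0014490633a427840570073a1d2525), (.prod [nat_lit 27, nat_lit 112])⟩))
 (.nd (nat_lit 131) (.lf ⟨nat_lit 0, nat_lit 1, nat_lit 1, (nat_lit 0x80004f54d6b625522e09c1804775171e53d7), one, (nat_lit 0x80004f54d6b625522e09c1804775171e53d7), (.prod [nat_lit 50, nat_lit 112])⟩)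
 (.nd (nat_lit 132) (.lf ⟨nat_lit 0, nat_lit 1, nat_lit 1, (nat_lit 0x8006072464496e25254580c354779b31a3a4), one, (nat_lit 0x8006072464496e25254580c354779b31a3a4), (.prod [nat_lit 51, nat_lit 112])⟩)
 (.lf ⟨nat_lit 0, nat_lit 1, nat_lit 1, (nat_lit 0x8002d87d82471b453c5194057967820935b3), one, (nat_lit 0x8002d87d82471b453c5194057967820935b3), (.prod [nat_lit 52, nat_lit 112])⟩)))))
 (.nd (nat_lit 138) (.nd (nat_lit 135) (.nd (nat_lit 134) (.lf ⟨nat_lit 0, nat_lit 1, nat_lit 1, (nat_lit 0x8004905540b85037b045a0c16a608926c047), one, (nat_lit 0x8004905540b85037b045a0c16a608926c047), (.prod [nat_lit 53, nat_lit 112])⟩)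
 (.lf ⟨nat_lit 0, nat_lit 1, nat_lit 1, (nat_lit 0x80005c6bc5996133665474773d029a22d0e8), one, (nat_lit 0x80005c6bc5996133665474773d029a22d0e8), (.prod (unp (nat_lit 7) (nat_lit 0x1e381703)))⟩))
 (.nd (nat_lit 136) (.lf ⟨nat_lit 0, nat_lit 1, nat_lit 1, (nat_lit 0x8000e409c3976852273df4cf22929a54c1a9), one, (nat_lit 0x8000e409c3976852273df4cf22929a54c1a9), (.prod [nat_lit 37, nat_lit 134])⟩)
 (.nd (nat_lit 137) (.lf ⟨nat_lit 0, nat_lit 1, nat_lit 1, (nat_lit 0x8005a845a3b90401802556e200413d54c1a9), one, (nat_lit 0x8005a845a3b90401802556e200413d54c1a9), (.prod [nat_lit 55, nat_lit 134])⟩)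
 (.lf ⟨nat_lit 0, nat_lit 1, nat_lit 1, (nat_lit 0x80027127a5b77b70c13ac13b69c13d22d0e8), one, (nat_lit 0x80027127a5b77b70c13ac13b69c13d22d0e8), (.prod [nat_lit 57, nat_lit 134])⟩))))
 (.nd (nat_lit 140) (.nd (nat_lit 139) (.lf ⟨nat_lit 0, nat_lit 1, nat_lit 1, (nat_lit 0x80063845a11e3d03b424c45c2290806c513a), one, (nat_lit 0x80063845a11e3d03b424c45c2290806c513a), (.prod [nat_lit 69, nat_lit 134])⟩)
 (.lf ⟨nat_lit 0, nat_lit 1, nat_lit 1, (nat_lit 0x8000fd09c2b969c39a04f6710040ae6c513a), one, (nat_lit 0x8000fd09c2b969c39a04f6710040ae6c513a), (.prod [nat_lit 70, nat_lit 134])⟩))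
 (.nd (nat_lit 141) (.lf ⟨nat_lit 0, nat_lit 1, nat_lit 1, (nat_lit 0x80064b6bc4990043b40d90e969c1c11a413a), one, (nat_lit 0x80064b6bc4990043b40d90e969c1c11a413a), (.prod [nat_lit 72, nat_lit 134])⟩)
 (.nd (nat_lit 142) (.lf ⟨nat_lit 2, nat_lit 2, nat_lit 0, (nat_lit 0x8001ed3ef1d208049054d12d4585bb5ef56c), (nat_lit 0x8001ed3ef1d208049054d12d4585bb5ef56c), one, (.wt (nat_lit 14) (nat_lit 0) one (.sp .nil) [] [])⟩)
 (.lf ⟨nat_lit 0, nat_lit 2, nat_lit 2, (nat_lit 0x8001ed3ef1d208049054d12d4585bb5ef56c), one, (nat_lit 0x8001ed3ef1d208049054d12d4585bb5ef56c), (.we (nat_lit 13) (nat_lit 1) (nat_lit 0x8001ed3ef1d208049054d12d4585bb5ef56c) (.st (nat_lit 141) [] [] (.sp .nil)))⟩))))))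
 (.nd (nat_lit 153) (.nd (nat_lit 148) (.nd (nat_lit 145) (.nd (nat_lit 144) (.lf ⟨nat_lit 2, nat_lit 2, nat_lit 0, (nat_lit 0x8006782001c32a70930bc01004726c2b904e), (nat_lit 0x8006782001c32a70930bc01004726c2b904e), one, (.wt (nat_lit 15) (nat_lit 0) one (.sp .nil) [] [])⟩)
 (.lf ⟨nat_lit 0, nat_lit 2, nat_lit 2, (nat_lit 0x8006782001c32a70930bc01004726c2b904e), one, (nat_lit 0x8006782001c32a70930bc01004726c2b904e), (.we (nat_lit 13) (nat_lit 1) (nat_lit 0x8006782001c32a70930bc01004726c2b904e) (.st (nat_lit 143) [] [] (.sp .nil)))⟩))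
 (.nd (nat_lit 146) (.lf ⟨nat_lit 0, nat_lit 2, nat_lit 2, (nat_lit 0x80012e19715e2a74cf54d31a6bc7005ef5bf), one, (nat_lit 0x80012e19715e2a74cf54d31a6bc7005ef5bf), (.prod [nat_lit 142, nat_lit 144])⟩)
 (.nd (nat_lit 147) (.lf ⟨nat_lit 0, nat_lit 2, nat_lit 2, (nat_lit 0x80009354706331a49d0202a77013d00025bf), one, (nat_lit 0x80009354706331a49d0202a77013d00025bf), (.prod [nat_lit 145, nat_lit 142])⟩)
 (.lf ⟨nat_lit 0, nat_lit 2, nat_lit 2, (nat_lit 0x8000407b32d812d6aa0bc0805f51e72b956c), one, (nat_lit 0x8000407b32d812d6aa0bc0805f51e72b956c), (.prod [nat_lit 146, nat_lit 144])⟩))))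
 (.nd (nat_lit 150) (.nd (nat_lit 149) (.lf ⟨nat_lit 0, nat_lit 2, nat_lit 2, (nat_lit 0x80012e19715e2a74cf54d31a6bc7005ef5bf), one, (nat_lit 0x80012e19715e2a74cf54d31a6bc7005ef5bf), (.prod [nat_lit 142, nat_lit 144])⟩)
 (.lf ⟨nat_lit 0, nat_lit 2, nat_lit 2, (nat_lit 0x80009354706331a49d0202a77013d00025bf), one, (nat_lit 0x80009354706331a49d0202a77013d00025bf), (.prod [nat_lit 148, nat_lit 142])⟩))
 (.nd (nat_lit 151) (.lf ⟨nat_lit 0, nat_lit 2, nat_lit 2, (nat_lit 0x8000407b32d812d6aa0bc0805f51e72b956c), one, (nat_lit 0x8000407b32d812d6aa0bc0805f51e72b956c), (.prod [nat_lit 149, nat_lit 144])⟩)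
 (.nd (nat_lit 152) (.lf ⟨nat_lit 2, nat_lit 2, nat_lit 0, (nat_lit 0x8004cb2086aa4d03797823e200845c4993f3), (nat_lit 0x8004cb2086aa4d03797823e200845c4993f3), one, (.wt (nat_lit 16) (nat_lit 0) one (.sp .nil) [] [])⟩)
 (.lf ⟨nat_lit 0, nat_lit 2, nat_lit 2, (nat_lit 0x8004cb2086aa4d03797823e200845c4993f3), one, (nat_lit 0x8004cb2086aa4d03797823e200845c4993f3), (.we (nat_lit 13) (nat_lit 1) (nat_lit 0x8004cb2086aa4d03797823e200845c4993f3) (.st (nat_lit 151) [] [] (.sp .nil)))⟩)))))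
 (.nd (nat_lit 158) (.nd (nat_lit 155) (.nd (nat_lit 154) (.lf ⟨nat_lit 0, nat_lit 2, nat_lit 2, (nat_lit 0x80009354706331a49d0202a77013d00025bf), one, (nat_lit 0x80009354706331a49d0202a77013d00025bf), (.inv (nat_lit 146))⟩)
 (.lf ⟨nat_lit 0, nat_lit 2, nat_lit 2, (nat_lit 0x8005a82461ed5b31806af281701278390599), one, (nat_lit 0x8005a82461ed5b31806af281701278390599), (.prod [nat_lit 152, nat_lit 153])⟩))
 (.nd (nat_lit 156) (.lf ⟨nat_lit 0, nat_lit 2, nat_lit 2, (nat_lit 0x8005e724612e7473646bf0e95f5278174505), one, (nat_lit 0x8005e724612e7473646bf0e95f5278174505), (.prod [nat_lit 154, nat_lit 144])⟩)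
 (.nd (nat_lit 157) (.lf ⟨nat_lit 0, nat_lit 2, nat_lit 2, (nat_lit 0x8005412463d752b13b4e42815f1010143769), one, (nat_lit 0x8005412463d752b13b4e42815f1010143769), (.prod [nat_lit 144, nat_lit 154])⟩)
 (.lf ⟨nat_lit 0, nat_lit 2, nat_lit 2, (nat_lit 0x8000c422e13a1a96695a500438a2814c6397), one, (nat_lit 0x8000c422e13a1a96695a500438a2814c6397), (.prod [nat_lit 156, nat_lit 156])⟩))))
 (.nd (nat_lit 161) (.nd (nat_lit 159) (.lf ⟨nat_lit 0, nat_lit 2, nat_lit 2, (nat_lit 0x80009354706331a49d0202a77013d00025bf), one, (nat_lit 0x80009354706331a49d0202a77013d00025bf), (.inv (nat_lit 149))⟩)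
 (.nd (nat_lit 160) (.lf ⟨nat_lit 0, nat_lit 2, nat_lit 2, (nat_lit 0x8005a82461ed5b31806af281701278390599), one, (nat_lit 0x8005a82461ed5b31806af281701278390599), (.prod [nat_lit 152, nat_lit 158])⟩)
 (.lf ⟨nat_lit 0, nat_lit 2, nat_lit 2, (nat_lit 0x8005e724612e7473646bf0e95f5278174505), one, (nat_lit 0x8005e724612e7473646bf0e95f5278174505), (.prod [nat_lit 159, nat_lit 144])⟩)))
 (.nd (nat_lit 162) (.lf ⟨nat_lit 0, nat_lit 2, nat_lit 2, (nat_lit 0x8005412463d752b13b4e42815f1010143769), one, (nat_lit 0x8005412463d752b13b4e42815f1010143769), (.prod [nat_lit 144, nat_lit 159])⟩)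
 (.nd (nat_lit 163) (.lf ⟨nat_lit 0, nat_lit 2, nat_lit 2, (nat_lit 0x8000c422e13a1a96695a500438a2814c6397), one, (nat_lit 0x8000c422e13a1a96695a500438a2814c6397), (.prod [nat_lit 161, nat_lit 161])⟩)
 (.lf ⟨nat_lit 2, nat_lit 2, nat_lit 0, (nat_lit 0x8000e822e2891ef6604e62d87696245855a8), (nat_lit 0x8000e822e2891ef6604e62d87696245855a8), one, (.wt (nat_lit 17) (nat_lit 0) one (.sp .nil) [] [])⟩)))))))

noncomputable def qcT_164 : Tr :=
  (.nd (nat_lit 184) (.nd (nat_lit 174) (.nd (nat_lit 169) (.nd (nat_lit 166) (.nd (nat_lit 165) (.lf ⟨nat_lit 0, nat_lit 2, nat_lit 2, (nat_lit 0x8000e822e2891ef6604e62d87696245855a8), one, (nat_lit 0x8000e822e2891ef6604e62d87696245855a8), (.we (nat_lit 13) (nat_lit 1) (nat_lit 0x8000e822e2891ef6604e62d87696245855a8) (.st (nat_lit 163) [] [] (.sp .nil)))⟩)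
 (.lf ⟨nat_lit 0, nat_lit 2, nat_lit 2, (nat_lit 0x8005052ae25b1ef3df0e428a3392f40681aa), one, (nat_lit 0x8005052ae25b1ef3df0e428a3392f40681aa), (.prod [nat_lit 142, nat_lit 164])⟩))
 (.nd (nat_lit 167) (.lf ⟨nat_lit 0, nat_lit 2, nat_lit 2, (nat_lit 0x8002a77b72f912e6070e409345a04f0684d0), one, (nat_lit 0x8002a77b72f912e6070e409345a04f0684d0), (.prod [nat_lit 145, nat_lit 164])⟩)
 (.nd (nat_lit 168) (.lf ⟨nat_lit 0, nat_lit 2, nat_lit 2, (nat_lit 0x80031a2082ab09373a4e612e5e75f05854d0), one, (nat_lit 0x80031a2082ab09373a4e612e5e75f05854d0), (.prod [nat_lit 146, nat_lit 164])⟩)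
 (.lf ⟨nat_lit 0, nat_lit 2, nat_lit 2, (nat_lit 0x80059d20056d0010c16dc3f53b4339617058), one, (nat_lit 0x80059d20056d0010c16dc3f53b4339617058), (.prod [nat_lit 164, nat_lit 154])⟩))))
 (.nd (nat_lit 171) (.nd (nat_lit 170) (.lf ⟨nat_lit 0, nat_lit 2, nat_lit 2, (nat_lit 0x80059908903339713b0e42593662f4068126), one, (nat_lit 0x80059908903339713b0e42593662f4068126), (.prod [nat_lit 165, nat_lit 144])⟩)
 (.lf ⟨nat_lit 0, nat_lit 2, nat_lit 2, (nat_lit 0x8003a47b304f0016690e436451d02302e660), one, (nat_lit 0x8003a47b304f0016690e436451d02302e660), (.prod [nat_lit 165, nat_lit 154])⟩))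
 (.nd (nat_lit 172) (.lf ⟨nat_lit 0, nat_lit 2, nat_lit 2, (nat_lit 0x80008072b0911ed4e30e404040504f06845c), one, (nat_lit 0x80008072b0911ed4e30e404040504f06845c), (.prod [nat_lit 166, nat_lit 144])⟩)
 (.nd (nat_lit 173) (.lf ⟨nat_lit 0, nat_lit 2, nat_lit 2, (nat_lit 0x8005bb54705213b6bc6dc1ab2a845861731a), one, (nat_lit 0x8005bb54705213b6bc6dc1ab2a845861731a), (.prod [nat_lit 167, nat_lit 154])⟩)
 (.lf ⟨nat_lit 0, nat_lit 2, nat_lit 2, (nat_lit 0x80039724638a5991aa42545704e51d11e400), one, (nat_lit 0x80039724638a5991aa42545704e51d11e400), (.prod [nat_lit 168, nat_lit 154])⟩)))))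
 (.nd (nat_lit 179) (.nd (nat_lit 176) (.nd (nat_lit 175) (.lf ⟨nat_lit 0, nat_lit 2, nat_lit 2, (nat_lit 0x8001ef72b2270e84cb0e43df56c02302e6aa), one, (nat_lit 0x8001ef72b2270e84cb0e43df56c02302e6aa), (.prod [nat_lit 169, nat_lit 154])⟩)
 (.lf ⟨nat_lit 0, nat_lit 2, nat_lit 2, (nat_lit 0x80039732e6135993f354d4571805bb5ef5ce), one, (nat_lit 0x80039732e6135993f354d4571805bb5ef5ce), (.prod [nat_lit 169, nat_lit 164])⟩))
 (.nd (nat_lit 177) (.lf ⟨nat_lit 0, nat_lit 2, nat_lit 2, (nat_lit 0x8005b31a42ab39113d0e41802492f002e3d0), one, (nat_lit 0x8005b31a42ab39113d0e41802492f002e3d0), (.prod [nat_lit 171, nat_lit 154])⟩)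
 (.nd (nat_lit 178) (.lf ⟨nat_lit 0, nat_lit 2, nat_lit 2, (nat_lit 0x8007007b323a3df45847716805c6bc4f312d), one, (nat_lit 0x8007007b323a3df45847716805c6bc4f312d), (.prod [nat_lit 172, nat_lit 144])⟩)
 (.lf ⟨nat_lit 0, nat_lit 2, nat_lit 2, (nat_lit 0x8004d01b40914cb30a4253f965b1a811e5bb), one, (nat_lit 0x8004d01b40914cb30a4253f965b1a811e5bb), (.prod [nat_lit 172, nat_lit 154])⟩))))
 (.nd (nat_lit 181) (.nd (nat_lit 180) (.lf ⟨nat_lit 0, nat_lit 2, nat_lit 2, (nat_lit 0x8004cf54725901040054c2a72f052b66404e), one, (nat_lit 0x8004cf54725901040054c2a72f052b66404e), (.inv (nat_lit 147))⟩)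
 (.lf ⟨nat_lit 0, nat_lit 2, nat_lit 2, (nat_lit 0x8000c42002a71c35f04e42f417c033585391), one, (nat_lit 0x8000c42002a71c35f04e42f417c033585391), (.prod (unp (nat_lit 8) (nat_lit 0xb3a49303)))⟩))
 (.nd (nat_lit 182) (.lf ⟨nat_lit 0, nat_lit 2, nat_lit 2, (nat_lit 0x80005820008010052369c2f43d725b73e13a), one, (nat_lit 0x80005820008010052369c2f43d725b73e13a), (.prod [nat_lit 144, nat_lit 180])⟩)
 (.nd (nat_lit 183) (.lf ⟨nat_lit 0, nat_lit 2, nat_lit 2, (nat_lit 0x8006382460ae3a43640b80523f209c3903b9), one, (nat_lit 0x8006382460ae3a43640b80523f209c3903b9), (.prod [nat_lit 154, nat_lit 180])⟩)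
 (.lf ⟨nat_lit 0, nat_lit 2, nat_lit 2, (nat_lit 0x8004932462893b418024c23a3e209c1741c1), one, (nat_lit 0x8004932462893b418024c23a3e209c1741c1), (.prod [nat_lit 155, nat_lit 180])⟩))))))
 (.nd (nat_lit 194) (.nd (nat_lit 189) (.nd (nat_lit 186) (.nd (nat_lit 185) (.lf ⟨nat_lit 0, nat_lit 2, nat_lit 2, (nat_lit 0x80064b24652b3d745854c02313a227617100), one, (nat_lit 0x80064b24652b3d745854c02313a227617100), (.prod [nat_lit 180, nat_lit 154])⟩)
 (.lf ⟨nat_lit 0, nat_lit 2, nat_lit 2, (nat_lit 0x8004002465b31ed4e35a502316804f4c4152), one, (nat_lit 0x8004002465b31ed4e35a502316804f4c4152), (.prod [nat_lit 181, nat_lit 154])⟩))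
 (.nd (nat_lit 187) (.lf ⟨nat_lit 0, nat_lit 2, nat_lit 2, (nat_lit 0x8004c122e5f52cf6fc69c09102624b4990ae), one, (nat_lit 0x8004c122e5f52cf6fc69c09102624b4990ae), (.prod [nat_lit 182, nat_lit 154])⟩)
 (.nd (nat_lit 188) (.lf ⟨nat_lit 0, nat_lit 2, nat_lit 2, (nat_lit 0x80049322e56d04e45e6bf2f92a724b63b047), one, (nat_lit 0x80049322e56d04e45e6bf2f92a724b63b047), (.prod [nat_lit 183, nat_lit 154])⟩)
 (.lf ⟨nat_lit 0, nat_lit 2, nat_lit 2, (nat_lit 0x80076622e3e21681a80bc0a615209811e1ed), one, (nat_lit 0x80076622e3e21681a80bc0a615209811e1ed), (.prod [nat_lit 184, nat_lit 154])⟩))))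
 (.nd (nat_lit 191) (.nd (nat_lit 190) (.lf ⟨nat_lit 0, nat_lit 2, nat_lit 2, (nat_lit 0x80005c2461ef0476bc6dc2f004e0c36172a7), one, (nat_lit 0x80005c2461ef0476bc6dc2f004e0c36172a7), (.prod [nat_lit 184, nat_lit 180])⟩)
 (.lf ⟨nat_lit 0, nat_lit 2, nat_lit 2, (nat_lit 0x8000c42463a40ae6074e62f02cf2ab4c4026), one, (nat_lit 0x8000c42463a40ae6074e62f02cf2ab4c4026), (.prod [nat_lit 185, nat_lit 180])⟩))
 (.nd (nat_lit 192) (.lf ⟨nat_lit 0, nat_lit 2, nat_lit 2, (nat_lit 0x80049320038a7690405030c352b2ce2c85f1), one, (nat_lit 0x80049320038a7690405030c352b2ce2c85f1), (.prod [nat_lit 187, nat_lit 154])⟩)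
 (.nd (nat_lit 193) (.lf ⟨nat_lit 0, nat_lit 2, nat_lit 2, (nat_lit 0x8005052ae25b1ef3df0e428a3392f40681aa), one, (nat_lit 0x8005052ae25b1ef3df0e428a3392f40681aa), (.prod [nat_lit 142, nat_lit 164])⟩)
 (.lf ⟨nat_lit 0, nat_lit 2, nat_lit 2, (nat_lit 0x8002a77b72f912e6070e409345a04f0684d0), one, (nat_lit 0x8002a77b72f912e6070e409345a04f0684d0), (.prod [nat_lit 148, nat_lit 164])⟩)))))
 (.nd (nat_lit 199) (.nd (nat_lit 196) (.nd (nat_lit 195) (.lf ⟨nat_lit 0, nat_lit 2, nat_lit 2, (nat_lit 0x80031a2082ab09373a4e612e5e75f05854d0), one, (nat_lit 0x80031a2082ab09373a4e612e5e75f05854d0), (.prod [nat_lit 149, nat_lit 164])⟩)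
 (.lf ⟨nat_lit 0, nat_lit 2, nat_lit 2, (nat_lit 0x80059d20056d0010c16dc3f53b4339617058), one, (nat_lit 0x80059d20056d0010c16dc3f53b4339617058), (.prod [nat_lit 164, nat_lit 159])⟩))
 (.nd (nat_lit 197) (.lf ⟨nat_lit 0, nat_lit 2, nat_lit 2, (nat_lit 0x80059908903339713b0e42593662f4068126), one, (nat_lit 0x80059908903339713b0e42593662f4068126), (.prod [nat_lit 192, nat_lit 144])⟩)
 (.nd (nat_lit 198) (.lf ⟨nat_lit 0, nat_lit 2, nat_lit 2, (nat_lit 0x80008072b0911ed4e30e404040504f06845c), one, (nat_lit 0x80008072b0911ed4e30e404040504f06845c), (.prod [nat_lit 193, nat_lit 144])⟩)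
 (.lf ⟨nat_lit 0, nat_lit 2, nat_lit 2, (nat_lit 0x8005bb54705213b6bc6dc1ab2a845861731a), one, (nat_lit 0x8005bb54705213b6bc6dc1ab2a845861731a), (.prod [nat_lit 194, nat_lit 159])⟩))))
 (.nd (nat_lit 202) (.nd (nat_lit 200) (.lf ⟨nat_lit 0, nat_lit 2, nat_lit 2, (nat_lit 0x80039724638a5991aa42545704e51d11e400), one, (nat_lit 0x80039724638a5991aa42545704e51d11e400), (.prod [nat_lit 195, nat_lit 159])⟩)
 (.nd (nat_lit 201) (.lf ⟨nat_lit 0, nat_lit 2, nat_lit 2, (nat_lit 0x8005b31a42ab39113d0e41802492f002e3d0), one, (nat_lit 0x8005b31a42ab39113d0e41802492f002e3d0), (.prod [nat_lit 197, nat_lit 159])⟩)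
 (.lf ⟨nat_lit 0, nat_lit 2, nat_lit 2, (nat_lit 0x8004cf54725901040054c2a72f052b66404e), one, (nat_lit 0x8004cf54725901040054c2a72f052b66404e), (.inv (nat_lit 150))⟩)))
 (.nd (nat_lit 203) (.lf ⟨nat_lit 0, nat_lit 2, nat_lit 2, (nat_lit 0x8000c42002a71c35f04e42f417c033585391), one, (nat_lit 0x8000c42002a71c35f04e42f417c033585391), (.prod (unp (nat_lit 8) (nat_lit 0xc9a49603)))⟩)
 (.nd (nat_lit 204) (.lf ⟨nat_lit 0, nat_lit 2, nat_lit 2, (nat_lit 0x80005820008010052369c2f43d725b73e13a), one, (nat_lit 0x80005820008010052369c2f43d725b73e13a), (.prod [nat_lit 144, nat_lit 202])⟩)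
 (.lf ⟨nat_lit 0, nat_lit 2, nat_lit 2, (nat_lit 0x8006382460ae3a43640b80523f209c3903b9), one, (nat_lit 0x8006382460ae3a43640b80523f209c3903b9), (.prod [nat_lit 159, nat_lit 202])⟩)))))))

noncomputable def qcT_205 : Tr :=
  (.nd (nat_lit 225) (.nd (nat_lit 215) (.nd (nat_lit 210) (.nd (nat_lit 207) (.nd (nat_lit 206) (.lf ⟨nat_lit 0, nat_lit 2, nat_lit 2, (nat_lit 0x8004932462893b418024c23a3e209c1741c1), one, (nat_lit 0x8004932462893b418024c23a3e209c1741c1), (.prod [nat_lit 160, nat_lit 202])⟩)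
 (.lf ⟨nat_lit 0, nat_lit 2, nat_lit 2, (nat_lit 0x80064b24652b3d745854c02313a227617100), one, (nat_lit 0x80064b24652b3d745854c02313a227617100), (.prod [nat_lit 202, nat_lit 159])⟩))
 (.nd (nat_lit 208) (.lf ⟨nat_lit 0, nat_lit 2, nat_lit 2, (nat_lit 0x8004002465b31ed4e35a502316804f4c4152), one, (nat_lit 0x8004002465b31ed4e35a502316804f4c4152), (.prod [nat_lit 203, nat_lit 159])⟩)
 (.nd (nat_lit 209) (.lf ⟨nat_lit 0, nat_lit 2, nat_lit 2, (nat_lit 0x8004c122e5f52cf6fc69c09102624b4990ae), one, (nat_lit 0x8004c122e5f52cf6fc69c09102624b4990ae), (.prod [nat_lit 204, nat_lit 159])⟩)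
 (.lf ⟨nat_lit 0, nat_lit 2, nat_lit 2, (nat_lit 0x80049322e56d04e45e6bf2f92a724b63b047), one, (nat_lit 0x80049322e56d04e45e6bf2f92a724b63b047), (.prod [nat_lit 205, nat_lit 159])⟩))))
 (.nd (nat_lit 212) (.nd (nat_lit 211) (.lf ⟨nat_lit 0, nat_lit 2, nat_lit 2, (nat_lit 0x80076622e3e21681a80bc0a615209811e1ed), one, (nat_lit 0x80076622e3e21681a80bc0a615209811e1ed), (.prod [nat_lit 206, nat_lit 159])⟩)
 (.lf ⟨nat_lit 0, nat_lit 2, nat_lit 2, (nat_lit 0x80005c2461ef0476bc6dc2f004e0c36172a7), one, (nat_lit 0x80005c2461ef0476bc6dc2f004e0c36172a7), (.prod [nat_lit 206, nat_lit 202])⟩))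
 (.nd (nat_lit 213) (.lf ⟨nat_lit 0, nat_lit 2, nat_lit 2, (nat_lit 0x8000c42463a40ae6074e62f02cf2ab4c4026), one, (nat_lit 0x8000c42463a40ae6074e62f02cf2ab4c4026), (.prod [nat_lit 207, nat_lit 202])⟩)
 (.nd (nat_lit 214) (.lf ⟨nat_lit 0, nat_lit 2, nat_lit 2, (nat_lit 0x80049320038a7690405030c352b2ce2c85f1), one, (nat_lit 0x80049320038a7690405030c352b2ce2c85f1), (.prod [nat_lit 209, nat_lit 159])⟩)
 (.lf ⟨nat_lit 2, nat_lit 2, nat_lit 0, (nat_lit 0x80065b22e28917c3d025524b1c30043bc391), (nat_lit 0x80065b22e28917c3d025524b1c30043bc391), one, (.wt (nat_lit 18) (nat_lit 0) one (.sp .nil) [] [])⟩)))))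
 (.nd (nat_lit 220) (.nd (nat_lit 217) (.nd (nat_lit 216) (.lf ⟨nat_lit 0, nat_lit 2, nat_lit 2, (nat_lit 0x80065b22e28917c3d025524b1c30043bc391), one, (nat_lit 0x80065b22e28917c3d025524b1c30043bc391), (.we (nat_lit 13) (nat_lit 1) (nat_lit 0x80065b22e28917c3d025524b1c30043bc391) (.st (nat_lit 214) [] [] (.sp .nil)))⟩)
 (.lf ⟨nat_lit 0, nat_lit 2, nat_lit 2, (nat_lit 0x8005a822e3d139113d0b80a61c32f03e317c), one, (nat_lit 0x8005a822e3d139113d0b80a61c32f03e317c), (.inv (nat_lit 183))⟩))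
 (.nd (nat_lit 218) (.lf ⟨nat_lit 0, nat_lit 2, nat_lit 2, (nat_lit 0x8005412461001c13f503904f3e22f01433b4), one, (nat_lit 0x8005412461001c13f503904f3e22f01433b4), (.prod [nat_lit 215, nat_lit 216])⟩)
 (.nd (nat_lit 219) (.lf ⟨nat_lit 0, nat_lit 2, nat_lit 2, (nat_lit 0x8005a822e3d139113d0b80a61c32f03e317c), one, (nat_lit 0x8005a822e3d139113d0b80a61c32f03e317c), (.inv (nat_lit 205))⟩)
 (.lf ⟨nat_lit 0, nat_lit 2, nat_lit 2, (nat_lit 0x8005412461001c13f503904f3e22f01433b4), one, (nat_lit 0x8005412461001c13f503904f3e22f01433b4), (.prod [nat_lit 215, nat_lit 218])⟩))))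
 (.nd (nat_lit 222) (.nd (nat_lit 221) (.lf ⟨nat_lit 2, nat_lit 2, nat_lit 0, (nat_lit 0x8005415253b41ef2f472b28a5993df143001), (nat_lit 0x8005415253b41ef2f472b28a5993df143001), one, (.wt (nat_lit 19) (nat_lit 0) one (.sp .nil) [] [])⟩)
 (.lf ⟨nat_lit 0, nat_lit 2, nat_lit 2, (nat_lit 0x8005415253b41ef2f472b28a5993df143001), one, (nat_lit 0x8005415253b41ef2f472b28a5993df143001), (.we (nat_lit 13) (nat_lit 1) (nat_lit 0x8005415253b41ef2f472b28a5993df143001) (.st (nat_lit 220) [] [] (.sp .nil)))⟩))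
 (.nd (nat_lit 223) (.lf ⟨nat_lit 0, nat_lit 2, nat_lit 2, (nat_lit 0x80040053c0010e82f472b1265992d80023b4), one, (nat_lit 0x80040053c0010e82f472b1265992d80023b4), (.prod [nat_lit 221, nat_lit 217])⟩)
 (.nd (nat_lit 224) (.lf ⟨nat_lit 0, nat_lit 2, nat_lit 2, (nat_lit 0x80040053c0010e82f472b1265992d80023b4), one, (nat_lit 0x80040053c0010e82f472b1265992d80023b4), (.prod [nat_lit 221, nat_lit 219])⟩)
 (.lf ⟨nat_lit 2, nat_lit 2, nat_lit 0, (nat_lit 0x8005e77b012e7475f04772491c16243bc391), (nat_lit 0x8005e77b012e7475f04772491c16243bc391), one, (.wt (nat_lit 20) (nat_lit 0) one (.sp .nil) [] [])⟩))))))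
 (.nd (nat_lit 235) (.nd (nat_lit 230) (.nd (nat_lit 227) (.nd (nat_lit 226) (.lf ⟨nat_lit 0, nat_lit 2, nat_lit 2, (nat_lit 0x8005e77b012e7475f04772491c16243bc391), one, (nat_lit 0x8005e77b012e7475f04772491c16243bc391), (.we (nat_lit 13) (nat_lit 1) (nat_lit 0x8005e77b012e7475f04772491c16243bc391) (.st (nat_lit 224) [] [] (.sp .nil)))⟩)
 (.lf ⟨nat_lit 0, nat_lit 2, nat_lit 2, (nat_lit 0x80049320038a7690405030c352b2ce2c85f1), one, (nat_lit 0x80049320038a7690405030c352b2ce2c85f1), (.inv (nat_lit 191))⟩))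
 (.nd (nat_lit 228) (.lf ⟨nat_lit 0, nat_lit 2, nat_lit 2, (nat_lit 0x8000c47b03a40ae5f04e429a15215e4c63d1), one, (nat_lit 0x8000c47b03a40ae5f04e429a15215e4c63d1), (.prod [nat_lit 225, nat_lit 226])⟩)
 (.nd (nat_lit 229) (.lf ⟨nat_lit 0, nat_lit 2, nat_lit 2, (nat_lit 0x8005415253b41ef2f472b28a5993df143001), one, (nat_lit 0x8005415253b41ef2f472b28a5993df143001), (.inv (nat_lit 221))⟩)
 (.lf ⟨nat_lit 0, nat_lit 2, nat_lit 2, (nat_lit 0x80040022e12e52b2eb73001059d281002701), one, (nat_lit 0x80040022e12e52b2eb73001059d281002701), (.prod (unp (nat_lit 8) (nat_lit 0xe4e3dd03)))⟩))))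
 (.nd (nat_lit 232) (.nd (nat_lit 231) (.lf ⟨nat_lit 0, nat_lit 2, nat_lit 2, (nat_lit 0x80054122e16856d15e67104f7690331435b3), one, (nat_lit 0x80054122e16856d15e67104f7690331435b3), (.prod [nat_lit 229, nat_lit 217])⟩)
 (.lf ⟨nat_lit 0, nat_lit 2, nat_lit 2, (nat_lit 0x80049320038a7690405030c352b2ce2c85f1), one, (nat_lit 0x80049320038a7690405030c352b2ce2c85f1), (.inv (nat_lit 213))⟩))
 (.nd (nat_lit 233) (.lf ⟨nat_lit 0, nat_lit 2, nat_lit 2, (nat_lit 0x8000c47b03a40ae5f04e429a15215e4c63d1), one, (nat_lit 0x8000c47b03a40ae5f04e429a15215e4c63d1), (.prod [nat_lit 225, nat_lit 231])⟩)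
 (.nd (nat_lit 234) (.lf ⟨nat_lit 0, nat_lit 2, nat_lit 2, (nat_lit 0x80040022e12e52b2eb73001059d281002701), one, (nat_lit 0x80040022e12e52b2eb73001059d281002701), (.prod (unp (nat_lit 8) (nat_lit 0xe4e8dd03)))⟩)
 (.lf ⟨nat_lit 0, nat_lit 2, nat_lit 2, (nat_lit 0x80054122e16856d15e67104f7690331435b3), one, (nat_lit 0x80054122e16856d15e67104f7690331435b3), (.prod [nat_lit 233, nat_lit 219])⟩)))))
 (.nd (nat_lit 240) (.nd (nat_lit 237) (.nd (nat_lit 236) (.lf ⟨nat_lit 2, nat_lit 2, nat_lit 0, (nat_lit 0x8002b55547825a53d01c14e351a0044c61d7), (nat_lit 0x8002b55547825a53d01c14e351a0044c61d7), one, (.wt (nat_lit 21) (nat_lit 0) one (.sp .nil) [] [])⟩)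
 (.lf ⟨nat_lit 0, nat_lit 2, nat_lit 2, (nat_lit 0x8002b55547825a53d01c14e351a0044c61d7), one, (nat_lit 0x8002b55547825a53d01c14e351a0044c61d7), (.we (nat_lit 13) (nat_lit 1) (nat_lit 0x8002b55547825a53d01c14e351a0044c61d7) (.st (nat_lit 235) [] [] (.sp .nil)))⟩))
 (.nd (nat_lit 238) (.lf ⟨nat_lit 0, nat_lit 2, nat_lit 2, (nat_lit 0x8002ae54d43c0395f01c32d86bf624141449), one, (nat_lit 0x8002ae54d43c0395f01c32d86bf624141449), (.prod [nat_lit 164, nat_lit 236])⟩)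
 (.nd (nat_lit 239) (.lf ⟨nat_lit 0, nat_lit 2, nat_lit 2, (nat_lit 0x8000b85543ef1d77a2069052255339617229), one, (nat_lit 0x8000b85543ef1d77a2069052255339617229), (.prod [nat_lit 168, nat_lit 236])⟩)
 (.lf ⟨nat_lit 0, nat_lit 2, nat_lit 2, (nat_lit 0x8006852466af0bc23a2a709320851d2b92b5), one, (nat_lit 0x8006852466af0bc23a2a709320851d2b92b5), (.prod [nat_lit 173, nat_lit 236])⟩))))
 (.nd (nat_lit 243) (.nd (nat_lit 241) (.lf ⟨nat_lit 0, nat_lit 2, nat_lit 2, (nat_lit 0x8001ed3ef1d208049054d12d4585bb5ef56c), one, (nat_lit 0x8001ed3ef1d208049054d12d4585bb5ef56c), (.inv (nat_lit 142))⟩)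
 (.nd (nat_lit 242) (.lf ⟨nat_lit 0, nat_lit 2, nat_lit 2, (nat_lit 0x8000fd56d1005252ce2ae2d804e00428c3d7), one, (nat_lit 0x8000fd56d1005252ce2ae2d804e00428c3d7), (.prod (unp (nat_lit 8) (nat_lit 0xf0ec8e03)))⟩)
 (.lf ⟨nat_lit 0, nat_lit 2, nat_lit 2, (nat_lit 0x8007ef56d3b97b06605bc2f43f212d70b047), one, (nat_lit 0x8007ef56d3b97b06605bc2f43f212d70b047), (.prod [nat_lit 180, nat_lit 241])⟩)))
 (.nd (nat_lit 244) (.lf ⟨nat_lit 0, nat_lit 2, nat_lit 2, (nat_lit 0x8000fd52b5f57d84e35a53f512e3df71239a), one, (nat_lit 0x8000fd52b5f57d84e35a53f512e3df71239a), (.prod [nat_lit 185, nat_lit 241])⟩)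
 (.nd (nat_lit 245) (.lf ⟨nat_lit 0, nat_lit 2, nat_lit 2, (nat_lit 0x8007ef52b3e254d4cf7302f03973f3712026), one, (nat_lit 0x8007ef52b3e254d4cf7302f03973f3712026), (.prod [nat_lit 190, nat_lit 241])⟩)
 (.lf ⟨nat_lit 0, nat_lit 2, nat_lit 2, (nat_lit 0x8006782001c32a70930bc01004726c2b904e), one, (nat_lit 0x8006782001c32a70930bc01004726c2b904e), (.inv (nat_lit 144))⟩)))))))

noncomputable def qcT_246 : Tr :=
  (.nd (nat_lit 266) (.nd (nat_lit 256) (.nd (nat_lit 251) (.nd (nat_lit 248) (.nd (nat_lit 247) (.lf ⟨nat_lit 0, nat_lit 2, nat_lit 2, (nat_lit 0x8005415f17b01c16b67a206313a7b3143047), one, (nat_lit 0x8005415f17b01c16b67a206313a7b3143047), (.prod (unp (nat_lit 8) (nat_lit 0xf5f19003)))⟩)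
 (.lf ⟨nat_lit 0, nat_lit 2, nat_lit 2, (nat_lit 0x8004002a73f20e82f409c44922e2d8002047), one, (nat_lit 0x8004002a73f20e82f409c44922e2d8002047), (.prod [nat_lit 221, nat_lit 246])⟩))
 (.nd (nat_lit 249) (.lf ⟨nat_lit 0, nat_lit 2, nat_lit 2, (nat_lit 0x8005413b90471ef2f409c6e222e3df1433f2), one, (nat_lit 0x8005413b90471ef2f409c6e222e3df1433f2), (.prod [nat_lit 222, nat_lit 246])⟩)
 (.nd (nat_lit 250) (.lf ⟨nat_lit 0, nat_lit 2, nat_lit 2, (nat_lit 0x8000c41003911a924722742a0266af4c6512), one, (nat_lit 0x8000c41003911a924722742a0266af4c6512), (.prod [nat_lit 227, nat_lit 246])⟩)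
 (.lf ⟨nat_lit 0, nat_lit 2, nat_lit 2, (nat_lit 0x8000c438a79e0ae51a45c3f51001b44c6701), one, (nat_lit 0x8000c438a79e0ae51a45c3f51001b44c6701), (.prod [nat_lit 246, nat_lit 156])⟩))))
 (.nd (nat_lit 253) (.nd (nat_lit 252) (.lf ⟨nat_lit 0, nat_lit 2, nat_lit 2, (nat_lit 0x80040004e79e0ae6b645749d2cf6dc002069), one, (nat_lit 0x80040004e79e0ae6b645749d2cf6dc002069), (.prod [nat_lit 246, nat_lit 221])⟩)
 (.lf ⟨nat_lit 0, nat_lit 2, nat_lit 2, (nat_lit 0x80054139120052b43c45c60304e5171433b9), one, (nat_lit 0x80054139120052b43c45c60304e5171433b9), (.prod [nat_lit 246, nat_lit 227])⟩))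
 (.nd (nat_lit 254) (.lf ⟨nat_lit 0, nat_lit 2, nat_lit 2, (nat_lit 0x8005415b32a750502324b6e2200126143701), one, (nat_lit 0x8005415b32a750502324b6e2200126143701), (.prod [nat_lit 247, nat_lit 156])⟩)
 (.nd (nat_lit 255) (.lf ⟨nat_lit 0, nat_lit 2, nat_lit 2, (nat_lit 0x80054117c1681a904052322d50b12d143069), one, (nat_lit 0x80054117c1681a904052322d50b12d143069), (.prod [nat_lit 247, nat_lit 221])⟩)
 (.lf ⟨nat_lit 0, nat_lit 2, nat_lit 2, (nat_lit 0x8000c40477010e802324b6b02004cb4c62a7), one, (nat_lit 0x8000c40477010e802324b6b02004cb4c62a7), (.prod [nat_lit 248, nat_lit 156])⟩)))))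
 (.nd (nat_lit 261) (.nd (nat_lit 258) (.nd (nat_lit 257) (.lf ⟨nat_lit 0, nat_lit 2, nat_lit 2, (nat_lit 0x80040074706908004052351750b004002168), one, (nat_lit 0x80040074706908004052351750b004002168), (.prod [nat_lit 248, nat_lit 221])⟩)
 (.lf ⟨nat_lit 0, nat_lit 2, nat_lit 2, (nat_lit 0x8000c43b45f50e854c0936b05b71a44c653c), one, (nat_lit 0x8000c43b45f50e854c0936b05b71a44c653c), (.prod [nat_lit 249, nat_lit 221])⟩))
 (.nd (nat_lit 259) (.lf ⟨nat_lit 0, nat_lit 2, nat_lit 2, (nat_lit 0x8002ae54d43c0395f01c32d86bf624141449), one, (nat_lit 0x8002ae54d43c0395f01c32d86bf624141449), (.prod [nat_lit 164, nat_lit 236])⟩)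
 (.nd (nat_lit 260) (.lf ⟨nat_lit 0, nat_lit 2, nat_lit 2, (nat_lit 0x8006852466af0bc23a2a709320851d2b92b5), one, (nat_lit 0x8006852466af0bc23a2a709320851d2b92b5), (.prod [nat_lit 199, nat_lit 236])⟩)
 (.lf ⟨nat_lit 0, nat_lit 2, nat_lit 2, (nat_lit 0x8000fd56d1005252ce2ae2d804e00428c3d7), one, (nat_lit 0x8000fd56d1005252ce2ae2d804e00428c3d7), (.prod (unp (nat_lit 8) (nat_lit 0xf0ec8e03)))⟩))))
 (.nd (nat_lit 263) (.nd (nat_lit 262) (.lf ⟨nat_lit 0, nat_lit 2, nat_lit 2, (nat_lit 0x8007ef56d3b97b06605bc2f43f212d70b047), one, (nat_lit 0x8007ef56d3b97b06605bc2f43f212d70b047), (.prod [nat_lit 202, nat_lit 260])⟩)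
 (.lf ⟨nat_lit 0, nat_lit 2, nat_lit 2, (nat_lit 0x8000fd52b5f57d84e35a53f512e3df71239a), one, (nat_lit 0x8000fd52b5f57d84e35a53f512e3df71239a), (.prod [nat_lit 207, nat_lit 260])⟩))
 (.nd (nat_lit 264) (.lf ⟨nat_lit 0, nat_lit 2, nat_lit 2, (nat_lit 0x8005415f17b01c16b67a206313a7b3143047), one, (nat_lit 0x8005415f17b01c16b67a206313a7b3143047), (.prod (unp (nat_lit 9) (nat_lit 0x3d6089003)))⟩)
 (.nd (nat_lit 265) (.lf ⟨nat_lit 0, nat_lit 2, nat_lit 2, (nat_lit 0x8004002a73f20e82f409c44922e2d8002047), one, (nat_lit 0x8004002a73f20e82f409c44922e2d8002047), (.prod [nat_lit 221, nat_lit 263])⟩)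
 (.lf ⟨nat_lit 0, nat_lit 2, nat_lit 2, (nat_lit 0x8005413b90471ef2f409c6e222e3df1433f2), one, (nat_lit 0x8005413b90471ef2f409c6e222e3df1433f2), (.prod [nat_lit 223, nat_lit 263])⟩))))))
 (.nd (nat_lit 276) (.nd (nat_lit 271) (.nd (nat_lit 268) (.nd (nat_lit 267) (.lf ⟨nat_lit 0, nat_lit 2, nat_lit 2, (nat_lit 0x8000c41003911a924722742a0266af4c6512), one, (nat_lit 0x8000c41003911a924722742a0266af4c6512), (.prod [nat_lit 232, nat_lit 263])⟩)
 (.lf ⟨nat_lit 0, nat_lit 2, nat_lit 2, (nat_lit 0x8000c438a79e0ae51a45c3f51001b44c6701), one, (nat_lit 0x8000c438a79e0ae51a45c3f51001b44c6701), (.prod [nat_lit 263, nat_lit 161])⟩))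
 (.nd (nat_lit 269) (.lf ⟨nat_lit 0, nat_lit 2, nat_lit 2, (nat_lit 0x8005415b32a750502324b6e2200126143701), one, (nat_lit 0x8005415b32a750502324b6e2200126143701), (.prod [nat_lit 264, nat_lit 161])⟩)
 (.nd (nat_lit 270) (.lf ⟨nat_lit 0, nat_lit 2, nat_lit 2, (nat_lit 0x80054117c1681a904052322d50b12d143069), one, (nat_lit 0x80054117c1681a904052322d50b12d143069), (.prod [nat_lit 264, nat_lit 221])⟩)
 (.lf ⟨nat_lit 0, nat_lit 2, nat_lit 2, (nat_lit 0x8000c43b45f50e854c0936b05b71a44c653c), one, (nat_lit 0x8000c43b45f50e854c0936b05b71a44c653c), (.prod [nat_lit 266, nat_lit 221])⟩))))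
 (.nd (nat_lit 273) (.nd (nat_lit 272) (.lf ⟨nat_lit 1, nat_lit 1, nat_lit 0, one, one, one, (.wt (nat_lit 0) (nat_lit 0) one (.sp .nil) [] [])⟩)
 (.lf ⟨nat_lit 2, nat_lit 2, nat_lit 0, one, one, one, (.wt (nat_lit 13) (nat_lit 0) one (.sp .nil) [] [])⟩))
 (.nd (nat_lit 274) (.lf ⟨nat_lit 1, nat_lit 1, nat_lit 1, (nat_lit 0x80040040949909c02e04e3f5673555141073), (nat_lit 0x80050554174f5ce45c0460730e94ff3b91b4), (nat_lit 0x80019709128c2714e44052274cb5bb397010), (.wt (nat_lit 10) (nat_lit 0) (nat_lit 0x8000c36e26a84d06bf59d3914cb3ac4c12ae) (.st (nat_lit 271) (unp (nat_lit 7) (nat_lit 0x2efa86404)) [] (.sp .nil)) (unp (nat_lit 7) (nat_lit 0xe4e2fe304)) [])⟩)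
 (.nd (nat_lit 275) (.lf ⟨nat_lit 0, nat_lit 0, nat_lit 13, (nat_lit 0x8001ed3ef1d208049054d12d4585bb5ef56c), one, (nat_lit 0x8001ed3ef1d208049054d12d4585bb5ef56c), (.we (nat_lit 32) (nat_lit 0) one (.sp (.st (nat_lit 271) [nat_lit 23] [] (.sp .nil))))⟩)
 (.lf ⟨nat_lit 0, nat_lit 0, nat_lit 14, (nat_lit 0x8004cb2086aa4d03797823e200845c4993f3), one, (nat_lit 0x8004cb2086aa4d03797823e200845c4993f3), (.we (nat_lit 33) (nat_lit 0) one (.sp (.st (nat_lit 271) [nat_lit 25] [] (.sp .nil))))⟩)))))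
 (.nd (nat_lit 281) (.nd (nat_lit 278) (.nd (nat_lit 277) (.lf ⟨nat_lit 0, nat_lit 0, nat_lit 15, (nat_lit 0x8000e822e2891ef6604e62d87696245855a8), one, (nat_lit 0x8000e822e2891ef6604e62d87696245855a8), (.we (nat_lit 34) (nat_lit 0) one (.sp (.st (nat_lit 271) [nat_lit 29] [] (.sp .nil))))⟩)
 (.lf ⟨nat_lit 0, nat_lit 0, nat_lit 16, (nat_lit 0x80065b22e28917c3d025524b1c30043bc391), one, (nat_lit 0x80065b22e28917c3d025524b1c30043bc391), (.we (nat_lit 35) (nat_lit 0) one (.sp (.st (nat_lit 271) [nat_lit 37] [] (.sp .nil))))⟩))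
 (.nd (nat_lit 279) (.lf ⟨nat_lit 0, nat_lit 0, nat_lit 17, (nat_lit 0x8005e77b012e7475f04772491c16243bc391), one, (nat_lit 0x8005e77b012e7475f04772491c16243bc391), (.we (nat_lit 36) (nat_lit 0) one (.sp (.st (nat_lit 271) [nat_lit 55] [] (.sp .nil))))⟩)
 (.nd (nat_lit 280) (.lf ⟨nat_lit 0, nat_lit 0, nat_lit 18, (nat_lit 0x80056d22e5b71ed12d4e406302616958505c), one, (nat_lit 0x80056d22e5b71ed12d4e406302616958505c), (.we (nat_lit 37) (nat_lit 0) one (.sp (.st (nat_lit 271) (unp (nat_lit 6) (nat_lit 0x1de3e03)) [] (.sp .nil))))⟩)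
 (.lf ⟨nat_lit 0, nat_lit 0, nat_lit 21, one, one, one, (.we (nat_lit 40) (nat_lit 0) one (.sp (.st (nat_lit 273) (unp (nat_lit 7) (nat_lit 0x27fb7686405)) (unp (nat_lit 8) (nat_lit 0x828b656c04)) (.st (nat_lit 271) (unp (nat_lit 7) (nat_lit 0x777f76fe305)) [] (.sp .nil)))))⟩))))
 (.nd (nat_lit 284) (.nd (nat_lit 282) (.lf ⟨nat_lit 2, nat_lit 1, nat_lit 281, one, one, one, (.df [])⟩)
 (.nd (nat_lit 283) (.lf ⟨nat_lit 0, nat_lit 281, nat_lit 281, (nat_lit 0x8000804e66a81a93ac51200427a2ab5c156c), one, (nat_lit 0x8000804e66a81a93ac51200427a2ab5c156c), (.cmp (nat_lit 281) (nat_lit 281) (unp (nat_lit 8) (nat_lit 0x8ebede9c04)) (unp (nat_lit 7) (nat_lit 0x5f16a5704)))⟩)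
 (.lf ⟨nat_lit 0, nat_lit 281, nat_lit 281, (nat_lit 0x8001a90fd2a75056243ed2ab5e728a141047), one, (nat_lit 0x8001a90fd2a75056243ed2ab5e728a141047), (.prod [nat_lit 282, nat_lit 282])⟩)))
 (.nd (nat_lit 285) (.lf ⟨nat_lit 0, nat_lit 281, nat_lit 281, (nat_lit 0x8005052ae25b1ef3df0e428a3392f40681aa), one, (nat_lit 0x8005052ae25b1ef3df0e428a3392f40681aa), (.prod [nat_lit 283, nat_lit 282])⟩)
 (.nd (nat_lit 286) (.lf ⟨nat_lit 0, nat_lit 281, nat_lit 281, (nat_lit 0x8001ef54d5991c30335bc2f404e15e4c45a8), one, (nat_lit 0x8001ef54d5991c30335bc2f404e15e4c45a8), (.prod [nat_lit 284, nat_lit 282])⟩)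
 (.lf ⟨nat_lit 0, nat_lit 281, nat_lit 281, (nat_lit 0x8001c30390934005bb24615e6bc01002e0e9), one, (nat_lit 0x8001c30390934005bb24615e6bc01002e0e9), (.prod [nat_lit 285, nat_lit 282])⟩)))))))

noncomputable def qcT_287 : Tr :=
  (.nd (nat_lit 308) (.nd (nat_lit 297) (.nd (nat_lit 292) (.nd (nat_lit 289) (.nd (nat_lit 288) (.lf ⟨nat_lit 0, nat_lit 281, nat_lit 281, (nat_lit 0x80009800144923a0bc08005204f79b4c4033), one, (nat_lit 0x80009800144923a0bc08005204f79b4c4033), (.cmp (nat_lit 281) (nat_lit 281) (unp (nat_lit 8) (nat_lit 0xecb4f79c04)) (unp (nat_lit 8) (nat_lit 0x83486e03)))⟩)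
 (.lf ⟨nat_lit 0, nat_lit 281, nat_lit 281, (nat_lit 0x80068f5b31d73797821a96035bb6b04c63d0), one, (nat_lit 0x80068f5b31d73797821a96035bb6b04c63d0), (.prod [nat_lit 283, nat_lit 287])⟩))
 (.nd (nat_lit 290) (.lf ⟨nat_lit 0, nat_lit 281, nat_lit 281, (nat_lit 0x80056c38a6c52384251ed5ce3ac7b7585624), one, (nat_lit 0x80056c38a6c52384251ed5ce3ac7b7585624), (.prod [nat_lit 285, nat_lit 287])⟩)
 (.nd (nat_lit 291) (.lf ⟨nat_lit 0, nat_lit 281, nat_lit 281, (nat_lit 0x8002380ae69f0982813e27b75a505239027a), one, (nat_lit 0x8002380ae69f0982813e27b75a505239027a), (.prod [nat_lit 286, nat_lit 287])⟩)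
 (.lf ⟨nat_lit 0, nat_lit 281, nat_lit 281, (nat_lit 0x8003d756c43a64b46e1a96693d01b402e5bb), one, (nat_lit 0x8003d756c43a64b46e1a96693d01b402e5bb), (.prod [nat_lit 287, nat_lit 282])⟩))))
 (.nd (nat_lit 294) (.nd (nat_lit 293) (.lf ⟨nat_lit 0, nat_lit 281, nat_lit 281, (nat_lit 0x80022703305845853c23a42a39f200585425), one, (nat_lit 0x80022703305845853c23a42a39f200585425), (.prod [nat_lit 287, nat_lit 287])⟩)
 (.lf ⟨nat_lit 0, nat_lit 281, nat_lit 281, (nat_lit 0x8001802ce5f145a22e68f46e28127114169c), one, (nat_lit 0x8001802ce5f145a22e68f46e28127114169c), (.prod [nat_lit 288, nat_lit 287])⟩))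
 (.nd (nat_lit 295) (.lf ⟨nat_lit 0, nat_lit 281, nat_lit 281, (nat_lit 0x8003392f95b709c7b01a8547126554143782), one, (nat_lit 0x8003392f95b709c7b01a8547126554143782), (.prod [nat_lit 289, nat_lit 287])⟩)
 (.nd (nat_lit 296) (.lf ⟨nat_lit 0, nat_lit 281, nat_lit 281, (nat_lit 0x80038a1ab5b73d70230984775546693e35e7), one, (nat_lit 0x80038a1ab5b73d70230984775546693e35e7), (.prod [nat_lit 290, nat_lit 282])⟩)
 (.lf ⟨nat_lit 0, nat_lit 281, nat_lit 281, (nat_lit 0x8005f03394c149d3b468f0d969c13a390281), one, (nat_lit 0x8005f03394c149d3b468f0d969c13a390281), (.prod [nat_lit 291, nat_lit 287])⟩)))))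
 (.nd (nat_lit 302) (.nd (nat_lit 299) (.nd (nat_lit 298) (.lf ⟨nat_lit 0, nat_lit 281, nat_lit 281, (nat_lit 0x8003f25bb1d21523ef64b22939f4e6046255), one, (nat_lit 0x8003f25bb1d21523ef64b22939f4e6046255), (.prod [nat_lit 292, nat_lit 282])⟩)
 (.lf ⟨nat_lit 0, nat_lit 281, nat_lit 281, (nat_lit 0x8003ed4250a10393d74584935030011437b0), one, (nat_lit 0x8003ed4250a10393d74584935030011437b0), (.prod [nat_lit 292, nat_lit 287])⟩))
 (.nd (nat_lit 300) (.lf ⟨nat_lit 0, nat_lit 281, nat_lit 281, (nat_lit 0x8007013f34574934e45b332e02373006851a), one, (nat_lit 0x8007013f34574934e45b332e02373006851a), (.prod [nat_lit 293, nat_lit 282])⟩)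
 (.nd (nat_lit 301) (.lf ⟨nat_lit 0, nat_lit 281, nat_lit 281, (nat_lit 0x8006731976b64fd3911803b420805c4c6525), one, (nat_lit 0x8006731976b64fd3911803b420805c4c6525), (.prod [nat_lit 293, nat_lit 287])⟩)
 (.lf ⟨nat_lit 0, nat_lit 281, nat_lit 281, (nat_lit 0x80004e4e309117c6710697824d072b5a96a6), one, (nat_lit 0x80004e4e309117c6710697824d072b5a96a6), (.prod [nat_lit 294, nat_lit 282])⟩))))
 (.nd (nat_lit 305) (.nd (nat_lit 303) (.lf ⟨nat_lit 0, nat_lit 281, nat_lit 281, (nat_lit 0x8004e62295555bc6386bc7017963a400222e), one, (nat_lit 0x8004e62295555bc6386bc7017963a400222e), (.prod [nat_lit 294, nat_lit 287])⟩)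
 (.nd (nat_lit 304) (.lf ⟨nat_lit 0, nat_lit 281, nat_lit 281, (nat_lit 0x80013b04e7e949045a5b351751a4053e3023), one, (nat_lit 0x80013b04e7e949045a5b351751a4053e3023), (.prod [nat_lit 296, nat_lit 282])⟩)
 (.lf ⟨nat_lit 0, nat_lit 281, nat_lit 281, (nat_lit 0x8006854e622d51713b1802a8525010620208), one, (nat_lit 0x8006854e622d51713b1802a8525010620208), (.prod [nat_lit 296, nat_lit 287])⟩)))
 (.nd (nat_lit 306) (.lf ⟨nat_lit 0, nat_lit 281, nat_lit 281, (nat_lit 0x8000804e66a81a93ac51200427a2ab5c156c), one, (nat_lit 0x8000804e66a81a93ac51200427a2ab5c156c), (.inv (nat_lit 286))⟩)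
 (.nd (nat_lit 307) (.lf ⟨nat_lit 0, nat_lit 281, nat_lit 281, (nat_lit 0x80064b1c12895b34d01aa1b453c4cb07304e), one, (nat_lit 0x80064b1c12895b34d01aa1b453c4cb07304e), (.prod (unp (nat_lit 9) (nat_lit 0x4c63f1a03)))⟩)
 (.lf ⟨nat_lit 0, nat_lit 281, nat_lit 281, (nat_lit 0x80065b3a410015269c3df3ef52b2294f3554), one, (nat_lit 0x80065b3a410015269c3df3ef52b2294f3554), (.prod [nat_lit 306, nat_lit 306])⟩))))))
 (.nd (nat_lit 318) (.nd (nat_lit 313) (.nd (nat_lit 310) (.nd (nat_lit 309) (.lf ⟨nat_lit 0, nat_lit 281, nat_lit 281, (nat_lit 0x8007ef39a28979e27a25524b06951970b56d), one, (nat_lit 0x8007ef39a28979e27a25524b06951970b56d), (.prod [nat_lit 307, nat_lit 306])⟩)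
 (.lf ⟨nat_lit 0, nat_lit 281, nat_lit 281, (nat_lit 0x8001c30390934005bb24615e6bc01002e0e9), one, (nat_lit 0x8001c30390934005bb24615e6bc01002e0e9), (.inv (nat_lit 282))⟩))
 (.nd (nat_lit 311) (.lf ⟨nat_lit 0, nat_lit 281, nat_lit 281, (nat_lit 0x8007ef39a28979e27a25524b06951970b56d), one, (nat_lit 0x8007ef39a28979e27a25524b06951970b56d), (.inv (nat_lit 306))⟩)
 (.nd (nat_lit 312) (.lf ⟨nat_lit 0, nat_lit 281, nat_lit 281, (nat_lit 0x8005417b05f156d0333ef4cf39a15e143047), one, (nat_lit 0x8005417b05f156d0333ef4cf39a15e143047), (.prod (unp (nat_lit 9) (nat_lit 0x9b4d63f1c04)))⟩)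
 (.lf ⟨nat_lit 0, nat_lit 281, nat_lit 281, (nat_lit 0x80005c0e81003f94d01aa6e25542816173b4), one, (nat_lit 0x80005c0e81003f94d01aa6e25542816173b4), (.prod [nat_lit 306, nat_lit 311])⟩))))
 (.nd (nat_lit 315) (.nd (nat_lit 314) (.lf ⟨nat_lit 0, nat_lit 281, nat_lit 281, (nat_lit 0x80027113a10052527a25551d0017a259e1ef), one, (nat_lit 0x80027113a10052527a25551d0017a259e1ef), (.prod [nat_lit 308, nat_lit 311])⟩)
 (.lf ⟨nat_lit 0, nat_lit 281, nat_lit 281, (nat_lit 0x8004935f528974769c3df73056d43c2c822e), one, (nat_lit 0x8004935f528974769c3df73056d43c2c822e), (.prod [nat_lit 312, nat_lit 306])⟩))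
 (.nd (nat_lit 316) (.lf ⟨nat_lit 0, nat_lit 281, nat_lit 281, (nat_lit 0x80063852b5f13e24d01aa50351229a664152), one, (nat_lit 0x80063852b5f13e24d01aa50351229a664152), (.prod [nat_lit 312, nat_lit 311])⟩)
 (.nd (nat_lit 317) (.lf ⟨nat_lit 0, nat_lit 281, nat_lit 281, (nat_lit 0x8005417d82891ed0400204cf04e16914138a), one, (nat_lit 0x8005417d82891ed0400204cf04e16914138a), (.prod [nat_lit 313, nat_lit 306])⟩)
 (.lf ⟨nat_lit 0, nat_lit 281, nat_lit 281, (nat_lit 0x8000e40085f124627a2556fc0470c1295080), one, (nat_lit 0x8000e40085f124627a2556fc0470c1295080), (.prod [nat_lit 313, nat_lit 311])⟩)))))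
 (.nd (nat_lit 323) (.nd (nat_lit 320) (.nd (nat_lit 319) (.lf ⟨nat_lit 0, nat_lit 281, nat_lit 281, (nat_lit 0x8005e73d71007691970100201ef0a51747d8), one, (nat_lit 0x8005e73d71007691970100201ef0a51747d8), (.prod [nat_lit 314, nat_lit 311])⟩)
 (.lf ⟨nat_lit 0, nat_lit 281, nat_lit 281, (nat_lit 0x8000c450b1001c30333ef3df3b45f05855f5), one, (nat_lit 0x8000c450b1001c30333ef3df3b45f05855f5), (.prod [nat_lit 316, nat_lit 311])⟩))
 (.nd (nat_lit 321) (.lf ⟨nat_lit 0, nat_lit 281, nat_lit 281, (nat_lit 0x80065b38a5f17014094cf3ef08079b3bc50b), one, (nat_lit 0x80065b38a5f17014094cf3ef08079b3bc50b), (.prod [nat_lit 318, nat_lit 311])⟩)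
 (.nd (nat_lit 322) (.lf ⟨nat_lit 0, nat_lit 281, nat_lit 281, (nat_lit 0x80040022e5f11ab6247300101522ce4c43d7), one, (nat_lit 0x80040022e5f11ab6247300101522ce4c43d7), (.prod [nat_lit 319, nat_lit 311])⟩)
 (.lf ⟨nat_lit 0, nat_lit 281, nat_lit 281, (nat_lit 0x8007ef3b45f154d3396e224b5b34057121c3), one, (nat_lit 0x8007ef3b45f154d3396e224b5b34057121c3), (.prod [nat_lit 320, nat_lit 306])⟩))))
 (.nd (nat_lit 326) (.nd (nat_lit 324) (.lf ⟨nat_lit 0, nat_lit 281, nat_lit 281, (nat_lit 0x80064b1ef5f13912eb51d1b479e1263e3769), one, (nat_lit 0x80064b1ef5f13912eb51d1b479e1263e3769), (.prod [nat_lit 321, nat_lit 306])⟩)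
 (.nd (nat_lit 325) (.lf ⟨nat_lit 0, nat_lit 281, nat_lit 281, (nat_lit 0x8000c454d2891ef6247303df13a28a4c6069), one, (nat_lit 0x8000c454d2891ef6247303df13a28a4c6069), (.prod [nat_lit 311, nat_lit 311])⟩)
 (.lf ⟨nat_lit 0, nat_lit 281, nat_lit 281, (nat_lit 0x80067379b6af02006927813a51a638143200), one, (nat_lit 0x80067379b6af02006927813a51a638143200), (.inv (nat_lit 287))⟩)))
 (.nd (nat_lit 327) (.lf ⟨nat_lit 0, nat_lit 281, nat_lit 281, (nat_lit 0x80005c0ae5f100102324b6e2200669664026), one, (nat_lit 0x80005c0ae5f100102324b6e2200669664026), (.inv (nat_lit 317))⟩)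
 (.nd (nat_lit 328) (.lf ⟨nat_lit 0, nat_lit 281, nat_lit 281, (nat_lit 0x8000c40013b908043c45c42a04e0bc4c6200), one, (nat_lit 0x8000c40013b908043c45c42a04e0bc4c6200), (.prod (unp (nat_lit 9) (nat_lit 0xa3516352004)))⟩)
 (.lf ⟨nat_lit 0, nat_lit 281, nat_lit 281, (nat_lit 0x80054138a5b71ef6b056c24c39a79b143246), one, (nat_lit 0x80054138a5b71ef6b056c24c39a79b143246), (.prod [nat_lit 311, nat_lit 327])⟩)))))))

noncomputable def qcT_329 : Tr :=
  (.nd (nat_lit 349) (.nd (nat_lit 339) (.nd (nat_lit 334) (.nd (nat_lit 331) (.nd (nat_lit 330) (.lf ⟨nat_lit 0, nat_lit 281, nat_lit 281, (nat_lit 0x8004005b32cf56d42530a51a74740900222e), one, (nat_lit 0x8004005b32cf56d42530a51a74740900222e), (.prod [nat_lit 324, nat_lit 327])⟩)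
 (.lf ⟨nat_lit 0, nat_lit 281, nat_lit 281, (nat_lit 0x8005413f912e1ef7b70986a676969c1437d8), one, (nat_lit 0x8005413f912e1ef7b70986a676969c1437d8), (.prod [nat_lit 329, nat_lit 311])⟩))
 (.nd (nat_lit 332) (.lf ⟨nat_lit 0, nat_lit 281, nat_lit 281, (nat_lit 0x80054153c3d156d5f04e406315249d1433a4), one, (nat_lit 0x80054153c3d156d5f04e406315249d1433a4), (.prod [nat_lit 330, nat_lit 327])⟩)
 (.nd (nat_lit 333) (.lf ⟨nat_lit 0, nat_lit 281, nat_lit 281, (nat_lit 0x8000c40013b908043c45c42a04e0bc4c6200), one, (nat_lit 0x8000c40013b908043c45c42a04e0bc4c6200), (.inv (nat_lit 327))⟩)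
 (.lf ⟨nat_lit 0, nat_lit 281, nat_lit 281, (nat_lit 0x8000c424612e1ef6605bc2f43f22ce4c638a), one, (nat_lit 0x8000c424612e1ef6605bc2f43f22ce4c638a), (.prod (unp (nat_lit 9) (nat_lit 0x5326f4703)))⟩))))
 (.nd (nat_lit 336) (.nd (nat_lit 335) (.lf ⟨nat_lit 0, nat_lit 281, nat_lit 281, (nat_lit 0x80054122e16856d15e67104f7690331435b3), one, (nat_lit 0x80054122e16856d15e67104f7690331435b3), (.prod [nat_lit 333, nat_lit 333])⟩)
 (.lf ⟨nat_lit 1, nat_lit 281, nat_lit 1, (nat_lit 0x8006fc24749d45c3f55a53f20474d04c63ac), (nat_lit 0x8001d220866926c0584e43e204f2a71433b4), (nat_lit 0x8001d220866926c0584e43e204f2a71433b4), (.wt (nat_lit 12) (nat_lit 1) one (.st (nat_lit 271) [] [] (.sp (.st (nat_lit 281) [] [] .nil))) [nat_lit 25] [])⟩))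
 (.nd (nat_lit 337) (.lf ⟨nat_lit 1, nat_lit 1, nat_lit 281, (nat_lit 0x8006782001c32a70930bc01004726c2b904e), (nat_lit 0x80015e24745e0040c469c3f204f0803a73a4), (nat_lit 0x8006fc24749d45c3f55a53f20474d04c63ac), (.wt (nat_lit 0) (nat_lit 0) (nat_lit 0x8006fc24749d45c3f55a53f20474d04c63ac) (.st (nat_lit 335) [] [] .nil) [nat_lit 25] [])⟩)
 (.nd (nat_lit 338) (.lf ⟨nat_lit 1, nat_lit 2, nat_lit 281, (nat_lit 0x8006fc24749d45c3f55a53f20474d04c63ac), one, (nat_lit 0x8006fc24749d45c3f55a53f20474d04c63ac), (.wt (nat_lit 12) (nat_lit 1) (nat_lit 0x8006fc24749d45c3f55a53f20474d04c63ac) (.st (nat_lit 335) [] [] (.st (nat_lit 271) [] [] (.sp .nil))) [nat_lit 25] [])⟩)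
 (.lf ⟨nat_lit 1, nat_lit 281, nat_lit 2, one, (nat_lit 0x8006fc24749d45c3f55a53f20474d04c63ac), (nat_lit 0x8001d220866926c0584e43e204f2a71433b4), (.wt (nat_lit 0) (nat_lit 0) (nat_lit 0x8006fc24749d45c3f55a53f20474d04c63ac) (.st (nat_lit 337) [] [] .nil) [] [])⟩)))))
 (.nd (nat_lit 344) (.nd (nat_lit 341) (.nd (nat_lit 340) (.lf ⟨nat_lit 2, nat_lit 1, nat_lit 339, (nat_lit 0x8005ef5bc0017006606af62408072b1ed126), one, one, (.df [nat_lit 23, nat_lit 29])⟩)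
 (.lf ⟨nat_lit 0, nat_lit 339, nat_lit 339, (nat_lit 0x8001aa7b328a30a5f103939a5bb397002638), one, (nat_lit 0x80039a50b6782a828a20823852b0042c8001), (.cmp (nat_lit 339) (nat_lit 339) (unp (nat_lit 8) (nat_lit 0xb1bcd903)) (unp (nat_lit 7) (nat_lit 0xd245403)))⟩))
 (.nd (nat_lit 342) (.lf ⟨nat_lit 0, nat_lit 339, nat_lit 339, (nat_lit 0x8003b40d93f549333954d23a70045802e523), one, (nat_lit 0x8002277ef5f16033d74e62d82a86b00a653c), (.cmp (nat_lit 339) (nat_lit 339) (unp (nat_lit 8) (nat_lit 0xab9ae39d04)) (unp (nat_lit 7) (nat_lit 0x471e26c04)))⟩)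
 (.nd (nat_lit 343) (.lf ⟨nat_lit 0, nat_lit 339, nat_lit 339, (nat_lit 0x8005056713644025bf5542ab1a84d002e31a), one, (nat_lit 0x8004cb0e42897a23e25473794026b009353c), (.prod [nat_lit 340, nat_lit 341])⟩)
 (.lf ⟨nat_lit 0, nat_lit 339, nat_lit 339, (nat_lit 0x8004907b328a0106785030800985b763b001), one, (nat_lit 0x80002308910005263850324b7a25f54f35f0), (.prod [nat_lit 341, nat_lit 341])⟩))))
 (.nd (nat_lit 346) (.nd (nat_lit 345) (.lf ⟨nat_lit 0, nat_lit 339, nat_lit 339, (nat_lit 0x80013a20010039a5f051a30a52b62463b638), one, (nat_lit 0x8000c178267827a38a72b0632815f51415f0), (.prod [nat_lit 342, nat_lit 341])⟩)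
 (.lf ⟨nat_lit 0, nat_lit 339, nat_lit 339, (nat_lit 0x80051d67136423a02354c4931a92f0617523), one, (nat_lit 0x80017c1975f11a915e24c30a27a7b045743c), (.prod [nat_lit 343, nat_lit 341])⟩))
 (.nd (nat_lit 347) (.lf ⟨nat_lit 0, nat_lit 339, nat_lit 339, (nat_lit 0x8003ac0d93f52ab09c55540270127861731a), one, (nat_lit 0x8000e869c2890086133ed2ab4d07b031a43c), (.prod [nat_lit 344, nat_lit 341])⟩)
 (.nd (nat_lit 348) (.lf ⟨nat_lit 0, nat_lit 339, nat_lit 339, (nat_lit 0x80051d67136423a02354c4931a92f0617523), one, (nat_lit 0x80017c1975f11a915e24c30a27a7b045743c), (.inv (nat_lit 341))⟩)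
 (.lf ⟨nat_lit 0, nat_lit 339, nat_lit 339, (nat_lit 0x8002a822e12e0086606a609808003363b001), one, (nat_lit 0x8005e754d1001520331b46fc1a973a74f047), (.prod (unp (nat_lit 9) (nat_lit 0x56ea95503)))⟩))))))
 (.nd (nat_lit 359) (.nd (nat_lit 354) (.nd (nat_lit 351) (.nd (nat_lit 350) (.lf ⟨nat_lit 0, nat_lit 339, nat_lit 339, (nat_lit 0x8000691680e405c4fd6131d270172b3901ed), one, (nat_lit 0x8001266a60021ab4cf3d77b765b56c2b95a5), (.cmp (nat_lit 339) (nat_lit 339) (unp (nat_lit 8) (nat_lit 0xa8b4fce5d905)) (unp (nat_lit 7) (nat_lit 0x5d1aa6904)))⟩)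
 (.lf ⟨nat_lit 0, nat_lit 339, nat_lit 339, (nat_lit 0x80023a4055a551d20012d49326c5543901c1), one, (nat_lit 0x80045a0631742813ef0fd49d3b456c5995a5), (.prod [nat_lit 340, nat_lit 349])⟩))
 (.nd (nat_lit 352) (.lf ⟨nat_lit 0, nat_lit 339, nat_lit 339, (nat_lit 0x80013a39f42a39a0a15b72381e52475a94e3), one, (nat_lit 0x80070151a58509c60704022e28124b5a9673), (.prod [nat_lit 341, nat_lit 349])⟩)
 (.nd (nat_lit 353) (.lf ⟨nat_lit 0, nat_lit 339, nat_lit 339, (nat_lit 0x80064b3d04493f954728925b1aa51a5a94cf), one, (nat_lit 0x8005053df4f37472ae79b5f539f24b100673), (.prod [nat_lit 342, nat_lit 349])⟩)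
 (.lf ⟨nat_lit 0, nat_lit 339, nat_lit 339, (nat_lit 0x8001e74055a51d253c2f005c68f2463bc1ed), one, (nat_lit 0x8004cb2550021c15bb63832e7470e973e020), (.prod [nat_lit 343, nat_lit 349])⟩))))
 (.nd (nat_lit 356) (.nd (nat_lit 355) (.lf ⟨nat_lit 0, nat_lit 339, nat_lit 339, (nat_lit 0x8003b41680e44933ed5ce51d3e20393bc1c1), one, (nat_lit 0x8000c14901742eb3ed5120042a80e9168020), (.prod [nat_lit 344, nat_lit 349])⟩)
 (.lf ⟨nat_lit 0, nat_lit 339, nat_lit 339, (nat_lit 0x8000983d044923846e45a39a0472085854e3), one, (nat_lit 0x80039a46e5851802f415e2462eb24902e671), (.prod [nat_lit 345, nat_lit 349])⟩))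
 (.nd (nat_lit 357) (.lf ⟨nat_lit 0, nat_lit 339, nat_lit 339, (nat_lit 0x8007e939f42a25b1a43643f90085555854cf), one, (nat_lit 0x8000e82ab4f365b72b68559d3f52495f1671), (.prod [nat_lit 346, nat_lit 349])⟩)
 (.nd (nat_lit 358) (.lf ⟨nat_lit 0, nat_lit 339, nat_lit 339, (nat_lit 0x80025b6bc7307e922e3f564b0985543bc1ed), one, (nat_lit 0x8004cb3790022782080fd49d0ae4e35f142a), (.inv (nat_lit 352))⟩)
 (.lf ⟨nat_lit 0, nat_lit 339, nat_lit 339, (nat_lit 0x8004007b05b752b2812ae4900692eb0023f2), one, (nat_lit 0x8005e70bc3a713d3e251d25545879e1e53f9), (.prod (unp (nat_lit 9) (nat_lit 0x596a95d03)))⟩)))))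
 (.nd (nat_lit 364) (.nd (nat_lit 361) (.nd (nat_lit 360) (.lf ⟨nat_lit 0, nat_lit 339, nat_lit 339, (nat_lit 0x80005c79e59906939f6dc1d252b5ce6173f2), one, (nat_lit 0x80040059d3a73f555424c30a0264094c4660), (.prod [nat_lit 348, nat_lit 358])⟩)
 (.lf ⟨nat_lit 0, nat_lit 339, nat_lit 339, (nat_lit 0x80064b7b03970475196c51e539a36661756d), one, (nat_lit 0x8005e759d4995195123ed2ab1c14093bc12d), (.prod [nat_lit 359, nat_lit 348])⟩))
 (.nd (nat_lit 362) (.lf ⟨nat_lit 0, nat_lit 339, nat_lit 339, (nat_lit 0x80049353c3973b42ce20868f08049d63b391), one, (nat_lit 0x8005e75172b92eb0690986a63662460a63a4), (.prod [nat_lit 359, nat_lit 358])⟩)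
 (.nd (nat_lit 363) (.lf ⟨nat_lit 0, nat_lit 339, nat_lit 339, (nat_lit 0x80040250b5995052ce2ae60700828a002391), one, (nat_lit 0x8004002292b93390696070395bf50b093391), (.prod [nat_lit 361, nat_lit 348])⟩)
 (.lf ⟨nat_lit 0, nat_lit 339, nat_lit 339, (nat_lit 0x8004005123b90801692b55bb3b412d002391), one, (nat_lit 0x8004005b32b94d053c42a56c0087b700212d), (.prod [nat_lit 358, nat_lit 358])⟩))))
 (.nd (nat_lit 367) (.nd (nat_lit 365) (.lf ⟨nat_lit 0, nat_lit 339, nat_lit 339, (nat_lit 0x80040052528952b6035bc13b3f966900204e), one, (nat_lit 0x8005e722916856d2ce54737945850b1e5685), (.prod [nat_lit 363, nat_lit 358])⟩)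
 (.nd (nat_lit 366) (.lf ⟨nat_lit 0, nat_lit 339, nat_lit 339, (nat_lit 0x80064b1005120475030407e950537c6173f2), one, (nat_lit 0x8005e753c3a73645f530a24c1c13d03bc7b7), (.cmp (nat_lit 339) (nat_lit 339) (unp (nat_lit 8) (nat_lit 0xbbfee5d99d05)) (unp (nat_lit 7) (nat_lit 0x6f534ee04)))⟩)
 (.lf ⟨nat_lit 0, nat_lit 339, nat_lit 339, (nat_lit 0x80005c53c2893d74057d91e739a27a6170e8), one, (nat_lit 0x8005e769c12e0ae6136e21aa27822e52379b), (.inv (nat_lit 360))⟩)))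
 (.nd (nat_lit 368) (.lf ⟨nat_lit 0, nat_lit 339, nat_lit 339, (nat_lit 0x80040028952508042a40549004746e00204e), one, (nat_lit 0x8004003d716856d0890e90d90080a5002525), (.prod [nat_lit 365, nat_lit 366])⟩)
 (.nd (nat_lit 369) (.lf ⟨nat_lit 0, nat_lit 339, nat_lit 339, (nat_lit 0x8004003b951252b24722701002622d002391), one, (nat_lit 0x8005e75f02b94d07b00396074583a41e5246), (.prod [nat_lit 358, nat_lit 367])⟩)
 (.lf ⟨nat_lit 0, nat_lit 339, nat_lit 339, (nat_lit 0x8004005b77b00805036bc13b3d75470023f2), one, (nat_lit 0x8004005123a713d5f54e35a5008660002409), (.prod [nat_lit 363, nat_lit 367])⟩)))))))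

noncomputable def qcT_370 : Tr :=
  (.nd (nat_lit 390) (.nd (nat_lit 380) (.nd (nat_lit 375) (.nd (nat_lit 372) (.nd (nat_lit 371) (.lf ⟨nat_lit 0, nat_lit 339, nat_lit 339, (nat_lit 0x80040010020052b6c55195bb39a6af002001), one, (nat_lit 0x8005e761310008069c06372b4580471e573a), (.prod [nat_lit 364, nat_lit 367])⟩)
 (.lf ⟨nat_lit 2, nat_lit 339, nat_lit 1, one, (nat_lit 0x8005ef5bc0017006606af62408072b1ed126), one, (.wt (nat_lit 13) (nat_lit 0) (nat_lit 0x8005ef5bc0017006606af62408072b1ed126) (.st (nat_lit 339) [] [] .nil) [] [])⟩))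
 (.nd (nat_lit 373) (.lf ⟨nat_lit 2, nat_lit 1, nat_lit 372, (nat_lit 0x80053c0b858537959e0934026072891003e2), one, one, (.df (unp (nat_lit 6) (nat_lit 0x89464804)))⟩)
 (.nd (nat_lit 374) (.lf ⟨nat_lit 0, nat_lit 372, nat_lit 372, (nat_lit 0x8006af68554724717c15e1c35bc5e76177d8), one, (nat_lit 0x80023a6037e92f43f554d2000105e7449278), (.cmp (nat_lit 372) (nat_lit 372) (unp (nat_lit 8) (nat_lit 0xb0bcffe5d99d06)) (unp (nat_lit 8) (nat_lit 0x1786546c04)))⟩)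
 (.lf ⟨nat_lit 0, nat_lit 372, nat_lit 372, (nat_lit 0x8002a70526bc3d14fd3b47b31695a55c1229), one, (nat_lit 0x8005172085f45a80391a96032002493a72ab), (.prod [nat_lit 373, nat_lit 373])⟩))))
 (.nd (nat_lit 377) (.nd (nat_lit 376) (.lf ⟨nat_lit 0, nat_lit 372, nat_lit 372, (nat_lit 0x8001b46a82ab6e228a4ff6787012ce70b5bf), one, (nat_lit 0x80040561367827a52523820860379e58579b), (.prod [nat_lit 374, nat_lit 373])⟩)
 (.lf ⟨nat_lit 0, nat_lit 372, nat_lit 372, (nat_lit 0x80027a68f1ef45876949d4772b53f211e0a6), one, (nat_lit 0x8005a50080916e270115e61320829a0b8505), (.prod [nat_lit 375, nat_lit 373])⟩))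
 (.nd (nat_lit 378) (.lf ⟨nat_lit 0, nat_lit 372, nat_lit 372, (nat_lit 0x8004cf3f96b63ac72b2a83666606732c80e9), one, (nat_lit 0x8005f501028c43c1a87a20086132ae5a924c), (.prod [nat_lit 376, nat_lit 373])⟩)
 (.nd (nat_lit 379) (.lf ⟨nat_lit 0, nat_lit 372, nat_lit 372, (nat_lit 0x8005b706954d2cf6730407e939a72b499400), one, (nat_lit 0x80000118073e61374746e45e6b040024739a), (.cmp (nat_lit 372) (nat_lit 372) (unp (nat_lit 8) (nat_lit 0xa49afde6d905)) (unp (nat_lit 8) (nat_lit 0x1d8c666d04)))⟩)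
 (.lf ⟨nat_lit 0, nat_lit 372, nat_lit 372, (nat_lit 0x80037943a13b1a80264ff16812d3b458505c), one, (nat_lit 0x80054705c6af4e404015218045e7d826c047), (.prod [nat_lit 373, nat_lit 378])⟩)))))
 (.nd (nat_lit 385) (.nd (nat_lit 382) (.nd (nat_lit 381) (.lf ⟨nat_lit 0, nat_lit 372, nat_lit 372, (nat_lit 0x80055450340927161376956c4e415e0467b3), one, (nat_lit 0x8006bc73025b3f251a06905c1803ed11e490), (.prod [nat_lit 374, nat_lit 378])⟩)
 (.lf ⟨nat_lit 0, nat_lit 372, nat_lit 372, (nat_lit 0x8007004cb1e55bb5a528a79e4934fd3901b4), one, (nat_lit 0x80079b4020462004cb70073005c4056b639f), (.prod [nat_lit 375, nat_lit 378])⟩))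
 (.nd (nat_lit 383) (.lf ⟨nat_lit 0, nat_lit 372, nat_lit 372, (nat_lit 0x8006b03395997b713a0203df6242a828c13d), one, (nat_lit 0x8002d86b01d76fc5254d040273073a0930a5), (.prod [nat_lit 376, nat_lit 378])⟩)
 (.nd (nat_lit 384) (.lf ⟨nat_lit 0, nat_lit 372, nat_lit 372, (nat_lit 0x8005231ab30a31a3d017c0a53ed49d74f366), one, (nat_lit 0x8001c145e5232813f36856b040230a068477), (.prod [nat_lit 377, nat_lit 378])⟩)
 (.lf ⟨nat_lit 0, nat_lit 372, nat_lit 372, (nat_lit 0x80022e1a96380fd49d6733f57013d070b5b7), one, (nat_lit 0x80039a12d6784024253df3ef7a200131a004), (.prod [nat_lit 378, nat_lit 378])⟩))))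
 (.nd (nat_lit 387) (.nd (nat_lit 386) (.lf ⟨nat_lit 0, nat_lit 372, nat_lit 372, (nat_lit 0x80064b06322d5b32ae13a2786604ff5c156c), one, (nat_lit 0x80051268f5f459d7966031a912d2ae39724c), (.prod [nat_lit 380, nat_lit 378])⟩)
 (.lf ⟨nat_lit 0, nat_lit 372, nat_lit 372, (nat_lit 0x80009320829a69f15e5a559d008613002700), one, (nat_lit 0x80039f2461001806386bf68f1a979b1e579e), (.prod [nat_lit 381, nat_lit 378])⟩))
 (.nd (nat_lit 388) (.lf ⟨nat_lit 0, nat_lit 372, nat_lit 372, (nat_lit 0x8000234c12275ce6710261a41690202c80a5), one, (nat_lit 0x8005f03ef28c4096070087a22462495992ab), (.prod [nat_lit 383, nat_lit 378])⟩)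
 (.nd (nat_lit 389) (.lf ⟨nat_lit 0, nat_lit 372, nat_lit 372, (nat_lit 0x80019743a50b4252a800425b2b513a11e51a), one, (nat_lit 0x80054752b0916730e812d6600202787b35e7), (.prod [nat_lit 384, nat_lit 373])⟩)
 (.lf ⟨nat_lit 0, nat_lit 372, nat_lit 372, (nat_lit 0x8000ae6aa0985052ce5e72293ed28a046278), one, (nat_lit 0x8001264ff25b4582b505c06927a30a12e477), (.prod [nat_lit 385, nat_lit 378])⟩))))))
 (.nd (nat_lit 400) (.nd (nat_lit 395) (.nd (nat_lit 392) (.nd (nat_lit 391) (.lf ⟨nat_lit 0, nat_lit 372, nat_lit 372, (nat_lit 0x80024b3396aa23a3b42ce7ef5bc02661756d), one, (nat_lit 0x8002d84587e951d36424650b23850543a29a), (.prod [nat_lit 386, nat_lit 373])⟩)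
 (.lf ⟨nat_lit 0, nat_lit 372, nat_lit 372, (nat_lit 0x8005bf3f324c4d04ff15e56d39a2ae499093), one, (nat_lit 0x80079e08073e12d7014cf4ff06939f59e405), (.prod [nat_lit 386, nat_lit 378])⟩))
 (.nd (nat_lit 393) (.lf ⟨nat_lit 0, nat_lit 372, nat_lit 372, (nat_lit 0x8000d950b79b46e0043f20e94e404074f1a4), one, (nat_lit 0x80065b0e952352b45c6b06850803ed058490), (.prod [nat_lit 387, nat_lit 378])⟩)
 (.nd (nat_lit 394) (.lf ⟨nat_lit 0, nat_lit 372, nat_lit 372, (nat_lit 0x8007d951d3f96dc17c72b2f06245e728c010), one, (nat_lit 0x8005a543c1d772b38a27a2a846e0471417d8), (.prod [nat_lit 388, nat_lit 378])⟩)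
 (.lf ⟨nat_lit 0, nat_lit 372, nat_lit 372, (nat_lit 0x8005195170520c37694fd04712d3f2585678), one, (nat_lit 0x80023a5a86af24b1970800527000a54c673a), (.prod [nat_lit 390, nat_lit 378])⟩))))
 (.nd (nat_lit 397) (.nd (nat_lit 396) (.lf ⟨nat_lit 0, nat_lit 372, nat_lit 372, (nat_lit 0x8000a61ab7a245749d3b44493ed3d074f24b), one, (nat_lit 0x80029a2f452352b1a80fd7b04d02d84995a5), (.inv (nat_lit 380))⟩)
 (.lf ⟨nat_lit 0, nat_lit 372, nat_lit 372, (nat_lit 0x8007ef1a95997b03d04ff01070149d70b3d7), one, (nat_lit 0x8000c13a46784d05256fc1b40085f00935f5), (.prod (unp (nat_lit 9) (nat_lit 0x62eeb7a03)))⟩))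
 (.nd (nat_lit 398) (.lf ⟨nat_lit 0, nat_lit 372, nat_lit 372, (nat_lit 0x8000010581ed3a402049d51a49367139022e), one, (nat_lit 0x80000427a0462463f50d90e968539a617400), (.inv (nat_lit 378))⟩)
 (.nd (nat_lit 399) (.lf ⟨nat_lit 0, nat_lit 372, nat_lit 372, (nat_lit 0x8007ef1a95997b03d04ff01070149d70b3d7), one, (nat_lit 0x8000c13a46784d05256fc1b40085f00935f5), (.inv (nat_lit 396))⟩)
 (.lf ⟨nat_lit 0, nat_lit 372, nat_lit 372, (nat_lit 0x8004002463f950528a5a50237012ce0025b7), one, (nat_lit 0x8002787b71000c36380200105bf04714173a), (.prod (unp (nat_lit 9) (nat_lit 0xc7636eb7b04)))⟩)))))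
 (.nd (nat_lit 405) (.nd (nat_lit 402) (.nd (nat_lit 401) (.lf ⟨nat_lit 0, nat_lit 372, nat_lit 372, (nat_lit 0x8002a70526bc3d14fd3b47b31695a55c1229), one, (nat_lit 0x8005172085f45a80391a96032002493a72ab), (.inv (nat_lit 376))⟩)
 (.lf ⟨nat_lit 0, nat_lit 372, nat_lit 372, (nat_lit 0x80040254d06908000472b13d70104000212e), one, (nat_lit 0x80040015e10015219768f6bf2810016a8004), (.prod (unp (nat_lit 9) (nat_lit 0x642f57b03)))⟩))
 (.nd (nat_lit 403) (.lf ⟨nat_lit 0, nat_lit 372, nat_lit 372, (nat_lit 0x8000e41ed3f97b049d4fd13d0083d070b5f1), one, (nat_lit 0x8000c178267827a38a72b0632815f51415f0), (.prod [nat_lit 396, nat_lit 401])⟩)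
 (.nd (nat_lit 404) (.lf ⟨nat_lit 1, nat_lit 1, nat_lit 403, (nat_lit 0x8003ef6bf3390400460a128169f45a2472a8), one, one, (.df (unp (nat_lit 5) (nat_lit 0x1af503)))⟩)
 (.lf ⟨nat_lit 0, nat_lit 403, nat_lit 403, (nat_lit 0x8004005252893f54092f40631c35544c4613), one, (nat_lit 0x8007ef52b2a77b04cb4e42f404739f7123f2), (.cmp (nat_lit 403) (nat_lit 403) (unp (nat_lit 7) (nat_lit 0x9676003)) (unp (nat_lit 8) (nat_lit 0x8a446d03)))⟩))))
 (.nd (nat_lit 408) (.nd (nat_lit 406) (.lf ⟨nat_lit 0, nat_lit 403, nat_lit 403, (nat_lit 0x80040073a1001803d051a42a7a27b76a8391), one, (nat_lit 0x8000c450b1001c30333ef3df3b45f05855f5), (.prod [nat_lit 404, nat_lit 404])⟩)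
 (.nd (nat_lit 407) (.lf ⟨nat_lit 0, nat_lit 403, nat_lit 403, (nat_lit 0x80040043c28917c0333ed3f366954d1e7229), one, (nat_lit 0x8000e41ef2a753c2f072b13b5b302329504e), (.prod [nat_lit 405, nat_lit 404])⟩)
 (.lf ⟨nat_lit 0, nat_lit 403, nat_lit 403, (nat_lit 0x80013a73a10029a6600207302811970915a8), one, (nat_lit 0x8007a232e5b75193e24e406312659d4c63d0), (.cmp (nat_lit 403) (nat_lit 403) (unp (nat_lit 7) (nat_lit 0x1d85768e305)) (unp (nat_lit 7) (nat_lit 0x46de25704)))⟩)))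
 (.nd (nat_lit 409) (.lf ⟨nat_lit 0, nat_lit 403, nat_lit 403, (nat_lit 0x80051943c2893b47d82f413b0c369c58564b), one, (nat_lit 0x8004257a23974097013ef4cf2ce026019603), (.prod [nat_lit 407, nat_lit 404])⟩)
 (.nd (nat_lit 410) (.lf ⟨nat_lit 0, nat_lit 403, nat_lit 403, (nat_lit 0x80002353c28922764b5471a81c30bc69f7d8), one, (nat_lit 0x80050b4001685542eb72b2f45a85bf29539a), (.prod [nat_lit 408, nat_lit 407])⟩)
 (.lf ⟨nat_lit 0, nat_lit 403, nat_lit 403, (nat_lit 0x80013a45e5230c43794252291c33ef2cf3f3), one, (nat_lit 0x8006bc7b71681805b34e413b2f064b4c615e), (.cmp (nat_lit 403) (nat_lit 403) (unp (nat_lit 7) (nat_lit 0x2781768e305)) (unp (nat_lit 7) (nat_lit 0xd645703)))⟩)))))))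

noncomputable def qcT_411 : Tr :=
  (.nd (nat_lit 431) (.nd (nat_lit 421) (.nd (nat_lit 416) (.nd (nat_lit 413) (.nd (nat_lit 412) (.lf ⟨nat_lit 0, nat_lit 403, nat_lit 403, (nat_lit 0x8000235475235bf23842564b76951d11e13b), one, (nat_lit 0x8001c12460585412ce0204cf70128a0023d7), (.prod [nat_lit 407, nat_lit 410])⟩)
 (.lf ⟨nat_lit 0, nat_lit 403, nat_lit 403, (nat_lit 0x80040051a6aa45a0102003d02815a54c16e2), one, (nat_lit 0x80054d1c15b751213d72b3ac3f9669295493), (.prod [nat_lit 408, nat_lit 410])⟩))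
 (.nd (nat_lit 414) (.lf ⟨nat_lit 0, nat_lit 403, nat_lit 403, (nat_lit 0x8005190396aa2a86e25b30017a24e4499010), one, (nat_lit 0x8000bc6bc2cf5170083ef0100402a8019052), (.prod [nat_lit 409, nat_lit 410])⟩)
 (.nd (nat_lit 415) (.lf ⟨nat_lit 0, nat_lit 403, nat_lit 403, (nat_lit 0x8000232b56aa45a4e43d705c7a230a3b946e), one, (nat_lit 0x8007b00e80587ef2814ff010391052295747), (.cmp (nat_lit 403) (nat_lit 403) (unp (nat_lit 7) (nat_lit 0x3e95f6404)) (unp (nat_lit 8) (nat_lit 0x348a54586d05)))⟩)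
 (.lf ⟨nat_lit 0, nat_lit 403, nat_lit 403, (nat_lit 0x8000235475235bf23842564b76951d11e13b), one, (nat_lit 0x8001c12460585412ce0204cf70128a0023d7), (.inv (nat_lit 411))⟩))))
 (.nd (nat_lit 418) (.nd (nat_lit 417) (.lf ⟨nat_lit 0, nat_lit 403, nat_lit 403, (nat_lit 0x8004005252893f54092f40631c35544c4613), one, (nat_lit 0x8007ef52b2a77b04cb4e42f404739f7123f2), (.inv (nat_lit 406))⟩)
 (.lf ⟨nat_lit 0, nat_lit 403, nat_lit 403, (nat_lit 0x8004000471000526247966a652b3910027b7), one, (nat_lit 0x80040279e2a75056605bc3ac3b4624002001), (.prod (unp (nat_lit 9) (nat_lit 0x6833f9e03)))⟩))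
 (.nd (nat_lit 419) (.lf ⟨nat_lit 1, nat_lit 403, nat_lit 1, one, (nat_lit 0x8003ef6bf3390400460a128169f45a2472a8), one, (.wt (nat_lit 0) (nat_lit 0) (nat_lit 0x8003ef6bf3390400460a128169f45a2472a8) (.st (nat_lit 403) [] [] .nil) [] [])⟩)
 (.nd (nat_lit 420) (.lf ⟨nat_lit 1, nat_lit 403, nat_lit 281, (nat_lit 0x8005412552a72cf6133df42a6aa13b18045c), (nat_lit 0x80012d6643d00691d26730c42f43f22810a5), (nat_lit 0x8003917b35f05a828153c69f45e4d00462d8), (.wt (nat_lit 10) (nat_lit 2) (nat_lit 0x80045e4f30c403915e30a79e60332e0b813b) (.st (nat_lit 335) (unp (nat_lit 7) (nat_lit 0x2dfb3716305)) [] (.st (nat_lit 403) [nat_lit 123] [nat_lit 37] .nil)) (unp (nat_lit 7) (nat_lit 0xe5ee6e304)) [])⟩)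
 (.lf ⟨nat_lit 1, nat_lit 281, nat_lit 403, (nat_lit 0x8005122470336133bc4cf1807001c11ed638), (nat_lit 0x80039a6e22cf5a969c70068f1d245c3b4208), (nat_lit 0x8000b83ed53c5556786fc13d2085f16176b0), (.wt (nat_lit 0) (nat_lit 0) (nat_lit 0x8005412552a72cf6133df42a6aa13b18045c) (.st (nat_lit 419) (unp (nat_lit 7) (nat_lit 0x2d4b36fe405)) (unp (nat_lit 9) (nat_lit 0x6772ba103)) .nil) (unp (nat_lit 7) (nat_lit 0x3b730e404)) [])⟩)))))
 (.nd (nat_lit 426) (.nd (nat_lit 423) (.nd (nat_lit 422) (.lf ⟨nat_lit 0, nat_lit 403, nat_lit 403, (nat_lit 0x8000e879b1004c12d85bb6607a26bf701671), one, (nat_lit 0x80069c09c2cf79b64b3ef3df60304729549d), (.cmp (nat_lit 420) (nat_lit 420) (unp (nat_lit 7) (nat_lit 0x2c856f0e305)) (unp (nat_lit 9) (nat_lit 0x4b2954d03)))⟩)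
 (.lf ⟨nat_lit 0, nat_lit 403, nat_lit 403, (nat_lit 0x8005190396aa2a86e25b30017a24e4499010), one, (nat_lit 0x8000bc6bc2cf5170083ef0100402a8019052), (.inv (nat_lit 413))⟩))
 (.nd (nat_lit 424) (.lf ⟨nat_lit 0, nat_lit 403, nat_lit 403, (nat_lit 0x80065b2086aa1433d07826710085f539a660), one, (nat_lit 0x8001ef7ef1001c36030203df64b2eb141701), (.prod [nat_lit 421, nat_lit 422])⟩)
 (.nd (nat_lit 425) (.lf ⟨nat_lit 0, nat_lit 403, nat_lit 403, (nat_lit 0x80065b0986aa7e904051224b7a224629a5f0), one, (nat_lit 0x80052b0e41000805bf3ef0106384d04c613a), (.prod [nat_lit 405, nat_lit 423])⟩)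
 (.lf ⟨nat_lit 0, nat_lit 403, nat_lit 403, (nat_lit 0x80065b25552317440922e2386690bc3b43e2), one, (nat_lit 0x80050b4002a77b03d072b2f44936600193e2), (.prod [nat_lit 406, nat_lit 423])⟩))))
 (.nd (nat_lit 428) (.nd (nat_lit 427) (.lf ⟨nat_lit 1, nat_lit 403, nat_lit 403, (nat_lit 0x8004001a40a15bb12e6034902d82ce002068), (nat_lit 0x8001a96c52477001004cb3ac06373a0025ef), (nat_lit 0x8002a832e02e1c355447779629a0047e93d0), (.wt (nat_lit 10) (nat_lit 2) (nat_lit 0x8004fd6601a468f1697693f223a5b3093409) (.st (nat_lit 418) (unp (nat_lit 7) (nat_lit 0xe2e275f04)) [] (.st (nat_lit 403) [nat_lit 80, nat_lit 62] (unp (nat_lit 7) (nat_lit 0x8f135ee04)) .nil)) (unp (nat_lit 7) (nat_lit 0xe4defe304)) [])⟩)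
 (.lf ⟨nat_lit 1, nat_lit 403, nat_lit 403, (nat_lit 0x8005a908917c09104f6bf4902a7685168098), (nat_lit 0x8006200893b43bc4ff2ab0202a75a84992f4), (nat_lit 0x8003666851004053d75a53f32eb5f5002613), (.wt (nat_lit 10) (nat_lit 2) (nat_lit 0x80043c13b0b850b24913d56d5a80d91003df) (.st (nat_lit 418) (unp (nat_lit 7) (nat_lit 0x71f57b0e305)) [] (.st (nat_lit 403) [nat_lit 100, nat_lit 123] (unp (nat_lit 7) (nat_lit 0x46dea5704)) .nil)) (unp (nat_lit 7) (nat_lit 0x72f7730e405)) [])⟩))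
 (.nd (nat_lit 429) (.lf ⟨nat_lit 1, nat_lit 403, nat_lit 1, (nat_lit 0x8005c11d25f473a52b1a47d82ab45a39a278), (nat_lit 0x80009356d3ed5473792ce3b46bc7964cf6af), (nat_lit 0x80032e7d846e4936a83b93797d93ac12e607), (.wt (nat_lit 11) (nat_lit 2) (nat_lit 0x80078264b6207b71ab0a169f49312654c080) (.st (nat_lit 273) (unp (nat_lit 7) (nat_lit 0x3d0a6e204)) (unp (nat_lit 7) (nat_lit 0x314b9b66e05)) (.st (nat_lit 273) (unp (nat_lit 7) (nat_lit 0x3deb06304)) (unp (nat_lit 8) (nat_lit 0x818b66586e05)) (.st (nat_lit 403) (unp (nat_lit 7) (nat_lit 0xe2fe6d004)) (unp (nat_lit 8) (nat_lit 0x1b8a655804)) .nil))) [nat_lit 37, nat_lit 114] [])⟩)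
 (.nd (nat_lit 430) (.lf ⟨nat_lit 0, nat_lit 403, nat_lit 403, (nat_lit 0x8006dc7e928973a4fd3b90016696e26fc010), one, (nat_lit 0x8003640e83ef2007d91002f41d251a7666bf), (.we (nat_lit 0) (nat_lit 0) (nat_lit 0x8005c11d25f473a52b1a47d82ab45a39a278) (.st (nat_lit 428) (unp (nat_lit 7) (nat_lit 0x81fd003)) (unp (nat_lit 9) (nat_lit 0x6772da103)) (.st (nat_lit 403) (unp (nat_lit 7) (nat_lit 0xe702f5104)) (unp (nat_lit 7) (nat_lit 0x8e45403)) .nil)))⟩)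
 (.lf ⟨nat_lit 0, nat_lit 403, nat_lit 403, (nat_lit 0x80022d5ef6aa7006131741b452b68559d54d), one, (nat_lit 0x8001c14057304096dc2cf3ac69f37c599255), (.prod [nat_lit 408, nat_lit 429])⟩))))))
 (.nd (nat_lit 441) (.nd (nat_lit 436) (.nd (nat_lit 433) (.nd (nat_lit 432) (.lf ⟨nat_lit 0, nat_lit 403, nat_lit 403, (nat_lit 0x8005550a61006b023839754d2814cf4ff1b4), one, (nat_lit 0x80008954d4ff1ed69f1003ac6dc45c7660e9), (.prod [nat_lit 411, nat_lit 429])⟩)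
 (.lf ⟨nat_lit 0, nat_lit 403, nat_lit 403, (nat_lit 0x8006dc4c15232b50017e96a60c362450b7b7), one, (nat_lit 0x8005250895bc51926c1684cf2472383b9249), (.prod [nat_lit 412, nat_lit 429])⟩))
 (.nd (nat_lit 434) (.lf ⟨nat_lit 0, nat_lit 403, nat_lit 403, (nat_lit 0x80022d5c15235037b763b0101c304079e001), one, (nat_lit 0x80053c6b00206bc1d22cf2f47d923a59924b), (.prod [nat_lit 413, nat_lit 429])⟩)
 (.nd (nat_lit 435) (.lf ⟨nat_lit 1, nat_lit 403, nat_lit 339, (nat_lit 0x80053c37c1410c104009c12d1740b81c3001), (nat_lit 0x80051d17c06342a24c12d39f13a56c7b3002), (nat_lit 0x8003ed24c7d92ce2381d25236bf38a1ab685), (.wt (nat_lit 12) (nat_lit 3) (nat_lit 0x8007962a86071b424b54d45a5ce6fc28c1d2) (.st (nat_lit 371) (unp (nat_lit 8) (nat_lit 0xacf4ffd99c05)) [] (.st (nat_lit 403) (unp (nat_lit 7) (nat_lit 0xf37686304)) (unp (nat_lit 8) (nat_lit 0x1787686d04)) (.st (nat_lit 426) (unp (nat_lit 7) (nat_lit 0x10ade203))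 [nat_lit 417, nat_lit 423] .nil))) (unp (nat_lit 7) (nat_lit 0x5b066e304)) [])⟩)
 (.lf ⟨nat_lit 1, nat_lit 339, nat_lit 403, (nat_lit 0x8002a85251ed17c22720828a0696bc4f35f1), (nat_lit 0x8004fd39a5a97d82496242081007e90a556c), (nat_lit 0x8004902714cf0b83d03b45bf43a79b2381c3), (.wt (nat_lit 0) (nat_lit 0) (nat_lit 0x80053c37c1410c104009c12d1740b81c3001) (.st (nat_lit 434) [] [] .nil) (unp (nat_lit 7) (nat_lit 0x9fd3e03)) [])⟩))))
 (.nd (nat_lit 438) (.nd (nat_lit 437) (.lf ⟨nat_lit 1, nat_lit 281, nat_lit 339, (nat_lit 0x8006692ae17c09124b69c5545850632a859d), (nat_lit 0x8002276074e40c104f3f97012592291d252b), (nat_lit 0x8005f14ff4933f53ef0e942a27a5037015b3), (.wt (nat_lit 11) (nat_lit 3) (nat_lit 0x80067319751d0981a85bf7822006a66aa073) (.st (nat_lit 435) (unp (nat_lit 7) (nat_lit 0xe70675104)) (unp (nat_lit 9) (nat_lit 0x58ed57103)) (.st (nat_lit 418) (unp (nat_lit 7) (nat_lit 0xea96dd004))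 [nat_lit 429] (.st (nat_lit 336) (unp (nat_lit 7) (nat_lit 0x1ffd7716305)) [nat_lit 23] .nil))) (unp (nat_lit 8) (nat_lit 0x26805d626305)) [])⟩)
 (.lf ⟨nat_lit 1, nat_lit 339, nat_lit 281, (nat_lit 0x8005410397006692d850b1c352315e31a458), (nat_lit 0x8000c32ae6033bc2f40017b014102027a512), (nat_lit 0x8002b93915ce26c7964cf6a65f15a83974e4), (.wt (nat_lit 0) (nat_lit 0) (nat_lit 0x8006692ae17c09124b69c5545850632a859d) (.st (nat_lit 436) [] [] .nil) (unp (nat_lit 7) (nat_lit 0x2070fa8e405)) [])⟩))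
 (.nd (nat_lit 439) (.lf ⟨nat_lit 1, nat_lit 339, nat_lit 339, (nat_lit 0x80012e19715e2a74cf54d31a6bc7005ef5bf), (nat_lit 0x80013d50313b0525f52294021e73a411e769), (nat_lit 0x8001ed22e4581a904f05c28a1524094c65bc), (.wt (nat_lit 12) (nat_lit 1) (nat_lit 0x80009c6855ce3640265a500162465b4c412e) (.st (nat_lit 435) (unp (nat_lit 7) (nat_lit 0x3ade75104)) (unp (nat_lit 9) (nat_lit 0x58ed57103)) (.st (nat_lit 418) (unp (nat_lit 7) (nat_lit 0x2cf56e8e405)) [nat_lit 423] (.st (nat_lit 339) (unp (nat_lit 8) (nat_lit 0x8ebde3e5d99c06)) (unp (nat_lit 8) (nat_lit 0x708c66696e05)) .nil))) (unp (nat_lit 7) (nat_lit 0x3b01f5004)) [])⟩)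
 (.nd (nat_lit 440) (.lf ⟨nat_lit 1, nat_lit 2, nat_lit 339, (nat_lit 0x80049345c66949911e20068f2380680913bc), (nat_lit 0x80045846e4e60c37b05a83f23f572b1e7397), (nat_lit 0x8000084ff2f049911e6382b53ed0681e72c8), (.wt (nat_lit 11) (nat_lit 3) (nat_lit 0x80009864b42a67313b7017823a45bc5231d7) (.st (nat_lit 435) [nat_lit 115] (unp (nat_lit 9) (nat_lit 0x58ed57103)) (.st (nat_lit 419) (unp (nat_lit 7) (nat_lit 0x7ffdf03)) [nat_lit 417, nat_lit 429] (.st (nat_lit 338) (unp (nat_lit 7) (nat_lit 0x1ff56e8e405)) [] .nil))) (unp (nat_lit 7) (nat_lit 0x744b7706405)) [])⟩)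
 (.lf ⟨nat_lit 1, nat_lit 339, nat_lit 2, (nat_lit 0x8005e76bf30a2275123f96bc3f22f41e5499), (nat_lit 0x80039a04f3f57661680040d920839731a4c6), (nat_lit 0x8004c65e751d73a6dc2d87d94007691ed0a5), (.wt (nat_lit 0) (nat_lit 0) (nat_lit 0x80049345c66949911e20068f2380680913bc) (.st (nat_lit 439) [] [] .nil) (unp (nat_lit 7) (nat_lit 0x2a4b7706305)) [])⟩)))))
 (.nd (nat_lit 446) (.nd (nat_lit 443) (.nd (nat_lit 442) (.lf ⟨nat_lit 1, nat_lit 339, nat_lit 339, (nat_lit 0x80024b7ef54d04e15e60317c2a81000025f4), (nat_lit 0x8003667b34490d967817c5031b4554002499), (nat_lit 0x8006642a77d97000fd19742512d04e23a3b4), (.wt (nat_lit 11) (nat_lit 3) (nat_lit 0x80005c68f6b07d82ce45a47730a5126781d7) (.st (nat_lit 435) (unp (nat_lit 7) (nat_lit 0x73f57286405)) (unp (nat_lit 9) (nat_lit 0x58ed57103)) (.st (nat_lit 419) (unp (nat_lit 7) (nat_lit 0x27ff6f06305)) [nat_lit 404] (.st (nat_lit 436) (unp (nat_lit 7) (nat_lit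 0x1d7efa8e405)) [nat_lit 306, nat_lit 285] .nil))) (unp (nat_lit 7) (nat_lit 0x73f33b06305)) [])⟩)
 (.lf ⟨nat_lit 1, nat_lit 339, nat_lit 339, (nat_lit 0x8005a979b23a4c64e349d6202274e413a3b4), (nat_lit 0x8006203a46711416a65255a952b45e5bf5ce), (nat_lit 0x8005055bc65b5ef50323849d33912d56d673), (.wt (nat_lit 11) (nat_lit 3) (nat_lit 0x8003ac2714cf45e23809c4255170e974f712) (.st (nat_lit 435) (unp (nat_lit 7) (nat_lit 0x1cdc4e03)) (unp (nat_lit 9) (nat_lit 0x58ed57103)) (.st (nat_lit 427) (unp (nat_lit 7) (nat_lit 0x5fddd03)) [nat_lit 417, nat_lit 430] (.st (nat_lit 434) (unp (nat_lit 7) (nat_lit 0x20f57316305)) [nat_lit 404, nat_lit 429] .nil))) (unp (nat_lit 7) (nat_lit 0x3dfade004)) [])⟩))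
 (.nd (nat_lit 444) (.lf ⟨nat_lit 2, nat_lit 2, nat_lit 2, (nat_lit 0x80023a5e74577a251969c00151a0c1664010), (nat_lit 0x80052330a3b44f301913b16837959e4c61c1), (nat_lit 0x8001e57664c467117c6c56af6783f274f22e), (.wt (nat_lit 12) (nat_lit 0) (nat_lit 0x80040073017c0462b922e0635bc73e00226c) (.st (nat_lit 439) [nat_lit 99, nat_lit 96] [] (.st (nat_lit 441) (unp (nat_lit 7) (nat_lit 0x3d0675104)) (unp (nat_lit 9) (nat_lit 0x592d57103)) (.st (nat_lit 440) (unp (nat_lit 7) (nat_lit 0x2bfd7b0e405)) [] .nil))) (unp (nat_lit 9) (nat_lit 0x5624200e504)) [])⟩)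
 (.nd (nat_lit 445) (.lf ⟨nat_lit 2, nat_lit 1, nat_lit 444, (nat_lit 0x80068522e12e74709354c01059928127a56d), one, one, (.df [nat_lit 8])⟩)
 (.lf ⟨nat_lit 0, nat_lit 444, nat_lit 444, (nat_lit 0x80003950b6e27302f01c12f96af13d4c6197), one, (nat_lit 0x8005bc7b06dc0202ce1ef05242a613143197), (.cmp (nat_lit 444) (nat_lit 444) (unp (nat_lit 8) (nat_lit 0xef9ae5d99c05)) (unp (nat_lit 8) (nat_lit 0x81456603)))⟩))))
 (.nd (nat_lit 449) (.nd (nat_lit 447) (.lf ⟨nat_lit 0, nat_lit 444, nat_lit 444, (nat_lit 0x8004005255f50e83f32b54cb1003df002747), one, (nat_lit 0x8000c454d2891ef6247303df13a28a4c6069), (.prod [nat_lit 445, nat_lit 445])⟩)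
 (.nd (nat_lit 448) (.lf ⟨nat_lit 0, nat_lit 444, nat_lit 444, (nat_lit 0x8004007d80080ae2f072b15e5f529a0023b9), one, (nat_lit 0x8005417b05f156d0333ef4cf39a15e143047), (.prod [nat_lit 446, nat_lit 446])⟩)
 (.lf ⟨nat_lit 0, nat_lit 444, nat_lit 444, (nat_lit 0x80046e52572b5473390081696af3642c8229), one, (nat_lit 0x80025520054c47715e0264053ed0334f3229), (.cmp (nat_lit 444) (nat_lit 444) (unp (nat_lit 8) (nat_lit 0xefb4dde5d99d06)) (unp (nat_lit 8) (nat_lit 0x81476603)))⟩)))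
 (.nd (nat_lit 450) (.lf ⟨nat_lit 0, nat_lit 444, nat_lit 444, (nat_lit 0x8000392466af5a53f31ef5bf0892ab4c60d9), one, (nat_lit 0x80003954d1a43ef1690805bf47773a4c6409), (.inv (nat_lit 445))⟩)
 (.nd (nat_lit 451) (.lf ⟨nat_lit 0, nat_lit 444, nat_lit 444, (nat_lit 0x8004c150b1a93d10e90894e300845e4993f9), one, (nat_lit 0x8002a854d3b939a2f937c30a1ab5f074f5b3), (.prod [nat_lit 448, nat_lit 449])⟩)
 (.lf ⟨nat_lit 0, nat_lit 444, nat_lit 444, (nat_lit 0x80005c7b01ef0477e96af2eb1001e56643f2), one, (nat_lit 0x8002a87b039700873a6bf2381c316963b3e2), (.prod [nat_lit 450, nat_lit 446])⟩)))))))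

noncomputable def qcT_452 : Tr :=
  (.nd (nat_lit 473) (.nd (nat_lit 462) (.nd (nat_lit 457) (.nd (nat_lit 454) (.nd (nat_lit 453) (.lf ⟨nat_lit 0, nat_lit 444, nat_lit 444, (nat_lit 0x8005e72461c17693396e22ce5f50c33bc5b7), one, (nat_lit 0x8002a82003d113a6137960981ed2ce4f33f9), (.prod [nat_lit 451, nat_lit 446])⟩)
 (.lf ⟨nat_lit 0, nat_lit 444, nat_lit 444, (nat_lit 0x8005e75251683f23396e26fc59d45874f1ed), one, (nat_lit 0x80040054d12e52b61367313b04e73a1413f9), (.prod [nat_lit 452, nat_lit 450])⟩))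
 (.nd (nat_lit 455) (.lf ⟨nat_lit 0, nat_lit 444, nat_lit 444, (nat_lit 0x8004c17d85b35b70e908969f04e2382b91c3), one, (nat_lit 0x8000c47b02cf0e82f93ed3f31526134c45b3), (.prod [nat_lit 453, nat_lit 446])⟩)
 (.nd (nat_lit 456) (.lf ⟨nat_lit 0, nat_lit 444, nat_lit 444, (nat_lit 0x8004007b05b31ed0400205ce0261691415f1), one, (nat_lit 0x8004937b02893b404050351d50561363b001), (.prod [nat_lit 454, nat_lit 450])⟩)
 (.lf ⟨nat_lit 2, nat_lit 444, nat_lit 1, one, (nat_lit 0x80068522e12e74709354c01059928127a56d), one, (.wt (nat_lit 13) (nat_lit 0) (nat_lit 0x80068522e12e74709354c01059928127a56d) (.st (nat_lit 444) [] [] .nil) [] [])⟩))))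
 (.nd (nat_lit 459) (.nd (nat_lit 458) (.lf ⟨nat_lit 1, nat_lit 1, nat_lit 457, (nat_lit 0x80068522e12e74709354c01059928127a56d), one, one, (.df [nat_lit 8])⟩)
 (.lf ⟨nat_lit 0, nat_lit 457, nat_lit 457, (nat_lit 0x80046e7b01a41b45f004e1802b515e63b69c), one, (nat_lit 0x80003920043a6730401a966937c2ce5850bc), (.cmp (nat_lit 457) (nat_lit 457) (unp (nat_lit 7) (nat_lit 0xe296ed104)) (unp (nat_lit 8) (nat_lit 0x81675803)))⟩))
 (.nd (nat_lit 460) (.lf ⟨nat_lit 0, nat_lit 457, nat_lit 457, (nat_lit 0x80003920043a6730401a966937c2ce5850bc), one, (nat_lit 0x80046e7b01a41b45f004e1802b515e63b69c), (.cmp (nat_lit 457) (nat_lit 457) (unp (nat_lit 7) (nat_lit 0x1c6ed103)) (unp (nat_lit 8) (nat_lit 0x8125675804)))⟩)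
 (.nd (nat_lit 461) (.lf ⟨nat_lit 0, nat_lit 457, nat_lit 457, (nat_lit 0x80046e7b01a41b45f004e1802b515e63b69c), one, (nat_lit 0x80003920043a6730401a966937c2ce5850bc), (.inv (nat_lit 458))⟩)
 (.lf ⟨nat_lit 0, nat_lit 457, nat_lit 457, (nat_lit 0x8005e77b012e7475f04772491c16243bc391), one, (nat_lit 0x8005e77b012e7475f04772491c16243bc391), (.prod [nat_lit 459, nat_lit 460])⟩)))))
 (.nd (nat_lit 467) (.nd (nat_lit 464) (.nd (nat_lit 463) (.lf ⟨nat_lit 0, nat_lit 457, nat_lit 457, (nat_lit 0x8000a50c30463e23f570073049d5e7712505), one, (nat_lit 0x8006241ab1004254930e90d95543667b352b), (.cmp (nat_lit 457) (nat_lit 457) (unp (nat_lit 8) (nat_lit 0x2a803e6104)) (unp (nat_lit 8) (nat_lit 0x358c696e04)))⟩)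
 (.lf ⟨nat_lit 0, nat_lit 457, nat_lit 457, (nat_lit 0x8002383f21436730c459d3a43f32eb6dc5ce), one, (nat_lit 0x80004f1ab4f31b44935b338a23a09c54c227), (.prod [nat_lit 458, nat_lit 462])⟩))
 (.nd (nat_lit 465) (.lf ⟨nat_lit 0, nat_lit 457, nat_lit 457, (nat_lit 0x8006384e329542545c27a3b412d0395c1208), one, (nat_lit 0x80015e5a543a3e251a45a39a0e40982893ef), (.prod [nat_lit 462, nat_lit 458])⟩)
 (.nd (nat_lit 466) (.lf ⟨nat_lit 0, nat_lit 457, nat_lit 457, (nat_lit 0x80068529a0683e27a237954749d40028c17c), one, (nat_lit 0x8000043f212e4250c44902ae55428122d152), (.prod [nat_lit 462, nat_lit 461])⟩)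
 (.lf ⟨nat_lit 0, nat_lit 457, nat_lit 457, (nat_lit 0x8004cb5a54f374751a0896b03391a85f145e), one, (nat_lit 0x8004cb5a54f374751a0896b03391a85f145e), (.prod [nat_lit 463, nat_lit 458])⟩))))
 (.nd (nat_lit 470) (.nd (nat_lit 468) (.lf ⟨nat_lit 0, nat_lit 457, nat_lit 457, (nat_lit 0x80004f1ab4f31b44935b338a23a09c54c227), one, (nat_lit 0x8002383f21436730c459d3a43f32eb6dc5ce), (.prod [nat_lit 463, nat_lit 461])⟩)
 (.nd (nat_lit 469) (.lf ⟨nat_lit 0, nat_lit 457, nat_lit 457, (nat_lit 0x8005a830a70b4255bb6031c312d46e5ef671), one, (nat_lit 0x8002ce24c1a43e24fd0231ed0e44cf2a7796), (.prod [nat_lit 464, nat_lit 461])⟩)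
 (.lf ⟨nat_lit 0, nat_lit 457, nat_lit 457, (nat_lit 0x80036679e0680803d02d84e60080a525b2f9), one, (nat_lit 0x80036679e0680803d02d84e60080a525b2f9), (.prod [nat_lit 465, nat_lit 462])⟩)))
 (.nd (nat_lit 471) (.lf ⟨nat_lit 0, nat_lit 457, nat_lit 457, (nat_lit 0x8006bc24c1430804fd51732e2f03df3d1607), one, (nat_lit 0x8006bc24c1430804fd51732e2f03df3d1607), (.prod [nat_lit 466, nat_lit 461])⟩)
 (.nd (nat_lit 472) (.lf ⟨nat_lit 0, nat_lit 457, nat_lit 457, (nat_lit 0x80009822e2956736601260e837c5a826c033), one, (nat_lit 0x8004cf79e70b1b43d00c17012b56381d2613), (.prod [nat_lit 467, nat_lit 462])⟩)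
 (.lf ⟨nat_lit 1, nat_lit 457, nat_lit 1, one, (nat_lit 0x80068522e12e74709354c01059928127a56d), one, (.wt (nat_lit 0) (nat_lit 0) (nat_lit 0x80068522e12e74709354c01059928127a56d) (.st (nat_lit 457) [] [] .nil) [] [])⟩))))))
 (.nd (nat_lit 483) (.nd (nat_lit 478) (.nd (nat_lit 475) (.nd (nat_lit 474) (.lf ⟨nat_lit 1, nat_lit 457, nat_lit 457, (nat_lit 0x8000c450b2cf0e80233ef3df3a44cb4c6769), (nat_lit 0x8004935252cf70145a7961a838a6bc2c80ae), (nat_lit 0x8005e72001683f215e0d90e91ef00417438a), (.wt (nat_lit 10) (nat_lit 2) (nat_lit 0x8002eb3ed4f32a879642579b45a56c3b951d) (.st (nat_lit 472) (unp (nat_lit 7) (nat_lit 0x330306404)) [] (.st (nat_lit 457) (unp (nat_lit 7) (nat_lit 0x2efa86404)) (unp (nat_lit 7) (nat_lit 0x11625803)) .nil)) (unp (nat_lit 8) (nat_lit 0x27805b5f6405)) [])⟩)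
 (.lf ⟨nat_lit 1, nat_lit 457, nat_lit 403, (nat_lit 0x8005032001001c30404934e31ef5f40a60a5), (nat_lit 0x8000232cf0e454144917c2f456d3e325b7b7), (nat_lit 0x8003f94e659e7ef3f32eb52b0bc45c1003ac), (.wt (nat_lit 10) (nat_lit 2) (nat_lit 0x80024c3912472ae62417c0c16fc0fd6aa38a) (.st (nat_lit 418) (unp (nat_lit 7) (nat_lit 0x736efb06305)) [] (.st (nat_lit 457) (unp (nat_lit 7) (nat_lit 0x353b0e404)) (unp (nat_lit 8) (nat_lit 0x2f8c545704)) .nil)) (unp (nat_lit 7) (nat_lit 0x9675f03)) [])⟩))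
 (.nd (nat_lit 476) (.lf ⟨nat_lit 1, nat_lit 403, nat_lit 457, (nat_lit 0x8005b36b62383f91e52464cb0337e95ef3f3), (nat_lit 0x8003e21b474f02645e7a279e023555168379), (nat_lit 0x80013d2ae63b17c51a6b00bc3396fc2a71a8), (.wt (nat_lit 0) (nat_lit 0) (nat_lit 0x8005032001001c30404934e31ef5f40a60a5) (.st (nat_lit 474) (unp (nat_lit 7) (nat_lit 0x1c6ed103)) [nat_lit 461, nat_lit 458] .nil) (unp (nat_lit 7) (nat_lit 0x3c9716404)) [])⟩)
 (.nd (nat_lit 477) (.lf ⟨nat_lit 1, nat_lit 457, nat_lit 403, (nat_lit 0x8005a94771ed3641a803951d1522083f228a), (nat_lit 0x8002b51ef31a51d74f1aa4773a473e59e678), (nat_lit 0x8001a82006c54ff52513d0522ae2296a83e2), (.wt (nat_lit 10) (nat_lit 2) (nat_lit 0x8007695f56785e743c13b6730e80894f350b) (.st (nat_lit 418) (unp (nat_lit 7) (nat_lit 0x597286304)) [] (.st (nat_lit 457) (unp (nat_lit 7) (nat_lit 0x57fe6e004)) (unp (nat_lit 7) (nat_lit 0x708b974ed05)) .nil)) (unp (nat_lit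 7) (nat_lit 0x2bf56f16405)) [])⟩)
 (.lf ⟨nat_lit 1, nat_lit 403, nat_lit 457, (nat_lit 0x80040040949909c02e04e3f5673555141073), (nat_lit 0x8006173f57d855439f65b09c08908049d4e6), (nat_lit 0x8006712000733df43c4d056d37c73a1415a8), (.wt (nat_lit 0) (nat_lit 0) (nat_lit 0x8005a94771ed3641a803951d1522083f228a) (.st (nat_lit 476) [] [] .nil) (unp (nat_lit 7) (nat_lit 0x1eff7286305)) [])⟩))))
 (.nd (nat_lit 480) (.nd (nat_lit 479) (.lf ⟨nat_lit 1, nat_lit 457, nat_lit 457, (nat_lit 0x8001804cb6a83ef2896dc0a109139f54168f), (nat_lit 0x8001262a845772b02e0196644f33395bf671), (nat_lit 0x8000041ed1007693f568f6bf5124007b3001), (.wt (nat_lit 11) (nat_lit 2) (nat_lit 0x80050b3392cf51745a2ab4e319729a0b8400) (.st (nat_lit 472) (unp (nat_lit 7) (nat_lit 0x57f26e204)) [] (.st (nat_lit 273) (unp (nat_lit 7) (nat_lit 0x4ee2e5f04)) (unp (nat_lit 8) (nat_lit 0x2188685704)) (.st (nat_lit 457) (unp (nat_lit 7) (nat_lit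 0x9686403)) (unp (nat_lit 8) (nat_lit 0x2389686904)) .nil))) (unp (nat_lit 7) (nat_lit 0x34de6e404)) [])⟩)
 (.lf ⟨nat_lit 1, nat_lit 457, nat_lit 457, (nat_lit 0x8000a51d704f13b5a95b326c3f918045a12d), (nat_lit 0x8005bf2476c52ab1683394e606905c09c366), (nat_lit 0x80028179e53c1c366068f5411ef00174f2b9), (.wt (nat_lit 11) (nat_lit 2) (nat_lit 0x80005c6fc6a84586bf1ab7b06bc7124c104f) (.st (nat_lit 474) (unp (nat_lit 7) (nat_lit 0x74fefb0e305)) [nat_lit 461, nat_lit 458] (.st (nat_lit 418) (unp (nat_lit 7) (nat_lit 0x40e1f6404)) [nat_lit 423] (.st (nat_lit 457) (unp (nat_lit 8) (nat_lit 0x76804e5f6405)) (unp (nat_lit 7) (nat_lit 0x451a25804)) .nil))) (unp (nat_lit 7) (nat_lit 0x2e96de404)) [])⟩))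
 (.nd (nat_lit 481) (.lf ⟨nat_lit 1, nat_lit 457, nat_lit 457, (nat_lit 0x8007ef0a100113b25b38a2270b852b3ed126), (nat_lit 0x80022e0a104770052364b45a0b81a92ae023), (nat_lit 0x80051a20038a0805f013a29a1ef11e1e56dc), (.wt (nat_lit 11) (nat_lit 2) (nat_lit 0x8004051aa7e93396bf6132711ed51a3a73ef) (.st (nat_lit 472) (unp (nat_lit 7) (nat_lit 0x1e7f72fe405)) [] (.st (nat_lit 273) (unp (nat_lit 7) (nat_lit 0x72fd730e405)) (unp (nat_lit 7) (nat_lit 0x348d134ed05)) (.st (nat_lit 457) [nat_lit 78, nat_lit 25] (unp (nat_lit 7) (nat_lit 0x308b9f4ed05)) .nil))) (unp (nat_lit 7) (nat_lit 0x704afb0e405)) [])⟩)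
 (.nd (nat_lit 482) (.lf ⟨nat_lit 1, nat_lit 457, nat_lit 457, (nat_lit 0x8003642472f46173d139a6e25f040579b008), (nat_lit 0x8004057967004f31c33911a40a645802005c), (nat_lit 0x8002f43f212628a3f56604095545ef7b34c4), (.wt (nat_lit 11) (nat_lit 2) (nat_lit 0x8000191c14cf2ab0c43b40c324b4d05bc2ce) (.st (nat_lit 476) (unp (nat_lit 7) (nat_lit 0x7383368e405)) [] (.st (nat_lit 418) (unp (nat_lit 7) (nat_lit 0x58e275104)) [nat_lit 423] (.st (nat_lit 457) (unp (nat_lit 7) (nat_lit 0x70f73b16305)) (unp (nat_lit 7) (nat_lit 0x2f173eb04)) .nil))) (unp (nat_lit 7) (nat_lit 0x4ff276204)) [])⟩)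
 (.lf ⟨nat_lit 1, nat_lit 457, nat_lit 457, (nat_lit 0x8005a90a57472005033d040573e2ab3f2002), (nat_lit 0x80016800417c2000207b05e773e4901a931a), (nat_lit 0x80073e3b438a0803df56d32e3974fd22954c), (.wt (nat_lit 11) (nat_lit 2) (nat_lit 0x8005f02f95c17697125851e512e5170bc023) (.st (nat_lit 478) (unp (nat_lit 7) (nat_lit 0x73fb728e305)) [nat_lit 461, nat_lit 469] (.st (nat_lit 480) (unp (nat_lit 7) (nat_lit 0x4ffdf6204)) [nat_lit 461, nat_lit 471] (.st (nat_lit 478) (unp (nat_lit 7) (nat_lit 0x19817afe305)) [nat_lit 461, nat_lit 471] .nil))) (unp (nat_lit 7) (nat_lit 0x5902e5f04)) [])⟩)))))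
 (.nd (nat_lit 488) (.nd (nat_lit 485) (.nd (nat_lit 484) (.lf ⟨nat_lit 1, nat_lit 457, nat_lit 457, (nat_lit 0x8001aa0192462ae0084902786b609c5a82a7), (nat_lit 0x8004fd39028a68f2eb6bf1ed24708079b058), (nat_lit 0x8002814f35a50805f00522466a8685796073), (.wt (nat_lit 11) (nat_lit 3) (nat_lit 0x80006345e1a42465855ef2b95f44773df7b0) (.st (nat_lit 478) (unp (nat_lit 7) (nat_lit 0x4dea76104)) [nat_lit 461, nat_lit 469] (.st (nat_lit 482) (unp (nat_lit 7) (nat_lit 0x28717286305)) [nat_lit 458] (.st (nat_lit 478) (unp (nat_lit 7) (nat_lit 0x2ff9f6004)) [nat_lit 471] .nil))) (unp (nat_lit 7) (nat_lit 0x3edef5104)) [])⟩)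
 (.lf ⟨nat_lit 1, nat_lit 457, nat_lit 457, (nat_lit 0x80040278201043a51a2f456d4e417c1c3379), (nat_lit 0x8005bf12d6bf54c3ed49056d2d80c102651d), (nat_lit 0x80038a2080c16a86037a26380086240691ab), (.wt (nat_lit 11) (nat_lit 3) (nat_lit 0x80024669f1e51267d912d4d06fc51d7ef512) (.st (nat_lit 479) (unp (nat_lit 7) (nat_lit 0xe1eaee304)) [nat_lit 461, nat_lit 471] (.st (nat_lit 481) (unp (nat_lit 7) (nat_lit 0xe6fb0e404)) [nat_lit 461, nat_lit 470] (.st (nat_lit 479) (unp (nat_lit 7) (nat_lit 0xe09676304)) [nat_lit 461, nat_lit 470] .nil))) (unp (nat_lit 7) (nat_lit 0x3bfaed104)) [])⟩))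
 (.nd (nat_lit 486) (.lf ⟨nat_lit 2, nat_lit 2, nat_lit 485, (nat_lit 0x80068522e12e74709354c01059928127a56d), one, one, (.df [nat_lit 8])⟩)
 (.nd (nat_lit 487) (.lf ⟨nat_lit 0, nat_lit 485, nat_lit 485, (nat_lit 0x80051a7b042524c2ce3b423a6716241741a4), one, (nat_lit 0x8000a150b6b07d92f038a0914e439f6641b4), (.cmp (nat_lit 485) (nat_lit 485) (unp (nat_lit 8) (nat_lit 0xef9be6d99d05)) (unp (nat_lit 9) (nat_lit 0x1036937dd2db05)))⟩)
 (.lf ⟨nat_lit 0, nat_lit 485, nat_lit 485, (nat_lit 0x80040054d12e52b61367313b04e73a1413f9), one, (nat_lit 0x8005e75251683f23396e26fc59d45874f1ed), (.prod [nat_lit 486, nat_lit 486])⟩))))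
 (.nd (nat_lit 491) (.nd (nat_lit 489) (.lf ⟨nat_lit 0, nat_lit 485, nat_lit 485, (nat_lit 0x8004007b01681ab2ce2ae4900266244c43a4), one, (nat_lit 0x80005c7d812e3d70231a41d21a95bf5f4769), (.prod [nat_lit 487, nat_lit 487])⟩)
 (.nd (nat_lit 490) (.lf ⟨nat_lit 0, nat_lit 485, nat_lit 485, (nat_lit 0x80065b2460801523660d903339109c3bc12e), one, (nat_lit 0x8006782007012cf69f6b024b047091620080), (.cmp (nat_lit 485) (nat_lit 485) (unp (nat_lit 8) (nat_lit 0xb5e59c03)) (unp (nat_lit 8) (nat_lit 0xd0e9a103)))⟩)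
 (.lf ⟨nat_lit 0, nat_lit 485, nat_lit 485, (nat_lit 0x80065b5250ae0080c337c73a3f94584f33d1), one, (nat_lit 0x80040252574752b0103ef73a3b913b143391), (.prod [nat_lit 488, nat_lit 489])⟩)))
 (.nd (nat_lit 492) (.lf ⟨nat_lit 0, nat_lit 485, nat_lit 485, (nat_lit 0x80064b2001520692590b827828926c0730e8), one, (nat_lit 0x80065b2003f902628a24c2780ae0042c82cf), (.prod [nat_lit 489, nat_lit 489])⟩)
 (.nd (nat_lit 493) (.lf ⟨nat_lit 0, nat_lit 485, nat_lit 485, (nat_lit 0x80049379e56d04e18024c6243a43662c8599), one, (nat_lit 0x8002a87d80691526fc5033663d12494f30ae), (.prod [nat_lit 490, nat_lit 487])⟩)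
 (.lf ⟨nat_lit 0, nat_lit 485, nat_lit 485, (nat_lit 0x80064b7b013a3910a624745a2a769f6171ef), one, (nat_lit 0x8000587d83d712e24b1971e53f251d73e505), (.prod [nat_lit 490, nat_lit 489])⟩)))))))

noncomputable def qcT_494 : Tr :=
  (.nd (nat_lit 514) (.nd (nat_lit 504) (.nd (nat_lit 499) (.nd (nat_lit 496) (.nd (nat_lit 495) (.lf ⟨nat_lit 0, nat_lit 485, nat_lit 485, (nat_lit 0x8005a854d7473d71d222d4583d12593e3505), one, (nat_lit 0x8006385250e85f54057d939f39a458073289), (.prod [nat_lit 491, nat_lit 487])⟩)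
 (.lf ⟨nat_lit 0, nat_lit 485, nat_lit 485, (nat_lit 0x8006785250472892ab32e5231c34e36203f2), one, (nat_lit 0x80049352552b7472781b45f038a364174168), (.prod [nat_lit 493, nat_lit 489])⟩))
 (.nd (nat_lit 497) (.lf ⟨nat_lit 0, nat_lit 485, nat_lit 485, (nat_lit 0x8004c179e5f52cf13b0bc69f1ef3ac2b9769), one, (nat_lit 0x8000c47d82a71c36695a53f33e22eb4c4008), (.prod [nat_lit 494, nat_lit 489])⟩)
 (.nd (nat_lit 498) (.lf ⟨nat_lit 0, nat_lit 485, nat_lit 485, (nat_lit 0x80054154d5b71ed1692b54e33f204014159d), one, (nat_lit 0x8004c152504e5f149051730a1c16072b9047), (.prod [nat_lit 496, nat_lit 489])⟩)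
 (.lf ⟨nat_lit 0, nat_lit 485, nat_lit 485, (nat_lit 0x8006782460691003ac22925b1ab2f411e17c), one, (nat_lit 0x80064b20056d0016a8449023289091617026), (.inv (nat_lit 489))⟩))))
 (.nd (nat_lit 501) (.nd (nat_lit 500) (.lf ⟨nat_lit 0, nat_lit 485, nat_lit 485, (nat_lit 0x8005417b05f156d0333ef4cf39a15e143047), one, (nat_lit 0x8004007d80080ae2f072b15e5f529a0023b9), (.prod (unp (nat_lit 9) (nat_lit 0x7cbcfe903)))⟩)
 (.lf ⟨nat_lit 0, nat_lit 485, nat_lit 485, (nat_lit 0x8000c454d2891ef6247303df13a28a4c6069), one, (nat_lit 0x8004005255f50e83f32b54cb1003df002747), (.prod [nat_lit 499, nat_lit 499])⟩))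
 (.nd (nat_lit 502) (.lf ⟨nat_lit 0, nat_lit 485, nat_lit 485, (nat_lit 0x80051a54d32e37c61376956c4e473a3bc449), one, (nat_lit 0x80051a24642524c45a17c56c7b32783bc730), (.inv (nat_lit 486))⟩)
 (.nd (nat_lit 503) (.lf ⟨nat_lit 0, nat_lit 485, nat_lit 485, (nat_lit 0x80064b2001520692590b827828926c0730e8), one, (nat_lit 0x80065b2003f902628a24c2780ae0042c82cf), (.inv (nat_lit 491))⟩)
 (.lf ⟨nat_lit 0, nat_lit 485, nat_lit 485, (nat_lit 0x80040022e12e52b2eb73001059d281002701), one, (nat_lit 0x80040022e12e52b2eb73001059d281002701), (.prod (unp (nat_lit 9) (nat_lit 0xfb7d7d3e604)))⟩)))))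
 (.nd (nat_lit 509) (.nd (nat_lit 506) (.nd (nat_lit 505) (.lf ⟨nat_lit 0, nat_lit 485, nat_lit 485, (nat_lit 0x8005a854d7473d71d222d4583d12593e3505), one, (nat_lit 0x8006385250e85f54057d939f39a458073289), (.inv (nat_lit 493))⟩)
 (.lf ⟨nat_lit 0, nat_lit 485, nat_lit 485, (nat_lit 0x8005417b05f156d0333ef4cf39a15e143047), one, (nat_lit 0x8004007d80080ae2f072b15e5f529a0023b9), (.inv (nat_lit 500))⟩))
 (.nd (nat_lit 507) (.lf ⟨nat_lit 0, nat_lit 485, nat_lit 485, (nat_lit 0x8005412463d752b13b4e42815f1010143769), one, (nat_lit 0x8000c422e13a1a96695a500438a2814c6397), (.prod (unp (nat_lit 9) (nat_lit 0xfcfe3efe904)))⟩)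
 (.nd (nat_lit 508) (.lf ⟨nat_lit 0, nat_lit 485, nat_lit 485, (nat_lit 0x8000c422e13a1a96695a500438a2814c6397), one, (nat_lit 0x8005412463d752b13b4e42815f1010143769), (.prod [nat_lit 506, nat_lit 506])⟩)
 (.lf ⟨nat_lit 2, nat_lit 485, nat_lit 2, one, (nat_lit 0x80068522e12e74709354c01059928127a56d), one, (.wt (nat_lit 13) (nat_lit 0) (nat_lit 0x80068522e12e74709354c01059928127a56d) (.st (nat_lit 485) [] [] .nil) [] [])⟩))))
 (.nd (nat_lit 511) (.nd (nat_lit 510) (.lf ⟨nat_lit 0, nat_lit 0, nat_lit 10, (nat_lit 0x80054752517c52b0c10a130a0262592f03d1), one, (nat_lit 0x80054752517c52b0c10a130a0262592f03d1), (.we (nat_lit 29) (nat_lit 0) one (.sp (.st (nat_lit 485) (unp (nat_lit 8) (nat_lit 0xbcdde5d99c05)) (unp (nat_lit 8) (nat_lit 0xcbe8eaa104)) (.st (nat_lit 508) (unp (nat_lit 8) (nat_lit 0xbcdde5d99c05)) [] (.st (nat_lit 272) (unp (nat_lit 8) (nat_lit 0xbcdde5d99c05)) [] (.sp .nil))))))⟩)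
 (.lf ⟨nat_lit 1, nat_lit 2, nat_lit 510, (nat_lit 0x8002597667470475f540543a15e1746a6141), one, one, (.df (unp (nat_lit 5) (nat_lit 0x600803)))⟩))
 (.nd (nat_lit 512) (.lf ⟨nat_lit 0, nat_lit 510, nat_lit 510, (nat_lit 0x8002ab3f27e95bc1ed0bc0890100263900c1), one, (nat_lit 0x80073009c24b4e413b43c74750506359e1e5), (.cmp (nat_lit 510) (nat_lit 510) (unp (nat_lit 7) (nat_lit 0x71f7770e305)) (unp (nat_lit 9) (nat_lit 0x18b0685ba9b6a106)))⟩)
 (.nd (nat_lit 513) (.lf ⟨nat_lit 0, nat_lit 510, nat_lit 510, (nat_lit 0x8005b33ef28c0fd3f35bf56d08930a12e490), one, (nat_lit 0x80069c6c50d96b004e12d0c44fd17c62022e), (.prod [nat_lit 511, nat_lit 511])⟩)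
 (.lf ⟨nat_lit 0, nat_lit 510, nat_lit 510, (nat_lit 0x80039a39167849332e3ac4e456d79b4f379e), one, (nat_lit 0x8001693f56780331c32f45bc51756d390458), (.prod [nat_lit 512, nat_lit 511])⟩))))))
 (.nd (nat_lit 524) (.nd (nat_lit 519) (.nd (nat_lit 516) (.nd (nat_lit 515) (.lf ⟨nat_lit 0, nat_lit 510, nat_lit 510, (nat_lit 0x8002ae1ef0914cf70112d6604e40c459e023), one, (nat_lit 0x8003ac5f50e97003ef65b7826244ff174449), (.prod [nat_lit 513, nat_lit 511])⟩)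
 (.lf ⟨nat_lit 0, nat_lit 510, nat_lit 510, (nat_lit 0x8004772711a424b3f90c33390d95541742ce), one, (nat_lit 0x8005f56c568f3a43392715ce2ab0c10685f0), (.cmp (nat_lit 510) (nat_lit 510) (unp (nat_lit 7) (nat_lit 0x1cade003)) (unp (nat_lit 8) (nat_lit 0xc8dfe9a204)))⟩))
 (.nd (nat_lit 517) (.lf ⟨nat_lit 0, nat_lit 510, nat_lit 510, (nat_lit 0x80039a0e94c41ef79643c05c3394e32a737c), one, (nat_lit 0x8002004002cf7d86030203df64b4d0712152), (.prod [nat_lit 511, nat_lit 515])⟩)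
 (.nd (nat_lit 518) (.lf ⟨nat_lit 0, nat_lit 510, nat_lit 510, (nat_lit 0x80030a0696dc6bf7ef4d00521aa5b3585229), one, (nat_lit 0x80009c25951d22738a12650b3ed5a86201a9), (.prod [nat_lit 513, nat_lit 515])⟩)
 (.lf ⟨nat_lit 0, nat_lit 510, nat_lit 510, (nat_lit 0x80079b1805b77b713a6732f416939a01939f), one, (nat_lit 0x8006c52006bf0b86a838a4057b70a6390673), (.prod [nat_lit 517, nat_lit 511])⟩))))
 (.nd (nat_lit 521) (.nd (nat_lit 520) (.lf ⟨nat_lit 0, nat_lit 510, nat_lit 510, (nat_lit 0x8000c42553bc04e45c3d07b06692ae058249), one, (nat_lit 0x8003f509c12e29a2716a86b6660525174197), (.prod [nat_lit 518, nat_lit 511])⟩)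
 (.lf ⟨nat_lit 0, nat_lit 510, nat_lit 510, (nat_lit 0x8005b33ef28c0fd3f35bf56d08930a12e490), one, (nat_lit 0x80069c6c50d96b004e12d0c44fd17c62022e), (.inv (nat_lit 514))⟩))
 (.nd (nat_lit 522) (.lf ⟨nat_lit 0, nat_lit 510, nat_lit 510, (nat_lit 0x8000c450b1001c30333ef3df3b45f05855f5), one, (nat_lit 0x8005f52005993f933954c1e53b40c16170c4), (.prod (unp (nat_lit 10) (nat_lit 0x20880e0403)))⟩)
 (.nd (nat_lit 523) (.lf ⟨nat_lit 0, nat_lit 510, nat_lit 510, (nat_lit 0x8001c16136784934256fc1b45bf5b36a82ce), one, (nat_lit 0x8000c12eb7662273d726c43a6855f50025f0), (.cmp (nat_lit 510) (nat_lit 510) (unp (nat_lit 7) (nat_lit 0x2c837b0e405)) (unp (nat_lit 9) (nat_lit 0x128a086ba9b6a206)))⟩)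
 (.lf ⟨nat_lit 0, nat_lit 510, nat_lit 510, (nat_lit 0x80039a39167849332e3ac4e456d79b4f379e), one, (nat_lit 0x8001693f56780331c32f45bc51756d390458), (.inv (nat_lit 513))⟩)))))
 (.nd (nat_lit 529) (.nd (nat_lit 526) (.nd (nat_lit 525) (.lf ⟨nat_lit 0, nat_lit 510, nat_lit 510, (nat_lit 0x80065b7821000800332082387a2554259229), one, (nat_lit 0x8005a822e12e3a43640b80a639a09c3901a9), (.prod [nat_lit 522, nat_lit 523])⟩)
 (.lf ⟨nat_lit 0, nat_lit 510, nat_lit 510, (nat_lit 0x8005540635f459d6717a20086604773d13ed), one, (nat_lit 0x8007692595035e72290ae49d3f30890682eb), (.inv (nat_lit 511))⟩))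
 (.nd (nat_lit 527) (.lf ⟨nat_lit 0, nat_lit 510, nat_lit 510, (nat_lit 0x8005e754d1001520331b46fc1a973a74f047), one, (nat_lit 0x8004050896783393f94e43ac13d0014c6004), (.prod (unp (nat_lit 10) (nat_lit 0x20d831ff03)))⟩)
 (.nd (nat_lit 528) (.lf ⟨nat_lit 0, nat_lit 510, nat_lit 510, (nat_lit 0x80065b24610076904050324b56d2ce2c85b3), one, (nat_lit 0x8005f00893d10400800b82592810c43e30c1), (.prod [nat_lit 521, nat_lit 526])⟩)
 (.lf ⟨nat_lit 1, nat_lit 510, nat_lit 2, one, (nat_lit 0x8002597667470475f540543a15e1746a6141), one, (.wt (nat_lit 0) (nat_lit 0) (nat_lit 0x8002597667470475f540543a15e1746a6141) (.st (nat_lit 510) [] [] .nil) [] [])⟩))))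
 (.nd (nat_lit 532) (.nd (nat_lit 530) (.lf ⟨nat_lit 1, nat_lit 510, nat_lit 510, (nat_lit 0x8005a94771ed3641a803951d1522083f228a), (nat_lit 0x8005a924c52b6bc30a4ff2387691b404e5f0), (nat_lit 0x8005ce1975f15bf3d747724933959d4f3169), (.wt (nat_lit 10) (nat_lit 2) (nat_lit 0x80059d23843a64b1b40ae3f52f924c06804f) (.st (nat_lit 528) (unp (nat_lit 8) (nat_lit 0x75806003)) [] (.st (nat_lit 510) (unp (nat_lit 7) (nat_lit 0x5bef0e304)) [nat_lit 159, nat_lit 193] .nil)) (unp (nat_lit 7) (nat_lit 0xedea6e404)) [])⟩)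
 (.nd (nat_lit 531) (.lf ⟨nat_lit 1, nat_lit 510, nat_lit 339, (nat_lit 0x8005412552a72cf6133df42a6aa13b18045c), (nat_lit 0x8000102f02897823ef0985bc66027a3bc7d9), (nat_lit 0x8003ed5a55f45b303363b5c14256fc45a42a), (.wt (nat_lit 10) (nat_lit 2) (nat_lit 0x8002b50336602ab0802a85bb01004728c002) (.st (nat_lit 440) (unp (nat_lit 7) (nat_lit 0x3df706404)) [] (.st (nat_lit 510) (unp (nat_lit 8) (nat_lit 0x70805b5f04)) (unp (nat_lit 9) (nat_lit 0xc548431d2a105)) .nil)) (unp (nat_lit 7) (nat_lit 0xfcfb16304)) [])⟩)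
 (.lf ⟨nat_lit 1, nat_lit 339, nat_lit 510, (nat_lit 0x80051d0a516856d50323a3ef4cb12d22d4f3), (nat_lit 0x8007ef4fd3d10685196e26076b67002004e6), (nat_lit 0x8002c85413ac1a46605b33d07e91c30936b0), (.wt (nat_lit 0) (nat_lit 0) (nat_lit 0x8005412552a72cf6133df42a6aa13b18045c) (.st (nat_lit 530) [] [] .nil) (unp (nat_lit 7) (nat_lit 0xf97a8e404)) [])⟩)))
 (.nd (nat_lit 533) (.lf ⟨nat_lit 1, nat_lit 510, nat_lit 339, (nat_lit 0x8005c17123a729a39179e5f06854e41c33ac), (nat_lit 0x8007ef1ab43c16959d6dc7475f1523766409), (nat_lit 0x80073a24955556c0d913a5193a404013d22e), (.wt (nat_lit 12) (nat_lit 2) (nat_lit 0x8000c33ef30a3393d75f03f24004774c62a7) (.st (nat_lit 440) (unp (nat_lit 7) (nat_lit 0x34de6e004)) [] (.st (nat_lit 443) (unp (nat_lit 8) (nat_lit 0xecf2fce6d99d06)) (unp (nat_lit 8) (nat_lit 0x969fdb03)) (.st (nat_lit 510) (unp (nat_lit 8) (nat_lit 0x1a805e506405)) (unp (nat_lit 8) (nat_lit 0xc5ccddeadb05))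 .nil))) (unp (nat_lit 8) (nat_lit 0x17805e516305)) [])⟩)
 (.nd (nat_lit 534) (.lf ⟨nat_lit 1, nat_lit 339, nat_lit 510, (nat_lit 0x8005412083b439a0526202b574f390143366), (nat_lit 0x8005856dc6a80c12d87966a64e673a0ae5f0), (nat_lit 0x8002380804e374f2eb2295545851ed1a87ef), (.wt (nat_lit 0) (nat_lit 0) (nat_lit 0x8005c17123a729a39179e5f06854e41c33ac) (.st (nat_lit 532) (unp (nat_lit 7) (nat_lit 0x2cf93a8e305)) (unp (nat_lit 10) (nat_lit 0x20783e0c03)) .nil) (unp (nat_lit 7) (nat_lit 0x4f06ee404)) [])⟩)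
 (.lf ⟨nat_lit 1, nat_lit 510, nat_lit 281, (nat_lit 0x8000582f42cf13a0c10263395b343a45a6c5), (nat_lit 0x80013d0805e70e47006bc0735bc046607458), (nat_lit 0x80024c0800022497967ef5120e80986dc13b), (.wt (nat_lit 12) (nat_lit 2) (nat_lit 0x80017c6717e94d045e5545f03661b412e020) (.st (nat_lit 338) (unp (nat_lit 7) (nat_lit 0x65f6203)) [] (.st (nat_lit 443) (unp (nat_lit 8) (nat_lit 0xadf3dde6d99c06)) (unp (nat_lit 9) (nat_lit 0xa482c25d2a105)) (.st (nat_lit 510) (unp (nat_lit 7) (nat_lit 0x51eade304)) (unp (nat_lit 8) (nat_lit 0xc5ccddeadb05)) .nil))) (unp (nat_lit 7) (nat_lit 0x1d60be03)) [])⟩)))))))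

noncomputable def qcT_535 : Tr :=
  (.nd (nat_lit 555) (.nd (nat_lit 545) (.nd (nat_lit 540) (.nd (nat_lit 537) (.nd (nat_lit 536) (.lf ⟨nat_lit 1, nat_lit 510, nat_lit 510, (nat_lit 0x80005c0e85b74583a722e68537901045e24c), (nat_lit 0x80046e56d1e70c12593792f42460330a5782), (nat_lit 0x8007006b00195bc06300412d40972b1aa093), (.wt (nat_lit 12) (nat_lit 2) (nat_lit 0x80027145802e04756d4e62ae0a55ce43a29a) (.st (nat_lit 528) (unp (nat_lit 7) (nat_lit 0xff7306404)) [] (.st (nat_lit 443) (unp (nat_lit 8) (nat_lit 0xec90fce604)) (unp (nat_lit 9) (nat_lit 0xc169c39b6a105)) (.st (nat_lit 510) (unp (nat_lit 7) (nat_lit 0x2cff3afe405)) (unp (nat_lit 9) (nat_lit 0x8133614e904)) .nil))) (unp (nat_lit 7) (nat_lit 0x593b06304)) [])⟩)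
 (.lf ⟨nat_lit 2, nat_lit 2, nat_lit 536, (nat_lit 0x8002a80a125b3ef69c2293ac5f452b6aa180), one, one, (.df (unp (nat_lit 5) (nat_lit 0x739703)))⟩))
 (.nd (nat_lit 538) (.lf ⟨nat_lit 0, nat_lit 536, nat_lit 536, (nat_lit 0x8005413f279e1ef5556aa6603d10b858538a), one, (nat_lit 0x80076674756d1683ef0234493a44ff73e525), (.cmp (nat_lit 536) (nat_lit 536) (unp (nat_lit 9) (nat_lit 0x5cc01cad904)) (unp (nat_lit 9) (nat_lit 0xd086ba5b6a105)))⟩)
 (.nd (nat_lit 539) (.lf ⟨nat_lit 0, nat_lit 536, nat_lit 536, (nat_lit 0x80040059904e0e82d87a254c53c2f40023d7), one, (nat_lit 0x8005410473b95055ce23820879e4cb1433f2), (.prod [nat_lit 537, nat_lit 537])⟩)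
 (.lf ⟨nat_lit 0, nat_lit 536, nat_lit 536, (nat_lit 0x8004007015120ae7d969f15e1687b300238a), one, (nat_lit 0x8000c43b42a71c14257e97d93a40a54c6246), (.prod [nat_lit 538, nat_lit 538])⟩))))
 (.nd (nat_lit 542) (.nd (nat_lit 541) (.lf ⟨nat_lit 0, nat_lit 536, nat_lit 536, (nat_lit 0x8005547661c17b030a7b72f44936fc019047), one, (nat_lit 0x80043c4493ef08956d5f07477965412b9525), (.cmp (nat_lit 536) (nat_lit 536) (unp (nat_lit 8) (nat_lit 0xadfae503)) (unp (nat_lit 9) (nat_lit 0x1036a435d4db05)))⟩)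
 (.lf ⟨nat_lit 0, nat_lit 536, nat_lit 536, (nat_lit 0x8001527ef0ae0082386bf73a4c11aa63b3e2), one, (nat_lit 0x8004572085ce7e93b94e60473ac4c14c43f2), (.prod [nat_lit 540, nat_lit 537])⟩))
 (.nd (nat_lit 543) (.lf ⟨nat_lit 0, nat_lit 536, nat_lit 536, (nat_lit 0x8003971ab53c10022d7a206304e1a46205a8), one, (nat_lit 0x80045c3e22f923a0bc08042a3ac79b4c4247), (.prod [nat_lit 540, nat_lit 540])⟩)
 (.nd (nat_lit 544) (.lf ⟨nat_lit 0, nat_lit 536, nat_lit 536, (nat_lit 0x80015256d51200822d6aa66016854c2c864b), one, (nat_lit 0x8003f504e26c2f04e63b97d93ac4fd3a71b4), (.cmp (nat_lit 536) (nat_lit 536) (unp (nat_lit 8) (nat_lit 0xa4f2f7e604)) (unp (nat_lit 9) (nat_lit 0x954fc39b6a105)))⟩)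
 (.lf ⟨nat_lit 0, nat_lit 536, nat_lit 536, (nat_lit 0x80039722e5e74c12ab78256c0804e36205f5), one, (nat_lit 0x80045e1a46603794d04e404e3a43f54c63f3), (.inv (nat_lit 541))⟩)))))
 (.nd (nat_lit 550) (.nd (nat_lit 547) (.nd (nat_lit 546) (.lf ⟨nat_lit 0, nat_lit 536, nat_lit 536, (nat_lit 0x8005412a713a1a93ac45a2477b06075853d7), one, (nat_lit 0x8006783d70e82cf69f16950379e091620769), (.inv (nat_lit 537))⟩)
 (.lf ⟨nat_lit 0, nat_lit 536, nat_lit 536, (nat_lit 0x80040059904e0e82d87a254c53c2f40023d7), one, (nat_lit 0x8005410473b95055ce23820879e4cb1433f2), (.inv (nat_lit 539))⟩))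
 (.nd (nat_lit 548) (.lf ⟨nat_lit 0, nat_lit 536, nat_lit 536, (nat_lit 0x80054122e17c1ef3df0202ce3b92f41433e2), one, (nat_lit 0x8000c450b2cf0e80233ef3df3a44cb4c6769), (.prod (unp (nat_lit 10) (nat_lit 0x88a218821f04)))⟩)
 (.nd (nat_lit 549) (.lf ⟨nat_lit 0, nat_lit 536, nat_lit 536, (nat_lit 0x80051d49043a24b53c69f2cf0407ef143047), one, (nat_lit 0x80052b2a82cf1a932e31a6c505c2294c6525), (.cmp (nat_lit 536) (nat_lit 536) (unp (nat_lit 9) (nat_lit 0xb05bc01ca9d05)) (unp (nat_lit 9) (nat_lit 0xc74fc35d4db05)))⟩)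
 (.lf ⟨nat_lit 0, nat_lit 536, nat_lit 536, (nat_lit 0x8006c51aa2d843a5e70202a73d07017125b3), one, (nat_lit 0x8002b553c0893ed6031a92ab0a139f58524c), (.prod [nat_lit 542, nat_lit 548])⟩))))
 (.nd (nat_lit 552) (.nd (nat_lit 551) (.lf ⟨nat_lit 1, nat_lit 2, nat_lit 550, (nat_lit 0x80068522e12e74709354c01059928127a56d), one, one, (.df [nat_lit 8])⟩)
 (.lf ⟨nat_lit 0, nat_lit 550, nat_lit 550, (nat_lit 0x8004932002cf70116942a23a52b03317459d), one, (nat_lit 0x8004c124659d3b94905170911a904f4993b4), (.cmp (nat_lit 550) (nat_lit 550) (unp (nat_lit 7) (nat_lit 0xddf5103)) [nat_lit 233, nat_lit 208])⟩))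
 (.nd (nat_lit 553) (.lf ⟨nat_lit 0, nat_lit 550, nat_lit 550, (nat_lit 0x8005412005991c173a4e604f3b42f95853e2), one, (nat_lit 0x80005c2000263f97e96af09c12e25b5f41ab), (.prod [nat_lit 551, nat_lit 551])⟩)
 (.nd (nat_lit 554) (.lf ⟨nat_lit 0, nat_lit 550, nat_lit 550, (nat_lit 0x8000c47b02cf0e82f93ed3f31526134c45b3), one, (nat_lit 0x8004c17d85b35b70e908969f04e2382b91c3), (.cmp (nat_lit 550) (nat_lit 550) [nat_lit 78, nat_lit 66] (unp (nat_lit 8) (nat_lit 0xd2e8e9a204)))⟩)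
 (.lf ⟨nat_lit 0, nat_lit 550, nat_lit 550, (nat_lit 0x8002a87b039700873a6bf2381c316963b3e2), one, (nat_lit 0x80005c7b01ef0477e96af2eb1001e56643f2), (.prod [nat_lit 551, nat_lit 553])⟩))))))
 (.nd (nat_lit 565) (.nd (nat_lit 560) (.nd (nat_lit 557) (.nd (nat_lit 556) (.lf ⟨nat_lit 0, nat_lit 550, nat_lit 550, (nat_lit 0x80040054d12e52b61367313b04e73a1413f9), one, (nat_lit 0x8005e75251683f23396e26fc59d45874f1ed), (.prod [nat_lit 554, nat_lit 551])⟩)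
 (.lf ⟨nat_lit 0, nat_lit 550, nat_lit 550, (nat_lit 0x8005e754d1001520331b46fc1a973a74f047), one, (nat_lit 0x80040050b1681ab2f072b13b5b339f14139a), (.prod [nat_lit 554, nat_lit 553])⟩))
 (.nd (nat_lit 558) (.lf ⟨nat_lit 0, nat_lit 550, nat_lit 550, (nat_lit 0x8005417b05f156d0333ef4cf39a15e143047), one, (nat_lit 0x8004007d80080ae2f072b15e5f529a0023b9), (.prod [nat_lit 552, nat_lit 553])⟩)
 (.nd (nat_lit 559) (.lf ⟨nat_lit 0, nat_lit 550, nat_lit 550, (nat_lit 0x8000c454d2891ef6247303df13a28a4c6069), one, (nat_lit 0x8004005255f50e83f32b54cb1003df002747), (.prod [nat_lit 557, nat_lit 557])⟩)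
 (.lf ⟨nat_lit 0, nat_lit 550, nat_lit 550, (nat_lit 0x8004ff2007d92b573a0e84cb547033002425), one, (nat_lit 0x80079b7b072b7b72591683df43a1d211e24c), (.cmp (nat_lit 550) (nat_lit 550) (unp (nat_lit 7) (nat_lit 0xe30ae5004)) (unp (nat_lit 9) (nat_lit 0x206d46eba9b6a106)))⟩))))
 (.nd (nat_lit 562) (.nd (nat_lit 561) (.lf ⟨nat_lit 1, nat_lit 550, nat_lit 2, one, (nat_lit 0x80068522e12e74709354c01059928127a56d), one, (.wt (nat_lit 0) (nat_lit 0) (nat_lit 0x80068522e12e74709354c01059928127a56d) (.st (nat_lit 550) [] [] .nil) [] [])⟩)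
 (.lf ⟨nat_lit 1, nat_lit 550, nat_lit 550, (nat_lit 0x8000c450b2cf0e80233ef3df3a44cb4c6769), (nat_lit 0x8004932462893b418024c23a3e209c1741c1), (nat_lit 0x80005c52512e3d722724725902645861756d), (.wt (nat_lit 10) (nat_lit 2) (nat_lit 0x8002eb4e331a08045c7ef7d82f004f2b94ff) (.st (nat_lit 560) (unp (nat_lit 7) (nat_lit 0x336f0e404)) [] (.st (nat_lit 550) (unp (nat_lit 7) (nat_lit 0x2efa86404)) (unp (nat_lit 8) (nat_lit 0xd3dda103)) .nil)) (unp (nat_lit 8) (nat_lit 0x27805b5f6405)) [])⟩))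
 (.nd (nat_lit 563) (.lf ⟨nat_lit 1, nat_lit 550, nat_lit 550, (nat_lit 0x8004020897697474cf0406b02275f025924b), (nat_lit 0x80049323a31a7e90bc1976711ab12d05259d), (nat_lit 0x8002eb24c04e5bf59d0892496a83d72b93f3), (.wt (nat_lit 10) (nat_lit 2) (nat_lit 0x8005174e31d766004f4000e828a45e2a76a6) (.st (nat_lit 560) (unp (nat_lit 7) (nat_lit 0x70f57a8e305)) [] (.st (nat_lit 550) [nat_lit 121] (unp (nat_lit 8) (nat_lit 0xc19fdd03)) .nil)) (unp (nat_lit 7) (nat_lit 0xe5ee6e304)) [])⟩)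
 (.nd (nat_lit 564) (.lf ⟨nat_lit 1, nat_lit 550, nat_lit 510, (nat_lit 0x8005bb6380897a25996bf70023843c1e5033), (nat_lit 0x8003791c109137c3f364b5f51ef5ce2f92b5), (nat_lit 0x80022d6fc00124717c4ff28166039a2954e3), (.wt (nat_lit 10) (nat_lit 2) (nat_lit 0x8001b44d009124909c0473f90d91267121a9) (.st (nat_lit 528) (unp (nat_lit 7) (nat_lit 0x1ffb6f06305)) [] (.st (nat_lit 550) (unp (nat_lit 7) (nat_lit 0x1d2dd003)) (unp (nat_lit 9) (nat_lit 0x3060b0e03)) .nil)) (unp (nat_lit 7) (nat_lit 0xeefe6e404)) [])⟩)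
 (.lf ⟨nat_lit 1, nat_lit 510, nat_lit 550, (nat_lit 0x80022737c4c64050080bc3912d81a879b769), (nat_lit 0x8004e378259d39a12e67337c4e40fd74f040), (nat_lit 0x8005e749029a3b44090690206a879b5a937c), (.wt (nat_lit 0) (nat_lit 0) (nat_lit 0x8005bb6380897a25996bf70023843c1e5033) (.st (nat_lit 563) (unp (nat_lit 7) (nat_lit 0x774b3706405)) (unp (nat_lit 10) (nat_lit 0x22f8ae2d03)) .nil) (unp (nat_lit 7) (nat_lit 0x350ade104)) [])⟩)))))
 (.nd (nat_lit 570) (.nd (nat_lit 567) (.nd (nat_lit 566) (.lf ⟨nat_lit 1, nat_lit 550, nat_lit 339, (nat_lit 0x80040054d59d5052ce2ae4cb04e28a002397), (nat_lit 0x8003df39a2ae1805a80a136401024c1e7620), (nat_lit 0x80052566420072b1743d02a873a0c339a671), (.wt (nat_lit 10) (nat_lit 2) (nat_lit 0x8004050101aa3643f927174702345c4575f1) (.st (nat_lit 440) (unp (nat_lit 7) (nat_lit 0x6a76403)) [] (.st (nat_lit 550) (unp (nat_lit 7) (nat_lit 0xe90675f04)) (unp (nat_lit 8) (nat_lit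 0x94d0e8eaa105)) .nil)) (unp (nat_lit 7) (nat_lit 0x1a83730e305)) [])⟩)
 (.lf ⟨nat_lit 1, nat_lit 339, nat_lit 550, (nat_lit 0x8000c44e66692f45123b93df1ab22769f3e3), (nat_lit 0x8006a60895254773d76691a872b5f53bc43a), (nat_lit 0x8003e310045c6a872b5414ff2f92895f0477), (.wt (nat_lit 0) (nat_lit 0) (nat_lit 0x80040054d59d5052ce2ae4cb04e28a002397) (.st (nat_lit 565) [] [] .nil) (unp (nat_lit 7) (nat_lit 0x1dd2df03)) [])⟩))
 (.nd (nat_lit 568) (.lf ⟨nat_lit 2, nat_lit 281, nat_lit 567, (nat_lit 0x8005ef5bc0017006606af62408072b1ed126), one, one, (.df [nat_lit 23, nat_lit 29])⟩)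
 (.nd (nat_lit 569) (.lf ⟨nat_lit 0, nat_lit 567, nat_lit 567, (nat_lit 0x8003b43f50d97015bc0581a82ab4e602e523), one, (nat_lit 0x8005ce28a5f160350b2ab3ed1800fd74f409), (.cmp (nat_lit 567) (nat_lit 567) (unp (nat_lit 8) (nat_lit 0xa5b8fb03)) (unp (nat_lit 9) (nat_lit 0x492814803)))⟩)
 (.lf ⟨nat_lit 0, nat_lit 567, nat_lit 567, (nat_lit 0x80013b1a449d5bb3d16bf52b30a59963b638), one, (nat_lit 0x8005052466784022f94e43ac3f273a585047), (.prod [nat_lit 568, nat_lit 568])⟩))))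
 (.nd (nat_lit 573) (.nd (nat_lit 571) (.lf ⟨nat_lit 0, nat_lit 567, nat_lit 567, (nat_lit 0x80068f36667323a51a5f04931a924c61731a), one, (nat_lit 0x8004cb03328928154d4902ae27a53c2c86b0), (.prod [nat_lit 569, nat_lit 568])⟩)
 (.nd (nat_lit 572) (.lf ⟨nat_lit 0, nat_lit 567, nat_lit 567, (nat_lit 0x80052b76654d1ab6e20c15bb64b6a6585769), one, (nat_lit 0x80040023a0a60805470015170c346e5ef020), (.cmp (nat_lit 567) (nat_lit 567) (unp (nat_lit 8) (nat_lit 0xadb8f7e69d05)) (unp (nat_lit 9) (nat_lit 0x914e68f4d04)))⟩)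
 (.lf ⟨nat_lit 0, nat_lit 567, nat_lit 567, (nat_lit 0x80005c1d73d006945a51226c2ab1805a924b), one, (nat_lit 0x8000237964573f51aa7b73d702645c2b94e3), (.prod [nat_lit 568, nat_lit 571])⟩)))
 (.nd (nat_lit 574) (.lf ⟨nat_lit 0, nat_lit 567, nat_lit 567, (nat_lit 0x8004902816bf0107b049d4001e555439017c), one, (nat_lit 0x8000e86fc6a81ef2085a86b07a26a60684e6), (.prod [nat_lit 569, nat_lit 571])⟩)
 (.nd (nat_lit 575) (.lf ⟨nat_lit 0, nat_lit 567, nat_lit 567, (nat_lit 0x8001e772b3391d26132553d75051693bc45e), one, (nat_lit 0x8004cb0d925929a56c1973f974751d73e3ac), (.prod [nat_lit 570, nat_lit 571])⟩)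
 (.lf ⟨nat_lit 0, nat_lit 567, nat_lit 567, (nat_lit 0x8004931b45bf02628a79e23a25b3d05a92f4), one, (nat_lit 0x8005ce50331a60368f40906904e45c3a72ab), (.prod [nat_lit 571, nat_lit 568])⟩)))))))

noncomputable def qcT_576 : Tr :=
  (.nd (nat_lit 596) (.nd (nat_lit 586) (.nd (nat_lit 581) (.nd (nat_lit 578) (.nd (nat_lit 577) (.lf ⟨nat_lit 0, nat_lit 567, nat_lit 567, (nat_lit 0x80025922703926c5252eb05c30a7d83bc1ef), one, (nat_lit 0x8001ed0e90931c179664b42551925504672b), (.prod [nat_lit 572, nat_lit 568])⟩)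
 (.lf ⟨nat_lit 0, nat_lit 567, nat_lit 567, (nat_lit 0x8000102ce6dc4906710520800470393bc45e), one, (nat_lit 0x80050537925940237c0472293392550684e4), (.prod [nat_lit 575, nat_lit 568])⟩))
 (.nd (nat_lit 579) (.lf ⟨nat_lit 0, nat_lit 567, nat_lit 567, (nat_lit 0x8003d773a6b63e25036781d20980d902e3f3), one, (nat_lit 0x8000231692a73f57d84e35a54050fd3bc7b7), (.prod [nat_lit 575, nat_lit 571])⟩)
 (.nd (nat_lit 580) (.lf ⟨nat_lit 0, nat_lit 567, nat_lit 567, (nat_lit 0x80006924667805c2f06b62591a912639017c), one, (nat_lit 0x80012642a6a82f00e908939165b0982b92d8), (.prod [nat_lit 576, nat_lit 568])⟩)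
 (.lf ⟨nat_lit 0, nat_lit 567, nat_lit 567, (nat_lit 0x8007012a779e3b45555bf51d5056af63b638), one, (nat_lit 0x80012612d6782eb52506372b36655474f229), (.prod [nat_lit 579, nat_lit 571])⟩))))
 (.nd (nat_lit 583) (.nd (nat_lit 582) (.lf ⟨nat_lit 0, nat_lit 567, nat_lit 567, (nat_lit 0x8001a872b51951d12e43a7014576783901c3), one, (nat_lit 0x8004cb6bf1e528124b6b05a83b4098620490), (.inv (nat_lit 572))⟩)
 (.lf ⟨nat_lit 0, nat_lit 567, nat_lit 567, (nat_lit 0x80005c2003b90696036c526c0ae05261704e), one, (nat_lit 0x8004007b01681ab2ce2ae4900266244c43a4), (.prod (unp (nat_lit 10) (nat_lit 0x2458e23d03)))⟩))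
 (.nd (nat_lit 584) (.lf ⟨nat_lit 0, nat_lit 567, nat_lit 567, (nat_lit 0x80049320059902640542a23a04727863b0e8), one, (nat_lit 0x80040054d12e52b61367313b04e73a1413f9), (.prod [nat_lit 582, nat_lit 582])⟩)
 (.nd (nat_lit 585) (.lf ⟨nat_lit 0, nat_lit 567, nat_lit 567, (nat_lit 0x80025b2270204576b62f00470804493bc45e), one, (nat_lit 0x80017c70025965b2b53f91972f05bc046503), (.cmp (nat_lit 567) (nat_lit 567) (unp (nat_lit 8) (nat_lit 0xb2bbf8e69d05)) (unp (nat_lit 9) (nat_lit 0x97ce68f4e04)))⟩)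
 (.lf ⟨nat_lit 0, nat_lit 567, nat_lit 567, (nat_lit 0x8004931b45bf02628a79e23a25b3d05a92f4), one, (nat_lit 0x8005ce50331a60368f40906904e45c3a72ab), (.inv (nat_lit 574))⟩)))))
 (.nd (nat_lit 591) (.nd (nat_lit 588) (.nd (nat_lit 587) (.lf ⟨nat_lit 0, nat_lit 567, nat_lit 567, (nat_lit 0x8004022a779e0ae6dc6bc6070266b6002001), one, (nat_lit 0x8005e73d71007691970100201ef0a51747d8), (.prod [nat_lit 584, nat_lit 585])⟩)
 (.lf ⟨nat_lit 0, nat_lit 567, nat_lit 567, (nat_lit 0x8002a82a75120082b529a2380694e663b0e8), one, (nat_lit 0x8005e73e212e3b40bc13b6731a979b74f22e), (.prod [nat_lit 583, nat_lit 586])⟩))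
 (.nd (nat_lit 589) (.lf ⟨nat_lit 0, nat_lit 567, nat_lit 567, (nat_lit 0x8000262460584930c30d968f5f53393bc1ef), one, (nat_lit 0x80012624c0932eb2492290472a851d3a7063), (.inv (nat_lit 579))⟩)
 (.nd (nat_lit 590) (.lf ⟨nat_lit 0, nat_lit 567, nat_lit 567, (nat_lit 0x80064b2a750b0476a66604570800d961704e), one, (nat_lit 0x8005e706916813a5174902ae1c16853bc50b), (.inv (nat_lit 587))⟩)
 (.lf ⟨nat_lit 0, nat_lit 567, nat_lit 567, (nat_lit 0x80040028952508042a40549004746e00204e), one, (nat_lit 0x8004003d716856d0890e90d90080a5002525), (.prod (unp (nat_lit 10) (nat_lit 0x9364c92a3b04)))⟩))))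
 (.nd (nat_lit 593) (.nd (nat_lit 592) (.lf ⟨nat_lit 2, nat_lit 281, nat_lit 591, (nat_lit 0x80054102379b2ce4e35bb505397671143391), one, one, (.df (unp (nat_lit 6) (nat_lit 0x2262003)))⟩)
 (.lf ⟨nat_lit 0, nat_lit 591, nat_lit 591, (nat_lit 0x8006030332cf5ce2003df0202782712c843c), one, (nat_lit 0x8002eb3ac69f29a4ff0045250082ae11e0d9), (.cmp (nat_lit 591) (nat_lit 591) (unp (nat_lit 8) (nat_lit 0xa9b8fdd904)) (unp (nat_lit 9) (nat_lit 0x4be714403)))⟩))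
 (.nd (nat_lit 594) (.lf ⟨nat_lit 0, nat_lit 591, nat_lit 591, (nat_lit 0x8000c450b1001c30333ef3df3b45f05855f5), one, (nat_lit 0x80040250b5995052ce2ae60700828a002391), (.prod [nat_lit 592, nat_lit 592])⟩)
 (.nd (nat_lit 595) (.lf ⟨nat_lit 0, nat_lit 591, nat_lit 591, (nat_lit 0x80050b0c42cf5545bf3ef0106382eb295769), one, (nat_lit 0x8001262ab6a84d02ae2ce7d84934ff4996bf), (.cmp (nat_lit 591) (nat_lit 591) (unp (nat_lit 8) (nat_lit 0xadf1fae604)) (unp (nat_lit 9) (nat_lit 0x96cfa8f4e04)))⟩)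
 (.lf ⟨nat_lit 0, nat_lit 591, nat_lit 591, (nat_lit 0x8000336031001690c43df3ef0bc1ed617227), one, (nat_lit 0x8000ae2712cf1a90044ff70049304058538a), (.prod [nat_lit 592, nat_lit 594])⟩))))))
 (.nd (nat_lit 606) (.nd (nat_lit 601) (.nd (nat_lit 598) (.nd (nat_lit 597) (.lf ⟨nat_lit 0, nat_lit 591, nat_lit 591, (nat_lit 0x8000262f446e13a4250475196aa5175c1023), one, (nat_lit 0x80054d4fd7d979e2d81c32816850635a9547), (.cmp (nat_lit 591) (nat_lit 591) (unp (nat_lit 9) (nat_lit 0x11cba80395b29c06)) (unp (nat_lit 9) (nat_lit 0x974ca894e04)))⟩)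
 (.lf ⟨nat_lit 0, nat_lit 591, nat_lit 591, (nat_lit 0x8007300bc1b472b2f40c30475253ac1416c5), one, (nat_lit 0x80061339f2a72ce5410636736851ef617405), (.prod [nat_lit 592, nat_lit 596])⟩))
 (.nd (nat_lit 599) (.lf ⟨nat_lit 0, nat_lit 591, nat_lit 591, (nat_lit 0x8000bc73046e6850080c359d7d92a873e246), one, (nat_lit 0x8005120207b32460635416690bc2d802e796), (.prod [nat_lit 595, nat_lit 596])⟩)
 (.nd (nat_lit 600) (.lf ⟨nat_lit 0, nat_lit 591, nat_lit 591, (nat_lit 0x80036667351d1803916852a809106973e52b), one, (nat_lit 0x8002f43d04493df0e413d1ef1aa53c63b3e2), (.prod [nat_lit 596, nat_lit 592])⟩)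
 (.lf ⟨nat_lit 0, nat_lit 591, nat_lit 591, (nat_lit 0x80039113b51d59d3662a86857d90c3046613), one, (nat_lit 0x8003f349d6af2d879e2f00c451d2463bc3f9), (.prod [nat_lit 596, nat_lit 594])⟩))))
 (.nd (nat_lit 603) (.nd (nat_lit 602) (.lf ⟨nat_lit 0, nat_lit 591, nat_lit 591, (nat_lit 0x8003e27d951d5b37a20fd4d013b45a0682f9), one, (nat_lit 0x8003df03322d2f450b3f50c430a5543bc069), (.prod [nat_lit 597, nat_lit 596])⟩)
 (.lf ⟨nat_lit 0, nat_lit 591, nat_lit 591, (nat_lit 0x80022e64b2cf55429a6dc5234002eb59e747), one, (nat_lit 0x80029a4e34572eb4e673a5542a8730499208), (.prod [nat_lit 599, nat_lit 596])⟩))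
 (.nd (nat_lit 604) (.lf ⟨nat_lit 0, nat_lit 591, nat_lit 591, (nat_lit 0x80032e5bc0d951739a45a5b355513a2b90e4), one, (nat_lit 0x8007b072b0b80e43df0e84cb32e4e302e6a6), (.prod [nat_lit 600, nat_lit 592])⟩)
 (.nd (nat_lit 605) (.lf ⟨nat_lit 0, nat_lit 591, nat_lit 591, (nat_lit 0x80056d3b410008012d1e71d750b0044c65a8), one, (nat_lit 0x8001a97b02890ae5f0039607026033002638), (.prod [nat_lit 602, nat_lit 594])⟩)
 (.lf ⟨nat_lit 0, nat_lit 591, nat_lit 591, (nat_lit 0x8000a139168f1a41d22715ce04025b01904f), one, (nat_lit 0x8002b51c12594e62eb2006601a812628c227), (.prod [nat_lit 603, nat_lit 596])⟩)))))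
 (.nd (nat_lit 611) (.nd (nat_lit 608) (.nd (nat_lit 607) (.lf ⟨nat_lit 0, nat_lit 591, nat_lit 591, (nat_lit 0x8000a139168f1a41d22715ce04025b01904f), one, (nat_lit 0x8002b51c12594e62eb2006601a812628c227), (.inv (nat_lit 598))⟩)
 (.lf ⟨nat_lit 0, nat_lit 591, nat_lit 591, (nat_lit 0x8000c40265b70ae03325b6dc22e49d4c6001), one, (nat_lit 0x8004005123b90801692b55bb3b412d002391), (.prod (unp (nat_lit 10) (nat_lit 0x25e9425903)))⟩))
 (.nd (nat_lit 609) (.lf ⟨nat_lit 2, nat_lit 591, nat_lit 281, one, (nat_lit 0x80054102379b2ce4e35bb505397671143391), one, (.wt (nat_lit 13) (nat_lit 0) (nat_lit 0x80054102379b2ce4e35bb505397671143391) (.st (nat_lit 591) [] [] .nil) [] [])⟩)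
 (.nd (nat_lit 610) (.lf ⟨nat_lit 1, nat_lit 591, nat_lit 457, (nat_lit 0x80076624617c5b73df69c0e956d0103a759d), (nat_lit 0x8002eb1d77005f043a52b1ab15e59d27851a), (nat_lit 0x8002a83914051261ed1a869c3e24cb7e92a7), (.wt (nat_lit 12) (nat_lit 1) (nat_lit 0x8004c16a604e39f54745c0e913d2d84057b0) (.st (nat_lit 476) (unp (nat_lit 7) (nat_lit 0x4b6efe304)) [] (.st (nat_lit 419) (unp (nat_lit 7) (nat_lit 0x1ef33a86305)) [] (.st (nat_lit 591) (unp (nat_lit 8) (nat_lit 0x92b8dee5d905)) (unp (nat_lit 9) (nat_lit 0x46a754e03)) .nil))) (unp (nat_lit 7) (nat_lit 0x330a6d004)) [])⟩)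
 (.lf ⟨nat_lit 1, nat_lit 457, nat_lit 591, (nat_lit 0x8000c470b3913df6b629a15224c1a87a2004), (nat_lit 0x8000a139124c2950266133663794057b3047), (nat_lit 0x8000e41e542a39a1d273a3d004e2f0638039), (.wt (nat_lit 0) (nat_lit 0) (nat_lit 0x80076624617c5b73df69c0e956d0103a759d) (.st (nat_lit 609) (unp (nat_lit 7) (nat_lit 0x1efd76fe305)) (unp (nat_lit 10) (nat_lit 0x25d9465f03)) .nil) (unp (nat_lit 7) (nat_lit 0x714b6f0e305)) [])⟩))))
 (.nd (nat_lit 614) (.nd (nat_lit 612) (.lf ⟨nat_lit 1, nat_lit 591, nat_lit 591, (nat_lit 0x8002cf72b63b2c802e4253d00981411ab5e7), (nat_lit 0x8004e31b40b80bc0390021742ae2ce769271), (nat_lit 0x8005bc0934024e63b95471692385f128c7a2), (.wt (nat_lit 11) (nat_lit 0) (nat_lit 0x8002c84002556aa4092812464e43d731a405) (.st (nat_lit 609) (unp (nat_lit 7) (nat_lit 0x73f6fa86405)) (unp (nat_lit 10) (nat_lit 0x25d9465f03)) (.st (nat_lit 480) (unp (nat_lit 7) (nat_lit 0x1ca15e03))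 [nat_lit 461, nat_lit 468] (.st (nat_lit 610) (unp (nat_lit 7) (nat_lit 0x774b7706305)) [] .nil))) (unp (nat_lit 7) (nat_lit 0x82fb16304)) [])⟩)
 (.nd (nat_lit 613) (.lf ⟨nat_lit 1, nat_lit 372, nat_lit 591, (nat_lit 0x80063822e52b3a46aa5550523b90a66643f2), (nat_lit 0x8005413f92cf1ab2f00986a622e39f14117c), (nat_lit 0x8003d172b4995f078279e0fd5051e53e231a), (.wt (nat_lit 12) (nat_lit 1) (nat_lit 0x8004c12460805991aa6852ab70124b3a75b3) (.st (nat_lit 609) (unp (nat_lit 7) (nat_lit 0x28fd76fe305)) (unp (nat_lit 10) (nat_lit 0x25d9465f03)) (.st (nat_lit 472) (unp (nat_lit 7) (nat_lit 0x73833a8e305)) [] (.st (nat_lit 372) (unp (nat_lit 8) (nat_lit 0x93f4fde59c05)) (unp (nat_lit 8) (nat_lit 0x8539546a6e05)) .nil))) (unp (nat_lit 7) (nat_lit 0x857706404)) [])⟩)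
 (.lf ⟨nat_lit 1, nat_lit 591, nat_lit 372, (nat_lit 0x8000c450b2cf0e80233ef3df3a44cb4c6769), (nat_lit 0x8000e43a41c17b031a6c56695b745770b04e), (nat_lit 0x80013d72b12604e2a83d71aa09815273e141), (.wt (nat_lit 0) (nat_lit 0) (nat_lit 0x80063822e52b3a46aa5550523b90a66643f2) (.st (nat_lit 612) [] [] .nil) (unp (nat_lit 7) (nat_lit 0x717286304)) [])⟩)))
 (.nd (nat_lit 615) (.lf ⟨nat_lit 1, nat_lit 372, nat_lit 591, (nat_lit 0x80054102379b2ce4e35bb505397671143391), (nat_lit 0x80045c03344937947700120028a6a645e523), (nat_lit 0x80066056d6176070e93640c13d17b02f00fd), (.wt (nat_lit 10) (nat_lit 0) (nat_lit 0x8003d172b6af6173a76030083ef3907d80fd) (.st (nat_lit 611) [nat_lit 100, nat_lit 121] [] (.st (nat_lit 613) (unp (nat_lit 7) (nat_lit 0x19fd7a86305)) [] .nil)) (unp (nat_lit 8) (nat_lit 0x17805c506305)) [])⟩)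
 (.nd (nat_lit 616) (.lf ⟨nat_lit 1, nat_lit 281, nat_lit 615, (nat_lit 0x8002597667470475f540543a15e1746a6141), one, one, (.df (unp (nat_lit 5) (nat_lit 0x600803)))⟩)
 (.lf ⟨nat_lit 0, nat_lit 615, nat_lit 615, (nat_lit 0x8005054ff3bc28145c16927127a2d802e547), one, (nat_lit 0x80022e56d67827129a4e43ac3915ce71217c), (.cmp (nat_lit 615) (nat_lit 615) (unp (nat_lit 7) (nat_lit 0x1f817316305)) (unp (nat_lit 9) (nat_lit 0x49e814703)))⟩)))))))

noncomputable def qcT_617 : Tr :=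
  (.nd (nat_lit 638) (.nd (nat_lit 627) (.nd (nat_lit 622) (.nd (nat_lit 619) (.nd (nat_lit 618) (.lf ⟨nat_lit 0, nat_lit 615, nat_lit 615, (nat_lit 0x80012650b67833938a1b46fc1ef2291e5554), one, (nat_lit 0x8000c450b1001c30333ef3df3b45f05855f5), (.prod [nat_lit 616, nat_lit 616])⟩)
 (.lf ⟨nat_lit 0, nat_lit 615, nat_lit 615, (nat_lit 0x8000231aa4c43667960fd49d1c32ab39724c), one, (nat_lit 0x8005251a96780fd12672b0633e23f5295747), (.prod [nat_lit 617, nat_lit 616])⟩))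
 (.nd (nat_lit 620) (.lf ⟨nat_lit 0, nat_lit 615, nat_lit 615, (nat_lit 0x8001266734c47a23f359d68540247712e490), one, (nat_lit 0x8007695f56785e743c13b6730e80894f350b), (.cmp (nat_lit 615) (nat_lit 615) (unp (nat_lit 7) (nat_lit 0x9a0e303)) (unp (nat_lit 9) (nat_lit 0x49e654b03)))⟩)
 (.nd (nat_lit 621) (.lf ⟨nat_lit 0, nat_lit 615, nat_lit 615, (nat_lit 0x8005053a46785414252382083b40a54c67d8), one, (nat_lit 0x80005c17c10038a27a70073051245866456d), (.prod [nat_lit 616, nat_lit 619])⟩)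
 (.lf ⟨nat_lit 0, nat_lit 615, nat_lit 615, (nat_lit 0x80040045e3bc13d0394090690c337c5ef4e3), one, (nat_lit 0x80015200167865b6b02f45bc1ab782174200), (.prod [nat_lit 617, nat_lit 619])⟩))))
 (.nd (nat_lit 624) (.nd (nat_lit 623) (.lf ⟨nat_lit 0, nat_lit 615, nat_lit 615, (nat_lit 0x8000233d71001807ef3ac4e452b5f02595f5), one, (nat_lit 0x8005a87471003f93394cf4ff79e09c3e31a9), (.prod [nat_lit 618, nat_lit 619])⟩)
 (.lf ⟨nat_lit 0, nat_lit 615, nat_lit 615, (nat_lit 0x8000c12466782eb3f902001004e5176a8512), one, (nat_lit 0x8000c178267827a38a72b0632815f51415f0), (.cmp (nat_lit 615) (nat_lit 615) (unp (nat_lit 7) (nat_lit 0x3505f6204)) (unp (nat_lit 9) (nat_lit 0x92cf2934d04)))⟩))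
 (.nd (nat_lit 625) (.lf ⟨nat_lit 0, nat_lit 615, nat_lit 615, (nat_lit 0x80012650b67833938a1b46fc1ef2291e5554), one, (nat_lit 0x8000c450b1001c30333ef3df3b45f05855f5), (.inv (nat_lit 617))⟩)
 (.nd (nat_lit 626) (.lf ⟨nat_lit 0, nat_lit 615, nat_lit 615, (nat_lit 0x8005e754d1001520331b46fc1a973a74f047), one, (nat_lit 0x8004050896783393f94e43ac13d0014c6004), (.prod [nat_lit 623, nat_lit 624])⟩)
 (.lf ⟨nat_lit 0, nat_lit 615, nat_lit 615, (nat_lit 0x8006bc15e1000c37ef24b50313d554585229), one, (nat_lit 0x8005f57695b73a436413b5bc7b00c16640c4), (.cmp (nat_lit 615) (nat_lit 615) (unp (nat_lit 7) (nat_lit 0x2d836e8e405)) (unp (nat_lit 9) (nat_lit 0x46e714803)))⟩)))))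
 (.nd (nat_lit 632) (.nd (nat_lit 629) (.nd (nat_lit 628) (.lf ⟨nat_lit 0, nat_lit 615, nat_lit 615, (nat_lit 0x8000233d71001807ef3ac4e452b5f02595f5), one, (nat_lit 0x8005a87471003f93394cf4ff79e09c3e31a9), (.inv (nat_lit 622))⟩)
 (.lf ⟨nat_lit 0, nat_lit 615, nat_lit 615, (nat_lit 0x8005e70891001c30406bf68f3667d80a60a5), one, (nat_lit 0x80056d22e5b71ed12d4e406302616958505c), (.prod [nat_lit 626, nat_lit 627])⟩))
 (.nd (nat_lit 630) (.lf ⟨nat_lit 0, nat_lit 615, nat_lit 615, (nat_lit 0x8004000bc10076903372b0635bf79e09379b), one, (nat_lit 0x8004581972cf3643a40203df02305c141169), (.prod [nat_lit 625, nat_lit 628])⟩)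
 (.nd (nat_lit 631) (.lf ⟨nat_lit 1, nat_lit 615, nat_lit 281, one, (nat_lit 0x8002597667470475f540543a15e1746a6141), one, (.wt (nat_lit 0) (nat_lit 0) (nat_lit 0x8002597667470475f540543a15e1746a6141) (.st (nat_lit 615) [] [] .nil) [] [])⟩)
 (.lf ⟨nat_lit 1, nat_lit 615, nat_lit 339, (nat_lit 0x8005412552a72cf6133df42a6aa13b18045c), (nat_lit 0x8003790c43b90693f532e42a5e724b1430a5), (nat_lit 0x80054d5bb28c0d96603663b409813b0e83ed), (.wt (nat_lit 10) (nat_lit 2) (nat_lit 0x8002b50406134e322e3f55bb39029a28c4e4) (.st (nat_lit 437) (unp (nat_lit 7) (nat_lit 0x17ff728e305)) (unp (nat_lit 9) (nat_lit 0x592d17203)) (.st (nat_lit 615) (unp (nat_lit 7) (nat_lit 0x1d3e3e03)) (unp (nat_lit 9) (nat_lit 0x94d0e954d04)) .nil)) (unp (nat_lit 7) (nat_lit 0x1af73b06305)) [])⟩))))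
 (.nd (nat_lit 635) (.nd (nat_lit 633) (.lf ⟨nat_lit 1, nat_lit 615, nat_lit 510, (nat_lit 0x8004020897697474cf0406b02275f025924b), (nat_lit 0x8001680894c45850084f34cb19728c0c354c), (nat_lit 0x8005554cb59e67369c49d15e2d804e0e92a8), (.wt (nat_lit 10) (nat_lit 2) (nat_lit 0x80022d1c107315e0472460e44fd6aa229523) (.st (nat_lit 534) (unp (nat_lit 7) (nat_lit 0x75f77b06305)) [] (.st (nat_lit 615) (unp (nat_lit 8) (nat_lit 0x77803e6104)) (unp (nat_lit 9) (nat_lit 0x934ca954d04)) .nil)) (unp (nat_lit 7) (nat_lit 0x74f73b16305)) [])⟩)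
 (.nd (nat_lit 634) (.lf ⟨nat_lit 1, nat_lit 615, nat_lit 403, (nat_lit 0x8005417122cf13d4254e345c2087b01d25f0), (nat_lit 0x8002f068f1d719704647736669f51a0d9541), (nat_lit 0x8000086aa2ab13a2ce54142554761302e023), (.wt (nat_lit 10) (nat_lit 2) (nat_lit 0x80039a37c5f15a943c4e31a80916fc3b4796) (.st (nat_lit 419) (unp (nat_lit 7) (nat_lit 0x2c7f7706305)) [] (.st (nat_lit 615) (unp (nat_lit 7) (nat_lit 0x102e5103)) (unp (nat_lit 9) (nat_lit 0x4ba654703)) .nil)) (unp (nat_lit 7) (nat_lit 0xe50b0e404)) [])⟩)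
 (.lf ⟨nat_lit 1, nat_lit 403, nat_lit 615, (nat_lit 0x8003f237c0730335b702036463b0e942a5e7), (nat_lit 0x8005e73e373e5ce5251b445e30a6b0523554), (nat_lit 0x8000391e72494e616942a5f140073a712339), (.wt (nat_lit 0) (nat_lit 0) (nat_lit 0x8005417122cf13d4254e345c2087b01d25f0) (.st (nat_lit 633) [] [] .nil) (unp (nat_lit 7) (nat_lit 0x716e86304)) [])⟩)))
 (.nd (nat_lit 636) (.lf ⟨nat_lit 0, nat_lit 615, nat_lit 615, (nat_lit 0x8000190a67d97d860724b6fc2ae7690bc493), one, (nat_lit 0x80013d54104654d2f01e50930c453c1b4409), (.cmp (nat_lit 634) (nat_lit 634) (unp (nat_lit 7) (nat_lit 0x77dce03)) (unp (nat_lit 9) (nat_lit 0x6bf29a103)))⟩)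
 (.nd (nat_lit 637) (.lf ⟨nat_lit 0, nat_lit 615, nat_lit 615, (nat_lit 0x8000195991d723a28a6242715f00085bc7a2), one, (nat_lit 0x80039140973e3660476b60b81970c36fc541), (.prod [nat_lit 621, nat_lit 635])⟩)
 (.lf ⟨nat_lit 0, nat_lit 615, nat_lit 615, (nat_lit 0x80066431a7d900151a72b4e430a2a8660152), one, (nat_lit 0x80051764b0467010bc6c57b35a80266e2023), (.prod [nat_lit 622, nat_lit 635])⟩))))))
 (.nd (nat_lit 648) (.nd (nat_lit 643) (.nd (nat_lit 640) (.nd (nat_lit 639) (.lf ⟨nat_lit 1, nat_lit 615, nat_lit 403, (nat_lit 0x80064b6bc4cb17425b3915a509851724953c), (nat_lit 0x8001a979b26c6bc5bf2f92ae78213b3e2402), (nat_lit 0x8001aa1525470d923862452b3f56bf5550a6), (.wt (nat_lit 11) (nat_lit 2) (nat_lit 0x8002003665990bc3393df7005170521a41ab) (.st (nat_lit 418) (unp (nat_lit 7) (nat_lit 0x2bff3b06305)) [] (.st (nat_lit 336) (unp (nat_lit 7) (nat_lit 0x2df57316405)) (unp (nat_lit 8) (nat_lit 0x3188546b04))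 (.st (nat_lit 615) (unp (nat_lit 7) (nat_lit 0x2a7f6f16305)) (unp (nat_lit 9) (nat_lit 0x95cca894e04)) .nil))) (unp (nat_lit 7) (nat_lit 0x298172fe305)) [])⟩)
 (.lf ⟨nat_lit 1, nat_lit 615, nat_lit 510, (nat_lit 0x80045e7b70103a44fd56c63b0bc39f05c15e), (nat_lit 0x80067165b5470895551433ac63849d409505), (nat_lit 0x8003645545ef5a84057303ef54d38a45e040), (.wt (nat_lit 11) (nat_lit 2) (nat_lit 0x8003a72955c11525f01975f579e5bc405063) (.st (nat_lit 532) (unp (nat_lit 7) (nat_lit 0x1aff7b06405)) (unp (nat_lit 10) (nat_lit 0x20783e0c03)) (.st (nat_lit 437) (unp (nat_lit 7) (nat_lit 0x17853a8e405)) (unp (nat_lit 9) (nat_lit 0x592d57203)) (.st (nat_lit 615) (unp (nat_lit 7) (nat_lit 0x1d616103)) [nat_lit 306, nat_lit 286] .nil))) (unp (nat_lit 7) (nat_lit 0x717f3686405)) [])⟩))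
 (.nd (nat_lit 641) (.lf ⟨nat_lit 1, nat_lit 615, nat_lit 510, (nat_lit 0x8005ef5bc0017006606af62408072b1ed126), (nat_lit 0x80006939f63849354d0046b600842a1c1227), (nat_lit 0x8000c415212e0ae15e6a86b67b05f04c65f5), (.wt (nat_lit 11) (nat_lit 2) (nat_lit 0x8004e612d0a61e739a5a80041a43d74777d8) (.st (nat_lit 530) (unp (nat_lit 8) (nat_lit 0x17805e606405)) [] (.st (nat_lit 437) (unp (nat_lit 7) (nat_lit 0x79c4d03)) (unp (nat_lit 9) (nat_lit 0x592d57203)) (.st (nat_lit 615) (unp (nat_lit 7) (nat_lit 0x27ff6f16305)) (unp (nat_lit 9) (nat_lit 0x914ce6f4e04)) .nil))) (unp (nat_lit 7) (nat_lit 0x7bf5003)) [])⟩)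
 (.nd (nat_lit 642) (.lf ⟨nat_lit 1, nat_lit 457, nat_lit 615, (nat_lit 0x80067870b2f96605f46aa5852007962eb12d), (nat_lit 0x80022d15e06906862072b17c12d4fd05c3bc), (nat_lit 0x8002eb0a639a6bf43a0c15f074f0fd4cf3d7), (.wt (nat_lit 10) (nat_lit 0) (nat_lit 0x8005a818039f74f69f38a4e451d79b1aa200) (.st (nat_lit 638) [nat_lit 95, nat_lit 30] [nat_lit 629, nat_lit 622] (.st (nat_lit 477) (unp (nat_lit 7) (nat_lit 0x1d3ebe03)) (unp (nat_lit 9) (nat_lit 0x6c353a103)) .nil)) [nat_lit 77, nat_lit 25] [])⟩)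
 (.lf ⟨nat_lit 1, nat_lit 591, nat_lit 615, (nat_lit 0x8002a85251ed17c22720828a0696bc4f35f1), (nat_lit 0x8001e742a66942573e4933d17306fc3ef5b3), (nat_lit 0x8003f34585052b569c43c4e323817c3bc7b3), (.wt (nat_lit 12) (nat_lit 1) (nat_lit 0x8004003f95126b670b04e42a37945a1a8052) (.st (nat_lit 638) (unp (nat_lit 7) (nat_lit 0x72f936fe405)) [nat_lit 629, nat_lit 622] (.st (nat_lit 419) (unp (nat_lit 7) (nat_lit 0x4d06e6404)) [nat_lit 429] (.st (nat_lit 591) (unp (nat_lit 8) (nat_lit 0xadbafee6d905)) (unp (nat_lit 9) (nat_lit 0x8d4fe914e04)) .nil))) (unp (nat_lit 7) (nat_lit 0x74f77b06405)) [])⟩))))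
 (.nd (nat_lit 645) (.nd (nat_lit 644) (.lf ⟨nat_lit 0, nat_lit 591, nat_lit 510, (nat_lit 0x8000234901a43e35e745714123a0b86a67b0), one, (nat_lit 0x8006af4cb7477e93660c30a16e206907372b), (.we (nat_lit 0) (nat_lit 0) (nat_lit 0x8002a85251ed17c22720828a0696bc4f35f1) (.st (nat_lit 642) [nat_lit 29] (unp (nat_lit 10) (nat_lit 0x25c9465f03)) (.st (nat_lit 639) (unp (nat_lit 7) (nat_lit 0xeafdf6104)) [nat_lit 629, nat_lit 637] .nil)))⟩)
 (.lf ⟨nat_lit 2, nat_lit 510, nat_lit 281, (nat_lit 0x8000e41ed59909c2b913a2816736b65a5700), (nat_lit 0x8004d00c438a22e4e45bc3f54c104f4f3229), (nat_lit 0x8004491680bc5193645a80936691a46fc0a1), (.ren (nat_lit 608) (unp (nat_lit 8) (nat_lit 0xafbdfce6d99d06)) [nat_lit 643] [])⟩))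
 (.nd (nat_lit 646) (.lf ⟨nat_lit 0, nat_lit 372, nat_lit 510, (nat_lit 0x8001803d11e524956c3f96e22cf45c4c1603), one, (nat_lit 0x8001263ed28c0a16bf2a84cb1ab3f94050ae), (.cmp (nat_lit 613) (nat_lit 535) (unp (nat_lit 7) (nat_lit 0xb7fdc03)) [nat_lit 643])⟩)
 (.nd (nat_lit 647) (.lf ⟨nat_lit 0, nat_lit 510, nat_lit 372, (nat_lit 0x80045a2554e40e472b4490e96695f5599397), one, (nat_lit 0x80045724745c5f522923a11e5a831a17c74f), (.inv (nat_lit 645))⟩)
 (.lf ⟨nat_lit 1, nat_lit 372, nat_lit 2, (nat_lit 0x8005e758511e04032e24c5f531a38a1e51ef), (nat_lit 0x8003972594cb37c30a1266646bf2cf79e5c1), (nat_lit 0x8001263ed28c0a16bf2a84cb1ab3f94050ae), (.ren (nat_lit 528) (unp (nat_lit 7) (nat_lit 0x4efede104)) [nat_lit 646] [])⟩)))))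
 (.nd (nat_lit 653) (.nd (nat_lit 650) (.nd (nat_lit 649) (.lf ⟨nat_lit 1, nat_lit 372, nat_lit 372, (nat_lit 0x8005c13b404e5bb37972b1a85b712d3b96aa), (nat_lit 0x8001002f01ab4ff72b37913b5b712d3b93bc), (nat_lit 0x80004e1971000803d746e45e2786033ac271), (.ren (nat_lit 529) (unp (nat_lit 7) (nat_lit 0x20836efe305)) [nat_lit 646] [nat_lit 646])⟩)
 (.lf ⟨nat_lit 1, nat_lit 372, nat_lit 339, (nat_lit 0x8005ef29a2f061347739122e25945c397523), (nat_lit 0x8006fc1802cf0011b44e64fd6b0769457617), (nat_lit 0x8001695192cf7a22a820823822962413b50b), (.ren (nat_lit 530) (unp (nat_lit 7) (nat_lit 0x76fe303)) [nat_lit 646] [])⟩))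
 (.nd (nat_lit 651) (.lf ⟨nat_lit 1, nat_lit 372, nat_lit 339, (nat_lit 0x8007820397d80e80475bb49945722e6af23a), (nat_lit 0x8004e355460751d37c1e53d06c512e6af671), (nat_lit 0x8005122594c16784cb5bb2381b470055468f), (.ren (nat_lit 532) (unp (nat_lit 7) (nat_lit 0x33ee76204)) [nat_lit 646] [])⟩)
 (.nd (nat_lit 652) (.lf ⟨nat_lit 1, nat_lit 372, nat_lit 281, (nat_lit 0x80065b30a76902e02012608943a4cf2594fd), (nat_lit 0x80060352b27a6730013660193a474f660052), (nat_lit 0x8001a93f92b949d5ef5ce09c2ab6733ef30a), (.ren (nat_lit 534) (unp (nat_lit 7) (nat_lit 0x197efa8e305)) [nat_lit 646] [])⟩)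
 (.lf ⟨nat_lit 1, nat_lit 372, nat_lit 550, (nat_lit 0x8002f90681410a60202294e32a74cf4c1047), (nat_lit 0x8001c10984e678244966902352b30a068208), (nat_lit 0x8000c13916170a156c1e522713a42a100747), (.ren (nat_lit 564) (unp (nat_lit 7) (nat_lit 0x27f97b06405)) [nat_lit 646] [])⟩))))
 (.nd (nat_lit 656) (.nd (nat_lit 654) (.lf ⟨nat_lit 2, nat_lit 372, nat_lit 281, (nat_lit 0x8005e77b73917d84c601973a5b73e33bc0c1), (nat_lit 0x8003ed65b1265bb3a40012b56a64581436dc), (nat_lit 0x80024c56d3bc0104937b020003945a54c180), (.ren (nat_lit 644) (unp (nat_lit 8) (nat_lit 0xa5bafb9d04)) [nat_lit 646] [])⟩)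
 (.nd (nat_lit 655) (.lf ⟨nat_lit 1, nat_lit 339, nat_lit 372, (nat_lit 0x80051d0a516856d50323a3ef4cb12d22d4f3), (nat_lit 0x8003b90bc3a43b46730e82816dc5476785f4), (nat_lit 0x80003356d7660896030e90d954d5b32d80c1), (.ren (nat_lit 531) [] [] [nat_lit 646])⟩)
 (.lf ⟨nat_lit 1, nat_lit 339, nat_lit 372, (nat_lit 0x8005412083b439a0526202b574f390143366), (nat_lit 0x80066913b1ed5125bf24b67824722726c607), (nat_lit 0x8004cb5f57820e443a29a0261ab04763b72b), (.ren (nat_lit 533) [] [] [nat_lit 646])⟩)))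
 (.nd (nat_lit 657) (.lf ⟨nat_lit 1, nat_lit 550, nat_lit 372, (nat_lit 0x8005bb6380897a25996bf70023843c1e5033), (nat_lit 0x8003ed69f12e16827113b68552315e1432f4), (nat_lit 0x80018045a74f5473e302e0fd6036242f9782), (.ren (nat_lit 563) [] [] [nat_lit 646])⟩)
 (.nd (nat_lit 658) (.lf ⟨nat_lit 1, nat_lit 615, nat_lit 372, (nat_lit 0x8004020897697474cf0406b02275f025924b), (nat_lit 0x80014104727a45a24c52305c3906b01a946e), (nat_lit 0x80076901032e12e4491410a512d5e7701020), (.ren (nat_lit 632) [] [] [nat_lit 646])⟩)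
 (.lf ⟨nat_lit 1, nat_lit 615, nat_lit 372, (nat_lit 0x80045e7b70103a44fd56c63b0bc39f05c15e), (nat_lit 0x8005ce0690400335857120bc02e22d6a8126), (nat_lit 0x80051202656c26c00216837c3df73a0ae229), (.ren (nat_lit 639) [] [] [nat_lit 646])⟩)))))))

noncomputable def qcT_659 : Tr :=
  (.nd (nat_lit 679) (.nd (nat_lit 669) (.nd (nat_lit 664) (.nd (nat_lit 661) (.nd (nat_lit 660) (.lf ⟨nat_lit 1, nat_lit 615, nat_lit 372, (nat_lit 0x8005ef5bc0017006606af62408072b1ed126), (nat_lit 0x8002ab0e81ef4fd73a0e43ed5857b0390010), (nat_lit 0x8004c66171a80010a54772a749d4f31ed0a6), (.ren (nat_lit 640) [] [] [nat_lit 646])⟩)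
 (.lf ⟨nat_lit 1, nat_lit 457, nat_lit 372, (nat_lit 0x8000c470b3913df6b629a15224c1a87a2004), (nat_lit 0x8000026850805a543a3905b72eb3a71e505c), (nat_lit 0x8002384995055253d10d94ff32e05c2ab008), (.ren (nat_lit 610) [] [] [nat_lit 643, nat_lit 646])⟩))
 (.nd (nat_lit 662) (.lf ⟨nat_lit 1, nat_lit 281, nat_lit 661, (nat_lit 0x8000a13d024b0730bc5ce52333929a45e493), one, one, (.df (unp (nat_lit 5) (nat_lit 0x6b2803)))⟩)
 (.nd (nat_lit 663) (.lf ⟨nat_lit 0, nat_lit 661, nat_lit 661, (nat_lit 0x80002345e52309c1a853c2710c32ae3972ab), one, (nat_lit 0x8004091802890895e70204cf2f93f228c2f0), (.cmp (nat_lit 661) (nat_lit 661) (unp (nat_lit 7) (nat_lit 0x1f81768e305)) (unp (nat_lit 9) (nat_lit 0x934ee6f4d04)))⟩)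
 (.lf ⟨nat_lit 0, nat_lit 661, nat_lit 661, (nat_lit 0x8002782ce5f104e6384776a622749d00222e), one, (nat_lit 0x8001c17d84c154162403904f3f26600023a4), (.cmp (nat_lit 661) (nat_lit 661) (unp (nat_lit 7) (nat_lit 0x5b0ae6404)) (unp (nat_lit 9) (nat_lit 0x49e734403)))⟩))))
 (.nd (nat_lit 666) (.nd (nat_lit 665) (.lf ⟨nat_lit 0, nat_lit 661, nat_lit 661, (nat_lit 0x80002345e52309c1a853c2710c32ae3972ab), one, (nat_lit 0x8004091802890895e70204cf2f93f228c2f0), (.inv (nat_lit 662))⟩)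
 (.lf ⟨nat_lit 0, nat_lit 661, nat_lit 661, (nat_lit 0x80065b2005f104e6246e224b0ae2f94f3069), one, (nat_lit 0x8005412005991c173a4e604f3b42f95853e2), (.prod (unp (nat_lit 10) (nat_lit 0x298a5e9603)))⟩))
 (.nd (nat_lit 667) (.lf ⟨nat_lit 0, nat_lit 661, nat_lit 661, (nat_lit 0x8003f905211e0331a93ed5bb43c3b46dc0c4), one, (nat_lit 0x8005bf4e331a29a4ff15e2717694e462037c), (.cmp (nat_lit 661) (nat_lit 661) (unp (nat_lit 7) (nat_lit 0x77dd103)) (unp (nat_lit 9) (nat_lit 0x96d02914d04)))⟩)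
 (.nd (nat_lit 668) (.lf ⟨nat_lit 0, nat_lit 661, nat_lit 661, (nat_lit 0x80039109c5ef0fd1c11aa51d61313d6dc2eb), one, (nat_lit 0x80060313b0a61264e673a22e4934fd6200d9), (.prod [nat_lit 663, nat_lit 666])⟩)
 (.lf ⟨nat_lit 1, nat_lit 661, nat_lit 281, one, (nat_lit 0x8000a13d024b0730bc5ce52333929a45e493), one, (.wt (nat_lit 0) (nat_lit 0) (nat_lit 0x8000a13d024b0730bc5ce52333929a45e493) (.st (nat_lit 661) [] [] .nil) [] [])⟩)))))
 (.nd (nat_lit 674) (.nd (nat_lit 671) (.nd (nat_lit 670) (.lf ⟨nat_lit 1, nat_lit 661, nat_lit 457, (nat_lit 0x8006077661525993ef02023a2cf0e90a12b9), (nat_lit 0x8001aa43c03343a2ab3f21e771273a56c541), (nat_lit 0x80051d4255122552eb2811aa6dc505141010), (.wt (nat_lit 11) (nat_lit 2) (nat_lit 0x8001a86382950d96131261ed2ab68514122e) (.st (nat_lit 472) (unp (nat_lit 7) (nat_lit 0xe8df0e304)) [] (.st (nat_lit 336) (unp (nat_lit 7) (nat_lit 0x29f56f06305)) (unp (nat_lit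 8) (nat_lit 0x7087676904)) (.st (nat_lit 661) (unp (nat_lit 7) (nat_lit 0x40e2e5004)) (unp (nat_lit 9) (nat_lit 0x95cf2954d04)) .nil))) (unp (nat_lit 7) (nat_lit 0x176f768e405)) [])⟩)
 (.lf ⟨nat_lit 1, nat_lit 372, nat_lit 372, (nat_lit 0x80063822e52b3a46aa5550523b90a66643f2), (nat_lit 0x80043c64b5472464c602e4cf6af3bc4990e9), (nat_lit 0x8007123b45f445e67168f3df50b4992ae068), (.ren (nat_lit 612) [] [] [nat_lit 643, nat_lit 646])⟩))
 (.nd (nat_lit 672) (.lf ⟨nat_lit 1, nat_lit 661, nat_lit 372, (nat_lit 0x80076655458551d1523f36b03e21e711e3ed), (nat_lit 0x8005057300c11a960350b2ab30a2815c16aa), (nat_lit 0x8002000e42ab3911413a70392952595b73ac), (.wt (nat_lit 12) (nat_lit 2) (nat_lit 0x8003796716bc56c4c16af04e6a82a76641ed) (.st (nat_lit 670) (unp (nat_lit 7) (nat_lit 0x4f09f5104)) [] (.st (nat_lit 653) (unp (nat_lit 8) (nat_lit 0xeebdfae69d05)) [] (.st (nat_lit 661) (unp (nat_lit 7) (nat_lit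 0x2c4b36fe305)) (unp (nat_lit 9) (nat_lit 0x8fcfe974e04)) .nil))) (unp (nat_lit 6) (nat_lit 0x2cffe03)) [])⟩)
 (.nd (nat_lit 673) (.lf ⟨nat_lit 1, nat_lit 457, nat_lit 661, (nat_lit 0x8004992084fd14117c6bf3e339f2a7660098), (nat_lit 0x8004e302656c1aa51d5170bc39a46e28a238), (nat_lit 0x80072b5a83b902e24c29a0042714fd1d73f5), (.wt (nat_lit 11) (nat_lit 0) (nat_lit 0x80027109101069f79b4253d00023915ef74f) (.st (nat_lit 669) (unp (nat_lit 7) (nat_lit 0xe6fe76104)) [nat_lit 665, nat_lit 667] (.st (nat_lit 484) (unp (nat_lit 7) (nat_lit 0x73f73a86405)) [] (.st (nat_lit 480) (unp (nat_lit 7) (nat_lit 0x2c7f3716405)) [nat_lit 461, nat_lit 468] .nil))) (unp (nat_lit 7) (nat_lit 0x55f28e404)) [])⟩)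
 (.lf ⟨nat_lit 1, nat_lit 281, nat_lit 673, (nat_lit 0x8002f01d725b3f35f569c0390730266aa0ae), one, one, (.df [nat_lit 33, nat_lit 8])⟩))))
 (.nd (nat_lit 676) (.nd (nat_lit 675) (.lf ⟨nat_lit 0, nat_lit 673, nat_lit 673, (nat_lit 0x80003920043a6730401a966937c2ce5850bc), one, (nat_lit 0x80008056c25b4004773d743c7a20d90683ed), (.cmp (nat_lit 673) (nat_lit 673) (unp (nat_lit 7) (nat_lit 0x1c6ed103)) (unp (nat_lit 9) (nat_lit 0x8d4fe934e04)))⟩)
 (.lf ⟨nat_lit 0, nat_lit 673, nat_lit 673, (nat_lit 0x8006a62006dc5031691523662ae0044f3409), one, (nat_lit 0x80027a2ce10040527151d2553f554d0027b7), (.cmp (nat_lit 673) (nat_lit 673) (unp (nat_lit 7) (nat_lit 0x714b7b0e305)) (unp (nat_lit 9) (nat_lit 0x49a834b03)))⟩))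
 (.nd (nat_lit 677) (.lf ⟨nat_lit 0, nat_lit 673, nat_lit 673, (nat_lit 0x80003920043a6730401a966937c2ce5850bc), one, (nat_lit 0x80008056c25b4004773d743c7a20d90683ed), (.inv (nat_lit 674))⟩)
 (.nd (nat_lit 678) (.lf ⟨nat_lit 0, nat_lit 673, nat_lit 673, (nat_lit 0x8002a82003d113a6137960981ed2ce4f33f9), one, (nat_lit 0x80013a20825b3b451d27161339f23a068700), (.prod [nat_lit 675, nat_lit 676])⟩)
 (.lf ⟨nat_lit 0, nat_lit 673, nat_lit 673, (nat_lit 0x8005412005991c173a4e604f3b42f95853e2), one, (nat_lit 0x8005ce1975f15bf3d747724933959d4f3169), (.prod [nat_lit 677, nat_lit 677])⟩))))))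
 (.nd (nat_lit 689) (.nd (nat_lit 684) (.nd (nat_lit 681) (.nd (nat_lit 680) (.lf ⟨nat_lit 0, nat_lit 673, nat_lit 673, (nat_lit 0x8004932002cf70116942a23a52b03317459d), one, (nat_lit 0x8004052ae6aa27a5bb51738a0ae0634991a8), (.prod [nat_lit 678, nat_lit 677])⟩)
 (.lf ⟨nat_lit 0, nat_lit 673, nat_lit 673, (nat_lit 0x80025520054c47715e0264053ed0334f3229), one, (nat_lit 0x80004e13b25b65b2b55b30a53f54e6068547), (.cmp (nat_lit 673) (nat_lit 673) (unp (nat_lit 7) (nat_lit 0xe302dd004)) (unp (nat_lit 9) (nat_lit 0x96d06974d04)))⟩))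
 (.nd (nat_lit 682) (.lf ⟨nat_lit 0, nat_lit 673, nat_lit 673, (nat_lit 0x80065b2005f104e6246e224b0ae2f94f3069), one, (nat_lit 0x8003641971001805b32b54e339f3910025f0), (.prod [nat_lit 680, nat_lit 676])⟩)
 (.nd (nat_lit 683) (.lf ⟨nat_lit 0, nat_lit 673, nat_lit 673, (nat_lit 0x8004022003b950528a5a52ab7472ce0025f5), one, (nat_lit 0x8004cb2086aa4d03797823e200845c4993f3), (.prod [nat_lit 677, nat_lit 681])⟩)
 (.lf ⟨nat_lit 0, nat_lit 673, nat_lit 673, (nat_lit 0x8005e72001683f215e0d90e91ef00417438a), one, (nat_lit 0x80065b2005f104e6246e224b0ae2f94f3069), (.prod [nat_lit 678, nat_lit 681])⟩))))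
 (.nd (nat_lit 686) (.nd (nat_lit 685) (.lf ⟨nat_lit 0, nat_lit 673, nat_lit 673, (nat_lit 0x8000c42002a71c35f04e42f417c033585391), one, (nat_lit 0x8005052ae25b1ef3df0e428a3392f40681aa), (.prod [nat_lit 679, nat_lit 681])⟩)
 (.lf ⟨nat_lit 1, nat_lit 673, nat_lit 281, one, (nat_lit 0x8002f01d725b3f35f569c0390730266aa0ae), one, (.wt (nat_lit 0) (nat_lit 0) (nat_lit 0x8002f01d725b3f35f569c0390730266aa0ae) (.st (nat_lit 673) [] [] .nil) [] [])⟩))
 (.nd (nat_lit 687) (.lf ⟨nat_lit 1, nat_lit 673, nat_lit 615, (nat_lit 0x80040273a00104e1d70c16e22f4599259033), (nat_lit 0x8003974e47b038a37c09c04f6dc5416244ff), (nat_lit 0x8002ab2f00a604f56d49d7b024c1ed07365b), (.wt (nat_lit 10) (nat_lit 2) (nat_lit 0x80050b67161728a2555bf0804090635ef56c) (.st (nat_lit 630) (unp (nat_lit 7) (nat_lit 0x73f2fb0e405)) [] (.st (nat_lit 673) (unp (nat_lit 7) (nat_lit 0x1d2e5003)) (unp (nat_lit 9) (nat_lit 0x90cee8f4e04))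 .nil)) (unp (nat_lit 7) (nat_lit 0x34966e204)) [])⟩)
 (.nd (nat_lit 688) (.lf ⟨nat_lit 1, nat_lit 673, nat_lit 372, (nat_lit 0x8001ab2ae6176135236697b03393f35a96c5), (nat_lit 0x80039151964b61779b39a6e22ae1ef3d1425), (nat_lit 0x8006690690733e25e71ef46e2a772b7e9295), (.wt (nat_lit 10) (nat_lit 2) (nat_lit 0x80008072b2a86786073640477122d8141796) (.st (nat_lit 651) (unp (nat_lit 7) (nat_lit 0x5902ddf04)) [] (.st (nat_lit 673) (unp (nat_lit 7) (nat_lit 0xe296ed104)) (unp (nat_lit 9) (nat_lit 0x92ce2914d04)) .nil)) (unp (nat_lit 7) (nat_lit 0x28833b0e405)) [])⟩)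
 (.lf ⟨nat_lit 1, nat_lit 673, nat_lit 339, (nat_lit 0x80040054d59d5052ce2ae4cb04e28a002397), (nat_lit 0x8004cf64b2a736604779645a07325549d6bc), (nat_lit 0x8005233ef4992b92d87b03791a904769f0fd), (.wt (nat_lit 10) (nat_lit 2) (nat_lit 0x8003647d843c4050042d827804649076639a) (.st (nat_lit 437) (unp (nat_lit 7) (nat_lit 0x2785730e305)) (unp (nat_lit 9) (nat_lit 0x592d17203)) (.st (nat_lit 673) (unp (nat_lit 7) (nat_lit 0x109f6203)) (unp (nat_lit 9) (nat_lit 0x8f4f2934d04)) .nil)) (unp (nat_lit 7) (nat_lit 0x724b770e405)) [])⟩)))))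
 (.nd (nat_lit 694) (.nd (nat_lit 691) (.nd (nat_lit 690) (.lf ⟨nat_lit 1, nat_lit 673, nat_lit 550, (nat_lit 0x8005c16207965177e966429a5b74c653c2d8), (nat_lit 0x8000fd6201b41d758528a1aa0bc0935122f4), (nat_lit 0x8006071a423a0c30202cf6783ac7d94f3080), (.wt (nat_lit 11) (nat_lit 2) (nat_lit 0x80052520867345a0933d028a200255068379) (.st (nat_lit 656) (unp (nat_lit 7) (nat_lit 0x72f73a86305)) (unp (nat_lit 10) (nat_lit 0x22f8ae2d03)) (.st (nat_lit 651) (unp (nat_lit 7) (nat_lit 0x70f77afe405)) [] (.st (nat_lit 673) (unp (nat_lit 8) (nat_lit 0x74805d5f6405)) (unp (nat_lit 9) (nat_lit 0x9450a914e04)) .nil))) (unp (nat_lit 7) (nat_lit 0x28f37b16305)) [])⟩)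
 (.lf ⟨nat_lit 1, nat_lit 550, nat_lit 673, (nat_lit 0x8007ef2894cf0a11e54257003a45857b7238), (nat_lit 0x8005a928942a7b01e76c50525b76aa2465a5), (nat_lit 0x80012d59e0e900129a0401ef7962a82a70bc), (.wt (nat_lit 0) (nat_lit 0) (nat_lit 0x8005c16207965177e966429a5b74c653c2d8) (.st (nat_lit 689) [] [] .nil) (unp (nat_lit 7) (nat_lit 0x10a6e303)) [])⟩))
 (.nd (nat_lit 692) (.lf ⟨nat_lit 1, nat_lit 673, nat_lit 550, (nat_lit 0x80079b7b31690690c45033f26245b736430a), (nat_lit 0x8003ed6c50d979618012d49323869f1c30bc), (nat_lit 0x80060738a23a2ab2b500868512d5a54f3247), (.wt (nat_lit 11) (nat_lit 2) (nat_lit 0x80039168f59e4093f305240212d5030465bc) (.st (nat_lit 560) (unp (nat_lit 7) (nat_lit 0x77f4fb0e405)) [] (.st (nat_lit 337) (unp (nat_lit 7) (nat_lit 0x2c4b3b0e405)) [] (.st (nat_lit 673) (unp (nat_lit 7) (nat_lit 0xe1f6de004)) (unp (nat_lit 9) (nat_lit 0x8d4fa6f4e04)) .nil))) (unp (nat_lit 7) (nat_lit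 0x2c817b06405)) [])⟩)
 (.nd (nat_lit 693) (.lf ⟨nat_lit 1, nat_lit 550, nat_lit 673, (nat_lit 0x80079b7b31690690c45033f26245b736430a), (nat_lit 0x8002086c52b56733b438a4582ab7e92810e4), (nat_lit 0x80079b54c37c7b739a6241ef0202a83a77d8), (.wt (nat_lit 0) (nat_lit 0) (nat_lit 0x80079b7b31690690c45033f26245b736430a) (.st (nat_lit 691) [] [] .nil) (unp (nat_lit 7) (nat_lit 0x274b36fe405)) [])⟩)
 (.lf ⟨nat_lit 1, nat_lit 281, nat_lit 693, (nat_lit 0x80068522e12e74709354c01059928127a56d), one, one, (.df [nat_lit 8])⟩))))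
 (.nd (nat_lit 697) (.nd (nat_lit 695) (.lf ⟨nat_lit 0, nat_lit 693, nat_lit 693, (nat_lit 0x80003920043a6730401a966937c2ce5850bc), one, (nat_lit 0x80046e7b01a41b45f004e1802b515e63b69c), (.cmp (nat_lit 693) (nat_lit 693) (unp (nat_lit 7) (nat_lit 0x1c6ed103)) (unp (nat_lit 9) (nat_lit 0x984e2934d04)))⟩)
 (.nd (nat_lit 696) (.lf ⟨nat_lit 0, nat_lit 693, nat_lit 693, (nat_lit 0x80046e7b01a41b45f004e1802b515e63b69c), one, (nat_lit 0x80003920043a6730401a966937c2ce5850bc), (.cmp (nat_lit 693) (nat_lit 693) (unp (nat_lit 7) (nat_lit 0xe296ed104)) (unp (nat_lit 9) (nat_lit 0x984d26f4e04)))⟩)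
 (.lf ⟨nat_lit 0, nat_lit 693, nat_lit 693, (nat_lit 0x80003920043a6730401a966937c2ce5850bc), one, (nat_lit 0x80046e7b01a41b45f004e1802b515e63b69c), (.inv (nat_lit 694))⟩)))
 (.nd (nat_lit 698) (.lf ⟨nat_lit 0, nat_lit 693, nat_lit 693, (nat_lit 0x8005e77b012e7475f04772491c16243bc391), one, (nat_lit 0x8005e77b012e7475f04772491c16243bc391), (.prod [nat_lit 695, nat_lit 696])⟩)
 (.nd (nat_lit 699) (.lf ⟨nat_lit 1, nat_lit 693, nat_lit 281, one, (nat_lit 0x80068522e12e74709354c01059928127a56d), one, (.wt (nat_lit 0) (nat_lit 0) (nat_lit 0x80068522e12e74709354c01059928127a56d) (.st (nat_lit 693) [] [] .nil) [] [])⟩)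
 (.lf ⟨nat_lit 1, nat_lit 693, nat_lit 693, (nat_lit 0x80064b5121003f92812474570ae4d06173f2), (nat_lit 0x80064b2001685f527a55525b747227073505), (nat_lit 0x8005e754d1001520331b46fc1a973a74f047), (.wt (nat_lit 10) (nat_lit 2) (nat_lit 0x8004cb4e32591ab09850b53c4d004f73e730) (.st (nat_lit 698) (unp (nat_lit 7) (nat_lit 0x330af6104)) [] (.st (nat_lit 693) (unp (nat_lit 7) (nat_lit 0x2f0a6e404)) (unp (nat_lit 9) (nat_lit 0x4ce954d03)) .nil)) (unp (nat_lit 7) (nat_lit 0x27ff6f16405)) [])⟩)))))))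

noncomputable def qcT_700 : Tr :=
  (.nd (nat_lit 720) (.nd (nat_lit 710) (.nd (nat_lit 705) (.nd (nat_lit 702) (.nd (nat_lit 701) (.lf ⟨nat_lit 1, nat_lit 693, nat_lit 693, (nat_lit 0x8005412552a72cf6133df42a6aa13b18045c), (nat_lit 0x8003d022e4492ab6077e92cf72b3ac2b90a5), (nat_lit 0x8000983e22470e969c1ef0524e32294c615e), (.wt (nat_lit 10) (nat_lit 2) (nat_lit 0x8000c44fd7e95ce1b466049d1ef4e65c113b) (.st (nat_lit 698) (unp (nat_lit 7) (nat_lit 0x1e713b0e305)) [] (.st (nat_lit 693) [nat_lit 123] (unp (nat_lit 9) (nat_lit 0x984e6934e04)) .nil)) (unp (nat_lit 7) (nat_lit 0xe5ee6e304)) [])⟩)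
 (.lf ⟨nat_lit 1, nat_lit 693, nat_lit 673, (nat_lit 0x8005a915e4f37e904751a7b03f524916845c), (nat_lit 0x8004c172b00802613b2384e609c51d29a033), (nat_lit 0x80028124c0914cb1a84093e27696fc3a7607), (.wt (nat_lit 10) (nat_lit 2) (nat_lit 0x80061351a6645b33f34d005279b673599020) (.st (nat_lit 685) (unp (nat_lit 7) (nat_lit 0xedfa75004)) [] (.st (nat_lit 693) (unp (nat_lit 7) (nat_lit 0x75f7368e405)) (unp (nat_lit 9) (nat_lit 0x4ae754d03)) .nil)) (unp (nat_lit 7) (nat_lit 0x2dfd3686405)) [])⟩))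
 (.nd (nat_lit 703) (.lf ⟨nat_lit 1, nat_lit 673, nat_lit 693, (nat_lit 0x8005a94771ed3641a803951d1522083f228a), (nat_lit 0x8006780a54f374f04767315e45830a3d172b), (nat_lit 0x8004d06e21e52810987b73e24930e92b9063), (.wt (nat_lit 0) (nat_lit 0) (nat_lit 0x8005a915e4f37e904751a7b03f524916845c) (.st (nat_lit 701) [] [] .nil) (unp (nat_lit 7) (nat_lit 0x4b7306404)) [])⟩)
 (.nd (nat_lit 704) (.lf ⟨nat_lit 1, nat_lit 693, nat_lit 661, (nat_lit 0x80040273a00104e1d70c16e22f4599259033), (nat_lit 0x8001ab43c7b00266dc09c2f446e397259089), (nat_lit 0x8000ae2462a750528a67160713a6601435a8), (.wt (nat_lit 10) (nat_lit 2) (nat_lit 0x80056c32e0195bc3d702636454762445764b) (.st (nat_lit 668) (unp (nat_lit 7) (nat_lit 0x744b6efe405)) [] (.st (nat_lit 693) [nat_lit 99] (unp (nat_lit 9) (nat_lit 0x8dd06974e04)) .nil)) (unp (nat_lit 7) (nat_lit 0xe4fe75f04)) [])⟩)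
 (.lf ⟨nat_lit 1, nat_lit 693, nat_lit 403, (nat_lit 0x80040054d59d5052ce2ae4cb04e28a002397), (nat_lit 0x8003791ed12d6175f172b6bf09151a0e91c1), (nat_lit 0x8000984ff18030a39724739a0915f1664400), (.wt (nat_lit 10) (nat_lit 2) (nat_lit 0x8003394e37664c120046e04f26c42a0804e6) (.st (nat_lit 419) (unp (nat_lit 7) (nat_lit 0x5b72fe404)) [] (.st (nat_lit 693) (unp (nat_lit 7) (nat_lit 0x74837a8e305)) (unp (nat_lit 9) (nat_lit 0x93cee934e04)) .nil)) (unp (nat_lit 7) (nat_lit 0x35066df04)) [])⟩))))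
 (.nd (nat_lit 707) (.nd (nat_lit 706) (.lf ⟨nat_lit 1, nat_lit 693, nat_lit 615, (nat_lit 0x8005032001001c30404934e31ef5f40a60a5), (nat_lit 0x80002030a0932381262cf0a15416730bc769), (nat_lit 0x80056d30a1e51ed54705c40951946e0684e4), (.wt (nat_lit 10) (nat_lit 2) (nat_lit 0x8006732783bc04f0ae3e243c2382a82954cb) (.st (nat_lit 630) (unp (nat_lit 7) (nat_lit 0x2fee76204)) [] (.st (nat_lit 693) (unp (nat_lit 7) (nat_lit 0x10a76403)) (unp (nat_lit 9) (nat_lit 0x472794a03)) .nil)) (unp (nat_lit 7) (nat_lit 0x6a0ce03)) [])⟩)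
 (.lf ⟨nat_lit 1, nat_lit 615, nat_lit 693, (nat_lit 0x80063854d12e28a5051d222d04e2ce23a458), (nat_lit 0x8003f95474c43660100080bc6690a1068673), (nat_lit 0x80056d3790911ed42a5a80891805030684fd), (.wt (nat_lit 0) (nat_lit 0) (nat_lit 0x8005032001001c30404934e31ef5f40a60a5) (.st (nat_lit 705) [] [] .nil) (unp (nat_lit 7) (nat_lit 0x3d0286404)) [])⟩))
 (.nd (nat_lit 708) (.lf ⟨nat_lit 1, nat_lit 693, nat_lit 457, (nat_lit 0x80079b7b31690690c45033f26245b736430a), (nat_lit 0x8005bb6af5bc53c29a5170462d809c1e5700), (nat_lit 0x8007667b017c5b77e942523838a69f11e1ab), (.wt (nat_lit 11) (nat_lit 2) (nat_lit 0x80015e0d91a438a5a54cb1ed7d804f7666a6) (.st (nat_lit 472) (unp (nat_lit 7) (nat_lit 0x77f37686305)) [] (.st (nat_lit 336) (unp (nat_lit 7) (nat_lit 0x3afe86404)) (unp (nat_lit 7) (nat_lit 0x6635403)) (.st (nat_lit 693) (unp (nat_lit 7) (nat_lit 0x33370e304)) [nat_lit 331, nat_lit 321] .nil))) [nat_lit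 95, nat_lit 43] [])⟩)
 (.nd (nat_lit 709) (.lf ⟨nat_lit 1, nat_lit 457, nat_lit 693, (nat_lit 0x8002551d76076244580e41682ab2816aa68f), (nat_lit 0x80005c5556130330085470c153c2cf402063), (nat_lit 0x80064b7b052b3d72590b85bf2a71d23e3701), (.wt (nat_lit 0) (nat_lit 0) (nat_lit 0x80079b7b31690690c45033f26245b736430a) (.st (nat_lit 707) [] [] .nil) (unp (nat_lit 7) (nat_lit 0x40de76004)) [])⟩)
 (.lf ⟨nat_lit 1, nat_lit 693, nat_lit 457, (nat_lit 0x80045c70b0332d829a0a552324c04640023a), (nat_lit 0x8006aa0a17d92ce39760368f4fd5032a8180), (nat_lit 0x8000b879e37c1d77e943c39f27169f54c249), (.wt (nat_lit 11) (nat_lit 2) (nat_lit 0x8007824e30934581aa1262714d01d7289607) (.st (nat_lit 474) (unp (nat_lit 7) (nat_lit 0x1d7d4e03)) [nat_lit 461, nat_lit 458] (.st (nat_lit 419) (unp (nat_lit 7) (nat_lit 0xa2e6103)) [] (.st (nat_lit 693) (unp (nat_lit 7) (nat_lit 0x32ff16304)) (unp (nat_lit 9) (nat_lit 0x954fa6f4e04))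 .nil))) (unp (nat_lit 7) (nat_lit 0x5a96e6204)) [])⟩)))))
 (.nd (nat_lit 715) (.nd (nat_lit 712) (.nd (nat_lit 711) (.lf ⟨nat_lit 1, nat_lit 457, nat_lit 693, (nat_lit 0x8005c16173907001d202322949d0891c352b), (nat_lit 0x80028a7127307d86bc60773e22e1740c30e4), (nat_lit 0x80028122e29540931a45c5f11a42a82ce091), (.wt (nat_lit 0) (nat_lit 0) (nat_lit 0x80045c70b0332d829a0a552324c04640023a) (.st (nat_lit 709) [] [] .nil) (unp (nat_lit 7) (nat_lit 0x2f3b0e304)) [])⟩)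
 (.lf ⟨nat_lit 2, nat_lit 339, nat_lit 711, (nat_lit 0x8004c172b73a2cf0696bf5b75234fd0c363b), one, one, (.df [nat_lit 33, nat_lit 33])⟩))
 (.nd (nat_lit 713) (.lf ⟨nat_lit 0, nat_lit 711, nat_lit 711, (nat_lit 0x8005237000520930bc51d5547690894c642a), one, (nat_lit 0x8007016607660c432e04f6715193a46aa624), (.cmp (nat_lit 711) (nat_lit 711) (unp (nat_lit 8) (nat_lit 0xb290fbe69d05)) (unp (nat_lit 9) (nat_lit 0x56acf7203)))⟩)
 (.nd (nat_lit 714) (.lf ⟨nat_lit 0, nat_lit 711, nat_lit 711, (nat_lit 0x80008027112e52b73a3ef0104933d0143391), one, (nat_lit 0x80002320006804e15e51d25552b22925928a), (.prod [nat_lit 712, nat_lit 712])⟩)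
 (.lf ⟨nat_lit 0, nat_lit 711, nat_lit 711, (nat_lit 0x8000933df6697e919756c5540082290026bf), one, (nat_lit 0x8000c166067833922e68f6bf5bf512002517), (.prod [nat_lit 713, nat_lit 712])⟩))))
 (.nd (nat_lit 717) (.nd (nat_lit 716) (.lf ⟨nat_lit 0, nat_lit 711, nat_lit 711, (nat_lit 0x80052b5254c14005f073001076915e4c65f5), one, (nat_lit 0x8005ce2001684056387961a80ae0bc6aa53c), (.prod [nat_lit 714, nat_lit 712])⟩)
 (.lf ⟨nat_lit 0, nat_lit 711, nat_lit 711, (nat_lit 0x8007e94cf12652351723855449369c1431b4), one, (nat_lit 0x80039a66011e2812465bc2f409c0472590e4), (.prod [nat_lit 715, nat_lit 712])⟩))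
 (.nd (nat_lit 718) (.lf ⟨nat_lit 0, nat_lit 711, nat_lit 711, (nat_lit 0x8001c30201e740013b7d80337a249002e51d), one, (nat_lit 0x8001ed5474574050637b03d02f05a528951a), (.cmp (nat_lit 711) (nat_lit 711) (unp (nat_lit 8) (nat_lit 0xabb9e3e59c05)) (unp (nat_lit 9) (nat_lit 0x57ad37103)))⟩)
 (.nd (nat_lit 719) (.lf ⟨nat_lit 0, nat_lit 711, nat_lit 711, (nat_lit 0x80056d6711e51c32f47ef0334583f3046379), one, (nat_lit 0x80040054717415223a00451266973076668f), (.prod [nat_lit 715, nat_lit 717])⟩)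
 (.lf ⟨nat_lit 0, nat_lit 711, nat_lit 711, (nat_lit 0x8000582f92812cf1b40695bc0c36e25ef69c), one, (nat_lit 0x8006bc37925b45820828a0e408025511e673), (.prod [nat_lit 716, nat_lit 717])⟩))))))
 (.nd (nat_lit 730) (.nd (nat_lit 725) (.nd (nat_lit 722) (.nd (nat_lit 721) (.lf ⟨nat_lit 0, nat_lit 711, nat_lit 711, (nat_lit 0x80031a6fc1c30917ef04f0a57a27d84f34e4), one, (nat_lit 0x8007010631d24933ed3a40bc13d039068796), (.prod [nat_lit 718, nat_lit 712])⟩)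
 (.lf ⟨nat_lit 0, nat_lit 711, nat_lit 711, (nat_lit 0x8000e822e2891ef6604e62d87696245855a8), one, (nat_lit 0x8001ed7ef5f156d15e5a54e349349d002069), (.prod [nat_lit 718, nat_lit 717])⟩))
 (.nd (nat_lit 723) (.lf ⟨nat_lit 0, nat_lit 711, nat_lit 711, (nat_lit 0x8000806730931a960720012d0c37005c16fc), one, (nat_lit 0x8005ce3ef58509c06359d6851a97967662d8), (.inv (nat_lit 717))⟩)
 (.nd (nat_lit 724) (.lf ⟨nat_lit 0, nat_lit 711, nat_lit 711, (nat_lit 0x8006780011ef12e4e673a2553f22ae6207b0), one, (nat_lit 0x8005e70401681ab08970073027838a523004), (.prod (unp (nat_lit 10) (nat_lit 0x2d2b22cd03)))⟩)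
 (.lf ⟨nat_lit 0, nat_lit 711, nat_lit 711, (nat_lit 0x8004027b03d11a900472b3ac7691691433d7), one, (nat_lit 0x80040008949909c3d74cf4ff2817d86a838a), (.prod [nat_lit 723, nat_lit 723])⟩))))
 (.nd (nat_lit 727) (.nd (nat_lit 726) (.lf ⟨nat_lit 0, nat_lit 711, nat_lit 711, (nat_lit 0x8000583d71c33b92ae2ce6a600867149954d), one, (nat_lit 0x8005e73d71007691970100201ef0a51747d8), (.prod [nat_lit 724, nat_lit 723])⟩)
 (.lf ⟨nat_lit 0, nat_lit 711, nat_lit 711, (nat_lit 0x80054154d5b71ed1692b54e33f204014159d), one, (nat_lit 0x80040019716813a15e73070039f52525b0a5), (.prod [nat_lit 725, nat_lit 723])⟩))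
 (.nd (nat_lit 728) (.lf ⟨nat_lit 0, nat_lit 711, nat_lit 711, (nat_lit 0x80009342a4d06aa49d0203a43f266014104f), one, (nat_lit 0x8000c12466782eb3f902001004e5176a8512), (.cmp (nat_lit 711) (nat_lit 711) (unp (nat_lit 8) (nat_lit 0x92b4e303)) (unp (nat_lit 9) (nat_lit 0x562d56b03)))⟩)
 (.nd (nat_lit 729) (.lf ⟨nat_lit 0, nat_lit 711, nat_lit 711, (nat_lit 0x8000933df6697e919756c5540082290026bf), one, (nat_lit 0x8000c166067833922e68f6bf5bf512002517), (.inv (nat_lit 714))⟩)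
 (.lf ⟨nat_lit 0, nat_lit 711, nat_lit 711, (nat_lit 0x80054154d5b71ed1692b54e33f204014159d), one, (nat_lit 0x80040019716813a15e73070039f52525b0a5), (.inv (nat_lit 724))⟩)))))
 (.nd (nat_lit 735) (.nd (nat_lit 732) (.nd (nat_lit 731) (.lf ⟨nat_lit 0, nat_lit 711, nat_lit 711, (nat_lit 0x8005413f912e1ef7b70986a676969c1437d8), one, (nat_lit 0x8004003d716856d0890e90d90080a5002525), (.prod (unp (nat_lit 10) (nat_lit 0x2d9b62d703)))⟩)
 (.lf ⟨nat_lit 2, nat_lit 711, nat_lit 339, one, (nat_lit 0x8004c172b73a2cf0696bf5b75234fd0c363b), one, (.wt (nat_lit 13) (nat_lit 0) (nat_lit 0x8004c172b73a2cf0696bf5b75234fd0c363b) (.st (nat_lit 711) [] [] .nil) [] [])⟩))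
 (.nd (nat_lit 733) (.lf ⟨nat_lit 1, nat_lit 711, nat_lit 550, (nat_lit 0x80012e19715e2a74cf54d31a6bc7005ef5bf), (nat_lit 0x8004ff79632e2ae7664573f943a5f100250b), (nat_lit 0x8006202a80c124b4ff56d2ae5ce00860322d), (.wt (nat_lit 12) (nat_lit 1) (nat_lit 0x8001a840509145e0d915e2460c46bf3e35bc) (.st (nat_lit 561) (unp (nat_lit 7) (nat_lit 0xa7f5b03)) [nat_lit 558, nat_lit 555] (.st (nat_lit 565) (unp (nat_lit 8) (nat_lit 0x1e804e626305)) [] (.st (nat_lit 711) (unp (nat_lit 8) (nat_lit 0xf1e3e5d904)) [nat_lit 364] .nil))) (unp (nat_lit 7) (nat_lit 0x70837a8e405)) [])⟩)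
 (.nd (nat_lit 734) (.lf ⟨nat_lit 1, nat_lit 673, nat_lit 711, (nat_lit 0x8006782001c32a70930bc01004726c2b904e), (nat_lit 0x80025b37c30a58554c04e7662eb12e2590d9), (nat_lit 0x80049300474726c54d53c0635bf6734002ce), (.wt (nat_lit 10) (nat_lit 0) (nat_lit 0x80063b6713f33bc43c68f73e1a93d76aa080) (.st (nat_lit 732) (unp (nat_lit 7) (nat_lit 0x7b16403)) [nat_lit 726, nat_lit 721] (.st (nat_lit 690) (unp (nat_lit 7) (nat_lit 0x20836e86405)) [nat_lit 556, nat_lit 559] .nil)) (unp (nat_lit 7) (nat_lit 0x410a8e404)) [])⟩)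
 (.lf ⟨nat_lit 1, nat_lit 711, nat_lit 711, (nat_lit 0x8005c15a513a56d6070477967e96851c3238), (nat_lit 0x8005c14e604e1a94e33d76e22590a508056c), (nat_lit 0x8000233ed10059963868f4e41e551d3b413b), (.wt (nat_lit 11) (nat_lit 0) (nat_lit 0x80002e68532e3a74e46132c839f2f45c156d) (.st (nat_lit 732) (unp (nat_lit 7) (nat_lit 0x2a4b7706305)) [nat_lit 726, nat_lit 721] (.st (nat_lit 692) (unp (nat_lit 7) (nat_lit 0x857b06404)) [nat_lit 557] (.st (nat_lit 733) (unp (nat_lit 7) (nat_lit 0x77fcfa86305)) [nat_lit 677] .nil))) (unp (nat_lit 7) (nat_lit 0x2d6f3b06405)) [])⟩))))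
 (.nd (nat_lit 738) (.nd (nat_lit 736) (.lf ⟨nat_lit 0, nat_lit 711, nat_lit 711, (nat_lit 0x8000a62296aa4024cf3f30394583d7026782), one, (nat_lit 0x8002f03df1d20523ed12d54d0086716206a6), (.cmp (nat_lit 734) (nat_lit 734) (unp (nat_lit 7) (nat_lit 0xa60e303)) [nat_lit 725, nat_lit 721])⟩)
 (.nd (nat_lit 737) (.lf ⟨nat_lit 0, nat_lit 711, nat_lit 711, (nat_lit 0x8003d115e6694c137c0474fd7a242a0680bc), one, (nat_lit 0x8002276fc6aa0c337c61350b56d6a611e671), (.inv (nat_lit 720))⟩)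
 (.lf ⟨nat_lit 0, nat_lit 711, nat_lit 711, (nat_lit 0x8000583d71c33b92ae2ce6a600867149954d), one, (nat_lit 0x8005e73d71007691970100201ef0a51747d8), (.inv (nat_lit 725))⟩)))
 (.nd (nat_lit 739) (.lf ⟨nat_lit 0, nat_lit 711, nat_lit 711, (nat_lit 0x80076642a1000806245f05123f26fc364503), one, (nat_lit 0x8000c439110008019724b5033f25174c6512), (.prod (unp (nat_lit 10) (nat_lit 0x2e1b82df03)))⟩)
 (.nd (nat_lit 740) (.lf ⟨nat_lit 0, nat_lit 711, nat_lit 711, (nat_lit 0x80054159d29a13d2b56603a47693d0143208), one, (nat_lit 0x8000c424612e1ef6605bc2f43f22ce4c638a), (.prod [nat_lit 730, nat_lit 738])⟩)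
 (.lf ⟨nat_lit 0, nat_lit 711, nat_lit 711, (nat_lit 0x80040050b29a13d56c19753c008229002490), one, (nat_lit 0x8005413f912e1ef7b70986a676969c1437d8), (.prod [nat_lit 739, nat_lit 730])⟩)))))))

noncomputable def qcT_741 : Tr :=
  (.nd (nat_lit 761) (.nd (nat_lit 751) (.nd (nat_lit 746) (.nd (nat_lit 743) (.nd (nat_lit 742) (.lf ⟨nat_lit 1, nat_lit 485, nat_lit 711, (nat_lit 0x80059d1d76133a45ce55409337939f5c13f3), (nat_lit 0x80060328a3663f503904f50b1686734f3197), (nat_lit 0x80022e6176b042a2a80391430041a93b9782), (.wt (nat_lit 12) (nat_lit 1) (nat_lit 0x80039766945a5994fd13a0b82f92b55ef089) (.st (nat_lit 732) (unp (nat_lit 7) (nat_lit 0xf5368e404)) [] (.st (nat_lit 560) (unp (nat_lit 6) (nat_lit 0x1dffe03)) [] (.st (nat_lit 485) (unp (nat_lit 8) (nat_lit 0xa49bd903)) [] .nil))) (unp (nat_lit 7) (nat_lit 0x7e0be03)) [])⟩)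
 (.lf ⟨nat_lit 1, nat_lit 711, nat_lit 485, (nat_lit 0x8005415253b41ef2f472b28a5993df143001), (nat_lit 0x8003ac7b337906356d0d91006241ed1745a8), (nat_lit 0x8001436a67a273a05832e3d125b6e26aa3a4), (.wt (nat_lit 0) (nat_lit 0) (nat_lit 0x80059d1d76133a45ce55409337939f5c13f3) (.st (nat_lit 741) (unp (nat_lit 7) (nat_lit 0x274b7a86305)) (unp (nat_lit 9) (nat_lit 0x1e6f8fd3effb05)) .nil) (unp (nat_lit 7) (nat_lit 0x3ee1f5104)) [])⟩))
 (.nd (nat_lit 744) (.lf ⟨nat_lit 0, nat_lit 485, nat_lit 485, (nat_lit 0x8005557d824c6af04002614356d3f53f31ef), one, (nat_lit 0x80046e2950e81685233976aa6dc2ce2c8599), (.cmp (nat_lit 742) (nat_lit 742) (unp (nat_lit 7) (nat_lit 0x264b3b16405)) (unp (nat_lit 10) (nat_lit 0x2cfb56e403)))⟩)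
 (.nd (nat_lit 745) (.lf ⟨nat_lit 0, nat_lit 485, nat_lit 485, (nat_lit 0x80040054d12e52b61367313b04e73a1413f9), one, (nat_lit 0x8005e75251683f23396e26fc59d45874f1ed), (.inv (nat_lit 488))⟩)
 (.lf ⟨nat_lit 0, nat_lit 485, nat_lit 485, (nat_lit 0x80064b24652b3d72ce4e463b1b4519249796), one, (nat_lit 0x8000c406824732e24b0bc37976913d4c6409), (.prod (unp (nat_lit 10) (nat_lit 0x2e87d6e703)))⟩))))
 (.nd (nat_lit 748) (.nd (nat_lit 747) (.lf ⟨nat_lit 0, nat_lit 485, nat_lit 485, (nat_lit 0x80005c79e1c138a1692ae74f6e27a245e6bf), one, (nat_lit 0x8000c402e4097963661b45190472ab4c624c), (.prod [nat_lit 745, nat_lit 499])⟩)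
 (.lf ⟨nat_lit 0, nat_lit 485, nat_lit 485, (nat_lit 0x80054170b44922d2ce3e205269c6a814339a), one, (nat_lit 0x8000c459e4775032f03f22f94091a84c63a4), (.prod (unp (nat_lit 10) (nat_lit 0x1f9ba5f403)))⟩))
 (.nd (nat_lit 749) (.lf ⟨nat_lit 0, nat_lit 485, nat_lit 485, (nat_lit 0x80054159e6dc6af04f5b30520d96bc143599), one, (nat_lit 0x8000c470b6e242a2f40262f954c3394c6289), (.prod [nat_lit 503, nat_lit 747])⟩)
 (.nd (nat_lit 750) (.lf ⟨nat_lit 0, nat_lit 485, nat_lit 485, (nat_lit 0x8000c459e4775032f03f22f94091a84c63a4), one, (nat_lit 0x80054170b44922d2ce3e205269c6a814339a), (.prod [nat_lit 747, nat_lit 503])⟩)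
 (.lf ⟨nat_lit 0, nat_lit 485, nat_lit 485, (nat_lit 0x80076670b3f21a949d5997e96dc56c364409), one, (nat_lit 0x8007662466bf0bc6171ef7e956d2ab364796), (.inv (nat_lit 748))⟩)))))
 (.nd (nat_lit 756) (.nd (nat_lit 753) (.nd (nat_lit 752) (.lf ⟨nat_lit 0, nat_lit 485, nat_lit 485, (nat_lit 0x80005822e3a474752339129a3b945c45a477), one, (nat_lit 0x80005822e3a474752339129a3b945c45a477), (.prod (unp (nat_lit 10) (nat_lit 0x2ee7eaeb03)))⟩)
 (.lf ⟨nat_lit 0, nat_lit 485, nat_lit 485, (nat_lit 0x80064b20004e3d145815215e04731a249425), one, (nat_lit 0x8005e724659906930a12e4cf7017a21e56dc), (.prod [nat_lit 751, nat_lit 506])⟩))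
 (.nd (nat_lit 754) (.lf ⟨nat_lit 0, nat_lit 485, nat_lit 485, (nat_lit 0x8005e724659906930a12e4cf7017a21e56dc), one, (nat_lit 0x80064b20004e3d145815215e04731a249425), (.prod [nat_lit 752, nat_lit 506])⟩)
 (.nd (nat_lit 755) (.lf ⟨nat_lit 0, nat_lit 0, nat_lit 3, (nat_lit 0x80073050b5051521260a14e31ef2593395f1), one, (nat_lit 0x80073050b5051521260a14e31ef2593395f1), (.we (nat_lit 22) (nat_lit 0) one (.sp (.st (nat_lit 485) (unp (nat_lit 8) (nat_lit 0xbcdde5d99c05)) (unp (nat_lit 8) (nat_lit 0xcbe8eaa104)) (.st (nat_lit 508) (unp (nat_lit 8) (nat_lit 0xb8dee5d99c05)) (unp (nat_lit 10) (nat_lit 0x1e679ee9bc1fa05)) (.st (nat_lit 272) (unp (nat_lit 8) (nat_lit 0xbadee5d99d05)) [] (.sp .nil))))))⟩)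
 (.lf ⟨nat_lit 0, nat_lit 0, nat_lit 5, (nat_lit 0x80051750b5993f91aa25560739728a36656d), one, (nat_lit 0x80051750b5993f91aa25560739728a36656d), (.we (nat_lit 24) (nat_lit 0) one (.sp (.st (nat_lit 485) (unp (nat_lit 8) (nat_lit 0xbcdde5d99c05)) (unp (nat_lit 8) (nat_lit 0xcbe8eaa104)) (.st (nat_lit 508) (unp (nat_lit 8) (nat_lit 0xbcdee5d904)) (unp (nat_lit 10) (nat_lit 0x1e679ee9bc1fa05)) (.st (nat_lit 272) (unp (nat_lit 8) (nat_lit 0xbcdee5d99d05)) [] (.sp .nil))))))⟩))))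
 (.nd (nat_lit 758) (.nd (nat_lit 757) (.lf ⟨nat_lit 0, nat_lit 0, nat_lit 7, (nat_lit 0x8006715251ed3b45ce0a13ac080457458678), one, (nat_lit 0x8006715251ed3b45ce0a13ac080457458678), (.we (nat_lit 26) (nat_lit 0) one (.sp (.st (nat_lit 485) (unp (nat_lit 8) (nat_lit 0xbcdde5d99c05)) (unp (nat_lit 8) (nat_lit 0xcbe8eaa104)) (.st (nat_lit 508) (unp (nat_lit 8) (nat_lit 0xb7dde5d904)) (unp (nat_lit 10) (nat_lit 0x1e67a6eabbdfb05)) (.st (nat_lit 272) (unp (nat_lit 8) (nat_lit 0x9adde5d904)) [] (.sp .nil))))))⟩)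
 (.lf ⟨nat_lit 0, nat_lit 0, nat_lit 8, (nat_lit 0x8000d95250473d749976630a3b92596a804e), one, (nat_lit 0x8000d95250473d749976630a3b92596a804e), (.we (nat_lit 27) (nat_lit 0) one (.sp (.st (nat_lit 485) (unp (nat_lit 8) (nat_lit 0xbcdde5d99c05)) (unp (nat_lit 8) (nat_lit 0xcbe8eaa104)) (.st (nat_lit 508) (unp (nat_lit 8) (nat_lit 0xb8dde5d99d05)) (unp (nat_lit 10) (nat_lit 0x1e679ee9bc1fa05)) (.st (nat_lit 272) (unp (nat_lit 8) (nat_lit 0xbadde5d99d05)) [] (.sp .nil))))))⟩))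
 (.nd (nat_lit 759) (.lf ⟨nat_lit 0, nat_lit 0, nat_lit 9, (nat_lit 0x8006e253c7470ae3640b868f39a1e72eb5f1), one, (nat_lit 0x8006e253c7470ae3640b868f39a1e72eb5f1), (.we (nat_lit 28) (nat_lit 0) one (.sp (.st (nat_lit 485) (unp (nat_lit 8) (nat_lit 0xbcdde5d99c05)) (unp (nat_lit 8) (nat_lit 0xcbe8eaa104)) (.st (nat_lit 508) (unp (nat_lit 8) (nat_lit 0x9adee6d904)) (unp (nat_lit 10) (nat_lit 0x1e679ee9bc1fa05)) (.st (nat_lit 272) (unp (nat_lit 8) (nat_lit 0xb7dee6d99d05)) [] (.sp .nil))))))⟩)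
 (.nd (nat_lit 760) (.lf ⟨nat_lit 2, nat_lit 711, nat_lit 281, (nat_lit 0x80005c1b42382ab5ce50b0393bc28a45e339), (nat_lit 0x8003d73ed2f451d27827151a4c628a0633f5), (nat_lit 0x8000c430a63b6694fd2293f92272085ef607), (.wt (nat_lit 12) (nat_lit 0) (nat_lit 0x8002f01d725b3f35f569c0390730266aa0ae) (.st (nat_lit 673) [] [] (.st (nat_lit 733) [] [] (.st (nat_lit 734) (unp (nat_lit 7) (nat_lit 0x3cdef6004)) [nat_lit 739, nat_lit 723] .nil))) (unp (nat_lit 8) (nat_lit 0xa5b9e503)) [])⟩)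
 (.lf ⟨nat_lit 0, nat_lit 711, nat_lit 567, (nat_lit 0x8001e56b670170066073022e6170235e712e), one, (nat_lit 0x8001ed45c63b4d05bc5170014582085ef010), (.we (nat_lit 13) (nat_lit 0) (nat_lit 0x80005c1b42382ab5ce50b0393bc28a45e339) (.st (nat_lit 759) [] [] (.st (nat_lit 567) (unp (nat_lit 8) (nat_lit 0x8edee69c04)) (unp (nat_lit 9) (nat_lit 0x476974e03)) .nil)))⟩))))))
 (.nd (nat_lit 771) (.nd (nat_lit 766) (.nd (nat_lit 763) (.nd (nat_lit 762) (.lf ⟨nat_lit 0, nat_lit 567, nat_lit 711, (nat_lit 0x8000913e23f369f6245175b71a93df493180), one, (nat_lit 0x8001ed45c63b4d05bc5170014582085ef010), (.inv (nat_lit 760))⟩)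
 (.lf ⟨nat_lit 0, nat_lit 567, nat_lit 567, (nat_lit 0x8004907a273008045851201009839f390091), one, (nat_lit 0x8005195036aa4022d80893910084fd59942a), (.prod (unp (nat_lit 10) (nat_lit 0x2f8b7ef903)))⟩))
 (.nd (nat_lit 764) (.lf ⟨nat_lit 2, nat_lit 567, nat_lit 339, (nat_lit 0x80005c0a61a80476bc43c2f004e23a6072a7), (nat_lit 0x80013d50b4051260937d92f03d7246766617), (nat_lit 0x8001ed45c63b4d05bc5170014582085ef010), (.ren (nat_lit 731) (unp (nat_lit 8) (nat_lit 0x8e9adee6d99d06)) [nat_lit 760] [])⟩)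
 (.nd (nat_lit 765) (.lf ⟨nat_lit 1, nat_lit 567, nat_lit 485, (nat_lit 0x8005e76bf30a2275123f96bc3f22f41e5499), (nat_lit 0x80069c22d5540a513d3d758545c4933b9249), (nat_lit 0x8004f367304f5f059d6dc3a40914fd31a3d1), (.ren (nat_lit 742) (unp (nat_lit 7) (nat_lit 0x5e76403)) [nat_lit 760] [])⟩)
 (.lf ⟨nat_lit 0, nat_lit 567, nat_lit 567, (nat_lit 0x8000102ce6dc4906710520800470393bc45e), one, (nat_lit 0x80050537925940237c0472293392550684e4), (.inv (nat_lit 573))⟩))))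
 (.nd (nat_lit 768) (.nd (nat_lit 767) (.lf ⟨nat_lit 0, nat_lit 567, nat_lit 567, (nat_lit 0x80040037c4d04906a65f008045779e00204e), one, (nat_lit 0x8002a83d016856d5173df3ef33959d6aa613), (.prod [nat_lit 762, nat_lit 765])⟩)
 (.lf ⟨nat_lit 0, nat_lit 567, nat_lit 567, (nat_lit 0x8005ef37c25574f73029a3e32ab62402e56d), one, (nat_lit 0x8002a854d49945a3a456c42a0e873a74f197), (.prod [nat_lit 582, nat_lit 766])⟩))
 (.nd (nat_lit 769) (.lf ⟨nat_lit 1, nat_lit 673, nat_lit 567, (nat_lit 0x8006782001c32a70930bc01004726c2b904e), (nat_lit 0x80023a2a85172810475990524f369c23868f), (nat_lit 0x8000c32081c12a742a4905545bf0e41ed68f), (.ren (nat_lit 733) [] [] [nat_lit 760])⟩)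
 (.nd (nat_lit 770) (.lf ⟨nat_lit 1, nat_lit 485, nat_lit 567, (nat_lit 0x80059d1d76133a45ce55409337939f5c13f3), (nat_lit 0x80076969c2000082b53790c3023554599093), (nat_lit 0x8002f424747754d1c315e6782083b47e92b5), (.ren (nat_lit 741) [] [] [nat_lit 760])⟩)
 (.lf ⟨nat_lit 2, nat_lit 339, nat_lit 770, (nat_lit 0x80060722e5a90c42d85554495251ef45e7e9), one, one, (.df (unp (nat_lit 5) (nat_lit 0x651b03)))⟩)))))
 (.nd (nat_lit 776) (.nd (nat_lit 773) (.nd (nat_lit 772) (.lf ⟨nat_lit 2, nat_lit 770, nat_lit 339, one, (nat_lit 0x80060722e5a90c42d85554495251ef45e7e9), one, (.wt (nat_lit 13) (nat_lit 0) (nat_lit 0x80060722e5a90c42d85554495251ef45e7e9) (.st (nat_lit 770) [] [] .nil) [] [])⟩)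
 (.lf ⟨nat_lit 1, nat_lit 339, nat_lit 772, (nat_lit 0x8004027b77e90e80266af52b5f06850c3664), one, one, (.df (unp (nat_lit 6) (nat_lit 0x2184203)))⟩))
 (.nd (nat_lit 774) (.lf ⟨nat_lit 0, nat_lit 772, nat_lit 772, (nat_lit 0x8000c47b02cf0e82f93ed3f31526134c45b3), one, (nat_lit 0x80040008949909c3d74cf4ff2817d86a838a), (.cmp (nat_lit 772) (nat_lit 772) [nat_lit 78, nat_lit 66] [nat_lit 358, nat_lit 348])⟩)
 (.nd (nat_lit 775) (.lf ⟨nat_lit 0, nat_lit 772, nat_lit 772, (nat_lit 0x80040254d3970ae15e6716077015f04c638a), one, (nat_lit 0x80040019716813a15e73070039f52525b0a5), (.prod [nat_lit 773, nat_lit 773])⟩)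
 (.lf ⟨nat_lit 0, nat_lit 772, nat_lit 772, (nat_lit 0x80052b5254c14005f073001076915e4c65f5), one, (nat_lit 0x8005ce2001684056387961a80ae0bc6aa53c), (.cmp (nat_lit 772) (nat_lit 772) (unp (nat_lit 7) (nat_lit 0xb1fd103)) (unp (nat_lit 9) (nat_lit 0x556cf6c03)))⟩))))
 (.nd (nat_lit 779) (.nd (nat_lit 777) (.lf ⟨nat_lit 0, nat_lit 772, nat_lit 772, (nat_lit 0x8001c32467660c40045a53f304e0400023a4), one, (nat_lit 0x80002308910005263850324b7a25f54f35f0), (.prod [nat_lit 775, nat_lit 773])⟩)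
 (.nd (nat_lit 778) (.lf ⟨nat_lit 0, nat_lit 772, nat_lit 772, (nat_lit 0x8001a979e6784026132ae60717c2f94c4069), one, (nat_lit 0x8001ed1974991806385bb4fd2eb7b02593e2), (.prod [nat_lit 776, nat_lit 773])⟩)
 (.lf ⟨nat_lit 0, nat_lit 772, nat_lit 772, (nat_lit 0x8001693f56780331c32f45bc51756d390458), one, (nat_lit 0x8001ed23845756d1b406940945851a5ef5a5), (.cmp (nat_lit 772) (nat_lit 772) (unp (nat_lit 7) (nat_lit 0x35f9f5f04)) (unp (nat_lit 9) (nat_lit 0x57acf6c03)))⟩)))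
 (.nd (nat_lit 780) (.lf ⟨nat_lit 0, nat_lit 772, nat_lit 772, (nat_lit 0x8005f02811002f90e82d80390894025f4278), one, (nat_lit 0x80040006317413a3ed0a55b329a68f678730), (.prod [nat_lit 777, nat_lit 778])⟩)
 (.nd (nat_lit 781) (.lf ⟨nat_lit 1, nat_lit 772, nat_lit 339, one, (nat_lit 0x8004027b77e90e80266af52b5f06850c3664), one, (.wt (nat_lit 0) (nat_lit 0) (nat_lit 0x8004027b77e90e80266af52b5f06850c3664) (.st (nat_lit 772) [] [] .nil) [] [])⟩)
 (.lf ⟨nat_lit 1, nat_lit 772, nat_lit 339, (nat_lit 0x80064b5121003f92812474570ae4d06173f2), (nat_lit 0x80013b0d97822cf5410a13ac74727a0523f9), (nat_lit 0x8000236735c12a804f3ef28a4c60bc39715e), (.wt (nat_lit 10) (nat_lit 2) (nat_lit 0x8003e35f52f04f34003d771209808013b503) (.st (nat_lit 442) (unp (nat_lit 7) (nat_lit 0x33fa75f04)) (unp (nat_lit 9) (nat_lit 0x592d37003)) (.st (nat_lit 772) (unp (nat_lit 7) (nat_lit 0x1ef57686405)) [nat_lit 369, nat_lit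 359] .nil)) (unp (nat_lit 7) (nat_lit 0x3ff706304)) [])⟩)))))))

noncomputable def qcT_782 : Tr :=
  (.nd (nat_lit 802) (.nd (nat_lit 792) (.nd (nat_lit 787) (.nd (nat_lit 784) (.nd (nat_lit 783) (.lf ⟨nat_lit 0, nat_lit 772, nat_lit 772, (nat_lit 0x80000150b59938a27a7b331a008405390400), one, (nat_lit 0x8001ed3ef5990800630980330934255ef554), (.we (nat_lit 0) (nat_lit 0) (nat_lit 0x80064b5121003f92812474570ae4d06173f2) (.st (nat_lit 781) [] [] (.st (nat_lit 772) [nat_lit 64, nat_lit 29] [nat_lit 360, nat_lit 340] .nil)))⟩)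
 (.lf ⟨nat_lit 0, nat_lit 772, nat_lit 772, (nat_lit 0x8001c150b5f156d49d6730637470331415a8), one, (nat_lit 0x8000237ef5995193d76e21aa0c442525b554), (.inv (nat_lit 777))⟩))
 (.nd (nat_lit 785) (.lf ⟨nat_lit 0, nat_lit 772, nat_lit 772, (nat_lit 0x8005a879e3d13911806af69f74745a5f41c1), one, (nat_lit 0x8004001b449951923a4770473bc7b06783e2), (.prod [nat_lit 782, nat_lit 783])⟩)
 (.nd (nat_lit 786) (.lf ⟨nat_lit 0, nat_lit 772, nat_lit 772, (nat_lit 0x80064b2462a73f933922d25b13a09c3e31ed), one, (nat_lit 0x8004005471001520632b568574f5f57665f0), (.prod [nat_lit 773, nat_lit 784])⟩)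
 (.lf ⟨nat_lit 0, nat_lit 772, nat_lit 772, (nat_lit 0x80005c52512e3d722724725902645861756d), one, (nat_lit 0x8004003ed16856d49051d12d1e50bc5ef53c), (.prod [nat_lit 774, nat_lit 784])⟩))))
 (.nd (nat_lit 789) (.nd (nat_lit 788) (.lf ⟨nat_lit 1, nat_lit 772, nat_lit 772, (nat_lit 0x80040054d59d5052ce2ae4cb04e28a002397), (nat_lit 0x8000c37b70333393f94e44936030014c6289), (nat_lit 0x80045a2465ef0c42f95bb4fd13a7826aa3d0), (.wt (nat_lit 10) (nat_lit 2) (nat_lit 0x8000c30330681520a55471a802379e14305c) (.st (nat_lit 780) (unp (nat_lit 7) (nat_lit 0x1a817b06305)) [] (.st (nat_lit 772) (unp (nat_lit 7) (nat_lit 0x1a80fa8e405)) (unp (nat_lit 9) (nat_lit 0x552d16c03)) .nil)) (unp (nat_lit 7) (nat_lit 0x77813b0e405)) [])⟩)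
 (.lf ⟨nat_lit 1, nat_lit 772, nat_lit 567, (nat_lit 0x8006fc24749d45c3f55a53f20474d04c63ac), (nat_lit 0x8006bc13a1ef45838a2476073f54025232f9), (nat_lit 0x8001e76075a95f12550890e929a5254c43a4), (.wt (nat_lit 12) (nat_lit 3) (nat_lit 0x8007304e36bf4e44cb2a7624249208449405) (.st (nat_lit 763) (unp (nat_lit 8) (nat_lit 0xabbafce69d05)) [] (.st (nat_lit 772) (unp (nat_lit 7) (nat_lit 0x16e8e403)) [] (.st (nat_lit 787) (unp (nat_lit 7) (nat_lit 0x2cf37b16405)) [nat_lit 786, nat_lit 777] .nil))) (unp (nat_lit 8) (nat_lit 0x26805c5004)) [])⟩))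
 (.nd (nat_lit 790) (.lf ⟨nat_lit 1, nat_lit 567, nat_lit 772, (nat_lit 0x8005412783f229a78259e3ac1ef7691435f0), (nat_lit 0x8000e959e6130101ef09839f7d84937e94e6), (nat_lit 0x8000c154d5bf60346e45e0475a92ae6a838a), (.wt (nat_lit 0) (nat_lit 0) (nat_lit 0x8006fc24749d45c3f55a53f20474d04c63ac) (.st (nat_lit 788) [] [] .nil) (unp (nat_lit 7) (nat_lit 0x5b0316304)) [])⟩)
 (.nd (nat_lit 791) (.lf ⟨nat_lit 1, nat_lit 772, nat_lit 485, (nat_lit 0x8005412463d752b13b4e42815f1010143769), (nat_lit 0x80046e2297ef2083d766945e2b538a2c854c), (nat_lit 0x8006202a80c124b4ff56d2ae5ce00860322d), (.wt (nat_lit 12) (nat_lit 2) (nat_lit 0x8004d04c14585bf24915255542551d4f315e) (.st (nat_lit 769) (unp (nat_lit 7) (nat_lit 0x1ff37286405)) [] (.st (nat_lit 763) (unp (nat_lit 8) (nat_lit 0xaafde5d99d05)) [] (.st (nat_lit 772) (unp (nat_lit 7) (nat_lit 0x41f66e104)) [] .nil))) (unp (nat_lit 7) (nat_lit 0x9fde303)) [])⟩)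
 (.lf ⟨nat_lit 1, nat_lit 339, nat_lit 791, (nat_lit 0x8001c35e768f72b66954d2785bb0e953c2c8), one, one, (.df (unp (nat_lit 5) (nat_lit 0x5c0803)))⟩)))))
 (.nd (nat_lit 797) (.nd (nat_lit 794) (.nd (nat_lit 793) (.lf ⟨nat_lit 0, nat_lit 791, nat_lit 791, (nat_lit 0x80024b3d06dc37922e40565b04f7d80025b3), one, (nat_lit 0x80040015e10015219768f6bf2810016a8004), (.cmp (nat_lit 791) (nat_lit 791) (unp (nat_lit 7) (nat_lit 0x767f368e305)) [nat_lit 370, nat_lit 348])⟩)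
 (.lf ⟨nat_lit 0, nat_lit 791, nat_lit 791, (nat_lit 0x80045849d28922755456c42a1267ef00269c), one, (nat_lit 0x8004003e21001c369c6fc1b404e79b14179e), (.cmp (nat_lit 791) (nat_lit 791) (unp (nat_lit 7) (nat_lit 0x557286304)) [nat_lit 368, nat_lit 361])⟩))
 (.nd (nat_lit 795) (.lf ⟨nat_lit 0, nat_lit 791, nat_lit 791, (nat_lit 0x80067154d5555bc73a52b60350303300232e), one, (nat_lit 0x8004000bc10076903372b0635bf79e09379b), (.prod [nat_lit 792, nat_lit 793])⟩)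
 (.nd (nat_lit 796) (.lf ⟨nat_lit 0, nat_lit 791, nat_lit 791, (nat_lit 0x8003ac00101903973a1802a81a8409174200), one, (nat_lit 0x8005056606782a832e24b50360304745773a), (.cmp (nat_lit 791) (nat_lit 791) (unp (nat_lit 7) (nat_lit 0x7670fa86305)) [nat_lit 370, nat_lit 340])⟩)
 (.lf ⟨nat_lit 0, nat_lit 791, nat_lit 791, (nat_lit 0x80024b3d06dc37922e40565b04f7d80025b3), one, (nat_lit 0x80040015e10015219768f6bf2810016a8004), (.inv (nat_lit 792))⟩))))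
 (.nd (nat_lit 799) (.nd (nat_lit 798) (.lf ⟨nat_lit 0, nat_lit 791, nat_lit 791, (nat_lit 0x8005e75b33a77a25545a54e31ef7b71743d0), one, (nat_lit 0x8005052466784022f94e43ac3f273a585047), (.prod [nat_lit 795, nat_lit 796])⟩)
 (.lf ⟨nat_lit 0, nat_lit 791, nat_lit 791, (nat_lit 0x80024906970b1b404066954113b517002512), one, (nat_lit 0x8005052ab25b36620864b4252eb1aa5992f4), (.cmp (nat_lit 791) (nat_lit 791) (unp (nat_lit 7) (nat_lit 0x1daedf03)) (unp (nat_lit 9) (nat_lit 0x582b96603)))⟩))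
 (.nd (nat_lit 800) (.lf ⟨nat_lit 0, nat_lit 791, nat_lit 791, (nat_lit 0x8004023d72b902322e24c30a17c0a50022ce), one, (nat_lit 0x8005052ae25b1ef3df0e428a3392f40681aa), (.prod [nat_lit 798, nat_lit 796])⟩)
 (.nd (nat_lit 801) (.lf ⟨nat_lit 0, nat_lit 791, nat_lit 791, (nat_lit 0x80049351216870173a6bf68f1ed660174069), one, (nat_lit 0x8004003ed52356d0635250330c34cf5ef0e9), (.prod [nat_lit 797, nat_lit 799])⟩)
 (.lf ⟨nat_lit 1, nat_lit 791, nat_lit 339, one, (nat_lit 0x8001c35e768f72b66954d2785bb0e953c2c8), one, (.wt (nat_lit 0) (nat_lit 0) (nat_lit 0x8001c35e768f72b66954d2785bb0e953c2c8) (.st (nat_lit 791) [] [] .nil) [] [])⟩))))))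
 (.nd (nat_lit 812) (.nd (nat_lit 807) (.nd (nat_lit 804) (.nd (nat_lit 803) (.lf ⟨nat_lit 1, nat_lit 791, nat_lit 339, (nat_lit 0x8004001a40a15bb12e6034902d82ce002068), (nat_lit 0x8007305256856a63a737c4580263e3585638), (nat_lit 0x8002f072b1d24cf1e513d1a92000e40a5033), (.wt (nat_lit 10) (nat_lit 2) (nat_lit 0x8003df02e3d11ab28c4e30c139a7b70a60b8) (.st (nat_lit 441) (unp (nat_lit 7) (nat_lit 0xe0fb16304)) (unp (nat_lit 9) (nat_lit 0x58ed57103)) (.st (nat_lit 791) (unp (nat_lit 7) (nat_lit 0x2d857716305)) [nat_lit 363, nat_lit 341] .nil)) (unp (nat_lit 7) (nat_lit 0x768536fe405)) [])⟩)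
 (.lf ⟨nat_lit 0, nat_lit 791, nat_lit 791, (nat_lit 0x80045e10076665b6af25504e1522004c6390), one, (nat_lit 0x80002623a25b6a626c49318004012d59d50b), (.we (nat_lit 0) (nat_lit 0) (nat_lit 0x8004001a40a15bb12e6034902d82ce002068) (.st (nat_lit 802) [] [] (.st (nat_lit 791) (unp (nat_lit 7) (nat_lit 0xeb0aee104)) (unp (nat_lit 9) (nat_lit 0x556b97203)) .nil)))⟩))
 (.nd (nat_lit 805) (.lf ⟨nat_lit 0, nat_lit 791, nat_lit 791, (nat_lit 0x8003ed2895996037d949039f3f549d4c6019), one, (nat_lit 0x8000265a525b6074572a80c369c7b753c391), (.prod [nat_lit 793, nat_lit 803])⟩)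
 (.nd (nat_lit 806) (.lf ⟨nat_lit 0, nat_lit 791, nat_lit 791, (nat_lit 0x80027a55544942a5b776920846e54d4c63a7), one, (nat_lit 0x8000262d825b3f35854026690333917b07b7), (.prod [nat_lit 794, nat_lit 803])⟩)
 (.lf ⟨nat_lit 0, nat_lit 791, nat_lit 791, (nat_lit 0x80052b7660045bb55467113b54110026c073), one, (nat_lit 0x8000232f41004995a87964fd26c2ae13d2ab), (.prod [nat_lit 803, nat_lit 803])⟩))))
 (.nd (nat_lit 809) (.nd (nat_lit 808) (.lf ⟨nat_lit 0, nat_lit 791, nat_lit 791, (nat_lit 0x8002380466205197d972b15204e43c6a80b8), one, (nat_lit 0x80027850b10049d76609c3f25035474fd23a), (.prod [nat_lit 804, nat_lit 799])⟩)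
 (.lf ⟨nat_lit 0, nat_lit 791, nat_lit 791, (nat_lit 0x80002044903339f22e40005273055526c73e), one, (nat_lit 0x80002373010012e0fd5bb1a858524c3f2249), (.prod [nat_lit 805, nat_lit 803])⟩))
 (.nd (nat_lit 810) (.lf ⟨nat_lit 1, nat_lit 791, nat_lit 403, (nat_lit 0x80040054d59d5052ce2ae4cb04e28a002397), (nat_lit 0x80022d5bc0912d84c123869c585068607247), (nat_lit 0x8004e30a54cf0b804739f65b6c57b024b227), (.wt (nat_lit 10) (nat_lit 2) (nat_lit 0x8003d02a81416713a44cf32e6aa73e3f353c) (.st (nat_lit 434) [nat_lit 56, nat_lit 115] [] (.st (nat_lit 791) (unp (nat_lit 7) (nat_lit 0x577a86404)) [nat_lit 370] .nil)) (unp (nat_lit 7) (nat_lit 0x56de75f04)) [])⟩)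
 (.nd (nat_lit 811) (.lf ⟨nat_lit 1, nat_lit 403, nat_lit 791, (nat_lit 0x8006aa2ae6af3ac5b742a3667120682f4457), (nat_lit 0x80079e1c17015542eb72b28a0695bf295766), (nat_lit 0x8002494900a15f55031d225b6fc22e364409), (.wt (nat_lit 0) (nat_lit 0) (nat_lit 0x80040054d59d5052ce2ae4cb04e28a002397) (.st (nat_lit 809) [] [] .nil) (unp (nat_lit 7) (nat_lit 0x2bf33a8e305)) [])⟩)
 (.lf ⟨nat_lit 1, nat_lit 791, nat_lit 403, (nat_lit 0x8005a922e56c1690735bf4f30804fd1ab477), (nat_lit 0x8000c45bc6af0bc17442a3a77123b9098747), (nat_lit 0x8006710045a56dc53c0c30c47b33e242a4d0), (.wt (nat_lit 11) (nat_lit 2) (nat_lit 0x80031a17c4e31a40692297824575e7141624) (.st (nat_lit 427) (unp (nat_lit 8) (nat_lit 0x1f804e6404)) [] (.st (nat_lit 434) (unp (nat_lit 7) (nat_lit 0x53eedd104)) [nat_lit 417] (.st (nat_lit 791) (unp (nat_lit 7) (nat_lit 0x2edefe304)) (unp (nat_lit 9) (nat_lit 0x556b97003)) .nil))) (unp (nat_lit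 7) (nat_lit 0x9ae6003)) [])⟩)))))
 (.nd (nat_lit 817) (.nd (nat_lit 814) (.nd (nat_lit 813) (.lf ⟨nat_lit 0, nat_lit 791, nat_lit 791, (nat_lit 0x8000731a96bc56c6aa5257b77d851a28a3f5), one, (nat_lit 0x80066412e7124fd30a4e67d816974f6fc620), (.we (nat_lit 0) (nat_lit 0) (nat_lit 0x8005a922e56c1690735bf4f30804fd1ab477) (.st (nat_lit 811) [nat_lit 37, nat_lit 42] [nat_lit 799, nat_lit 808] (.st (nat_lit 810) (unp (nat_lit 7) (nat_lit 0x2c4b7b0e305)) [nat_lit 425, nat_lit 433] .nil)))⟩)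
 (.lf ⟨nat_lit 0, nat_lit 791, nat_lit 791, (nat_lit 0x80036670b61730a4c156d46e2080696a8397), one, (nat_lit 0x8002787b71006b05a952b13d2085a51a82d8), (.inv (nat_lit 807))⟩))
 (.nd (nat_lit 815) (.lf ⟨nat_lit 0, nat_lit 791, nat_lit 791, (nat_lit 0x8000fd1ef4056bc6aa3e25253d75bf0a142a), one, (nat_lit 0x8000e822e45a0025170474e31525bb56d0e4), (.prod [nat_lit 812, nat_lit 813])⟩)
 (.nd (nat_lit 816) (.lf ⟨nat_lit 0, nat_lit 791, nat_lit 791, (nat_lit 0x8006380081800e82c80337825124581d70d9), one, (nat_lit 0x8001ed7ef2275852290012d82a86071ef525), (.prod [nat_lit 797, nat_lit 814])⟩)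
 (.lf ⟨nat_lit 0, nat_lit 791, nat_lit 791, (nat_lit 0x80005c1ed6697694c412d69c2004cb0a1730), one, (nat_lit 0x8001ed3ef7010686e20e9613366624402020), (.prod [nat_lit 799, nat_lit 814])⟩))))
 (.nd (nat_lit 820) (.nd (nat_lit 818) (.lf ⟨nat_lit 2, nat_lit 339, nat_lit 817, (nat_lit 0x8006782006b62d845c02039a79e66027a001), one, one, (.df (unp (nat_lit 6) (nat_lit 0x226d903)))⟩)
 (.nd (nat_lit 819) (.lf ⟨nat_lit 0, nat_lit 817, nat_lit 817, (nat_lit 0x8000c45125991c315e6712d874749d585001), one, (nat_lit 0x80040015e10015219768f6bf2810016a8004), (.cmp (nat_lit 817) (nat_lit 817) (unp (nat_lit 8) (nat_lit 0xb4dee69d04)) [nat_lit 370, nat_lit 348])⟩)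
 (.lf ⟨nat_lit 0, nat_lit 817, nat_lit 817, (nat_lit 0x8004c17471c13b93796036af5120983a7001), one, (nat_lit 0x8004003e21001c369c6fc1b404e79b14179e), (.cmp (nat_lit 817) (nat_lit 817) (unp (nat_lit 8) (nat_lit 0xb5fae6d99c05)) [nat_lit 368, nat_lit 361])⟩)))
 (.nd (nat_lit 821) (.lf ⟨nat_lit 0, nat_lit 817, nat_lit 817, (nat_lit 0x8000580085052a723a05243a20045c620001), one, (nat_lit 0x8004000bc10076903372b0635bf79e09379b), (.prod [nat_lit 818, nat_lit 819])⟩)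
 (.nd (nat_lit 822) (.lf ⟨nat_lit 0, nat_lit 817, nat_lit 817, (nat_lit 0x8005f01d768f12d1ed42539a3df1a962005c), one, (nat_lit 0x80039a50b6782a828a20823852b0042c8001), (.cmp (nat_lit 817) (nat_lit 817) (unp (nat_lit 8) (nat_lit 0xb1b89c03)) [nat_lit 340])⟩)
 (.lf ⟨nat_lit 0, nat_lit 817, nat_lit 817, (nat_lit 0x80045c1d728a2492892b51523df058141001), one, (nat_lit 0x80002308910005263850324b7a25f54f35f0), (.cmp (nat_lit 817) (nat_lit 817) (unp (nat_lit 8) (nat_lit 0xb0bfe503)) [nat_lit 343])⟩)))))))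

noncomputable def qcT_823 : Tr :=
  (.nd (nat_lit 843) (.nd (nat_lit 833) (.nd (nat_lit 828) (.nd (nat_lit 825) (.nd (nat_lit 824) (.lf ⟨nat_lit 0, nat_lit 817, nat_lit 817, (nat_lit 0x8005f12005053b93796b02d80081a873e05c), one, (nat_lit 0x8000c178267827a38a72b0632815f51415f0), (.prod [nat_lit 821, nat_lit 822])⟩)
 (.lf ⟨nat_lit 2, nat_lit 817, nat_lit 339, one, (nat_lit 0x8006782006b62d845c02039a79e66027a001), one, (.wt (nat_lit 13) (nat_lit 0) (nat_lit 0x8006782006b62d845c02039a79e66027a001) (.st (nat_lit 817) [] [] .nil) [] [])⟩))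
 (.nd (nat_lit 826) (.lf ⟨nat_lit 1, nat_lit 339, nat_lit 825, (nat_lit 0x8003ef6bf3390400460a128169f45a2472a8), one, one, (.df (unp (nat_lit 5) (nat_lit 0x1af503)))⟩)
 (.nd (nat_lit 827) (.lf ⟨nat_lit 0, nat_lit 825, nat_lit 825, (nat_lit 0x8004000471000526247966a652b3910027b7), one, (nat_lit 0x8004000bc10076903372b0635bf79e09379b), (.cmp (nat_lit 825) (nat_lit 825) [nat_lit 81, nat_lit 94] [nat_lit 363, nat_lit 362])⟩)
 (.lf ⟨nat_lit 0, nat_lit 825, nat_lit 825, (nat_lit 0x8007475a810018015e0204ff5e75f54f37b7), one, (nat_lit 0x80039a50b6782a828a20823852b0042c8001), (.cmp (nat_lit 825) (nat_lit 825) (unp (nat_lit 7) (nat_lit 0x570ae6404)) [nat_lit 340])⟩))))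
 (.nd (nat_lit 830) (.nd (nat_lit 829) (.lf ⟨nat_lit 0, nat_lit 825, nat_lit 825, (nat_lit 0x80002345e52309c1a853c2710c32ae3972ab), one, (nat_lit 0x8001266734c47a23f359d68540247712e490), (.cmp (nat_lit 825) (nat_lit 825) (unp (nat_lit 7) (nat_lit 0x1f81768e305)) (unp (nat_lit 9) (nat_lit 0x576cf6f03)))⟩)
 (.lf ⟨nat_lit 0, nat_lit 825, nat_lit 825, (nat_lit 0x8003640635235bf70053c50b29a37c76651d), one, (nat_lit 0x8006bc45e3bc04e4fd2711691c3477620490), (.prod [nat_lit 827, nat_lit 828])⟩))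
 (.nd (nat_lit 831) (.lf ⟨nat_lit 1, nat_lit 825, nat_lit 339, one, (nat_lit 0x8003ef6bf3390400460a128169f45a2472a8), one, (.wt (nat_lit 0) (nat_lit 0) (nat_lit 0x8003ef6bf3390400460a128169f45a2472a8) (.st (nat_lit 825) [] [] .nil) [] [])⟩)
 (.nd (nat_lit 832) (.lf ⟨nat_lit 1, nat_lit 825, nat_lit 403, (nat_lit 0x8005412552a72cf6133df42a6aa13b18045c), (nat_lit 0x80039159d1e51e750b4992d839a28c5a9547), (nat_lit 0x8003f30a551d3791ed52532e51a7d825b493), (.wt (nat_lit 10) (nat_lit 2) (nat_lit 0x8002812490a105c74766029a43a4c4089080) (.st (nat_lit 434) (unp (nat_lit 8) (nat_lit 0x2d80606304)) [] (.st (nat_lit 825) (unp (nat_lit 7) (nat_lit 0x70fb3a8e305)) (unp (nat_lit 9) (nat_lit 0x556cf6f03)) .nil)) (unp (nat_lit 7) (nat_lit 0x1ef0e403)) [])⟩)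
 (.lf ⟨nat_lit 1, nat_lit 825, nat_lit 403, (nat_lit 0x80065b0891d205262454d4fd73e3df25956c), (nat_lit 0x8002b53d065b5c154d17c5bb27a71226c613), (nat_lit 0x8004e30a54cf0b804739f65b6c57b024b227), (.wt (nat_lit 10) (nat_lit 2) (nat_lit 0x8006bc2ab7b30896030e40264496aa3d00ae) (.st (nat_lit 434) (unp (nat_lit 7) (nat_lit 0x1af4fa8e405)) [] (.st (nat_lit 825) (unp (nat_lit 7) (nat_lit 0xe1e6de104)) [nat_lit 370] .nil)) (unp (nat_lit 8) (nat_lit 0x805e5f6304)) [])⟩)))))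
 (.nd (nat_lit 838) (.nd (nat_lit 835) (.nd (nat_lit 834) (.lf ⟨nat_lit 1, nat_lit 825, nat_lit 457, (nat_lit 0x8005a93f53e330a3977b353c2ab0c170109c), (nat_lit 0x8003970734cf22d0022a72552f90a669c0c4), (nat_lit 0x8000e40e93e243a0986693f55550630bc1ef), (.wt (nat_lit 11) (nat_lit 2) (nat_lit 0x80028145e3e31696e20e44585f526c2896a6) (.st (nat_lit 474) (unp (nat_lit 7) (nat_lit 0x1f817716405)) [nat_lit 461, nat_lit 458] (.st (nat_lit 434) (unp (nat_lit 7) (nat_lit 0x7a75103)) [] (.st (nat_lit 825) (unp (nat_lit 7) (nat_lit 0x17fb7b16405)) [nat_lit 360] .nil))) (unp (nat_lit 7) (nat_lit 0x4dfa75004)) [])⟩)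
 (.lf ⟨nat_lit 1, nat_lit 825, nat_lit 825, (nat_lit 0x8007661d23970400c10043e21520d9364208), (nat_lit 0x80016814339740940061373a1c349013a04f), (nat_lit 0x80040037c40526c3f352568517445e45815e), (.wt (nat_lit 11) (nat_lit 2) (nat_lit 0x8006fc78228c4ff64b769458477624523001) (.st (nat_lit 830) (unp (nat_lit 7) (nat_lit 0x7783768e405)) [] (.st (nat_lit 438) (unp (nat_lit 7) (nat_lit 0x72fb368e305)) [nat_lit 348] (.st (nat_lit 825) (unp (nat_lit 7) (nat_lit 0x19f53b0e305)) (unp (nat_lit 9) (nat_lit 0x55ecf6603)) .nil))) (unp (nat_lit 7) (nat_lit 0xe0e2de204)) [])⟩))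
 (.nd (nat_lit 836) (.lf ⟨nat_lit 1, nat_lit 825, nat_lit 457, (nat_lit 0x80039076614125b5f503943a364152169747), (nat_lit 0x8003971431a84fd74f16822d54106350b3f5), (nat_lit 0x80049d23a7665ef13a6a60200730e90043ef), (.wt (nat_lit 11) (nat_lit 2) (nat_lit 0x8007826fc0020c10d93f20040c45552a737c) (.st (nat_lit 474) (unp (nat_lit 7) (nat_lit 0x72f4fafe305)) [nat_lit 461, nat_lit 458] (.st (nat_lit 434) (unp (nat_lit 7) (nat_lit 0x7a76003)) [nat_lit 417] (.st (nat_lit 825) (unp (nat_lit 7) (nat_lit 0xe6dedd004)) [nat_lit 358, nat_lit 343] .nil))) (unp (nat_lit 7) (nat_lit 0x19ff6f06405)) [])⟩)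
 (.nd (nat_lit 837) (.lf ⟨nat_lit 1, nat_lit 457, nat_lit 825, (nat_lit 0x8005c12473ac24b66473e7e91694771c3409), (nat_lit 0x8001742b93e36af5194fd26c1977d82813f9), (nat_lit 0x8000690e82a82f417c0105035bc002247620), (.wt (nat_lit 0) (nat_lit 0) (nat_lit 0x80039076614125b5f503943a364152169747) (.st (nat_lit 835) [] [] .nil) (unp (nat_lit 7) (nat_lit 0x2dfafb0e305)) [])⟩)
 (.lf ⟨nat_lit 1, nat_lit 825, nat_lit 770, (nat_lit 0x80064b2461411d23b95ce4493f20c3617020), (nat_lit 0x80055469c6737b01a82892ab6bf30a5a97b3), (nat_lit 0x8002eb5034c62b54f31ef51952573a3d043c), (.wt (nat_lit 12) (nat_lit 3) (nat_lit 0x8003df6a64d02f42272471c365b09c073093) (.st (nat_lit 771) (unp (nat_lit 8) (nat_lit 0xacde9d03)) [] (.st (nat_lit 441) (unp (nat_lit 7) (nat_lit 0x72f96e8e305)) (unp (nat_lit 9) (nat_lit 0x58ed57003)) (.st (nat_lit 825) (unp (nat_lit 7) (nat_lit 0x75c5d03)) (unp (nat_lit 9) (nat_lit 0x556d37203))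 .nil))) (unp (nat_lit 7) (nat_lit 0xedf6de104)) [])⟩))))
 (.nd (nat_lit 840) (.nd (nat_lit 839) (.lf ⟨nat_lit 1, nat_lit 372, nat_lit 825, (nat_lit 0x8004930016077b315e6137693d00a6091425), (nat_lit 0x8006b02ce7e974f7b30200681a82494c117c), (nat_lit 0x8002815475b700454d6fc0106a82eb04f541), (.wt (nat_lit 11) (nat_lit 0) (nat_lit 0x8003ed5a84c46a80ae53c54d7d92f91b412d) (.st (nat_lit 831) (unp (nat_lit 7) (nat_lit 0x2fe66d004)) [] (.st (nat_lit 475) (unp (nat_lit 7) (nat_lit 0xe6e26e204)) [nat_lit 423, nat_lit 409] (.st (nat_lit 660) (unp (nat_lit 7) (nat_lit 0xeb06de204)) [] .nil))) (unp (nat_lit 7) (nat_lit 0x26ff3706405)) [])⟩)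
 (.lf ⟨nat_lit 0, nat_lit 372, nat_lit 770, (nat_lit 0x8006aa43a2f93910fd50b09330a2814f3505), one, (nat_lit 0x80072b55439004f5170524026a66245853a4), (.we (nat_lit 0) (nat_lit 0) (nat_lit 0x8004930016077b315e6137693d00a6091425) (.st (nat_lit 838) (unp (nat_lit 7) (nat_lit 0xe102de404)) (unp (nat_lit 9) (nat_lit 0x5f7258f03)) (.st (nat_lit 837) (unp (nat_lit 7) (nat_lit 0x6efa8e304)) [] .nil)))⟩))
 (.nd (nat_lit 841) (.lf ⟨nat_lit 0, nat_lit 770, nat_lit 372, (nat_lit 0x8000637a216904f53c54d1ed0986e265b7e9), one, (nat_lit 0x8004e35a80194ff49d36604e0e92294f322e), (.inv (nat_lit 839))⟩)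
 (.nd (nat_lit 842) (.lf ⟨nat_lit 2, nat_lit 372, nat_lit 339, (nat_lit 0x80054102379b2ce4e35bb505397671143391), (nat_lit 0x80045a2ab3e33e26bc66913d3df59d0580ae), (nat_lit 0x80072b55439004f5170524026a66245853a4), (.ren (nat_lit 771) (unp (nat_lit 8) (nat_lit 0x8eb5fce59c05)) [nat_lit 840] [])⟩)
 (.lf ⟨nat_lit 1, nat_lit 615, nat_lit 825, (nat_lit 0x80049314150b52507372b5551e72b909142a), (nat_lit 0x8003f24c46b60735ce27102645c1975f10e9), (nat_lit 0x8004e468565b0580682473642eb3df50b68f), (.wt (nat_lit 11) (nat_lit 0) (nat_lit 0x8004e60044c445733979b32e22d3916bf38a) (.st (nat_lit 831) (unp (nat_lit 7) (nat_lit 0x17f2fafe405)) [] (.st (nat_lit 475) (unp (nat_lit 7) (nat_lit 0xe7e6ee204)) [nat_lit 424, nat_lit 409] (.st (nat_lit 641) (unp (nat_lit 7) (nat_lit 0xe73b16304)) [nat_lit 461, nat_lit 471] .nil))) (unp (nat_lit 7) (nat_lit 0x4f6efe404)) [])⟩))))))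
 (.nd (nat_lit 853) (.nd (nat_lit 848) (.nd (nat_lit 845) (.nd (nat_lit 844) (.lf ⟨nat_lit 1, nat_lit 825, nat_lit 615, (nat_lit 0x80046e7b316812e50333906359d2a8091517), (nat_lit 0x8000e91e515e79b6787475990021a458529a), (nat_lit 0x80073e4f35a93e24252eb20039a1e73640a1), (.wt (nat_lit 0) (nat_lit 0) (nat_lit 0x80049314150b52507372b5551e72b909142a) (.st (nat_lit 842) (unp (nat_lit 7) (nat_lit 0x337706404)) [nat_lit 629, nat_lit 621] .nil) (unp (nat_lit 7) (nat_lit 0xeede6e004)) [])⟩)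
 (.lf ⟨nat_lit 1, nat_lit 825, nat_lit 825, (nat_lit 0x8005ef2a72b943c1a86af1d259d3df1ed603), (nat_lit 0x80014156c6174cf10060354d7a21970ae6c5), (nat_lit 0x8004054491e72816a605c3d03f94e34994e6), (.wt (nat_lit 11) (nat_lit 0) (nat_lit 0x80065b79b26c4d000450b7303a713b25924b) (.st (nat_lit 832) [nat_lit 80, nat_lit 77] [] (.st (nat_lit 634) (unp (nat_lit 7) (nat_lit 0x744b7306405)) [nat_lit 425, nat_lit 433] (.st (nat_lit 842) (unp (nat_lit 7) (nat_lit 0x5296e6304)) [nat_lit 625, nat_lit 637] .nil))) (unp (nat_lit 7) (nat_lit 0x2a857316305)) [])⟩))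
 (.nd (nat_lit 846) (.lf ⟨nat_lit 1, nat_lit 825, nat_lit 825, (nat_lit 0x8004933a769f06345c54c0ae28a1974cb068), (nat_lit 0x8001ef5997e92f42ab54c0c42295540c111e), (nat_lit 0x80040017c69f0630a60c37693970040e4001), (.wt (nat_lit 11) (nat_lit 1) (nat_lit 0x8004ff5ce43a6e25e73392f94f32465555b3) (.st (nat_lit 832) (unp (nat_lit 7) (nat_lit 0x17f57306305)) [] (.st (nat_lit 634) (unp (nat_lit 7) (nat_lit 0x2bf57316305)) (unp (nat_lit 9) (nat_lit 0x6c351a103)) (.st (nat_lit 842) (unp (nat_lit 7) (nat_lit 0x5bf1f5f04)) [nat_lit 629, nat_lit 622] .nil))) (unp (nat_lit 7) (nat_lit 0x76853afe305)) [])⟩)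
 (.nd (nat_lit 847) (.lf ⟨nat_lit 1, nat_lit 457, nat_lit 825, (nat_lit 0x80005c3e369c24c1ed3913f57d959949d585), (nat_lit 0x80062024b6c579b3f309815267124c058208), (nat_lit 0x80038a59e49d5f54cb6851414494024e33b4), (.wt (nat_lit 11) (nat_lit 1) (nat_lit 0x8006aa7303d13913bc49952b2714775474fd) (.st (nat_lit 833) (unp (nat_lit 7) (nat_lit 0x17f56f06405)) [] (.st (nat_lit 483) (unp (nat_lit 7) (nat_lit 0x74816e86305)) [] (.st (nat_lit 479) (unp (nat_lit 7) (nat_lit 0x2fe676404)) [nat_lit 461, nat_lit 471] .nil))) (unp (nat_lit 7) (nat_lit 0x71833b16305)) [])⟩)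
 (.lf ⟨nat_lit 1, nat_lit 825, nat_lit 457, (nat_lit 0x8005c16bf6c53d767337c1803f324b2a7098), (nat_lit 0x8006a629551d5f54d02080c46dc0914fd499), (nat_lit 0x8003a73b96b65bc56d5ef4776247b72f925b), (.wt (nat_lit 0) (nat_lit 0) (nat_lit 0x80005c3e369c24c1ed3913f57d959949d585) (.st (nat_lit 846) (unp (nat_lit 7) (nat_lit 0x529675104)) [nat_lit 461, nat_lit 458] .nil) (unp (nat_lit 7) (nat_lit 0x19717706405)) [])⟩))))
 (.nd (nat_lit 850) (.nd (nat_lit 849) (.lf ⟨nat_lit 1, nat_lit 825, nat_lit 825, (nat_lit 0x8007b33794f301027852512615e04645e09c), (nat_lit 0x8007b36a65850e91ab5174cb53c6783ef669), (nat_lit 0x8004c47b71260a62eb0e425959928924b28c), (.wt (nat_lit 11) (nat_lit 2) (nat_lit 0x8003bc71263b2a856c1ab4582ae59d3df6b0) (.st (nat_lit 834) (unp (nat_lit 8) (nat_lit 0x29805d626405)) [nat_lit 826, nat_lit 828] (.st (nat_lit 844) (unp (nat_lit 7) (nat_lit 0x1cff5b03)) [nat_lit 828] (.st (nat_lit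 834) (unp (nat_lit 7) (nat_lit 0x51faf5f04)) [nat_lit 826, nat_lit 828] .nil))) (unp (nat_lit 7) (nat_lit 0x2af8fb0e305)) [])⟩)
 (.lf ⟨nat_lit 1, nat_lit 339, nat_lit 849, (nat_lit 0x8002597667470475f540543a15e1746a6141), one, one, (.df (unp (nat_lit 5) (nat_lit 0x600803)))⟩))
 (.nd (nat_lit 851) (.lf ⟨nat_lit 0, nat_lit 849, nat_lit 849, (nat_lit 0x8004050896783393f94e43ac13d0014c6004), one, (nat_lit 0x8005e71974992f03d745e46e278525523001), (.cmp (nat_lit 849) (nat_lit 849) (unp (nat_lit 7) (nat_lit 0x34fdf5004)) [nat_lit 364, nat_lit 359])⟩)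
 (.nd (nat_lit 852) (.lf ⟨nat_lit 0, nat_lit 849, nat_lit 849, (nat_lit 0x8000042eb2cf15e0ae7004ff409400617405), one, (nat_lit 0x8005ce5f03d139f7b001002051951263b32e), (.cmp (nat_lit 849) (nat_lit 849) (unp (nat_lit 7) (nat_lit 0x2aff76fe305)) (unp (nat_lit 9) (nat_lit 0x556d16f03)))⟩)
 (.lf ⟨nat_lit 0, nat_lit 849, nat_lit 849, (nat_lit 0x8000011525b73d72272f467353c4053e3400), one, (nat_lit 0x8002270690461ef22946e45e76903331a32e), (.prod [nat_lit 850, nat_lit 851])⟩)))))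
 (.nd (nat_lit 858) (.nd (nat_lit 855) (.nd (nat_lit 854) (.lf ⟨nat_lit 0, nat_lit 849, nat_lit 849, (nat_lit 0x8000c450b1001c30333ef3df3b45f05855f5), one, (nat_lit 0x8000c14090585190474e62d839f59d4c415e), (.cmp (nat_lit 849) (nat_lit 849) (unp (nat_lit 7) (nat_lit 0x1066d103)) (unp (nat_lit 9) (nat_lit 0x562cf6b03)))⟩)
 (.lf ⟨nat_lit 1, nat_lit 849, nat_lit 339, one, (nat_lit 0x8002597667470475f540543a15e1746a6141), one, (.wt (nat_lit 0) (nat_lit 0) (nat_lit 0x8002597667470475f540543a15e1746a6141) (.st (nat_lit 849) [] [] .nil) [] [])⟩))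
 (.nd (nat_lit 856) (.lf ⟨nat_lit 1, nat_lit 849, nat_lit 825, (nat_lit 0x8005417122cf13d4254e345c2087b01d25f0), (nat_lit 0x80008073e1d723a62446e04e60354c1416b0), (nat_lit 0x80070140976640216920823833952526c0a5), (.wt (nat_lit 10) (nat_lit 2) (nat_lit 0x8006bf3d75f42f432e27a04e37953c25b229) (.st (nat_lit 830) (unp (nat_lit 7) (nat_lit 0xe77686304)) [] (.st (nat_lit 849) (unp (nat_lit 7) (nat_lit 0x812db03)) (unp (nat_lit 9) (nat_lit 0x552b96603)) .nil)) (unp (nat_lit 7) (nat_lit 0x20717686305)) [])⟩)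
 (.nd (nat_lit 857) (.lf ⟨nat_lit 1, nat_lit 849, nat_lit 372, (nat_lit 0x80064b5121003f92812474570ae4d06173f2), (nat_lit 0x80039779b0e813a69f0266694ff43a5b770b), (nat_lit 0x8003f95123a712d00431a26c2001a923a3d0), (.wt (nat_lit 10) (nat_lit 2) (nat_lit 0x8004f30c145a23a50b2ae68f3a768574f5c1) (.st (nat_lit 649) (unp (nat_lit 7) (nat_lit 0x8286403)) (unp (nat_lit 9) (nat_lit 0x61f258f03)) (.st (nat_lit 849) (unp (nat_lit 7) (nat_lit 0x177f6f16405)) (unp (nat_lit 9) (nat_lit 0x552cf7203)) .nil)) (unp (nat_lit 7) (nat_lit 0x4efb06404)) [])⟩)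
 (.lf ⟨nat_lit 1, nat_lit 372, nat_lit 849, (nat_lit 0x8005c13f26135f022d0400896a61e5100457), (nat_lit 0x80000839a11e33939163b5f438a7ef1e7229), (nat_lit 0x80073a0084c10c41a94e35a551204045e5f0), (.wt (nat_lit 0) (nat_lit 0) (nat_lit 0x80064b5121003f92812474570ae4d06173f2) (.st (nat_lit 856) [] [] .nil) (unp (nat_lit 7) (nat_lit 0x2df33706305)) [])⟩))))
 (.nd (nat_lit 861) (.nd (nat_lit 859) (.lf ⟨nat_lit 1, nat_lit 849, nat_lit 372, (nat_lit 0x80005c13d5f10e843c04f6717a217c45e4d0), (nat_lit 0x8007ef6bf51900453c09312e0101ab72b796), (nat_lit 0x8000ae53c2a80583d072b2380681263a44cf), (.wt (nat_lit 10) (nat_lit 2) (nat_lit 0x80045e5124e427873024645712e4e36645f0) (.st (nat_lit 650) (unp (nat_lit 7) (nat_lit 0xae86303)) (unp (nat_lit 9) (nat_lit 0x61f258f03)) (.st (nat_lit 849) (unp (nat_lit 7) (nat_lit 0x27f936fe305)) [nat_lit 348, nat_lit 349] .nil)) (unp (nat_lit 7) (nat_lit 0x3306f5f04)) [])⟩)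
 (.nd (nat_lit 860) (.lf ⟨nat_lit 0, nat_lit 849, nat_lit 849, (nat_lit 0x80079e2f973e4cb2466b60b816939f0d939a), one, (nat_lit 0x8006dc13a56c03965b5bf0ae4cf00252532e), (.we (nat_lit 0) (nat_lit 0) (nat_lit 0x80005c13d5f10e843c04f6717a217c45e4d0) (.st (nat_lit 858) [] [] (.st (nat_lit 857) (unp (nat_lit 7) (nat_lit 0x1df97b0e305)) (unp (nat_lit 9) (nat_lit 0x61b258f03)) .nil)))⟩)
 (.lf ⟨nat_lit 0, nat_lit 849, nat_lit 849, (nat_lit 0x80039a5192b932e4931e526c45879b6bf79e), one, (nat_lit 0x80028c40537c4773644d01c168f31a512001), (.prod [nat_lit 852, nat_lit 859])⟩)))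
 (.nd (nat_lit 862) (.lf ⟨nat_lit 1, nat_lit 849, nat_lit 372, (nat_lit 0x80065b37c09c56d1ef4e66852ab08029a281), (nat_lit 0x80039f1d73e364b6690bc5176c559d3973f2), (nat_lit 0x8000520b80021ef2555f06bc59d2816b0379), (.wt (nat_lit 11) (nat_lit 2) (nat_lit 0x8002470392d81521ab1ef2f028c2f95f431a) (.st (nat_lit 648) (unp (nat_lit 7) (nat_lit 0x1c1c6203)) [nat_lit 401, nat_lit 391] (.st (nat_lit 650) (unp (nat_lit 7) (nat_lit 0x19fd6e8e305)) (unp (nat_lit 9) (nat_lit 0x623258f03)) (.st (nat_lit 849) (unp (nat_lit 7) (nat_lit 0x3aff06404)) [nat_lit 358, nat_lit 350] .nil))) (unp (nat_lit 7) (nat_lit 0x550aee004)) [])⟩)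
 (.nd (nat_lit 863) (.lf ⟨nat_lit 1, nat_lit 849, nat_lit 615, (nat_lit 0x8005a854727a3640080a11524f33911690bc), (nat_lit 0x8002a74ff2002ae6243ac27143c700782603), (nat_lit 0x8005553f505c64b1c133912651745a51272b), (.wt (nat_lit 11) (nat_lit 2) (nat_lit 0x8001aa2a830a0102f91a909c2f42eb555200) (.st (nat_lit 657) (unp (nat_lit 7) (nat_lit 0x17f4fa8e405)) [] (.st (nat_lit 649) (unp (nat_lit 7) (nat_lit 0xe90276004)) (unp (nat_lit 9) (nat_lit 0x62b258f03)) (.st (nat_lit 849) (unp (nat_lit 8) (nat_lit 0x2d805e506405)) (unp (nat_lit 9) (nat_lit 0x57ab97203)) .nil))) (unp (nat_lit 7) (nat_lit 0x3adf0e404)) [])⟩)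
 (.lf ⟨nat_lit 1, nat_lit 615, nat_lit 849, (nat_lit 0x8002c853c5bf6606bc4252277692464931a8), (nat_lit 0x8001ef79b3ed1b40d94c12ab6b656d008080), (nat_lit 0x80019749350553c3bc6b04e44cf2891a41ab), (.wt (nat_lit 0) (nat_lit 0) (nat_lit 0x8005a854727a3640080a11524f33911690bc) (.st (nat_lit 862) (unp (nat_lit 7) (nat_lit 0xaa03e03)) [nat_lit 853, nat_lit 852] .nil) (unp (nat_lit 7) (nat_lit 0xe3eede104)) [])⟩)))))))

noncomputable def qcT_864 : Tr :=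
  (.nd (nat_lit 884) (.nd (nat_lit 874) (.nd (nat_lit 869) (.nd (nat_lit 866) (.nd (nat_lit 865) (.lf ⟨nat_lit 1, nat_lit 849, nat_lit 372, (nat_lit 0x8007663790233bc63b52568f51d046364499), (nat_lit 0x8003f95bb72b3ef55414342a61763b6dc047), (nat_lit 0x8007823df6b60fd0020015055bf5b35171d2), (.wt (nat_lit 11) (nat_lit 2) (nat_lit 0x8000026a65477012f928149328c69c4c4617) (.st (nat_lit 649) (unp (nat_lit 7) (nat_lit 0xe17286304)) (unp (nat_lit 9) (nat_lit 0x61f258f03)) (.st (nat_lit 441) (unp (nat_lit 7) (nat_lit 0x4ee2e5004)) (unp (nat_lit 9) (nat_lit 0x592d37103)) (.st (nat_lit 849) (unp (nat_lit 7) (nat_lit 0x5b066e204)) (unp (nat_lit 9) (nat_lit 0x552b96603)) .nil))) (unp (nat_lit 7) (nat_lit 0x3b768e404)) [])⟩)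
 (.lf ⟨nat_lit 1, nat_lit 457, nat_lit 849, (nat_lit 0x8005a84c63ef1a92c80bc53c2b53395f4126), (nat_lit 0x8006b07a21aa0914f33e20266fc05818050b), (nat_lit 0x80037c6af5120fd0a623a2a743a2f024625b), (.wt (nat_lit 11) (nat_lit 0) (nat_lit 0x80037c3a76aa45e5193e250b2f939f247400) (.st (nat_lit 855) (unp (nat_lit 7) (nat_lit 0x33f70e304)) [] (.st (nat_lit 847) (unp (nat_lit 7) (nat_lit 0x71f53a86305)) [nat_lit 827] (.st (nat_lit 484) (unp (nat_lit 8) (nat_lit 0x19805b5f04)) [nat_lit 458] .nil))) (unp (nat_lit 7) (nat_lit 0x1e717316405)) [])⟩))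
 (.nd (nat_lit 867) (.lf ⟨nat_lit 1, nat_lit 849, nat_lit 457, (nat_lit 0x80050b2a86072594c42ce5194903d117c32e), (nat_lit 0x8000014f309c68f0025b327129a3792cf37c), (nat_lit 0x8000232d80c31695bb5c12956132893d16a8), (.wt (nat_lit 0) (nat_lit 0) (nat_lit 0x8005a84c63ef1a92c80bc53c2b53395f4126) (.st (nat_lit 865) (unp (nat_lit 7) (nat_lit 0xecdef6204)) [nat_lit 461, nat_lit 458] .nil) (unp (nat_lit 7) (nat_lit 0x71837a86305)) [])⟩)
 (.nd (nat_lit 868) (.lf ⟨nat_lit 1, nat_lit 339, nat_lit 867, (nat_lit 0x8005037ef2ab2d81a90236730585ce1260ae), one, one, (.df (unp (nat_lit 5) (nat_lit 0x4650204)))⟩)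
 (.lf ⟨nat_lit 0, nat_lit 867, nat_lit 867, (nat_lit 0x80042a38a2473ef04017c45a68f54d31a05c), one, (nat_lit 0x8005053913971ef7b71aa6e23f279b5850e4), (.cmp (nat_lit 867) (nat_lit 867) (unp (nat_lit 7) (nat_lit 0xe902de304)) (unp (nat_lit 9) (nat_lit 0x552b96f03)))⟩))))
 (.nd (nat_lit 871) (.nd (nat_lit 870) (.lf ⟨nat_lit 0, nat_lit 867, nat_lit 867, (nat_lit 0x8000c37b75c139a0404e35a54cb5b30027d8), one, (nat_lit 0x8001ed7ef5f156d15e5a54e349349d002069), (.prod [nat_lit 868, nat_lit 868])⟩)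
 (.lf ⟨nat_lit 0, nat_lit 867, nat_lit 867, (nat_lit 0x8000e952559e3ed0405bf1ef24c3e231a49d), one, (nat_lit 0x8000e83f976640232e1a879676968558550b), (.prod [nat_lit 869, nat_lit 868])⟩))
 (.nd (nat_lit 872) (.lf ⟨nat_lit 0, nat_lit 867, nat_lit 867, (nat_lit 0x8004e37b070b2080400c349373000126c004), one, (nat_lit 0x8001ed23845756d1b406940945851a5ef5a5), (.cmp (nat_lit 867) (nat_lit 867) (unp (nat_lit 7) (nat_lit 0xecdef6204)) (unp (nat_lit 9) (nat_lit 0x57acf6c03)))⟩)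
 (.nd (nat_lit 873) (.lf ⟨nat_lit 0, nat_lit 867, nat_lit 867, (nat_lit 0x8000200691a437c0404001263f37d826c5b3), one, (nat_lit 0x80040023a0a60805470015170c346e5ef020), (.prod [nat_lit 869, nat_lit 871])⟩)
 (.lf ⟨nat_lit 0, nat_lit 867, nat_lit 867, (nat_lit 0x8005bf32e02e5050400e90d90c105c17454d), one, (nat_lit 0x8000e872b6aa4022ab50b6137a26070681a8), (.prod [nat_lit 870, nat_lit 871])⟩)))))
 (.nd (nat_lit 879) (.nd (nat_lit 876) (.nd (nat_lit 875) (.lf ⟨nat_lit 1, nat_lit 867, nat_lit 339, one, (nat_lit 0x8005037ef2ab2d81a90236730585ce1260ae), one, (.wt (nat_lit 0) (nat_lit 0) (nat_lit 0x8005037ef2ab2d81a90236730585ce1260ae) (.st (nat_lit 867) [] [] .nil) [] [])⟩)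
 (.lf ⟨nat_lit 1, nat_lit 867, nat_lit 673, (nat_lit 0x80023a5e74577a251969c00151a0c1664010), (nat_lit 0x8000e829a0397a245e5c15033f337c3d16a8), (nat_lit 0x8005a96b01520913df6a670012e0bc76668f), (.wt (nat_lit 10) (nat_lit 2) (nat_lit 0x8003f24e47960082557b74930c145e2cf585) (.st (nat_lit 688) [nat_lit 98, nat_lit 31] [] (.st (nat_lit 867) (unp (nat_lit 7) (nat_lit 0xa20e003)) [nat_lit 364] .nil)) (unp (nat_lit 7) (nat_lit 0x817b16404)) [])⟩))
 (.nd (nat_lit 877) (.lf ⟨nat_lit 1, nat_lit 867, nat_lit 339, (nat_lit 0x8005e739700113b3f901051d6bc4991e528c), (nat_lit 0x8005235bc0463d112d1c12c85196382082f4), (nat_lit 0x8000233ac1c31ab7b73d74cf5235a82b95a5), (.wt (nat_lit 10) (nat_lit 2) (nat_lit 0x8000911a95a87d919702669f4fd73a24924c) (.st (nat_lit 442) (unp (nat_lit 7) (nat_lit 0x764b7b06405)) (unp (nat_lit 9) (nat_lit 0x592d37003)) (.st (nat_lit 867) (unp (nat_lit 7) (nat_lit 0x2d7efb16405))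 [nat_lit 363, nat_lit 362] .nil)) (unp (nat_lit 7) (nat_lit 0xecfe6df04)) [])⟩)
 (.nd (nat_lit 878) (.lf ⟨nat_lit 0, nat_lit 867, nat_lit 867, (nat_lit 0x8007961a40697690400ae09c249019174766), one, (nat_lit 0x80050573027a40261350b2ab31a73a0681a8), (.we (nat_lit 0) (nat_lit 0) (nat_lit 0x8005e739700113b3f901051d6bc4991e528c) (.st (nat_lit 876) [] [] (.st (nat_lit 867) (unp (nat_lit 7) (nat_lit 0xe10ae6404)) (unp (nat_lit 9) (nat_lit 0x556cf7203)) .nil)))⟩)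
 (.lf ⟨nat_lit 0, nat_lit 867, nat_lit 867, (nat_lit 0x8000e952559e3ed0405bf1ef24c3e231a49d), one, (nat_lit 0x8000e83f976640232e1a879676968558550b), (.inv (nat_lit 868))⟩))))
 (.nd (nat_lit 881) (.nd (nat_lit 880) (.lf ⟨nat_lit 0, nat_lit 867, nat_lit 867, (nat_lit 0x8002a802e32e37c0404e63ac3b473e26c555), one, (nat_lit 0x80040024940556d4090691b41e50a55ef5a5), (.prod [nat_lit 877, nat_lit 878])⟩)
 (.lf ⟨nat_lit 1, nat_lit 867, nat_lit 772, (nat_lit 0x8005ef6bf4cb4cf1413b92466af04f12e039), (nat_lit 0x8007d90ae38a6132460c406300862454c43c), (nat_lit 0x8005053ac6205194e62ab79e3bc5a8100246), (.wt (nat_lit 11) (nat_lit 2) (nat_lit 0x8000e41c12892ce27a2f40637b00e870b5bf) (.st (nat_lit 780) (unp (nat_lit 8) (nat_lit 0x805c626304)) [] (.st (nat_lit 442) (unp (nat_lit 7) (nat_lit 0x274afafe405)) (unp (nat_lit 9) (nat_lit 0x592d37203)) (.st (nat_lit 867) (unp (nat_lit 7) (nat_lit 0xe5eeed004)) [nat_lit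 362] .nil))) (unp (nat_lit 7) (nat_lit 0xaff6303)) [])⟩))
 (.nd (nat_lit 882) (.lf ⟨nat_lit 1, nat_lit 339, nat_lit 881, (nat_lit 0x8000c459e04049028a78206867117c4c60a6), one, one, (.df (unp (nat_lit 5) (nat_lit 0x6fbc03)))⟩)
 (.nd (nat_lit 883) (.lf ⟨nat_lit 0, nat_lit 881, nat_lit 881, (nat_lit 0x80040006912e0ae2292494770266854c4246), one, (nat_lit 0x8005e73d71007691970100201ef0a51747d8), (.cmp (nat_lit 881) (nat_lit 881) (unp (nat_lit 7) (nat_lit 0x856e8e404)) [nat_lit 368, nat_lit 362])⟩)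
 (.lf ⟨nat_lit 0, nat_lit 881, nat_lit 881, (nat_lit 0x8000e83a41001c10a556c37c0084091430e4), one, (nat_lit 0x8005ce3d70680261970396070ae6136aa6b0), (.cmp (nat_lit 881) (nat_lit 881) (unp (nat_lit 7) (nat_lit 0x3b0af6204)) (unp (nat_lit 9) (nat_lit 0x556cf7003)))⟩))))))
 (.nd (nat_lit 894) (.nd (nat_lit 889) (.nd (nat_lit 886) (.nd (nat_lit 885) (.lf ⟨nat_lit 0, nat_lit 881, nat_lit 881, (nat_lit 0x8000e872b6aa4022ab50b6137a26070681a8), one, (nat_lit 0x8000c14090585190474e62d839f59d4c415e), (.cmp (nat_lit 881) (nat_lit 881) [nat_lit 37, nat_lit 39] (unp (nat_lit 9) (nat_lit 0x562cf6b03)))⟩)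
 (.lf ⟨nat_lit 0, nat_lit 881, nat_lit 881, (nat_lit 0x80040068f6aa1ab6a60471977a26e25c15a5), one, (nat_lit 0x8007013d073e5bf79e4ff4cf33938a26c7ef), (.prod [nat_lit 883, nat_lit 884])⟩))
 (.nd (nat_lit 887) (.lf ⟨nat_lit 1, nat_lit 881, nat_lit 339, one, (nat_lit 0x8000c459e04049028a78206867117c4c60a6), one, (.wt (nat_lit 0) (nat_lit 0) (nat_lit 0x8000c459e04049028a78206867117c4c60a6) (.st (nat_lit 881) [] [] .nil) [] [])⟩)
 (.nd (nat_lit 888) (.lf ⟨nat_lit 1, nat_lit 881, nat_lit 372, (nat_lit 0x8006692ae17c09124b69c5545850632a859d), (nat_lit 0x80054c24b2ae32e39f6735b325b457390058), (nat_lit 0x8000e45b311e0890a50a66a83a456d4e66b0), (.wt (nat_lit 10) (nat_lit 2) (nat_lit 0x8001432784050205546073ac6780696aa5b7) (.st (nat_lit 649) (unp (nat_lit 7) (nat_lit 0x8376fe404)) (unp (nat_lit 9) (nat_lit 0x61f258f03)) (.st (nat_lit 881) (unp (nat_lit 7) (nat_lit 0x1c7edc03)) [nat_lit 348, nat_lit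 340] .nil)) (unp (nat_lit 7) (nat_lit 0xabfdb03)) [])⟩)
 (.lf ⟨nat_lit 1, nat_lit 881, nat_lit 339, (nat_lit 0x8007470fd2a711e56c3ed6b05e72d83b445c), (nat_lit 0x8000e81d701979b63b5ef6073ed409519405), (nat_lit 0x8004492eb30a5bc66900809c4cf0025177ef), (.wt (nat_lit 10) (nat_lit 2) (nat_lit 0x8000404574f313d0a120018015224b3d154c) (.st (nat_lit 441) (unp (nat_lit 7) (nat_lit 0x71f96e8e305)) (unp (nat_lit 9) (nat_lit 0x58ed57103)) (.st (nat_lit 881) (unp (nat_lit 7) (nat_lit 0x2df57afe305)) [nat_lit 368, nat_lit 359] .nil)) (unp (nat_lit 7) (nat_lit 0x2bf73a86405)) [])⟩))))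
 (.nd (nat_lit 891) (.nd (nat_lit 890) (.lf ⟨nat_lit 1, nat_lit 881, nat_lit 372, (nat_lit 0x8005415253b41ef2f472b28a5993df143001), (nat_lit 0x80022e4054e46bf73045a6b666963802e04e), (nat_lit 0x8000ae6b04d062005c3df1b416850550b13b), (.wt (nat_lit 10) (nat_lit 2) (nat_lit 0x8002495f02f44d06e25121415993df1a4425) (.st (nat_lit 650) (unp (nat_lit 7) (nat_lit 0x2a833706405)) (unp (nat_lit 9) (nat_lit 0x61f258f03)) (.st (nat_lit 881) (unp (nat_lit 7) (nat_lit 0xe9fae6304)) (unp (nat_lit 9) (nat_lit 0x576b96b03)) .nil)) (unp (nat_lit 7) (nat_lit 0x35ee86304)) [])⟩)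
 (.lf ⟨nat_lit 1, nat_lit 881, nat_lit 550, (nat_lit 0x8000583f27960261a833952b0104cf45a3a7), (nat_lit 0x8005120730911ab5ce6073b928a4c4200519), (nat_lit 0x80024937c05c6382a74096bf2ae0a51ed0c1), (.wt (nat_lit 11) (nat_lit 2) (nat_lit 0x80000151d0390c417428a19773a0d95f14e4) (.st (nat_lit 656) (unp (nat_lit 7) (nat_lit 0x75ff6f16405)) (unp (nat_lit 10) (nat_lit 0x22f8ae2d03)) (.st (nat_lit 650) (unp (nat_lit 7) (nat_lit 0x55fef5004)) (unp (nat_lit 9) (nat_lit 0x61f258f03)) (.st (nat_lit 881) (unp (nat_lit 7) (nat_lit 0x17f36f0e305)) (unp (nat_lit 9) (nat_lit 0x57ad56b03)) .nil))) (unp (nat_lit 7) (nat_lit 0x4df1f6204)) [])⟩))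
 (.nd (nat_lit 892) (.lf ⟨nat_lit 1, nat_lit 339, nat_lit 891, (nat_lit 0x8005a97473793df4252ce4cf02e09c1ab712), one, one, (.df (unp (nat_lit 5) (nat_lit 0x719c03)))⟩)
 (.nd (nat_lit 893) (.lf ⟨nat_lit 0, nat_lit 891, nat_lit 891, (nat_lit 0x8004022003a75ce3913f32b517c00400269c), one, (nat_lit 0x80040015e10015219768f6bf2810016a8004), (.cmp (nat_lit 891) (nat_lit 891) (unp (nat_lit 7) (nat_lit 0x70fafe304)) [nat_lit 370, nat_lit 348])⟩)
 (.lf ⟨nat_lit 0, nat_lit 891, nat_lit 891, (nat_lit 0x8000c30a57662275f50200104cb3d70023d0), one, (nat_lit 0x80002308910005263850324b7a25f54f35f0), (.cmp (nat_lit 891) (nat_lit 891) (unp (nat_lit 7) (nat_lit 0x349675004)) [nat_lit 343])⟩)))))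
 (.nd (nat_lit 899) (.nd (nat_lit 896) (.nd (nat_lit 895) (.lf ⟨nat_lit 0, nat_lit 891, nat_lit 891, (nat_lit 0x80017c05c62033953c02001040232e1742ce), one, (nat_lit 0x8004003ed52356d0635250330c34cf5ef0e9), (.cmp (nat_lit 891) (nat_lit 891) (unp (nat_lit 7) (nat_lit 0x5706ee304)) (unp (nat_lit 9) (nat_lit 0x58acf7003)))⟩)
 (.lf ⟨nat_lit 0, nat_lit 891, nat_lit 891, (nat_lit 0x8005bf2f90460e80890200100c10fd174069), one, (nat_lit 0x8000235475235bf23842564b76951d11e13b), (.prod [nat_lit 893, nat_lit 894])⟩))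
 (.nd (nat_lit 897) (.lf ⟨nat_lit 1, nat_lit 891, nat_lit 339, one, (nat_lit 0x8005a97473793df4252ce4cf02e09c1ab712), one, (.wt (nat_lit 0) (nat_lit 0) (nat_lit 0x8005a97473793df4252ce4cf02e09c1ab712) (.st (nat_lit 891) [] [] .nil) [] [])⟩)
 (.nd (nat_lit 898) (.lf ⟨nat_lit 1, nat_lit 891, nat_lit 867, (nat_lit 0x8000c450b2cf0e80233ef3df3a44cb4c6769), (nat_lit 0x8000c42553ed24679600428a53c54c7661d2), (nat_lit 0x80002320006804e15e51d25552b22925928a), (.wt (nat_lit 10) (nat_lit 2) (nat_lit 0x80042a7ef3e324b42551974772b15e2c859d) (.st (nat_lit 874) (unp (nat_lit 7) (nat_lit 0xe095f5004)) [] (.st (nat_lit 891) (unp (nat_lit 7) (nat_lit 0x5376fe404)) (unp (nat_lit 9) (nat_lit 0x556cf6c03)) .nil)) (unp (nat_lit 7) (nat_lit 0x1efd3b0e305)) [])⟩)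
 (.lf ⟨nat_lit 1, nat_lit 867, nat_lit 891, (nat_lit 0x80024b7ef54d04e15e60317c2a81000025f4), (nat_lit 0x80024b1801e55bb2b55540400ae3f36af547), (nat_lit 0x8005ce2001684056387961a80ae0bc6aa53c), (.wt (nat_lit 0) (nat_lit 0) (nat_lit 0x8000c450b2cf0e80233ef3df3a44cb4c6769) (.st (nat_lit 897) [] [] .nil) (unp (nat_lit 7) (nat_lit 0x71f93b06305)) [])⟩))))
 (.nd (nat_lit 902) (.nd (nat_lit 900) (.lf ⟨nat_lit 0, nat_lit 891, nat_lit 891, (nat_lit 0x8003913f539752b4025a54e30891c1664169), one, (nat_lit 0x8004cb0986aa6a800178230a52b197152638), (.cmp (nat_lit 898) (nat_lit 898) (unp (nat_lit 7) (nat_lit 0xaa06003)) [nat_lit 879, nat_lit 868])⟩)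
 (.nd (nat_lit 901) (.lf ⟨nat_lit 0, nat_lit 891, nat_lit 891, (nat_lit 0x80079b1a95c10c40085a54e35f52eb7125f0), one, (nat_lit 0x8004cb59d2897660e924c3e21c31b409c238), (.prod [nat_lit 894, nat_lit 899])⟩)
 (.lf ⟨nat_lit 0, nat_lit 891, nat_lit 891, (nat_lit 0x80022e27a3a74054cb5a54e304004e712047), one, (nat_lit 0x8000e849d28939713b4e66136693ef04e063), (.prod [nat_lit 895, nat_lit 899])⟩)))
 (.nd (nat_lit 903) (.lf ⟨nat_lit 1, nat_lit 891, nat_lit 791, (nat_lit 0x8005a908917c09104f6bf4902a7685168098), (nat_lit 0x8003bc3ed2783d15a82f959d4c64e30a679e), (nat_lit 0x8005ce43c04652b0041aa6e218064b74f22e), (.wt (nat_lit 10) (nat_lit 2) (nat_lit 0x80050b2d87126850d939a5e73e23795b745c) (.st (nat_lit 801) (unp (nat_lit 7) (nat_lit 0xe7f6e6204)) [] (.st (nat_lit 891) [nat_lit 100, nat_lit 123] (unp (nat_lit 9) (nat_lit 0x55ad37203)) .nil)) (unp (nat_lit 7) (nat_lit 0x72f7730e405)) [])⟩)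
 (.nd (nat_lit 904) (.lf ⟨nat_lit 1, nat_lit 791, nat_lit 891, (nat_lit 0x8005a908917c09104f6bf4902a7685168098), (nat_lit 0x8001e52ae09c73e00127169c7e92d82593f9), (nat_lit 0x8004cb06904604e5175bc2f41c3040457425), (.wt (nat_lit 0) (nat_lit 0) (nat_lit 0x8005a908917c09104f6bf4902a7685168098) (.st (nat_lit 902) [] [] .nil) (unp (nat_lit 7) (nat_lit 0x1f7efa8e305)) [])⟩)
 (.lf ⟨nat_lit 1, nat_lit 891, nat_lit 867, (nat_lit 0x8005e724612e0520692380d90e86035bb033), (nat_lit 0x8002811413e328a6e20bc4020e81d72896a6), (nat_lit 0x8004cb06904604e5175bc2f41c3040457425), (.wt (nat_lit 10) (nat_lit 2) (nat_lit 0x8002273d73b939f5540985473b41691d264b) (.st (nat_lit 874) (unp (nat_lit 7) (nat_lit 0x410ae6304)) [] (.st (nat_lit 891) (unp (nat_lit 7) (nat_lit 0x510add004)) [nat_lit 368, nat_lit 341] .nil)) (unp (nat_lit 7) (nat_lit 0x2885730e305)) [])⟩)))))))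

noncomputable def qcT_905 : Tr :=
  (.nd (nat_lit 925) (.nd (nat_lit 915) (.nd (nat_lit 910) (.nd (nat_lit 907) (.nd (nat_lit 906) (.lf ⟨nat_lit 1, nat_lit 867, nat_lit 891, (nat_lit 0x8006242474c652b3ac7696b000131a11e4fd), (nat_lit 0x80049d0e82893a44021b450300153c4cf09c), (nat_lit 0x8005ce43c04652b0041aa6e218064b74f22e), (.wt (nat_lit 0) (nat_lit 0) (nat_lit 0x8005e724612e0520692380d90e86035bb033) (.st (nat_lit 904) [] [] .nil) (unp (nat_lit 7) (nat_lit 0x59fa6df04)) [])⟩)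
 (.lf ⟨nat_lit 1, nat_lit 891, nat_lit 791, (nat_lit 0x8005bb6380897a25996bf70023843c1e5033), (nat_lit 0x80060356d14323a1525551a44055ce058671), (nat_lit 0x8000230a55c154149d1a879609c3a42c8246), (.wt (nat_lit 10) (nat_lit 2) (nat_lit 0x8006fc60374f2f41ab0fd3d06bf3661d7080) (.st (nat_lit 801) (unp (nat_lit 8) (nat_lit 0x1e804e626405)) [] (.st (nat_lit 891) (unp (nat_lit 7) (nat_lit 0x80fa86304)) [nat_lit 368, nat_lit 340] .nil)) (unp (nat_lit 7) (nat_lit 0x102de103)) [])⟩))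
 (.nd (nat_lit 908) (.lf ⟨nat_lit 0, nat_lit 891, nat_lit 891, (nat_lit 0x8002460044fd4c44930e90d959d2f93d1503), one, (nat_lit 0x80050551d6784d004f01042514120006815e), (.we (nat_lit 0) (nat_lit 0) (nat_lit 0x8005bb6380897a25996bf70023843c1e5033) (.st (nat_lit 906) [] [] (.st (nat_lit 903) (unp (nat_lit 7) (nat_lit 0x3cfeed104)) [nat_lit 814, nat_lit 806] .nil)))⟩)
 (.nd (nat_lit 909) (.lf ⟨nat_lit 0, nat_lit 891, nat_lit 891, (nat_lit 0x8005e73644cf51d19756c42a45a1a94c1019), one, (nat_lit 0x8001ed1b45f159915e2d824c31a5bb27a56c), (.prod [nat_lit 899, nat_lit 907])⟩)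
 (.lf ⟨nat_lit 0, nat_lit 891, nat_lit 891, (nat_lit 0x8001ed04e3ef2ae59d56c42a1263f55b76dc), one, (nat_lit 0x8001ed1971d24574906137823d149d3b4069), (.prod [nat_lit 900, nat_lit 907])⟩))))
 (.nd (nat_lit 912) (.nd (nat_lit 911) (.lf ⟨nat_lit 0, nat_lit 891, nat_lit 891, (nat_lit 0x8004582eb4ff5bc15e56c42a4930265b70b8), one, (nat_lit 0x8005ce7ef1d20a623a3e250b05859d366169), (.prod [nat_lit 901, nat_lit 907])⟩)
 (.lf ⟨nat_lit 1, nat_lit 891, nat_lit 372, (nat_lit 0x8005a87b328a24b04674f69f6240a57d9364), (nat_lit 0x80003965b3ac3df69c5b31aa25b06843c3f5), (nat_lit 0x8006785bc70b7820693ac0c13797d82a8004), (.wt (nat_lit 11) (nat_lit 2) (nat_lit 0x80056d3a43f54775413d01e743a45a1683f9) (.st (nat_lit 650) (unp (nat_lit 7) (nat_lit 0xed36fe304)) (unp (nat_lit 9) (nat_lit 0x61f258f03)) (.st (nat_lit 442) (unp (nat_lit 7) (nat_lit 0x3f0afe304)) (unp (nat_lit 9) (nat_lit 0x592d36f03)) (.st (nat_lit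 891) (unp (nat_lit 7) (nat_lit 0x17286303)) [nat_lit 358] .nil))) (unp (nat_lit 8) (nat_lit 0x2d80506404)) [])⟩))
 (.nd (nat_lit 913) (.lf ⟨nat_lit 1, nat_lit 339, nat_lit 912, (nat_lit 0x80005c1411743f566054703925b27a5f502e), one, one, (.df (unp (nat_lit 5) (nat_lit 0x595603)))⟩)
 (.nd (nat_lit 914) (.lf ⟨nat_lit 0, nat_lit 912, nat_lit 912, (nat_lit 0x8004933d73a72272462b53f31ed0a5174033), one, (nat_lit 0x8005e77b012e7475f04772491c16243bc391), (.cmp (nat_lit 912) (nat_lit 912) (unp (nat_lit 7) (nat_lit 0x96f6003)) [nat_lit 363, nat_lit 360])⟩)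
 (.lf ⟨nat_lit 0, nat_lit 912, nat_lit 912, (nat_lit 0x8001ef63873e5ce2466bf68f5e743c0023d0), one, (nat_lit 0x8000c122e5ef0ae6604cf4ff02669c25b2ce), (.cmp (nat_lit 912) (nat_lit 912) (unp (nat_lit 7) (nat_lit 0x56deee404)) (unp (nat_lit 9) (nat_lit 0x562d16c03)))⟩)))))
 (.nd (nat_lit 920) (.nd (nat_lit 917) (.nd (nat_lit 916) (.lf ⟨nat_lit 0, nat_lit 912, nat_lit 912, (nat_lit 0x8000103d022d5bb2464cb4000e95254f33d7), one, (nat_lit 0x80070168f1d20524e63d77b77a23f33d145c), (.cmp (nat_lit 912) (nat_lit 912) (unp (nat_lit 7) (nat_lit 0x76813b06405)) [nat_lit 359, nat_lit 351])⟩)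
 (.lf ⟨nat_lit 0, nat_lit 912, nat_lit 912, (nat_lit 0x8003f33e20194ff04045849330a5174f3200), one, (nat_lit 0x8000e82d826c4056bf0694093f523a5f15bb), (.prod [nat_lit 914, nat_lit 915])⟩))
 (.nd (nat_lit 918) (.lf ⟨nat_lit 1, nat_lit 912, nat_lit 339, one, (nat_lit 0x80005c1411743f566054703925b27a5f502e), one, (.wt (nat_lit 0) (nat_lit 0) (nat_lit 0x80005c1411743f566054703925b27a5f502e) (.st (nat_lit 912) [] [] .nil) [] [])⟩)
 (.nd (nat_lit 919) (.lf ⟨nat_lit 1, nat_lit 912, nat_lit 825, (nat_lit 0x80023a5e74577a251969c00151a0c1664010), (nat_lit 0x80009c5a81d737c39702673040255469f617), (nat_lit 0x8002275255a940228a5bb4fd76940931a660), (.wt (nat_lit 10) (nat_lit 2) (nat_lit 0x8003df22e5f40e93e274765b37c79b1e76b0) (.st (nat_lit 830) (unp (nat_lit 7) (nat_lit 0x776f7a8e405)) [] (.st (nat_lit 912) (unp (nat_lit 7) (nat_lit 0x5df6303)) (unp (nat_lit 9) (nat_lit 0x552b96c03)) .nil)) (unp (nat_lit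 7) (nat_lit 0x83728e304)) [])⟩)
 (.lf ⟨nat_lit 1, nat_lit 912, nat_lit 849, (nat_lit 0x8004021805f122900870b5f429a5ce4c638a), (nat_lit 0x8005233e22c813b40222766924b0bc208685), (nat_lit 0x8000e851211e39f59d06372b7475f0143425), (.wt (nat_lit 10) (nat_lit 2) (nat_lit 0x8003a46711d70406bf56d5bf51751d12e4ff) (.st (nat_lit 854) (unp (nat_lit 7) (nat_lit 0xedfe8e304)) [] (.st (nat_lit 912) (unp (nat_lit 7) (nat_lit 0x53f2ddf04)) (unp (nat_lit 9) (nat_lit 0x556cf7203)) .nil)) (unp (nat_lit 7) (nat_lit 0x1e717b0e405)) [])⟩))))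
 (.nd (nat_lit 922) (.nd (nat_lit 921) (.lf ⟨nat_lit 1, nat_lit 912, nat_lit 849, (nat_lit 0x8002a82cf2eb13b39a6646af56d4996aa671), (nat_lit 0x80050b4ff04039f61340573046e1a974765b), (nat_lit 0x80073a2b54e64020637471c156d1d273e3e3), (.wt (nat_lit 12) (nat_lit 2) (nat_lit 0x80051912628974759d45744942524631a0fd) (.st (nat_lit 856) (unp (nat_lit 7) (nat_lit 0x55feee004)) [] (.st (nat_lit 841) (unp (nat_lit 9) (nat_lit 0x156bb80b99b29d06)) [nat_lit 373] (.st (nat_lit 912) (unp (nat_lit 7) (nat_lit 0x77837686405)) (unp (nat_lit 9) (nat_lit 0x556b97203)) .nil))) (unp (nat_lit 7) (nat_lit 0x33eae5004)) [])⟩)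
 (.lf ⟨nat_lit 1, nat_lit 372, nat_lit 372, (nat_lit 0x80054102379b2ce4e35bb505397671143391), (nat_lit 0x8007473664252f90e968f04e2a71b463b05c), (nat_lit 0x8004cf2007e97691ab2292ce71202005c3df), (.ren (nat_lit 614) [] [] [nat_lit 643, nat_lit 646])⟩))
 (.nd (nat_lit 923) (.lf ⟨nat_lit 1, nat_lit 912, nat_lit 372, (nat_lit 0x8005e722e3f52d845c39179e39a0bc1e5405), (nat_lit 0x80056d1b43e35a85bf1c30c15475123d13f5), (nat_lit 0x8004996b606904744900274f79b4cf603197), (.wt (nat_lit 12) (nat_lit 2) (nat_lit 0x8002272a837c2ab38a5b309c6aa43c11e1a8) (.st (nat_lit 921) (unp (nat_lit 7) (nat_lit 0x2ffedd104)) (unp (nat_lit 9) (nat_lit 0x61f258f03)) (.st (nat_lit 841) (unp (nat_lit 8) (nat_lit 0xabf2e6d904)) [] (.st (nat_lit 912) (unp (nat_lit 7) (nat_lit 0xf53686304)) (unp (nat_lit 9) (nat_lit 0x556cf7003)) .nil))) (unp (nat_lit 7) (nat_lit 0x96e6303)) [])⟩)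
 (.nd (nat_lit 924) (.lf ⟨nat_lit 1, nat_lit 912, nat_lit 615, (nat_lit 0x8005e77a26601d76e25f50473647690a628a), (nat_lit 0x80028168505c22d1aa1680ae6a602074f660), (nat_lit 0x8006a80083f573a7b051964b52b27a0c1019), (.wt (nat_lit 12) (nat_lit 2) (nat_lit 0x8002a74e343c6a654d6645a87472b51c32eb) (.st (nat_lit 659) (unp (nat_lit 7) (nat_lit 0x81be403)) [] (.st (nat_lit 841) (unp (nat_lit 8) (nat_lit 0xaef4dde6d99c06)) [] (.st (nat_lit 912) (unp (nat_lit 7) (nat_lit 0x17fd3686405)) (unp (nat_lit 9) (nat_lit 0x556b97203)) .nil))) (unp (nat_lit 7) (nat_lit 0x6a16003)) [])⟩)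
 (.lf ⟨nat_lit 1, nat_lit 825, nat_lit 912, (nat_lit 0x8005a92a749932e6fc5a53ac1c30935f5023), (nat_lit 0x8005037012a71000471d21b426c0334e46c5), (nat_lit 0x80039700109c0a54cf13d5251aa44912e141), (.wt (nat_lit 11) (nat_lit 0) (nat_lit 0x8003d04cf6b603924c1c354149d3df620246) (.st (nat_lit 918) (unp (nat_lit 7) (nat_lit 0x19f97b06405)) [nat_lit 913, nat_lit 914] (.st (nat_lit 848) (unp (nat_lit 7) (nat_lit 0x27817b06405)) [] (.st (nat_lit 845) (unp (nat_lit 7) (nat_lit 0x27fd6f16305)) [nat_lit 828] .nil))) (unp (nat_lit 7) (nat_lit 0x71f77b0e305)) [])⟩))))))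
 (.nd (nat_lit 935) (.nd (nat_lit 930) (.nd (nat_lit 927) (.nd (nat_lit 926) (.lf ⟨nat_lit 1, nat_lit 912, nat_lit 825, (nat_lit 0x80051a05c73e5f13b46dc37c5f40803ac4c4), (nat_lit 0x8005b73a73d11a90106732554253900ae22e), (nat_lit 0x8003f56070024fd02e03374f3f26387a27b7), (.wt (nat_lit 0) (nat_lit 0) (nat_lit 0x8005a92a749932e6fc5a53ac1c30935f5023) (.st (nat_lit 924) (unp (nat_lit 7) (nat_lit 0x58966d104)) [nat_lit 826, nat_lit 827] .nil) (unp (nat_lit 7) (nat_lit 0x2bfafa8e405)) [])⟩)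
 (.lf ⟨nat_lit 1, nat_lit 661, nat_lit 912, (nat_lit 0x8004930b83f33b45bf23876949d033091730), (nat_lit 0x80069f08046e4771e73a449937962472b5a9), (nat_lit 0x8007695541d258569c1aa5e743c5b359924b), (.wt (nat_lit 11) (nat_lit 0) (nat_lit 0x8006e254758552b2383a75a97004e622d023) (.st (nat_lit 919) (unp (nat_lit 7) (nat_lit 0x51ee86304)) [nat_lit 913, nat_lit 914] (.st (nat_lit 866) (unp (nat_lit 7) (nat_lit 0x550a75104)) [nat_lit 853, nat_lit 860] (.st (nat_lit 672) (unp (nat_lit 7) (nat_lit 0x4f0286304)) [nat_lit 461, nat_lit 471] .nil))) (unp (nat_lit 7) (nat_lit 0x1ff33b0e305)) [])⟩))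
 (.nd (nat_lit 928) (.lf ⟨nat_lit 1, nat_lit 339, nat_lit 927, (nat_lit 0x8004fd2ae0087470983a75250e83e3002638), one, one, (.df (unp (nat_lit 6) (nat_lit 0x217c803)))⟩)
 (.nd (nat_lit 929) (.lf ⟨nat_lit 0, nat_lit 927, nat_lit 927, (nat_lit 0x8004025b31680e879b68f6bf17c7b70027b0), one, (nat_lit 0x8000c10475c10804096a6098008613093089), (.cmp (nat_lit 927) (nat_lit 927) (unp (nat_lit 7) (nat_lit 0xe2e6203)) (unp (nat_lit 9) (nat_lit 0x562b97003)))⟩)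
 (.lf ⟨nat_lit 0, nat_lit 927, nat_lit 927, (nat_lit 0x8000e82b52594023ac5122f96bc70006845c), one, (nat_lit 0x80050524c25b4583ac7ef2f94d07302a746e), (.cmp (nat_lit 927) (nat_lit 927) (unp (nat_lit 6) (nat_lit 0x2797e03)) (unp (nat_lit 9) (nat_lit 0x582cf6f03)))⟩))))
 (.nd (nat_lit 932) (.nd (nat_lit 931) (.lf ⟨nat_lit 1, nat_lit 927, nat_lit 339, one, (nat_lit 0x8004fd2ae0087470983a75250e83e3002638), one, (.wt (nat_lit 0) (nat_lit 0) (nat_lit 0x8004fd2ae0087470983a75250e83e3002638) (.st (nat_lit 927) [] [] .nil) [] [])⟩)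
 (.lf ⟨nat_lit 1, nat_lit 927, nat_lit 615, (nat_lit 0x8005a908917c09104f6bf4902a7685168098), (nat_lit 0x80054d05839024724969f3f549902e7d839f), (nat_lit 0x8002c83f92555bc22950b32e3df3e23f3366), (.wt (nat_lit 10) (nat_lit 2) (nat_lit 0x8000e86134f325b2b53d052573e3d713a7ef) (.st (nat_lit 631) (unp (nat_lit 7) (nat_lit 0x4f3a8e304)) [] (.st (nat_lit 927) (unp (nat_lit 7) (nat_lit 0x75f96e8e405)) (unp (nat_lit 9) (nat_lit 0x55eb96b03)) .nil)) (unp (nat_lit 8) (nat_lit 0x2d805d6004)) [])⟩))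
 (.nd (nat_lit 933) (.lf ⟨nat_lit 1, nat_lit 615, nat_lit 927, (nat_lit 0x8004006aa39762043c6af5bb1434571c13f3), (nat_lit 0x8006a85bf4cf0a13d00e420052313d1413e2), (nat_lit 0x8007d86bf1a42ae5127a24585032ab70145e), (.wt (nat_lit 0) (nat_lit 0) (nat_lit 0x8005a908917c09104f6bf4902a7685168098) (.st (nat_lit 931) [] [] .nil) (unp (nat_lit 7) (nat_lit 0xe7f676404)) [])⟩)
 (.nd (nat_lit 934) (.lf ⟨nat_lit 1, nat_lit 927, nat_lit 881, (nat_lit 0x8004021805f122900870b5f429a5ce4c638a), (nat_lit 0x8004d05054995b72ab00205c7b01b439f5a5), (nat_lit 0x80015223867379e54712d43c04000152531a), (.wt (nat_lit 10) (nat_lit 2) (nat_lit 0x8002ae13a6a86aa2ce66039f6e25b330a525) (.st (nat_lit 888) (unp (nat_lit 7) (nat_lit 0x19fd6e8e405)) [] (.st (nat_lit 927) (unp (nat_lit 7) (nat_lit 0x4d0a76104)) (unp (nat_lit 9) (nat_lit 0x55acf6b03)) .nil)) (unp (nat_lit 7) (nat_lit 0x264b6e86305)) [])⟩)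
 (.lf ⟨nat_lit 1, nat_lit 927, nat_lit 615, (nat_lit 0x8005415253b41ef2f472b28a5993df143001), (nat_lit 0x8002084576b601945c65b3b90525f17967e9), (nat_lit 0x8004f352b6e27d943c5257b75231a931a12d), (.wt (nat_lit 10) (nat_lit 2) (nat_lit 0x8006bc16931a3bc0d95253e23a766027805c) (.st (nat_lit 631) (unp (nat_lit 7) (nat_lit 0x1e7efb0e405)) [] (.st (nat_lit 927) (unp (nat_lit 7) (nat_lit 0x71f53706305)) (unp (nat_lit 9) (nat_lit 0x552b96b03)) .nil)) (unp (nat_lit 7) (nat_lit 0x59f676404)) [])⟩)))))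
 (.nd (nat_lit 940) (.nd (nat_lit 937) (.nd (nat_lit 936) (.lf ⟨nat_lit 1, nat_lit 615, nat_lit 927, (nat_lit 0x8005e726c3d12cf1522ae3e32556dc126002), (nat_lit 0x8003ed2ce7306e21c10c468554c008259660), (nat_lit 0x8002291b46dc4e679b52b1a92084e34cb51d), (.wt (nat_lit 0) (nat_lit 0) (nat_lit 0x8005415253b41ef2f472b28a5993df143001) (.st (nat_lit 934) [] [] .nil) (unp (nat_lit 7) (nat_lit 0xe4df06404)) [])⟩)
 (.lf ⟨nat_lit 1, nat_lit 927, nat_lit 825, (nat_lit 0x8002f01d725b3f35f569c0390730266aa0ae), (nat_lit 0x80025979b1e73df54152b5473f500145e69c), (nat_lit 0x80054c1c161764b0a519779e2381e500131a), (.wt (nat_lit 11) (nat_lit 2) (nat_lit 0x80003942543a73039127874747705c4c622e) (.st (nat_lit 830) (unp (nat_lit 7) (nat_lit 0x717f7b06405)) [] (.st (nat_lit 441) (unp (nat_lit 7) (nat_lit 0x55e6ed104)) (unp (nat_lit 9) (nat_lit 0x592d37003)) (.st (nat_lit 927) (unp (nat_lit 7) (nat_lit 0x2fe5f5104))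 [nat_lit 340] .nil))) (unp (nat_lit 7) (nat_lit 0x29f97706405)) [])⟩))
 (.nd (nat_lit 938) (.lf ⟨nat_lit 1, nat_lit 825, nat_lit 927, (nat_lit 0x8006785470465f545a39a2ce66946e69c238), (nat_lit 0x8002815f45ef0fd47723822e61756d11e603), (nat_lit 0x8000ae68f5472465030fd0696132f95b3002), (.wt (nat_lit 0) (nat_lit 0) (nat_lit 0x8002f01d725b3f35f569c0390730266aa0ae) (.st (nat_lit 936) [] [] .nil) (unp (nat_lit 7) (nat_lit 0x1f6f3686405)) [])⟩)
 (.nd (nat_lit 939) (.lf ⟨nat_lit 1, nat_lit 927, nat_lit 927, (nat_lit 0x8000a564b60702302615e02028a79e45a001), (nat_lit 0x8000010334cf4931c378249028a79e04e0a5), (nat_lit 0x80012d5b739a53c04054d0c10087b32d856c), (.wt (nat_lit 11) (nat_lit 0) (nat_lit 0x80004f2b96dc3d709c54112d3b93ed555607) (.st (nat_lit 936) (unp (nat_lit 7) (nat_lit 0x67edf03)) [] (.st (nat_lit 848) (unp (nat_lit 7) (nat_lit 0x59eeed004)) [nat_lit 828] (.st (nat_lit 937) (unp (nat_lit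 7) (nat_lit 0x77716efe305)) [nat_lit 826, nat_lit 828] .nil))) (unp (nat_lit 7) (nat_lit 0x2df97686405)) [])⟩)
 (.lf ⟨nat_lit 2, nat_lit 339, nat_lit 939, (nat_lit 0x8005e75bc3e213a0b85172f97e93f31e522e), one, one, (.df (unp (nat_lit 5) (nat_lit 0x735a03)))⟩))))
 (.nd (nat_lit 943) (.nd (nat_lit 941) (.lf ⟨nat_lit 2, nat_lit 939, nat_lit 339, one, (nat_lit 0x8005e75bc3e213a0b85172f97e93f31e522e), one, (.wt (nat_lit 13) (nat_lit 0) (nat_lit 0x8005e75bc3e213a0b85172f97e93f31e522e) (.st (nat_lit 939) [] [] .nil) [] [])⟩)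
 (.nd (nat_lit 942) (.lf ⟨nat_lit 1, nat_lit 339, nat_lit 941, (nat_lit 0x8002a837c0bc45a5f47b079b4573df4f33e2), one, one, (.df (unp (nat_lit 5) (nat_lit 0x6af403)))⟩)
 (.lf ⟨nat_lit 1, nat_lit 941, nat_lit 339, one, (nat_lit 0x8002a837c0bc45a5f47b079b4573df4f33e2), one, (.wt (nat_lit 0) (nat_lit 0) (nat_lit 0x8002a837c0bc45a5f47b079b4573df4f33e2) (.st (nat_lit 941) [] [] .nil) [] [])⟩)))
 (.nd (nat_lit 944) (.lf ⟨nat_lit 1, nat_lit 941, nat_lit 941, (nat_lit 0x8005c15a513a56d6070477967e96851c3238), (nat_lit 0x8005c154d09c58525545c6e22cf3d002e249), (nat_lit 0x8004007b01681ab2ce2ae4900266244c43a4), (.wt (nat_lit 10) (nat_lit 2) (nat_lit 0x8003914cb3a749d4022b53f37b77476dc1c1) (.st (nat_lit 942) (unp (nat_lit 7) (nat_lit 0x1df77306405)) [] (.st (nat_lit 941) (unp (nat_lit 7) (nat_lit 0x77dbe03)) [nat_lit 364, nat_lit 361] .nil)) (unp (nat_lit 7) (nat_lit 0x3bf676404)) [])⟩)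
 (.nd (nat_lit 945) (.lf ⟨nat_lit 1, nat_lit 941, nat_lit 941, (nat_lit 0x8005a908917c09104f6bf4902a7685168098), (nat_lit 0x8005a93ed5ce3f54e443c3791e53d056d010), (nat_lit 0x80040054d12e52b61367313b04e73a1413f9), (.wt (nat_lit 0) (nat_lit 0) (nat_lit 0x8005c15a513a56d6070477967e96851c3238) (.st (nat_lit 943) [] [] .nil) (unp (nat_lit 7) (nat_lit 0x1066e403)) [])⟩)
 (.lf ⟨nat_lit 1, nat_lit 941, nat_lit 772, (nat_lit 0x8005ef72b0912eb49d3ac5f04c43910ae79b), (nat_lit 0x80065b15e18008070000450b7a27d825951a), (nat_lit 0x8005e70333a73f554d5bc2f42783f952379e), (.wt (nat_lit 10) (nat_lit 2) (nat_lit 0x8002296072477ef6fc2eb1c35b351a5f14e3) (.st (nat_lit 780) (unp (nat_lit 8) (nat_lit 0x70804e606405)) [] (.st (nat_lit 941) (unp (nat_lit 7) (nat_lit 0x1e68e403)) [nat_lit 369, nat_lit 348] .nil)) (unp (nat_lit 8) (nat_lit 0x72804d606405)) [])⟩)))))))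

noncomputable def qcT_946 : Tr :=
  (.nd (nat_lit 967) (.nd (nat_lit 956) (.nd (nat_lit 951) (.nd (nat_lit 948) (.nd (nat_lit 947) (.lf ⟨nat_lit 1, nat_lit 772, nat_lit 941, (nat_lit 0x8004020897697474cf0406b02275f025924b), (nat_lit 0x8004c15a53bc04e3f94fd6245857b766912d), (nat_lit 0x8005e755449909c5b323a37c1a912d74f409), (.wt (nat_lit 0) (nat_lit 0) (nat_lit 0x8005ef72b0912eb49d3ac5f04c43910ae79b) (.st (nat_lit 945) [] [] .nil) (unp (nat_lit 7) (nat_lit 0xdef5103)) [])⟩)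
 (.lf ⟨nat_lit 1, nat_lit 941, nat_lit 912, (nat_lit 0x8004021805f122900870b5f429a5ce4c638a), (nat_lit 0x8005550c424930a39a32e1ef26c78204f13a), (nat_lit 0x80045a32e3973393f92b53f305205c00212d), (.wt (nat_lit 10) (nat_lit 2) (nat_lit 0x8002006e20b80e41a87016bc6b030a02e4ff) (.st (nat_lit 917) (unp (nat_lit 7) (nat_lit 0x72f536fe305)) [] (.st (nat_lit 941) [nat_lit 100, nat_lit 23] [nat_lit 358, nat_lit 342] .nil)) (unp (nat_lit 7) (nat_lit 0x27ff7716305)) [])⟩))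
 (.nd (nat_lit 949) (.lf ⟨nat_lit 1, nat_lit 941, nat_lit 825, (nat_lit 0x80028a7b70680e839f6aa22d09c3b40730fd), (nat_lit 0x8000fd1693b919715e6aa5234254cb4fd5f5), (nat_lit 0x8000233d71001807ef3ac4e452b5f02595f5), (.wt (nat_lit 10) (nat_lit 2) (nat_lit 0x8005054cf74f2a86730893a40523795994fd) (.st (nat_lit 830) (unp (nat_lit 7) (nat_lit 0x1e817716405)) [] (.st (nat_lit 941) [nat_lit 96, nat_lit 23] (unp (nat_lit 9) (nat_lit 0x55eb97203)) .nil)) (unp (nat_lit 7) (nat_lit 0x2984fb16305)) [])⟩)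
 (.nd (nat_lit 950) (.lf ⟨nat_lit 1, nat_lit 825, nat_lit 941, (nat_lit 0x80064b0bc12e2f96857e91e700413d2497d8), (nat_lit 0x8007b715e04656d1267e97d936615271264b), (nat_lit 0x8000233d71001807ef3ac4e452b5f02595f5), (.wt (nat_lit 0) (nat_lit 0) (nat_lit 0x80028a7b70680e839f6aa22d09c3b40730fd) (.st (nat_lit 948) [] [] .nil) (unp (nat_lit 7) (nat_lit 0x716e8e404)) [])⟩)
 (.lf ⟨nat_lit 1, nat_lit 941, nat_lit 550, (nat_lit 0x8004fd2c866926c0803ac3d03f545a23822d), (nat_lit 0x8004fd01059905856c0e859e03349d255008), (nat_lit 0x8003a730a2eb17c42a6aa5036130982f97ef), (.wt (nat_lit 11) (nat_lit 2) (nat_lit 0x8005bb22e28c0d93d040565b3ef3911e5613) (.st (nat_lit 560) (unp (nat_lit 7) (nat_lit 0xeadef6204)) [] (.st (nat_lit 439) (unp (nat_lit 7) (nat_lit 0x73f3728e405)) (unp (nat_lit 8) (nat_lit 0x8ecbdba204)) (.st (nat_lit 941) (unp (nat_lit 7) (nat_lit 0x27fd770e305)) (unp (nat_lit 9) (nat_lit 0x57eb97203))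 .nil))) (unp (nat_lit 7) (nat_lit 0xeff675f04)) [])⟩))))
 (.nd (nat_lit 953) (.nd (nat_lit 952) (.lf ⟨nat_lit 1, nat_lit 550, nat_lit 941, (nat_lit 0x8005bb5476205994ff5a84c45ce13a3ac2f9), (nat_lit 0x8005bb70b3e26b63d049036450b22951d093), (nat_lit 0x8007d80e93660890c361739731a5bf29563b), (.wt (nat_lit 0) (nat_lit 0) (nat_lit 0x8004fd2c866926c0803ac3d03f545a23822d) (.st (nat_lit 950) [] [] .nil) (unp (nat_lit 7) (nat_lit 0x3beadd004)) [])⟩)
 (.lf ⟨nat_lit 1, nat_lit 941, nat_lit 881, (nat_lit 0x8004931ef0404d03e256c5170ae29a4cf599), (nat_lit 0x80037c7d80a14fd2275e70232952497b7169), (nat_lit 0x8006173f57125bc2386735032ce5a968f620), (.wt (nat_lit 11) (nat_lit 2) (nat_lit 0x8005252785a900152b6735bc19729a6af5ce) (.st (nat_lit 886) (unp (nat_lit 7) (nat_lit 0x59fe6e304)) [] (.st (nat_lit 441) (unp (nat_lit 7) (nat_lit 0x52968e404)) (unp (nat_lit 9) (nat_lit 0x58ed37103)) (.st (nat_lit 941) (unp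 (nat_lit 7) (nat_lit 0x53370e404)) (unp (nat_lit 9) (nat_lit 0x576b97103)) .nil))) (unp (nat_lit 7) (nat_lit 0x71f336fe405)) [])⟩))
 (.nd (nat_lit 954) (.lf ⟨nat_lit 1, nat_lit 881, nat_lit 941, (nat_lit 0x8001ed5a525b2782f97ef5f55852811aa2d8), (nat_lit 0x8002006852f459d5034cb37943c3e23b47d9), (nat_lit 0x80066443c5172273d12590936b65a86dc5bf), (.wt (nat_lit 0) (nat_lit 0) (nat_lit 0x8004931ef0404d03e256c5170ae29a4cf599) (.st (nat_lit 952) [] [] .nil) (unp (nat_lit 8) (nat_lit 0x26803e6004)) [])⟩)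
 (.nd (nat_lit 955) (.lf ⟨nat_lit 1, nat_lit 941, nat_lit 550, (nat_lit 0x8000330fd6bf0b82810683ed2551803a4229), (nat_lit 0x8006136690934770685e728c4f37b309c047), (nat_lit 0x8003e365b15e22719766922905c13a069020), (.wt (nat_lit 11) (nat_lit 2) (nat_lit 0x8003f37a26a87e91973e245a03959d42a425) (.st (nat_lit 562) (unp (nat_lit 7) (nat_lit 0x746efa8e405)) [nat_lit 558, nat_lit 555] (.st (nat_lit 565) (unp (nat_lit 7) (nat_lit 0x51fa6d004)) [] (.st (nat_lit 941) (unp (nat_lit 7) (nat_lit 0x4ffade404)) [nat_lit 364, nat_lit 360] .nil))) (unp (nat_lit 7) (nat_lit 0x29fd7316405)) [])⟩)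
 (.lf ⟨nat_lit 1, nat_lit 550, nat_lit 941, (nat_lit 0x80063847769f5055552081681d25b723a033), (nat_lit 0x80005c24608002e79655545813a24c64b2f9), (nat_lit 0x8002892ab4c61432b90017ef6e23bc5ce458), (.wt (nat_lit 0) (nat_lit 0) (nat_lit 0x8000330fd6bf0b82810683ed2551803a4229) (.st (nat_lit 954) [] [] .nil) (unp (nat_lit 7) (nat_lit 0xecdf0e304)) [])⟩)))))
 (.nd (nat_lit 961) (.nd (nat_lit 958) (.nd (nat_lit 957) (.lf ⟨nat_lit 1, nat_lit 339, nat_lit 956, (nat_lit 0x8005ef4ff7302951a426c16945e3f53b439f), one, one, (.df (unp (nat_lit 5) (nat_lit 0x737403)))⟩)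
 (.lf ⟨nat_lit 0, nat_lit 956, nat_lit 956, (nat_lit 0x8006e25252475470403b409c4e612d17443c), one, (nat_lit 0x8001262ab6a84d02ae2ce7d84934ff4996bf), (.cmp (nat_lit 956) (nat_lit 956) (unp (nat_lit 7) (nat_lit 0xe106dd004)) (unp (nat_lit 9) (nat_lit 0x576d16c03)))⟩))
 (.nd (nat_lit 959) (.lf ⟨nat_lit 1, nat_lit 956, nat_lit 339, one, (nat_lit 0x8005ef4ff7302951a426c16945e3f53b439f), one, (.wt (nat_lit 0) (nat_lit 0) (nat_lit 0x8005ef4ff7302951a426c16945e3f53b439f) (.st (nat_lit 956) [] [] .nil) [] [])⟩)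
 (.nd (nat_lit 960) (.lf ⟨nat_lit 1, nat_lit 956, nat_lit 927, (nat_lit 0x8000c450b2cf0e80233ef3df3a44cb4c6769), (nat_lit 0x80028a6fc74f7477b327145a3f96bf3a71d2), (nat_lit 0x80002349d02e0ae0a54e62d84052713bc391), (.wt (nat_lit 10) (nat_lit 2) (nat_lit 0x8004580014c15413a44777961ab22e25b624) (.st (nat_lit 930) (unp (nat_lit 7) (nat_lit 0x2a7f6e8e305)) [] (.st (nat_lit 956) (unp (nat_lit 7) (nat_lit 0x2efa86404)) (unp (nat_lit 9) (nat_lit 0x55ad36603)) .nil)) (unp (nat_lit 8) (nat_lit 0x27805b5f6405)) [])⟩)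
 (.lf ⟨nat_lit 1, nat_lit 956, nat_lit 941, (nat_lit 0x80064b0bc12e2f96857e91e700413d2497d8), (nat_lit 0x8001806fc4e654d1a44937477a21a82b942a), (nat_lit 0x8000e82f92893b47b72494776695a80a6624), (.wt (nat_lit 10) (nat_lit 2) (nat_lit 0x80037c0406175bb2711a9603379425091512) (.st (nat_lit 942) (unp (nat_lit 7) (nat_lit 0x72853b16405)) [] (.st (nat_lit 956) (unp (nat_lit 7) (nat_lit 0x3df275004)) (unp (nat_lit 9) (nat_lit 0x55ad37003)) .nil)) (unp (nat_lit 7) (nat_lit 0x1f70fa86305)) [])⟩))))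
 (.nd (nat_lit 964) (.nd (nat_lit 962) (.lf ⟨nat_lit 1, nat_lit 956, nat_lit 891, (nat_lit 0x8005e739700113b3f901051d6bc4991e528c), (nat_lit 0x8005c11b443a79e45a2553f51d733952504e), (nat_lit 0x8005e769c12e0ae6136e21aa27822e52379b), (.wt (nat_lit 10) (nat_lit 2) (nat_lit 0x8007b03ef6af0e413b1ab39f08960702e255) (.st (nat_lit 896) (unp (nat_lit 7) (nat_lit 0x1c3f5d03)) [] (.st (nat_lit 956) [nat_lit 100] [nat_lit 360] .nil)) (unp (nat_lit 7) (nat_lit 0x1c9bdf03)) [])⟩)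
 (.nd (nat_lit 963) (.lf ⟨nat_lit 1, nat_lit 891, nat_lit 956, (nat_lit 0x8005ef72b0912eb49d3ac5f04c43910ae79b), (nat_lit 0x8000fd3d15ce7001ef3ed06354d1000a1174), (nat_lit 0x8005e759d4995195123ed2ab1c14093bc12d), (.wt (nat_lit 0) (nat_lit 0) (nat_lit 0x8005e739700113b3f901051d6bc4991e528c) (.st (nat_lit 961) [] [] .nil) (unp (nat_lit 7) (nat_lit 0x1feee203)) [])⟩)
 (.lf ⟨nat_lit 1, nat_lit 956, nat_lit 891, (nat_lit 0x8006242474c652b3ac7696b000131a11e4fd), (nat_lit 0x80028a6c54f37471aa4001973910a63a7477), (nat_lit 0x80045a2465ef0c42f95bb4fd13a7826aa3d0), (.wt (nat_lit 10) (nat_lit 2) (nat_lit 0x80045e53c70b3ef5f02815416a63a40912f9) (.st (nat_lit 896) (unp (nat_lit 7) (nat_lit 0xeb06e6304)) [] (.st (nat_lit 956) [nat_lit 96] (unp (nat_lit 9) (nat_lit 0x552d16c03)) .nil)) (unp (nat_lit 7) (nat_lit 0x264afb06305)) [])⟩)))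
 (.nd (nat_lit 965) (.lf ⟨nat_lit 1, nat_lit 956, nat_lit 941, (nat_lit 0x80028a7b70680e839f6aa22d09c3b40730fd), (nat_lit 0x80065b6af39000109318053c6132086786aa), (nat_lit 0x8000e822e2891ef6604e62d87696245855a8), (.wt (nat_lit 10) (nat_lit 2) (nat_lit 0x80045e3a46dc4772710235ce24b0014c643c) (.st (nat_lit 942) (unp (nat_lit 7) (nat_lit 0x757f7306305)) [] (.st (nat_lit 956) (unp (nat_lit 7) (nat_lit 0x29fd7b16305)) (unp (nat_lit 9) (nat_lit 0x56ad56b03)) .nil)) (unp (nat_lit 7) (nat_lit 0x19f57316305)) [])⟩)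
 (.nd (nat_lit 966) (.lf ⟨nat_lit 1, nat_lit 941, nat_lit 956, (nat_lit 0x8004001a40a15bb12e6034902d82ce002068), (nat_lit 0x80001013b74f5bf3640682952eb5416b6238), (nat_lit 0x8000e822e2891ef6604e62d87696245855a8), (.wt (nat_lit 0) (nat_lit 0) (nat_lit 0x80028a7b70680e839f6aa22d09c3b40730fd) (.st (nat_lit 964) [] [] .nil) (unp (nat_lit 7) (nat_lit 0x1f713686405)) [])⟩)
 (.lf ⟨nat_lit 1, nat_lit 956, nat_lit 881, (nat_lit 0x8005ef72b0912eb49d3ac5f04c43910ae79b), (nat_lit 0x80054723a28c0192b965b68f3790083ef73e), (nat_lit 0x80015273023a3d704f42573a4097ef38a25b), (.wt (nat_lit 10) (nat_lit 2) (nat_lit 0x8002383f274f6aa1692290ae1b438a4e4624) (.st (nat_lit 888) (unp (nat_lit 7) (nat_lit 0x3fe6f5104)) [] (.st (nat_lit 956) (unp (nat_lit 7) (nat_lit 0x1e68e403)) [nat_lit 369, nat_lit 343] .nil)) (unp (nat_lit 8) (nat_lit 0x72804d606405)) [])⟩))))))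
 (.nd (nat_lit 977) (.nd (nat_lit 972) (.nd (nat_lit 969) (.nd (nat_lit 968) (.lf ⟨nat_lit 1, nat_lit 881, nat_lit 956, (nat_lit 0x8000c45ce1430025f454d2eb2f0512405073), (nat_lit 0x8000196bc2a759d04f17c0632b90d90a5249), (nat_lit 0x8005f45194e43ef0267a21ab3794f3169685), (.wt (nat_lit 0) (nat_lit 0) (nat_lit 0x8005ef72b0912eb49d3ac5f04c43910ae79b) (.st (nat_lit 966) [] [] .nil) (unp (nat_lit 7) (nat_lit 0xa3ddd03)) [])⟩)
 (.lf ⟨nat_lit 1, nat_lit 956, nat_lit 791, (nat_lit 0x80040054d59d5052ce2ae4cb04e28a002397), (nat_lit 0x8000a108054d3914025ce29a38a00862472b), (nat_lit 0x8002272293d12780690200102f05b31432f9), (.wt (nat_lit 10) (nat_lit 2) (nat_lit 0x8003d745e2470016e250502300451a5ef4e3) (.st (nat_lit 801) (unp (nat_lit 7) (nat_lit 0xefe716404)) [] (.st (nat_lit 956) (unp (nat_lit 7) (nat_lit 0xfa86403)) [nat_lit 359, nat_lit 341] .nil)) (unp (nat_lit 7) (nat_lit 0x726f3b16405)) [])⟩))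
 (.nd (nat_lit 970) (.lf ⟨nat_lit 1, nat_lit 791, nat_lit 956, (nat_lit 0x8005a94771ed3641a803951d1522083f228a), (nat_lit 0x8006711ed13a2d86bc4254903ed0807d93bc), (nat_lit 0x8002272293d12780690200102f05b31432f9), (.wt (nat_lit 0) (nat_lit 0) (nat_lit 0x80040054d59d5052ce2ae4cb04e28a002397) (.st (nat_lit 968) [] [] .nil) (unp (nat_lit 8) (nat_lit 0x71804e03)) [])⟩)
 (.nd (nat_lit 971) (.lf ⟨nat_lit 1, nat_lit 956, nat_lit 956, (nat_lit 0x8001ed54703312d69f73005c7001c1512425), (nat_lit 0x8001ed54703312d69f73005c7001c1512425), (nat_lit 0x8005b70e41c32a756c19701049345c499391), (.wt (nat_lit 11) (nat_lit 2) (nat_lit 0x80040525b7b322e25515e3394007d91684e6) (.st (nat_lit 963) (unp (nat_lit 7) (nat_lit 0x2af96f06305)) [] (.st (nat_lit 896) (unp (nat_lit 7) (nat_lit 0x717f3b0e305)) [nat_lit 899] (.st (nat_lit 956) (unp (nat_lit 7) (nat_lit 0xe1f68e404)) [nat_lit 364, nat_lit 359] .nil))) (unp (nat_lit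 7) (nat_lit 0x35f2ee104)) [])⟩)
 (.lf ⟨nat_lit 1, nat_lit 956, nat_lit 927, (nat_lit 0x8005ef4990912d859d2cf28c1690233d76a8), (nat_lit 0x8002270fd02369f3a42f44cb7ef026366425), (nat_lit 0x80037c54102e0266640c154d40256c46e73e), (.wt (nat_lit 11) (nat_lit 2) (nat_lit 0x8002ce22902620809855440261350b3f32f9) (.st (nat_lit 938) (unp (nat_lit 7) (nat_lit 0x70813716405)) [] (.st (nat_lit 930) (unp (nat_lit 7) (nat_lit 0x19f73706305)) [] (.st (nat_lit 956) (unp (nat_lit 7) (nat_lit 0x2df77286405)) (unp (nat_lit 9) (nat_lit 0x56ab97103)) .nil))) (unp (nat_lit 7) (nat_lit 0x3aff16304)) [])⟩))))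
 (.nd (nat_lit 974) (.nd (nat_lit 973) (.lf ⟨nat_lit 1, nat_lit 927, nat_lit 956, (nat_lit 0x8002a84ff02606856c2005194e62eb5ce24b), (nat_lit 0x8004c61414995f037c4f30a12380262b5289), (nat_lit 0x80050b4c150522e4096135ce180390503607), (.wt (nat_lit 0) (nat_lit 0) (nat_lit 0x8005ef4990912d859d2cf28c1690233d76a8) (.st (nat_lit 971) [] [] .nil) (unp (nat_lit 7) (nat_lit 0x4efeee204)) [])⟩)
 (.lf ⟨nat_lit 1, nat_lit 339, nat_lit 973, (nat_lit 0x80049324650559d74f0bc1412cf28a091685), one, one, (.df [nat_lit 29, nat_lit 29])⟩))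
 (.nd (nat_lit 975) (.lf ⟨nat_lit 0, nat_lit 973, nat_lit 973, (nat_lit 0x8005e72001683f215e0d90e91ef00417438a), one, (nat_lit 0x8005e72001683f215e0d90e91ef00417438a), (.cmp (nat_lit 973) (nat_lit 973) (unp (nat_lit 7) (nat_lit 0xfdf5103)) [nat_lit 364, nat_lit 362])⟩)
 (.nd (nat_lit 976) (.lf ⟨nat_lit 1, nat_lit 973, nat_lit 339, one, (nat_lit 0x80049324650559d74f0bc1412cf28a091685), one, (.wt (nat_lit 0) (nat_lit 0) (nat_lit 0x80049324650559d74f0bc1412cf28a091685) (.st (nat_lit 973) [] [] .nil) [] [])⟩)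
 (.lf ⟨nat_lit 1, nat_lit 973, nat_lit 941, (nat_lit 0x8006242474c652b3ac7696b000131a11e4fd), (nat_lit 0x8001975bf2a71c32a80e923822905270b3e2), (nat_lit 0x80045a2ce3972787b06fc1b43f5554143425), (.wt (nat_lit 10) (nat_lit 2) (nat_lit 0x80065b68f74f2f02ab0475f55053ef4c15bc) (.st (nat_lit 942) (unp (nat_lit 7) (nat_lit 0x7e15e03)) [] (.st (nat_lit 973) [nat_lit 99, nat_lit 37] (unp (nat_lit 9) (nat_lit 0x556d57103)) .nil)) (unp (nat_lit 7) (nat_lit 0x4ee28e304)) [])⟩)))))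
 (.nd (nat_lit 982) (.nd (nat_lit 979) (.nd (nat_lit 978) (.lf ⟨nat_lit 1, nat_lit 973, nat_lit 912, (nat_lit 0x8001ab2ae6176135236697b03393f35a96c5), (nat_lit 0x80024969c3ef1e755416965b24c5192d8517), (nat_lit 0x8005e73e212e3b40bc13b6731a979b74f22e), (.wt (nat_lit 10) (nat_lit 2) (nat_lit 0x8007d80202473d023a13d0520e44fd0683ac) (.st (nat_lit 917) (unp (nat_lit 7) (nat_lit 0xe1eb06404)) [] (.st (nat_lit 973) [nat_lit 81, nat_lit 62] [nat_lit 369, nat_lit 360] .nil)) (unp (nat_lit 8) (nat_lit 0x27805e506405)) [])⟩)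
 (.lf ⟨nat_lit 1, nat_lit 973, nat_lit 973, (nat_lit 0x8004021805f122900870b5f429a5ce4c638a), (nat_lit 0x80065b04e49961333970b5f41ab5ce69f7b0), (nat_lit 0x8004003d716856d0890e90d90080a5002525), (.wt (nat_lit 10) (nat_lit 2) (nat_lit 0x80013b1c374f50365b3e23d745e1807d9458) (.st (nat_lit 975) (unp (nat_lit 7) (nat_lit 0x33e676304)) [] (.st (nat_lit 973) [nat_lit 100, nat_lit 23] [nat_lit 367] .nil)) (unp (nat_lit 7) (nat_lit 0x27ff7716305)) [])⟩))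
 (.nd (nat_lit 980) (.lf ⟨nat_lit 1, nat_lit 973, nat_lit 941, (nat_lit 0x8005b36b62383f91e52464cb0337e95ef3f3), (nat_lit 0x8003a41a93a72812712556fc13a7b761727a), (nat_lit 0x80017c55462027859d68f6bf1ab2ce63b32e), (.wt (nat_lit 10) (nat_lit 2) (nat_lit 0x8002f43644c42381520e45f03ed12622d3f2) (.st (nat_lit 942) (unp (nat_lit 7) (nat_lit 0x51e6e6104)) [] (.st (nat_lit 973) [nat_lit 99, nat_lit 80] [nat_lit 369, nat_lit 341] .nil)) (unp (nat_lit 7) (nat_lit 0x276f7a8e305)) [])⟩)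
 (.nd (nat_lit 981) (.lf ⟨nat_lit 1, nat_lit 973, nat_lit 927, (nat_lit 0x8000027a217c2d804e0a17d913d669400379), (nat_lit 0x8000476a83f51526202b528a5472593905bc), (nat_lit 0x80028133924b0735123ed2b50e8769766607), (.wt (nat_lit 11) (nat_lit 2) (nat_lit 0x8002eb0c35f17b713d0a16af4050ae0937b0) (.st (nat_lit 933) (unp (nat_lit 7) (nat_lit 0xb5c5c03)) [nat_lit 928] (.st (nat_lit 886) (unp (nat_lit 7) (nat_lit 0x4cdf0e404)) [] (.st (nat_lit 973) (unp (nat_lit 7) (nat_lit 0x105f6403)) (unp (nat_lit 9) (nat_lit 0x556cf6c03)) .nil))) (unp (nat_lit 7) (nat_lit 0x1e4b730e405)) [])⟩)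
 (.lf ⟨nat_lit 1, nat_lit 973, nat_lit 927, (nat_lit 0x80065b1417697b05230b82470022cf3b4660), (nat_lit 0x80067113d2f049917c3df24673a4027d953c), (nat_lit 0x80004e0ae24b3e36852b53ed2272f01684cf), (.wt (nat_lit 11) (nat_lit 2) (nat_lit 0x8007d81263b959d3644771a828a3b44492f0) (.st (nat_lit 930) (unp (nat_lit 7) (nat_lit 0x3bfa6e404)) [] (.st (nat_lit 441) (unp (nat_lit 7) (nat_lit 0x570a8e404)) (unp (nat_lit 9) (nat_lit 0x592d37003)) (.st (nat_lit 973) (unp (nat_lit 7) (nat_lit 0xdee5003)) (unp (nat_lit 9) (nat_lit 0x552cf7203)) .nil))) (unp (nat_lit 7) (nat_lit 0x5b028e304)) [])⟩))))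
 (.nd (nat_lit 985) (.nd (nat_lit 983) (.lf ⟨nat_lit 1, nat_lit 927, nat_lit 973, (nat_lit 0x8003914007a245751922e4ff1a8126664010), (nat_lit 0x8005e73d113d06302e7d90a116800254172b), (nat_lit 0x8000521b44ff5124907827b07ef5f528a141), (.wt (nat_lit 0) (nat_lit 0) (nat_lit 0x80065b1417697b05230b82470022cf3b4660) (.st (nat_lit 981) [] [] .nil) (unp (nat_lit 7) (nat_lit 0x1f7f6f0e305)) [])⟩)
 (.nd (nat_lit 984) (.lf ⟨nat_lit 1, nat_lit 973, nat_lit 956, (nat_lit 0x8004930204d03b96130e973a52b00237c391), (nat_lit 0x80022e0d96af54c02314351a5175ef32e4cb), (nat_lit 0x80004e0046a85470805ef2b973a02000146e), (.wt (nat_lit 11) (nat_lit 2) (nat_lit 0x80067313a26c6fc5bf7ef0334cf0ae7d939a) (.st (nat_lit 958) (unp (nat_lit 7) (nat_lit 0x2feb16404)) [] (.st (nat_lit 441) (unp (nat_lit 7) (nat_lit 0x2d6f730e305)) (unp (nat_lit 9) (nat_lit 0x592d37003)) (.st (nat_lit 973) (unp (nat_lit 7) (nat_lit 0xe2fe303))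 [nat_lit 370, nat_lit 341] .nil))) (unp (nat_lit 7) (nat_lit 0x2d7f3b0e305)) [])⟩)
 (.lf ⟨nat_lit 1, nat_lit 973, nat_lit 693, (nat_lit 0x8004005553ac0263ed0b85f13f3397093180), (nat_lit 0x8007004e465b31a4057b353c0022eb7015b7), (nat_lit 0x80011e5541261e52f46e20635f10e43b91a8), (.wt (nat_lit 11) (nat_lit 2) (nat_lit 0x80023a05225b4fd7010045256e27a21d739f) (.st (nat_lit 698) (unp (nat_lit 8) (nat_lit 0x17805e5f04)) [] (.st (nat_lit 436) (unp (nat_lit 7) (nat_lit 0x57e9f5004)) [] (.st (nat_lit 973) (unp (nat_lit 7) (nat_lit 0x5fce403)) (unp (nat_lit 9) (nat_lit 0x562b97203)) .nil))) (unp (nat_lit 7) (nat_lit 0x4dedf5104)) [])⟩)))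
 (.nd (nat_lit 986) (.lf ⟨nat_lit 1, nat_lit 339, nat_lit 985, (nat_lit 0x80063837c0473a42b52f45bc2c83b92f9281), one, one, (.df (unp (nat_lit 6) (nat_lit 0x2170203)))⟩)
 (.nd (nat_lit 987) (.lf ⟨nat_lit 0, nat_lit 985, nat_lit 985, (nat_lit 0x8004020475f10e869c6fc2550086b000222e), one, (nat_lit 0x80040015e10015219768f6bf2810016a8004), (.cmp (nat_lit 985) (nat_lit 985) (unp (nat_lit 7) (nat_lit 0x717afe404)) [nat_lit 370, nat_lit 348])⟩)
 (.lf ⟨nat_lit 1, nat_lit 985, nat_lit 339, one, (nat_lit 0x80063837c0473a42b52f45bc2c83b92f9281), one, (.wt (nat_lit 0) (nat_lit 0) (nat_lit 0x80063837c0473a42b52f45bc2c83b92f9281) (.st (nat_lit 985) [] [] .nil) [] [])⟩)))))))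

noncomputable def qcT_988 : Tr :=
  (.nd (nat_lit 1008) (.nd (nat_lit 998) (.nd (nat_lit 993) (.nd (nat_lit 990) (.nd (nat_lit 989) (.lf ⟨nat_lit 1, nat_lit 985, nat_lit 941, (nat_lit 0x80024b7ef54d04e15e60317c2a81000025f4), (nat_lit 0x8004e622e0a145c43a56c0631520461e5499), (nat_lit 0x8007015031d215224920066028145c5a93f3), (.wt (nat_lit 10) (nat_lit 2) (nat_lit 0x8000391975f413b7b05e70c11b4391585613) (.st (nat_lit 942) (unp (nat_lit 7) (nat_lit 0x1c676203)) [] (.st (nat_lit 985) (unp (nat_lit 7) (nat_lit 0xdede103)) (unp (nat_lit 9) (nat_lit 0x57ad56f03)) .nil)) (unp (nat_lit 7) (nat_lit 0x208176fe305)) [])⟩)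
 (.lf ⟨nat_lit 1, nat_lit 941, nat_lit 985, (nat_lit 0x80040040949909c02e04e3f5673555141073), (nat_lit 0x80052b6240fd5bc0892d81aa2f44494c45f1), (nat_lit 0x80045a0201d21804e308939152b6076201a8), (.wt (nat_lit 0) (nat_lit 0) (nat_lit 0x80024b7ef54d04e15e60317c2a81000025f4) (.st (nat_lit 988) [] [] .nil) (unp (nat_lit 7) (nat_lit 0x73837706305)) [])⟩))
 (.nd (nat_lit 991) (.lf ⟨nat_lit 1, nat_lit 985, nat_lit 881, (nat_lit 0x80054124673e61300849067100102314343c), (nat_lit 0x80039f1d73e32ce45708043c3d76bf6786aa), (nat_lit 0x80045a3ef4577a20634090691ef5bb49930a), (.wt (nat_lit 10) (nat_lit 2) (nat_lit 0x8005e73d72cf7a21697303ef74738a174685) (.st (nat_lit 886) (unp (nat_lit 7) (nat_lit 0x7f6f0e404)) [] (.st (nat_lit 985) (unp (nat_lit 7) (nat_lit 0x17836e8e405)) (unp (nat_lit 9) (nat_lit 0x586cf7203)) .nil)) (unp (nat_lit 7) (nat_lit 0x27fafa86405)) [])⟩)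
 (.nd (nat_lit 992) (.lf ⟨nat_lit 1, nat_lit 985, nat_lit 891, (nat_lit 0x8005a908917c09104f6bf4902a7685168098), (nat_lit 0x8001e73a44f33f21aa03937c0ae69c5bf517), (nat_lit 0x80045a2f92897a224630a24c0520fd002409), (.wt (nat_lit 10) (nat_lit 2) (nat_lit 0x80020051d6dc69c4e31ab3f500403912e1a8) (.st (nat_lit 896) (unp (nat_lit 7) (nat_lit 0xe5feee204)) [] (.st (nat_lit 985) [nat_lit 100, nat_lit 123] [nat_lit 370, nat_lit 342] .nil)) (unp (nat_lit 7) (nat_lit 0x72f7730e405)) [])⟩)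
 (.lf ⟨nat_lit 1, nat_lit 985, nat_lit 881, (nat_lit 0x8001ab2ae6176135236697b03393f35a96c5), (nat_lit 0x80055439f3a74c144945e7693394771a9247), (nat_lit 0x8002eb2382596a626c5bf0ae3f90016246b0), (.wt (nat_lit 10) (nat_lit 2) (nat_lit 0x80037c0c43bc25954d5174d003928a13b660) (.st (nat_lit 888) (unp (nat_lit 7) (nat_lit 0x1ef36efe405)) [] (.st (nat_lit 985) (unp (nat_lit 7) (nat_lit 0x836e8e404)) [nat_lit 361, nat_lit 342] .nil)) (unp (nat_lit 8) (nat_lit 0x19803e516305)) [])⟩))))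
 (.nd (nat_lit 995) (.nd (nat_lit 994) (.lf ⟨nat_lit 1, nat_lit 985, nat_lit 791, (nat_lit 0x8005a915e4f37e904751a7b03f524916845c), (nat_lit 0x8002ae0043900474e640527873a38a5417d8), (nat_lit 0x8005e75f02b94d07b00396074583a41e5246), (.wt (nat_lit 10) (nat_lit 2) (nat_lit 0x8006bf4d045756c45a38a5b3255126295541) (.st (nat_lit 801) (unp (nat_lit 7) (nat_lit 0x1ff37706305)) [] (.st (nat_lit 985) [nat_lit 96, nat_lit 123] [nat_lit 368] .nil)) [nat_lit 125, nat_lit 114] [])⟩)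
 (.lf ⟨nat_lit 1, nat_lit 985, nat_lit 927, (nat_lit 0x8004001d73d013b6b65ce52b3795250025f5), (nat_lit 0x8006bf5bb26c4904583976b602637c7820e8), (nat_lit 0x8005e70401681ab08970073027838a523004), (.wt (nat_lit 10) (nat_lit 2) (nat_lit 0x8001ef49014336456c05c3e27692083976a6) (.st (nat_lit 930) (unp (nat_lit 7) (nat_lit 0x29717a8e305)) [] (.st (nat_lit 985) (unp (nat_lit 7) (nat_lit 0xfa86303)) [nat_lit 369, nat_lit 361] .nil)) (unp (nat_lit 7) (nat_lit 0x1c9bdf03)) [])⟩))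
 (.nd (nat_lit 996) (.lf ⟨nat_lit 1, nat_lit 985, nat_lit 956, (nat_lit 0x8005a94771ed3641a803951d1522083f228a), (nat_lit 0x8001973bc2cf3e27693790395bb4cb247402), (nat_lit 0x8005ce49d0681c368572b0631800e474f047), (.wt (nat_lit 10) (nat_lit 2) (nat_lit 0x8000800896786bc4254902d83645f031a7d8) (.st (nat_lit 958) (unp (nat_lit 7) (nat_lit 0xb286403)) [] (.st (nat_lit 985) [nat_lit 81, nat_lit 121] (unp (nat_lit 9) (nat_lit 0x55ad16603)) .nil)) (unp (nat_lit 8) (nat_lit 0x72806103)) [])⟩)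
 (.nd (nat_lit 997) (.lf ⟨nat_lit 1, nat_lit 985, nat_lit 956, (nat_lit 0x80040054d59d5052ce2ae4cb04e28a002397), (nat_lit 0x8003d724949d6b009c46e54764b0e904639f), (nat_lit 0x80012622e7663643910d90e91c169c523512), (.wt (nat_lit 10) (nat_lit 2) (nat_lit 0x8005544cb39769c66923868f2293645555e7) (.st (nat_lit 958) (unp (nat_lit 7) (nat_lit 0x1df57286305)) [] (.st (nat_lit 985) (unp (nat_lit 7) (nat_lit 0xfa86403)) [nat_lit 358, nat_lit 344] .nil)) (unp (nat_lit 7) (nat_lit 0x726f3b16405)) [])⟩)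
 (.lf ⟨nat_lit 1, nat_lit 956, nat_lit 985, (nat_lit 0x8004020897697474cf0406b02275f025924b), (nat_lit 0x8005a53f20265bb09c1692ab0105ce70b002), (nat_lit 0x8001262465ef3b466045e46e1a95170a6033), (.wt (nat_lit 0) (nat_lit 0) (nat_lit 0x80040054d59d5052ce2ae4cb04e28a002397) (.st (nat_lit 996) [] [] .nil) (unp (nat_lit 7) (nat_lit 0xefeb06304)) [])⟩)))))
 (.nd (nat_lit 1003) (.nd (nat_lit 1000) (.nd (nat_lit 999) (.lf ⟨nat_lit 1, nat_lit 985, nat_lit 891, (nat_lit 0x8005415253b41ef2f472b28a5993df143001), (nat_lit 0x8007b72a80521691e779e23a4e32a77b33f2), (nat_lit 0x80039a50b6782a828a20823852b0042c8001), (.wt (nat_lit 10) (nat_lit 2) (nat_lit 0x80065b22902e1c354d51a37c2f016931a73a) (.st (nat_lit 896) (unp (nat_lit 7) (nat_lit 0x1070e403)) [] (.st (nat_lit 985) (unp (nat_lit 7) (nat_lit 0x1e68e303)) [nat_lit 340] .nil)) (unp (nat_lit 7) (nat_lit 0xe5e5f6204)) [])⟩)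
 (.lf ⟨nat_lit 1, nat_lit 891, nat_lit 985, (nat_lit 0x80040273a00104e1d70c16e22f4599259033), (nat_lit 0x80079b51928a32e6074e67010582ab28c39f), (nat_lit 0x80039a50b6782a828a20823852b0042c8001), (.wt (nat_lit 0) (nat_lit 0) (nat_lit 0x8005415253b41ef2f472b28a5993df143001) (.st (nat_lit 998) [] [] .nil) (unp (nat_lit 8) (nat_lit 0x2a805b03)) [])⟩))
 (.nd (nat_lit 1001) (.lf ⟨nat_lit 1, nat_lit 985, nat_lit 956, (nat_lit 0x8000e412e50509c0023910e96b06a67825bb), (nat_lit 0x8007305bb71270b5ef3660634cf0c30d9068), (nat_lit 0x8003665c10013e366045e0205e72b96a842a), (.wt (nat_lit 11) (nat_lit 2) (nat_lit 0x80059e5ce0932385b30e864b4f3525796169) (.st (nat_lit 966) (unp (nat_lit 7) (nat_lit 0x728176fe305)) [] (.st (nat_lit 886) [nat_lit 56, nat_lit 38] [] (.st (nat_lit 985) [nat_lit 80, nat_lit 37] (unp (nat_lit 9) (nat_lit 0x582b96603)) .nil))) (unp (nat_lit 7) (nat_lit 0x5a968e404)) [])⟩)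
 (.nd (nat_lit 1002) (.lf ⟨nat_lit 1, nat_lit 956, nat_lit 985, (nat_lit 0x8000c45ce1430025f454d2eb2f0512405073), (nat_lit 0x80045c5553f97b00462d865b0393394e45ce), (nat_lit 0x8001ef79b7b737c6240100e951a6fc4e4100), (.wt (nat_lit 0) (nat_lit 0) (nat_lit 0x8000e412e50509c0023910e96b06a67825bb) (.st (nat_lit 1000) [] [] .nil) (unp (nat_lit 8) (nat_lit 0x27805b5104)) [])⟩)
 (.lf ⟨nat_lit 1, nat_lit 985, nat_lit 985, (nat_lit 0x8006bf1a44c409806879b6693a40e92592ab), (nat_lit 0x8006bf07352309805843c2270330d925937c), (nat_lit 0x80065b2ab1003a719702024b1742f43f21aa), (.wt (nat_lit 11) (nat_lit 2) (nat_lit 0x80069f04e2d81a45b34250a51e52a84c4040) (.st (nat_lit 991) (unp (nat_lit 8) (nat_lit 0x1f805e6404)) [] (.st (nat_lit 896) (unp (nat_lit 7) (nat_lit 0x17f3770e405)) [nat_lit 908] (.st (nat_lit 985) (unp (nat_lit 7) (nat_lit 0x17fb7316305)) [nat_lit 367, nat_lit 354] .nil))) (unp (nat_lit 8) (nat_lit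 0x2d805d516305)) [])⟩))))
 (.nd (nat_lit 1005) (.nd (nat_lit 1004) (.lf ⟨nat_lit 1, nat_lit 985, nat_lit 985, (nat_lit 0x8004c151727a3b90984cb25b78237912e3e2), (nat_lit 0x80067815e18010072b4cb1e72ce6733d1512), (nat_lit 0x8005c179e25b14168568f42500870006845e), (.wt (nat_lit 11) (nat_lit 2) (nat_lit 0x8006b63917e926c4251c15b33df40228c3f5) (.st (nat_lit 993) (unp (nat_lit 7) (nat_lit 0x767f3706405)) [] (.st (nat_lit 801) (unp (nat_lit 7) (nat_lit 0x7604e03)) [nat_lit 814] (.st (nat_lit 985) (unp (nat_lit 7) (nat_lit 0x19fcfa8e405)) (unp (nat_lit 9) (nat_lit 0x57ad57103)) .nil))) (unp (nat_lit 7) (nat_lit 0xe1eaf5104)) [])⟩)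
 (.lf ⟨nat_lit 1, nat_lit 985, nat_lit 985, (nat_lit 0x80049379b56c56d0081002295ce1a42c845e), (nat_lit 0x80029a5f51aa3640ae5c12291a970b2c8039), (nat_lit 0x8004c40891001523df5a860711e24945824c), (.wt (nat_lit 11) (nat_lit 2) (nat_lit 0x8004e422e3793df13a65b2ce71245a4c43a4) (.st (nat_lit 998) (unp (nat_lit 7) (nat_lit 0xe6ff06304)) [] (.st (nat_lit 896) (unp (nat_lit 7) (nat_lit 0x1a7efa8e305)) [nat_lit 907] (.st (nat_lit 985) (unp (nat_lit 7) (nat_lit 0x2ff686404)) (unp (nat_lit 9) (nat_lit 0x576d16b03)) .nil))) (unp (nat_lit 7) (nat_lit 0x26ff7316405)) [])⟩))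
 (.nd (nat_lit 1006) (.lf ⟨nat_lit 1, nat_lit 985, nat_lit 817, (nat_lit 0x8000c473e0934fd1696dc3397b73ac69f1c3), (nat_lit 0x8000461262f073e60727a28c4252ae068638), (nat_lit 0x80029a2006786242a75bf1a972b5a56a62d8), (.wt (nat_lit 12) (nat_lit 3) (nat_lit 0x80022d2ce64b1a41ed0a552313b0e8295238) (.st (nat_lit 824) (unp (nat_lit 8) (nat_lit 0xb0f2fce504)) [] (.st (nat_lit 441) (unp (nat_lit 7) (nat_lit 0x277136fe405)) (unp (nat_lit 9) (nat_lit 0x592d36f03)) (.st (nat_lit 985) [nat_lit 95, nat_lit 37] [nat_lit 364, nat_lit 350] .nil))) (unp (nat_lit 7) (nat_lit 0x77f76f06305)) [])⟩)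
 (.nd (nat_lit 1007) (.lf ⟨nat_lit 1, nat_lit 817, nat_lit 985, (nat_lit 0x80012e19715e2a74cf54d31a6bc7005ef5bf), (nat_lit 0x8006132a728c42a2785230015ce3ed6170e4), (nat_lit 0x80029a2006786242a75bf1a972b5a56a62d8), (.wt (nat_lit 0) (nat_lit 0) (nat_lit 0x8000c473e0934fd1696dc3397b73ac69f1c3) (.st (nat_lit 1005) [] [] .nil) (unp (nat_lit 7) (nat_lit 0x2cff730e305)) [])⟩)
 (.lf ⟨nat_lit 2, nat_lit 985, nat_lit 985, (nat_lit 0x80054124673e61300849067100102314343c), (nat_lit 0x80002628928c22d1ab0e90523d73ef74f69c), (nat_lit 0x8004056136783d00681ef2810103792b537c), (.wt (nat_lit 12) (nat_lit 0) (nat_lit 0x80024745c0682a74e35bf03949d3b470b402) (.st (nat_lit 993) (unp (nat_lit 7) (nat_lit 0xe9ea76304)) [] (.st (nat_lit 801) (unp (nat_lit 7) (nat_lit 0x20837a8e405)) [nat_lit 799, nat_lit 803] (.st (nat_lit 985) (unp (nat_lit 7) (nat_lit 0x817306304)) [nat_lit 368, nat_lit 344] .nil))) [nat_lit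 255, nat_lit 187] [])⟩))))))
 (.nd (nat_lit 1018) (.nd (nat_lit 1013) (.nd (nat_lit 1010) (.nd (nat_lit 1009) (.lf ⟨nat_lit 1, nat_lit 985, nat_lit 985, (nat_lit 0x80064b2461411d23b95ce4493f20c3617020), (nat_lit 0x8006aa28171253c2d805c09c00854c002409), (nat_lit 0x80039f7821006b05ef3f209c4e437c04f379), (.wt (nat_lit 12) (nat_lit 3) (nat_lit 0x8000a11a85ef3b428a2eb73004f5f17121c3) (.st (nat_lit 1007) (unp (nat_lit 8) (nat_lit 0xb0f3fae604)) [] (.st (nat_lit 987) (unp (nat_lit 7) (nat_lit 0x857306304)) [] (.st (nat_lit 985) (unp (nat_lit 7) (nat_lit 0xefee76404)) [nat_lit 340] .nil))) (unp (nat_lit 7) (nat_lit 0x19fb7a8e405)) [])⟩)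
 (.lf ⟨nat_lit 1, nat_lit 817, nat_lit 985, (nat_lit 0x8006242474c652b3ac7696b000131a11e4fd), (nat_lit 0x80079b4495c10c40e900224642a4d028928a), (nat_lit 0x80029a4e36782711c34571413ac7b7607391), (.wt (nat_lit 11) (nat_lit 0) (nat_lit 0x8006aa51968f6af73a7ef79e0a627863b3f9) (.st (nat_lit 991) (unp (nat_lit 7) (nat_lit 0x5fdcd03)) [] (.st (nat_lit 999) (unp (nat_lit 8) (nat_lit 0x1a805d616305)) [nat_lit 892, nat_lit 910] (.st (nat_lit 1005) (unp (nat_lit 7) (nat_lit 0xebf9f5104)) [] .nil))) (unp (nat_lit 7) (nat_lit 0x704b3716405)) [])⟩))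
 (.nd (nat_lit 1011) (.lf ⟨nat_lit 0, nat_lit 817, nat_lit 817, (nat_lit 0x8000fd1ef4e312d3791b47b012e5bb685001), one, (nat_lit 0x8004000a51000c34095bb3f309c12d09350b), (.we (nat_lit 0) (nat_lit 0) (nat_lit 0x8006242474c652b3ac7696b000131a11e4fd) (.st (nat_lit 1009) (unp (nat_lit 7) (nat_lit 0x6a04d03)) [nat_lit 818] (.st (nat_lit 1005) (unp (nat_lit 7) (nat_lit 0xe3e6f6004)) [] .nil)))⟩)
 (.nd (nat_lit 1012) (.lf ⟨nat_lit 0, nat_lit 817, nat_lit 817, (nat_lit 0x8000580085052a723a05243a20045c620001), one, (nat_lit 0x8004000bc10076903372b0635bf79e09379b), (.inv (nat_lit 820))⟩)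
 (.lf ⟨nat_lit 0, nat_lit 817, nat_lit 817, (nat_lit 0x8002a85b76b630a15e79639a52b7b36aa001), one, (nat_lit 0x8004000471000526247966a652b3910027b7), (.prod [nat_lit 1010, nat_lit 1011])⟩))))
 (.nd (nat_lit 1015) (.nd (nat_lit 1014) (.lf ⟨nat_lit 1, nat_lit 956, nat_lit 956, (nat_lit 0x8002b94fd1d24772595f072b45c747678517), (nat_lit 0x8005f137c4c41a874f4255bc2ab65b04638a), (nat_lit 0x8006af0ae76922e063002678008004020001), (.wt (nat_lit 11) (nat_lit 2) (nat_lit 0x8002814050930026c50012f052b4095e77b3) (.st (nat_lit 1001) (unp (nat_lit 7) (nat_lit 0x41026df04)) [] (.st (nat_lit 1002) (unp (nat_lit 7) (nat_lit 0x2c82fa86405)) [] (.st (nat_lit 1000) (unp (nat_lit 7) (nat_lit 0x65f6103)) [nat_lit 986] .nil))) (unp (nat_lit 7) (nat_lit 0x3fe6e5104)) [])⟩)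
 (.lf ⟨nat_lit 1, nat_lit 817, nat_lit 817, (nat_lit 0x80063850b0396bc13a04f3665b322e2f9143), (nat_lit 0x80039122e2b57a22a83f327859d50b660143), (nat_lit 0x8004005471001520632b568574f5f57665f0), (.wt (nat_lit 11) (nat_lit 0) (nat_lit 0x8001d70330017d91c14257e90100c471245e) (.st (nat_lit 1006) (unp (nat_lit 7) (nat_lit 0x7171368e405)) [] (.st (nat_lit 1003) (unp (nat_lit 7) (nat_lit 0x2f3706404)) [] (.st (nat_lit 1005) (unp (nat_lit 7) (nat_lit 0x72f73b0e405)) [] .nil))) (unp (nat_lit 7) (nat_lit 0x72fd3b06405)) [])⟩))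
 (.nd (nat_lit 1016) (.lf ⟨nat_lit 1, nat_lit 956, nat_lit 941, (nat_lit 0x8005f420840556d0331ef0d951a5194cf1c3), (nat_lit 0x8004575172f44d00584ff6dc3a704e2d8047), (nat_lit 0x8007d91524027ef2384f31680806247963a4), (.wt (nat_lit 11) (nat_lit 2) (nat_lit 0x8004fd0266aa24c3f26131692083f50a1541) (.st (nat_lit 942) (unp (nat_lit 7) (nat_lit 0x29f9368e305)) [] (.st (nat_lit 956) (unp (nat_lit 7) (nat_lit 0xeffaee204)) (unp (nat_lit 9) (nat_lit 0x552d36c03)) (.st (nat_lit 1013) (unp (nat_lit 7) (nat_lit 0x2fef0e304)) [] .nil))) (unp (nat_lit 7) (nat_lit 0x29f3768e405)) [])⟩)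
 (.nd (nat_lit 1017) (.lf ⟨nat_lit 1, nat_lit 956, nat_lit 941, (nat_lit 0x8004c137c51a0085f52f03f36e25a50c31c1), (nat_lit 0x8001ab5f46a601073067870b2f42890023df), (nat_lit 0x8001d71a90267b03f314339713a73a72b64b), (.wt (nat_lit 11) (nat_lit 2) (nat_lit 0x8006177823ef1e74930ae3f22950696b64d0) (.st (nat_lit 944) (unp (nat_lit 7) (nat_lit 0x7581768e405)) [] (.st (nat_lit 965) (unp (nat_lit 7) (nat_lit 0x5ffe403)) [] (.st (nat_lit 1013) (unp (nat_lit 7) (nat_lit 0x2fee6e104)) [] .nil))) (unp (nat_lit 7) (nat_lit 0x35e66e404)) [])⟩)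
 (.lf ⟨nat_lit 1, nat_lit 941, nat_lit 956, (nat_lit 0x8004000a17302ae04f73e6af0982b9002490), (nat_lit 0x8005f16bf0d966905c5055bc3f33ac1a91ed), (nat_lit 0x80024724b2a750565b4ff3d128a2f470b3d7), (.wt (nat_lit 0) (nat_lit 0) (nat_lit 0x8004c137c51a0085f52f03f36e25a50c31c1) (.st (nat_lit 1016) [] [] .nil) (unp (nat_lit 7) (nat_lit 0x3b06f5104)) [])⟩)))))
 (.nd (nat_lit 1023) (.nd (nat_lit 1020) (.nd (nat_lit 1019) (.lf ⟨nat_lit 1, nat_lit 956, nat_lit 956, (nat_lit 0x80005854c0892270233911e513b43c4585b3), (nat_lit 0x8000465f419739f13d22914356c53c1a90e4), (nat_lit 0x80054112d1001c13d12f01ed2d80b831a390), (.wt (nat_lit 11) (nat_lit 1) (nat_lit 0x8000936b00685f573e6bf2001696bc00230a) (.st (nat_lit 1013) (unp (nat_lit 7) (nat_lit 0x2eddf5f04)) [] (.st (nat_lit 970) (unp (nat_lit 7) (nat_lit 0xedf6fe304)) [] (.st (nat_lit 1013) (unp (nat_lit 7) (nat_lit 0x357716404)) [] .nil))) (unp (nat_lit 8)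 (nat_lit 0x2b80606304)) [])⟩)
 (.lf ⟨nat_lit 1, nat_lit 956, nat_lit 881, (nat_lit 0x8005c102352372b79e54c45a68551d068093), (nat_lit 0x80032e5a80205257963915b72a83642b96b6), (nat_lit 0x8000e97477124ff6bc15228a74f3917d9004), (.wt (nat_lit 11) (nat_lit 0) (nat_lit 0x80072b24c0a61743973e26712f40a56fc766) (.st (nat_lit 967) (unp (nat_lit 7) (nat_lit 0x72716f16405)) [] (.st (nat_lit 1015) (unp (nat_lit 7) (nat_lit 0xf33afe404)) [nat_lit 957] (.st (nat_lit 1017) (unp (nat_lit 7) (nat_lit 0x1c60ce03)) [] .nil))) (unp (nat_lit 8) (nat_lit 0x77805103)) [])⟩))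
 (.nd (nat_lit 1021) (.lf ⟨nat_lit 1, nat_lit 941, nat_lit 956, (nat_lit 0x8000587e93ef4c43e27821694f3040599091), (nat_lit 0x8001410737696691ab5f42816af72b093603), (nat_lit 0x8001696aa5bb0043f250b0c43642d80e93b9), (.wt (nat_lit 11) (nat_lit 2) (nat_lit 0x8000390236aa2f413b0893a465b4e46c5730) (.st (nat_lit 959) (unp (nat_lit 7) (nat_lit 0x3dfaf5004)) [] (.st (nat_lit 972) (unp (nat_lit 7) (nat_lit 0x59f66e004)) [nat_lit 928, nat_lit 929] (.st (nat_lit 1016) (unp (nat_lit 7) (nat_lit 0x96e6103)) [nat_lit 957] .nil))) (unp (nat_lit 7) (nat_lit 0xf536fe404)) [])⟩)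
 (.nd (nat_lit 1022) (.lf ⟨nat_lit 0, nat_lit 941, nat_lit 941, (nat_lit 0x8000b830a13b2475e74fd59928a7012953d7), one, (nat_lit 0x8003ed2a76dc0200332a8052227554259229), (.we (nat_lit 0) (nat_lit 0) (nat_lit 0x8000587e93ef4c43e27821694f3040599091) (.st (nat_lit 1020) [] [] (.st (nat_lit 1016) (unp (nat_lit 7) (nat_lit 0x57f6dd004)) [nat_lit 957] .nil)))⟩)
 (.lf ⟨nat_lit 1, nat_lit 927, nat_lit 956, (nat_lit 0x8000c453c2c80523d04e674f3f936652b51d), (nat_lit 0x8001ab0ae73e79b5032b924751d25b7d8769), (nat_lit 0x8006134c17692a740950b72b0c10014cb45e), (.wt (nat_lit 10) (nat_lit 0) (nat_lit 0x80005854c0892270233911e513b43c4585b3) (.st (nat_lit 1018) [] [] (.st (nat_lit 971) (unp (nat_lit 7) (nat_lit 0x2bf376fe405)) [] .nil)) (unp (nat_lit 7) (nat_lit 0x5be6dd104)) [])⟩))))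
 (.nd (nat_lit 1026) (.nd (nat_lit 1024) (.lf ⟨nat_lit 1, nat_lit 956, nat_lit 927, (nat_lit 0x80027150b6642380267122c87475f1673033), (nat_lit 0x80016924b2cf0896a65e73b968f660425747), (nat_lit 0x8002086bf02e15215e68f0fd24c1a804e004), (.wt (nat_lit 0) (nat_lit 0) (nat_lit 0x8000c453c2c80523d04e674f3f936652b51d) (.st (nat_lit 1022) [] [] .nil) (unp (nat_lit 7) (nat_lit 0x17f36e86405)) [])⟩)
 (.nd (nat_lit 1025) (.lf ⟨nat_lit 1, nat_lit 550, nat_lit 956, (nat_lit 0x8004935b744959e1aa6240a63a424c05269f), (nat_lit 0x8005bb27106853c24c3ef2eb43a0c30a673e), (nat_lit 0x8000b82ae2383df2a85176a61433e24cf52b), (.wt (nat_lit 10) (nat_lit 0) (nat_lit 0x8005a92eb25b6715252473646856fc0460a6) (.st (nat_lit 1019) [nat_lit 81, nat_lit 62] [] (.st (nat_lit 890) (unp (nat_lit 7) (nat_lit 0x1feed003)) [] .nil)) (unp (nat_lit 7) (nat_lit 0x27856f06305)) [])⟩)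
 (.lf ⟨nat_lit 1, nat_lit 881, nat_lit 939, (nat_lit 0x80040012d50b4770012f403924942a238599), (nat_lit 0x80043c0634e33e27a200805c3901522b9229), (nat_lit 0x8002551976af52515e0525bf1b40476aa098), (.wt (nat_lit 12) (nat_lit 3) (nat_lit 0x80068f5b30402385bf4026bf22d5ce58513b) (.st (nat_lit 940) (unp (nat_lit 8) (nat_lit 0xaab7ffe5d905)) [] (.st (nat_lit 956) (unp (nat_lit 7) (nat_lit 0x857306404)) [nat_lit 348, nat_lit 340] (.st (nat_lit 1019) [nat_lit 91, nat_lit 37] [] .nil))) (unp (nat_lit 7) (nat_lit 0x3efe6e004)) [])⟩)))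
 (.nd (nat_lit 1027) (.lf ⟨nat_lit 1, nat_lit 372, nat_lit 550, (nat_lit 0x80063811e4c46a85a522d39a3d017c2f95f1), (nat_lit 0x8006781a971246e38a2f409c3f254c11e673), (nat_lit 0x80056d1803d73a47d93ed4e443c63b0c4281), (.wt (nat_lit 11) (nat_lit 3) (nat_lit 0x80060317c0196c556d49d00237c3ac023517) (.st (nat_lit 951) (unp (nat_lit 7) (nat_lit 0xe8e2f5004)) [nat_lit 558, nat_lit 556] (.st (nat_lit 942) (unp (nat_lit 7) (nat_lit 0x17f73706305)) [nat_lit 1021] (.st (nat_lit 654) (unp (nat_lit 7) (nat_lit 0x4feaed004)) (unp (nat_lit 9) (nat_lit 0x592d57103)) .nil))) (unp (nat_lit 7) (nat_lit 0x77de103)) [])⟩)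
 (.nd (nat_lit 1028) (.lf ⟨nat_lit 1, nat_lit 550, nat_lit 372, (nat_lit 0x80076655458551d1523f36b03e21e711e3ed), (nat_lit 0x8004e60730685f14937e951768f32e1aa0a1), (nat_lit 0x8000a62d856c6bc7827696036176711801d7), (.wt (nat_lit 0) (nat_lit 0) (nat_lit 0x80063811e4c46a85a522d39a3d017c2f95f1) (.st (nat_lit 1026) (unp (nat_lit 7) (nat_lit 0x27816e8e405)) (unp (nat_lit 9) (nat_lit 0x5ef238f03)) .nil) (unp (nat_lit 7) (nat_lit 0x27f5368e405)) [])⟩)
 (.lf ⟨nat_lit 1, nat_lit 772, nat_lit 772, (nat_lit 0x8007ef0e829a43c3ac4e43f55f13903ed624), (nat_lit 0x8005f03f919727a24c45c28106846e3e3271), (nat_lit 0x8000081970a503966440229a4d07b01e73e2), (.wt (nat_lit 11) (nat_lit 3) (nat_lit 0x8002f039113d39a20816968513a50b6aa45c) (.st (nat_lit 946) (unp (nat_lit 7) (nat_lit 0x2a81730e305)) [] (.st (nat_lit 942) (unp (nat_lit 7) (nat_lit 0x67ee103)) [nat_lit 1021] (.st (nat_lit 772) (unp (nat_lit 7) (nat_lit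 0x1d817306305)) (unp (nat_lit 9) (nat_lit 0x552d16603)) .nil))) (unp (nat_lit 7) (nat_lit 0x54fe6d004)) [])⟩)))))))

noncomputable def qcT_1029 : Tr :=
  (.nd (nat_lit 1049) (.nd (nat_lit 1039) (.nd (nat_lit 1034) (.nd (nat_lit 1031) (.nd (nat_lit 1030) (.lf ⟨nat_lit 0, nat_lit 772, nat_lit 772, (nat_lit 0x8006aa5b752559d3d028a69f0082ae0022ab), one, (nat_lit 0x80011e1b40690802384573a460751a4d0168), (.cmp (nat_lit 1028) (nat_lit 1028) (unp (nat_lit 7) (nat_lit 0x6ae6003)) [nat_lit 785, nat_lit 776])⟩)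
 (.lf ⟨nat_lit 0, nat_lit 772, nat_lit 772, (nat_lit 0x80008027112e52b73a3ef0104933d0143391), one, (nat_lit 0x80002320006804e15e51d25552b22925928a), (.inv (nat_lit 775))⟩))
 (.nd (nat_lit 1032) (.lf ⟨nat_lit 0, nat_lit 772, nat_lit 772, (nat_lit 0x80064b12e2081e522d54c25b02e66030a26c), one, (nat_lit 0x80027a54728a30a6382952a774f13b0025f1), (.prod (unp (nat_lit 11) (nat_lit 0x101a02b0703)))⟩)
 (.nd (nat_lit 1033) (.lf ⟨nat_lit 0, nat_lit 772, nat_lit 772, (nat_lit 0x8000c43970d92f43ed4e43f30465196fc3ac), one, (nat_lit 0x80027a0891690e92380b82f028168f678068), (.prod [nat_lit 784, nat_lit 1031])⟩)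
 (.lf ⟨nat_lit 0, nat_lit 772, nat_lit 772, (nat_lit 0x80005c52512e3d722724725902645861756d), one, (nat_lit 0x8004003ed16856d49051d12d1e50bc5ef53c), (.inv (nat_lit 786))⟩))))
 (.nd (nat_lit 1036) (.nd (nat_lit 1035) (.lf ⟨nat_lit 0, nat_lit 772, nat_lit 772, (nat_lit 0x8000c42812eb2d84e42f93f374f0044c6080), one, (nat_lit 0x80074708943c28c0404775a82810801ed3e2), (.prod (unp (nat_lit 11) (nat_lit 0x102603b0503)))⟩)
 (.lf ⟨nat_lit 0, nat_lit 772, nat_lit 772, (nat_lit 0x8006380d954d00140527831a74700423a2d8), one, (nat_lit 0x80013d3ef4990040404577011e728c3643e3), (.prod [nat_lit 1034, nat_lit 1034])⟩))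
 (.nd (nat_lit 1037) (.lf ⟨nat_lit 0, nat_lit 485, nat_lit 485, (nat_lit 0x8004ff3d00044cb79e70128102310000270b), one, (nat_lit 0x80053c5233661a86aa2460040080103b95a5), (.cmp (nat_lit 790) (nat_lit 790) (unp (nat_lit 7) (nat_lit 0xecdef6204)) [nat_lit 1032, nat_lit 779])⟩)
 (.nd (nat_lit 1038) (.lf ⟨nat_lit 0, nat_lit 485, nat_lit 485, (nat_lit 0x8004005bb49015e7d842503300424700202e), one, (nat_lit 0x8002714cb2272ce4d052524b37c3df67312e), (.prod (unp (nat_lit 11) (nat_lit 0x7c8fac0c03)))⟩)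
 (.lf ⟨nat_lit 0, nat_lit 485, nat_lit 485, (nat_lit 0x8002716dc5b34cf0e874f49923a68f59e3b9), one, (nat_lit 0x8005a97821524cf40945812612d4c62460ae), (.prod [nat_lit 495, nat_lit 1037])⟩)))))
 (.nd (nat_lit 1044) (.nd (nat_lit 1041) (.nd (nat_lit 1040) (.lf ⟨nat_lit 0, nat_lit 485, nat_lit 485, (nat_lit 0x80076606322e10043a1e70e904013a3645b3), one, (nat_lit 0x8002713b437c13b5bb59926c3d714167311e), (.prod [nat_lit 499, nat_lit 1037])⟩)
 (.lf ⟨nat_lit 0, nat_lit 485, nat_lit 485, (nat_lit 0x8005a860723807374728109c31a0521aa69c), one, (nat_lit 0x8005c13f50231b42b545804f0527011c30b8), (.prod [nat_lit 746, nat_lit 1037])⟩))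
 (.nd (nat_lit 1042) (.lf ⟨nat_lit 0, nat_lit 485, nat_lit 485, (nat_lit 0x8005416032eb4cf7b06dc04f010547143046), one, (nat_lit 0x8002713df25b02370054d09c1d728a673152), (.prod [nat_lit 1037, nat_lit 506])⟩)
 (.nd (nat_lit 1043) (.lf ⟨nat_lit 0, nat_lit 485, nat_lit 485, (nat_lit 0x8004c12d87d85f10b831a56c0330080c33f9), one, (nat_lit 0x8000e439143a03349d3b456c5f11414e663b), (.prod [nat_lit 1039, nat_lit 499])⟩)
 (.lf ⟨nat_lit 0, nat_lit 485, nat_lit 485, (nat_lit 0x8004933d13df4900104582897d80800915f4), one, (nat_lit 0x80065b0935f11681d728159d63b7d92596bc), (.prod [nat_lit 1039, nat_lit 1037])⟩))))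
 (.nd (nat_lit 1046) (.nd (nat_lit 1045) (.lf ⟨nat_lit 0, nat_lit 485, nat_lit 485, (nat_lit 0x8005ef3d01a93e20984cb32e11e7e91ed295), one, (nat_lit 0x80076656d27845839a79632e0e85b33646dc), (.prod [nat_lit 1040, nat_lit 1037])⟩)
 (.lf ⟨nat_lit 0, nat_lit 485, nat_lit 485, (nat_lit 0x8006381d23d062002e7823bc63b16823a59e), one, (nat_lit 0x8005ef6a86fc0732eb2956031a90e91ed7b3), (.prod [nat_lit 1041, nat_lit 745])⟩))
 (.nd (nat_lit 1047) (.lf ⟨nat_lit 0, nat_lit 485, nat_lit 485, (nat_lit 0x8006381267b038a6bf7a26a804f5f123a17c), one, (nat_lit 0x8000e412e2292f03f559d3390084c44e6390), (.prod [nat_lit 1042, nat_lit 506])⟩)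
 (.nd (nat_lit 1048) (.lf ⟨nat_lit 0, nat_lit 485, nat_lit 485, (nat_lit 0x80064b5233d011e06832e2c874f5b7249295), one, (nat_lit 0x8005a91a809c73e4e370b0631c13391ab6b0), (.prod [nat_lit 1045, nat_lit 499])⟩)
 (.lf ⟨nat_lit 0, nat_lit 485, nat_lit 485, (nat_lit 0x80005c25b3d02b90462291744f32a745e70b), one, (nat_lit 0x8005c127869f2c82ce59e6601ef7e91c3503), (.prod [nat_lit 1047, nat_lit 499])⟩))))))
 (.nd (nat_lit 1059) (.nd (nat_lit 1054) (.nd (nat_lit 1051) (.nd (nat_lit 1050) (.lf ⟨nat_lit 0, nat_lit 485, nat_lit 485, (nat_lit 0x8000582463df37954c05228956d2f445a38a), one, (nat_lit 0x8000e437c5f13d11e73d759d1d27d94e628a), (.prod (unp (nat_lit 11) (nat_lit 0x7e6069f403)))⟩)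
 (.lf ⟨nat_lit 0, nat_lit 485, nat_lit 485, (nat_lit 0x8000581d704e16869c31a2896642b545a24b), one, (nat_lit 0x8000e42464cb17c52302359d7d82274e64e3), (.prod [nat_lit 503, nat_lit 1049])⟩))
 (.nd (nat_lit 1052) (.lf ⟨nat_lit 0, nat_lit 485, nat_lit 485, (nat_lit 0x8005411b413b17c5055f539f25b425143490), one, (nat_lit 0x8005ef1d769f6070d90e84582f939f1ed3f5), (.prod [nat_lit 748, nat_lit 1049])⟩)
 (.nd (nat_lit 1053) (.lf ⟨nat_lit 0, nat_lit 485, nat_lit 485, (nat_lit 0x80064b22e4cb45724c2f95f51c1023249008), one, (nat_lit 0x8000e41d700874768f1002cf2384094e64cb), (.prod [nat_lit 1049, nat_lit 506])⟩)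
 (.lf ⟨nat_lit 0, nat_lit 485, nat_lit 485, (nat_lit 0x80064b37c5993f954c7a25f52c86712490a6), one, (nat_lit 0x8000e42003df3f930a2f42cf79e25b4e65f0), (.prod [nat_lit 1050, nat_lit 506])⟩))))
 (.nd (nat_lit 1056) (.nd (nat_lit 1055) (.lf ⟨nat_lit 0, nat_lit 485, nat_lit 485, (nat_lit 0x80065b20015e3797d905204e1ef03325959d), one, (nat_lit 0x80027137c59d06931a12e5f109369c67315e), (.prod [nat_lit 1052, nat_lit 503])⟩)
 (.lf ⟨nat_lit 0, nat_lit 485, nat_lit 485, (nat_lit 0x8004c159e1e73ac5f115e76973013b0c369c), one, (nat_lit 0x8005a97b740951729a4770ae09c7691ab45c), (.prod [nat_lit 1052, nat_lit 747])⟩))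
 (.nd (nat_lit 1057) (.lf ⟨nat_lit 0, nat_lit 485, nat_lit 485, (nat_lit 0x80049370b7a273a3b43df3b95a51690910d9), one, (nat_lit 0x8005c17b354c6af3df6e21ef0987011c3519), (.prod [nat_lit 1054, nat_lit 747])⟩)
 (.nd (nat_lit 1058) (.lf ⟨nat_lit 0, nat_lit 485, nat_lit 485, (nat_lit 0x8004001a44d026c0465a566438a2ce002052), one, (nat_lit 0x8005a92ae24b61339f4903f55853b41ab425), (.prod (unp (nat_lit 11) (nat_lit 0xbba0caeb03)))⟩)
 (.lf ⟨nat_lit 0, nat_lit 485, nat_lit 485, (nat_lit 0x8005a85470733ac52512e6247013661aa519), one, (nat_lit 0x8005ef1a41d20e96fc1263660333f21ed769), (.prod [nat_lit 751, nat_lit 1057])⟩)))))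
 (.nd (nat_lit 1064) (.nd (nat_lit 1061) (.nd (nat_lit 1060) (.lf ⟨nat_lit 0, nat_lit 485, nat_lit 485, (nat_lit 0x8006381a41001681a82f03b42d809823a339), one, (nat_lit 0x8000c432e3a46af4cb14139a1696644c674f), (.prod [nat_lit 752, nat_lit 1057])⟩)
 (.lf ⟨nat_lit 0, nat_lit 485, nat_lit 485, (nat_lit 0x8005c132e70063b6fc03373e1266bf1c30ae), one, (nat_lit 0x8004932ae4052b904638a5bb5a573e0916a8), (.prod [nat_lit 753, nat_lit 1057])⟩))
 (.nd (nat_lit 1062) (.lf ⟨nat_lit 0, nat_lit 485, nat_lit 485, (nat_lit 0x8005412083d02780680202c80082f41432f9), one, (nat_lit 0x8005ef3ef09c5bf4e316906314159d1ed477), (.prod [nat_lit 1057, nat_lit 506])⟩)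
 (.nd (nat_lit 1063) (.lf ⟨nat_lit 0, nat_lit 485, nat_lit 485, (nat_lit 0x8004932083d73f97e90332cf12625b09156c), one, (nat_lit 0x80054137c5990bc3df4c45f52eb3a71433e3), (.prod [nat_lit 1058, nat_lit 1057])⟩)
 (.lf ⟨nat_lit 0, nat_lit 485, nat_lit 485, (nat_lit 0x8005ef1d74d02b909304f6176607821ed56d), one, (nat_lit 0x8006383ef1d263b02e5f112d4e43bc23a56c), (.prod [nat_lit 1059, nat_lit 1057])⟩))))
 (.nd (nat_lit 1067) (.nd (nat_lit 1065) (.lf ⟨nat_lit 0, nat_lit 485, nat_lit 485, (nat_lit 0x8004c17b713a17c6bc04f59d6602270c36a8), one, (nat_lit 0x8004001d704e50328a5852894902c8002620), (.prod [nat_lit 1062, nat_lit 506])⟩)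
 (.nd (nat_lit 1066) (.lf ⟨nat_lit 1, nat_lit 973, nat_lit 825, (nat_lit 0x80063850b0396bc13a04f3665b322e2f9143), (nat_lit 0x8003f330a11e7825990fd45743a7b3259238), (nat_lit 0x80052b7d866049024727a08004e73a69f64b), (.wt (nat_lit 11) (nat_lit 3) (nat_lit 0x8003e22717b359d15e74f1416b00203f2685) (.st (nat_lit 949) (unp (nat_lit 7) (nat_lit 0xe0def6104)) [nat_lit 827] (.st (nat_lit 942) (unp (nat_lit 7) (nat_lit 0x96fe303)) [nat_lit 1021] (.st (nat_lit 973) (unp (nat_lit 7) (nat_lit 0x20ff6e86305)) [nat_lit 364, nat_lit 340] .nil))) (unp (nat_lit 7) (nat_lit 0x74fd7706305)) [])⟩)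
 (.lf ⟨nat_lit 1, nat_lit 550, nat_lit 550, (nat_lit 0x80040054d1743ac5996247300016690026a6), (nat_lit 0x8002cf4e33901695253ed60368f5e7366512), (nat_lit 0x8004e43f528c0a50c36fc5410890461a8617), (.wt (nat_lit 11) (nat_lit 3) (nat_lit 0x80033959d2471a82cf79e3bc0a145769c2f0) (.st (nat_lit 955) (unp (nat_lit 7) (nat_lit 0x4ffe6d104)) [nat_lit 557, nat_lit 556] (.st (nat_lit 942) (unp (nat_lit 7) (nat_lit 0x2feefe304)) [nat_lit 1021] (.st (nat_lit 566) (unp (nat_lit 7) (nat_lit 0x29fb6f0e405)) [nat_lit 362, nat_lit 346] .nil))) (unp (nat_lit 7) (nat_lit 0x6b0e403)) [])⟩)))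
 (.nd (nat_lit 1068) (.lf ⟨nat_lit 1, nat_lit 372, nat_lit 881, (nat_lit 0x80063869c4f331a1681a404f4e659d6606e2), (nat_lit 0x8003f268f4906381a808942538a624554091), (nat_lit 0x8004cb30a1e51c34c46693b464b55573e0b8), (.wt (nat_lit 11) (nat_lit 3) (nat_lit 0x8002a822e12e29a5bb5a546e3b956d2712ce) (.st (nat_lit 953) (unp (nat_lit 7) (nat_lit 0x32fefe304)) [nat_lit 882] (.st (nat_lit 942) (unp (nat_lit 7) (nat_lit 0x670e403)) [nat_lit 1021] (.st (nat_lit 655) (unp (nat_lit 7) (nat_lit 0x2c7f7a86405)) (unp (nat_lit 9) (nat_lit 0x592d57003)) .nil))) (unp (nat_lit 7) (nat_lit 0x2cf572fe305)) [])⟩)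
 (.nd (nat_lit 1069) (.lf ⟨nat_lit 0, nat_lit 372, nat_lit 939, (nat_lit 0x8002f07ef68f24911e39a1e705c5540d913b), one, (nat_lit 0x8001a80262594e66693e27b751a0c47d917c), (.we (nat_lit 0) (nat_lit 0) (nat_lit 0x80063869c4f331a1681a404f4e659d6606e2) (.st (nat_lit 1067) (unp (nat_lit 7) (nat_lit 0x33768e404)) [nat_lit 402, nat_lit 393] (.st (nat_lit 1025) (unp (nat_lit 7) (nat_lit 0x1f4afb06305)) [nat_lit 882, nat_lit 885] .nil)))⟩)
 (.lf ⟨nat_lit 0, nat_lit 939, nat_lit 372, (nat_lit 0x8003b459e7820194d005250543a5e731a5f4), one, (nat_lit 0x80005c3f31d70892555194050472d85c14e4), (.inv (nat_lit 1068))⟩)))))))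

noncomputable def qcT_1070 : Tr :=
  (.nd (nat_lit 1090) (.nd (nat_lit 1080) (.nd (nat_lit 1075) (.nd (nat_lit 1072) (.nd (nat_lit 1071) (.lf ⟨nat_lit 2, nat_lit 372, nat_lit 339, (nat_lit 0x8005e72ae15e2f906824c2eb2470391e5010), (nat_lit 0x80037c09c6c56a61a81ab5b35bf4e30525a5), (nat_lit 0x8001a80262594e66693e27b751a0c47d917c), (.ren (nat_lit 940) (unp (nat_lit 8) (nat_lit 0xa9f1e5d99d05)) [nat_lit 1069] [])⟩)
 (.lf ⟨nat_lit 2, nat_lit 339, nat_lit 372, (nat_lit 0x8005e75bc3e213a0b85172f97e93f31e522e), (nat_lit 0x8002f07ef68f24911e39a1e705c5540d913b), (nat_lit 0x80005c3f31d70892555194050472d85c14e4), (.ren (nat_lit 939) [] [] [nat_lit 1069])⟩))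
 (.nd (nat_lit 1073) (.lf ⟨nat_lit 0, nat_lit 0, nat_lit 4, (nat_lit 0x8007b04e40e81804cb0a10331ef766769523), one, (nat_lit 0x8007b04e40e81804cb0a10331ef766769523), (.we (nat_lit 23) (nat_lit 0) one (.sp (.st (nat_lit 485) (unp (nat_lit 8) (nat_lit 0xbcdde5d99c05)) (unp (nat_lit 8) (nat_lit 0xcbe8eaa104)) (.st (nat_lit 508) (unp (nat_lit 8) (nat_lit 0xecb4dee5d99d06)) (unp (nat_lit 11) (nat_lit 0x5d4bb6139fa04)) (.st (nat_lit 272) (unp (nat_lit 8) (nat_lit 0xecb5dde5d905)) [] (.sp .nil))))))⟩)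
 (.nd (nat_lit 1074) (.lf ⟨nat_lit 0, nat_lit 0, nat_lit 6, (nat_lit 0x8004095035ce2a81ed0a138a5bf16833925b), one, (nat_lit 0x8004095035ce2a81ed0a138a5bf16833925b), (.we (nat_lit 25) (nat_lit 0) one (.sp (.st (nat_lit 485) (unp (nat_lit 8) (nat_lit 0xbcdde5d99c05)) (unp (nat_lit 8) (nat_lit 0xcbe8eaa104)) (.st (nat_lit 508) (unp (nat_lit 8) (nat_lit 0xecdee5d99d05)) (unp (nat_lit 11) (nat_lit 0x3daba576c2704)) (.st (nat_lit 272) (unp (nat_lit 8) (nat_lit 0xec9adde5d99c06)) [] (.sp .nil))))))⟩)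
 (.lf ⟨nat_lit 1, nat_lit 849, nat_lit 973, (nat_lit 0x80063805204e1a96a65f07304572a723a4d0), (nat_lit 0x8005993f23d723a2d80206711685e773e555), (nat_lit 0x8006fc3f574f5bb1c350b16946e4584490e8), (.wt (nat_lit 11) (nat_lit 3) (nat_lit 0x8003ed26c13d0104c146e7d82f402e247458) (.st (nat_lit 979) (unp (nat_lit 7) (nat_lit 0x74f33706305)) [] (.st (nat_lit 947) (unp (nat_lit 7) (nat_lit 0x20837706305)) [nat_lit 1021] (.st (nat_lit 920) (unp (nat_lit 7) (nat_lit 0x59edf6304)) [nat_lit 913, nat_lit 914] .nil))) (unp (nat_lit 7) (nat_lit 0x7283730e305)) [])⟩))))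
 (.nd (nat_lit 1077) (.nd (nat_lit 1076) (.lf ⟨nat_lit 1, nat_lit 372, nat_lit 973, (nat_lit 0x8002a80234774cb2ce28a1c16a604e6aa449), (nat_lit 0x80028a15e5a551d1ab03904f040200100093), (nat_lit 0x8004027695b75121682eb2816a80e93ed020), (.wt (nat_lit 11) (nat_lit 3) (nat_lit 0x8001692a71e74e42a830a5543f94c65f4603) (.st (nat_lit 976) (unp (nat_lit 7) (nat_lit 0xe4e2e6304)) [] (.st (nat_lit 947) (unp (nat_lit 7) (nat_lit 0x206efa8e405)) [nat_lit 1021] (.st (nat_lit 922) (unp (nat_lit 7) (nat_lit 0x5ffe003)) [] .nil))) (unp (nat_lit 7) (nat_lit 0xe3f2fe404)) [])⟩)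
 (.lf ⟨nat_lit 1, nat_lit 973, nat_lit 372, (nat_lit 0x8001ab5ce04f13b53c45c30a2f04055a9449), (nat_lit 0x8000fd5f504f0473f545a0336077b00196a8), (nat_lit 0x80065b1c304015e4e351200402605269f59e), (.wt (nat_lit 0) (nat_lit 0) (nat_lit 0x8002a80234774cb2ce28a1c16a604e6aa449) (.st (nat_lit 1075) (unp (nat_lit 7) (nat_lit 0x5905f5004)) [nat_lit 402, nat_lit 375] .nil) (unp (nat_lit 7) (nat_lit 0x1fdf5103)) [])⟩))
 (.nd (nat_lit 1078) (.lf ⟨nat_lit 1, nat_lit 817, nat_lit 985, (nat_lit 0x8002a84cb37908029525972b3f5617669685), (nat_lit 0x8002f959e2cf2276bf26c6853ed0081005f0), (nat_lit 0x8001ef54173e0a51685050230a64e645c2ab), (.wt (nat_lit 11) (nat_lit 3) (nat_lit 0x8005f55413644ff05268f06373074f7b3397) (.st (nat_lit 988) (unp (nat_lit 8) (nat_lit 0x27805e6004)) [] (.st (nat_lit 989) (unp (nat_lit 7) (nat_lit 0x174afa86305)) [nat_lit 1021] (.st (nat_lit 1005) (unp (nat_lit 7) (nat_lit 0xe10b06304))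 [] .nil))) (unp (nat_lit 7) (nat_lit 0x778172fe405)) [])⟩)
 (.nd (nat_lit 1079) (.lf ⟨nat_lit 0, nat_lit 817, nat_lit 817, (nat_lit 0x8005f04493e212d1ed5bb7696dc0c43d00c1), one, (nat_lit 0x8000631691a44e30e439f1c156c7d82c85b3), (.we (nat_lit 0) (nat_lit 0) (nat_lit 0x8002a84cb37908029525972b3f5617669685) (.st (nat_lit 1077) (unp (nat_lit 7) (nat_lit 0xb616103)) [nat_lit 820, nat_lit 823] (.st (nat_lit 1005) (unp (nat_lit 7) (nat_lit 0xeff1f6104)) [] .nil)))⟩)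
 (.lf ⟨nat_lit 0, nat_lit 817, nat_lit 817, (nat_lit 0x80040079e59d08004004e4e350b16940209c), one, (nat_lit 0x80024b3d06dc37922e40565b04f7d80025b3), (.prod [nat_lit 821, nat_lit 1078])⟩)))))
 (.nd (nat_lit 1085) (.nd (nat_lit 1082) (.nd (nat_lit 1081) (.lf ⟨nat_lit 0, nat_lit 817, nat_lit 817, (nat_lit 0x8002466dc0693b91ed09824b4495e72cf255), one, (nat_lit 0x80060722e5552552716bc0c12080bc31a3d7), (.prod [nat_lit 1078, nat_lit 1012])⟩)
 (.lf ⟨nat_lit 0, nat_lit 817, nat_lit 817, (nat_lit 0x8002a850b61730a15e56c1c179e554402208), one, (nat_lit 0x8004fd19722d4cf16902665b72b0bc0023d7), (.prod [nat_lit 1079, nat_lit 1012])⟩))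
 (.nd (nat_lit 1083) (.lf ⟨nat_lit 0, nat_lit 817, nat_lit 817, (nat_lit 0x8006b000824b2490400980692000bc1802c8), one, (nat_lit 0x8001a928a2892276605031b44054096a85a8), (.prod [nat_lit 1080, nat_lit 1078])⟩)
 (.nd (nat_lit 1084) (.lf ⟨nat_lit 0, nat_lit 817, nat_lit 817, (nat_lit 0x8006033df5052a70ae45c3e31d7052620295), one, (nat_lit 0x80013d4255f11ab20068f2381264092c85a8), (.prod [nat_lit 1081, nat_lit 1078])⟩)
 (.lf ⟨nat_lit 0, nat_lit 817, nat_lit 817, (nat_lit 0x8005bb6aa1a43a433916939a4ff4003df295), one, (nat_lit 0x80027a5b35f10e864b2080d952b53c2592f9), (.cmp (nat_lit 1014) (nat_lit 1014) (unp (nat_lit 7) (nat_lit 0x2a4afb0e405)) (unp (nat_lit 11) (nat_lit 0x10ed99bf403)))⟩))))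
 (.nd (nat_lit 1087) (.nd (nat_lit 1086) (.lf ⟨nat_lit 0, nat_lit 817, nat_lit 817, (nat_lit 0x80045c1d728a2492892b51523df058141001), one, (nat_lit 0x80002308910005263850324b7a25f54f35f0), (.inv (nat_lit 822))⟩)
 (.lf ⟨nat_lit 0, nat_lit 817, nat_lit 817, (nat_lit 0x8005e77e922e3f93641682d85bc45c008295), one, (nat_lit 0x8002a873a5f14cb03372b67328143c6a83f9), (.prod [nat_lit 1084, nat_lit 1085])⟩))
 (.nd (nat_lit 1088) (.lf ⟨nat_lit 0, nat_lit 817, nat_lit 817, (nat_lit 0x8005e73a722e0800400bc3e23660981e52c8), one, (nat_lit 0x80054159d2891ef69c6fc6e20267b7143554), (.prod (unp (nat_lit 11) (nat_lit 0xfce1f33303)))⟩)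
 (.nd (nat_lit 1089) (.lf ⟨nat_lit 0, nat_lit 817, nat_lit 817, (nat_lit 0x8000fd7a24e330a39767106873e49d4ff2c8), one, (nat_lit 0x80054153c28913d1973ac13b50554d143004), (.prod [nat_lit 1012, nat_lit 1087])⟩)
 (.lf ⟨nat_lit 1, nat_lit 881, nat_lit 372, (nat_lit 0x80040012d50b4770012f403924942a238599), (nat_lit 0x8004776a65ef6784c461716953c6735a57b7), (nat_lit 0x80039f6a65852ae0d93913a429a1a83b94cb), (.ren (nat_lit 1025) [] [] [nat_lit 1069])⟩))))))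
 (.nd (nat_lit 1100) (.nd (nat_lit 1095) (.nd (nat_lit 1092) (.nd (nat_lit 1091) (.lf ⟨nat_lit 1, nat_lit 536, nat_lit 372, (nat_lit 0x80040054d59d5052ce2ae4cb04e28a002397), (nat_lit 0x80079b39002e3b44026714cb1d74d00a128a), (nat_lit 0x80045a2ab76605c54c6b629a63b1ef5f122e), (.wt (nat_lit 12) (nat_lit 1) (nat_lit 0x80063811e4c46a85a522d39a3d017c2f95f1) (.st (nat_lit 1026) (unp (nat_lit 7) (nat_lit 0x27816e8e405)) (unp (nat_lit 9) (nat_lit 0x5ef238f03)) (.st (nat_lit 560) (unp (nat_lit 7) (nat_lit 0x5296de304)) [] (.st (nat_lit 536) (unp (nat_lit 8) (nat_lit 0xaef2fae6d99c06)) (unp (nat_lit 8) (nat_lit 0xecd1dfeadba206)) .nil))) (unp (nat_lit 7) (nat_lit 0x41eeed104)) [])⟩)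
 (.lf ⟨nat_lit 0, nat_lit 536, nat_lit 2, (nat_lit 0x80054d24b5bf4cb0a13f97a26a840250b169), one, (nat_lit 0x8003d165b7826af6c567326c4c11c1397174), (.we (nat_lit 0) (nat_lit 0) (nat_lit 0x80040054d59d5052ce2ae4cb04e28a002397) (.st (nat_lit 1090) (unp (nat_lit 7) (nat_lit 0x55e9f6404)) (unp (nat_lit 10) (nat_lit 0x8961986e2304)) (.st (nat_lit 647) (unp (nat_lit 7) (nat_lit 0x6f7a86304)) [] .nil)))⟩))
 (.nd (nat_lit 1093) (.lf ⟨nat_lit 1, nat_lit 791, nat_lit 867, (nat_lit 0x8000197303e20464022ce40551d3df4e42eb), (nat_lit 0x80069f0a17965bf30a1d70c373a701457400), (nat_lit 0x80040028c6aa2492cf52b60740916963822e), (.wt (nat_lit 11) (nat_lit 3) (nat_lit 0x80024750551722712e6af45c69f4023904d0) (.st (nat_lit 880) (unp (nat_lit 8) (nat_lit 0x72805e5104)) [] (.st (nat_lit 780) (unp (nat_lit 7) (nat_lit 0x4afb06404)) [nat_lit 1035] (.st (nat_lit 791) (unp (nat_lit 7) (nat_lit 0x4cfede004)) [nat_lit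 359, nat_lit 343] .nil))) (unp (nat_lit 7) (nat_lit 0x1e716403)) [])⟩)
 (.nd (nat_lit 1094) (.lf ⟨nat_lit 1, nat_lit 867, nat_lit 791, (nat_lit 0x8001d25553ac12645c6dc7470016030917a2), (nat_lit 0x8003bc2f43663a76131ed3910985bc3f37ef), (nat_lit 0x8004001c30d97d91686643975990894c4019), (.wt (nat_lit 0) (nat_lit 0) (nat_lit 0x8000197303e20464022ce40551d3df4e42eb) (.st (nat_lit 1092) (unp (nat_lit 7) (nat_lit 0x77cbe03)) [nat_lit 800, nat_lit 793] .nil) (unp (nat_lit 7) (nat_lit 0x2dfd7a8e405)) [])⟩)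
 (.lf ⟨nat_lit 1, nat_lit 867, nat_lit 567, (nat_lit 0x8006a605c0e91412815250d949d6fc259033), (nat_lit 0x80067140273e09c6b63d73b90911b46a854c), (nat_lit 0x8001d23641261e750b42a3e24026247e956c), (.wt (nat_lit 11) (nat_lit 3) (nat_lit 0x8005a849d53c79b5194c45035b32463902eb) (.st (nat_lit 789) (unp (nat_lit 7) (nat_lit 0x33fadd004)) (unp (nat_lit 10) (nat_lit 0x24492e4e03)) (.st (nat_lit 780) (unp (nat_lit 7) (nat_lit 0x1aff7316405)) [nat_lit 1034, nat_lit 784] (.st (nat_lit 867) (unp (nat_lit 7) (nat_lit 0x5bef0e304)) [nat_lit 369] .nil))) (unp (nat_lit 7) (nat_lit 0x26f33b0e405)) [])⟩))))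
 (.nd (nat_lit 1097) (.nd (nat_lit 1096) (.lf ⟨nat_lit 1, nat_lit 567, nat_lit 867, (nat_lit 0x8005e724c0730101006852476a81ed5232cf), (nat_lit 0x80070142549317437938a7a249d1ef6aa0a5), (nat_lit 0x8004050105bf4582eb7692273e27b352b390), (.wt (nat_lit 0) (nat_lit 0) (nat_lit 0x8006a605c0e91412815250d949d6fc259033) (.st (nat_lit 1094) (unp (nat_lit 7) (nat_lit 0x6f7b16304)) [nat_lit 879, nat_lit 872] .nil) [nat_lit 78, nat_lit 116] [])⟩)
 (.lf ⟨nat_lit 1, nat_lit 567, nat_lit 567, (nat_lit 0x8005e70a50473a40523792460bc5ce3bc3b9), (nat_lit 0x8000c47005bc2ae3b478224949013a5c11e7), (nat_lit 0x8004e313d1433391744e46fc08900164b004), (.wt (nat_lit 11) (nat_lit 2) (nat_lit 0x8004020106dc24c2b953c59e2c80081432cf) (.st (nat_lit 1095) (unp (nat_lit 7) (nat_lit 0x3afe75f04)) (unp (nat_lit 10) (nat_lit 0x24492efe03)) (.st (nat_lit 880) (unp (nat_lit 8) (nat_lit 0x1d803e506305)) [] (.st (nat_lit 788) (unp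 (nat_lit 7) (nat_lit 0x2f0addf04)) [nat_lit 1035] .nil))) (unp (nat_lit 7) (nat_lit 0x58fee6404)) [])⟩))
 (.nd (nat_lit 1098) (.lf ⟨nat_lit 2, nat_lit 485, nat_lit 485, (nat_lit 0x80000165b4cf3f530a4d04c46a632e39050b), (nat_lit 0x8002894c43b91001b404e43a0390bc5ce1aa), (nat_lit 0x8003a405c14125b56d36422e2f45bf07343c), (.wt (nat_lit 12) (nat_lit 0) (nat_lit 0x8006b00737b708952b55431a23827a4c113b) (.st (nat_lit 769) (unp (nat_lit 7) (nat_lit 0x4b6e8e304)) [] (.st (nat_lit 1096) (unp (nat_lit 7) (nat_lit 0x20857b0e305)) (unp (nat_lit 10) (nat_lit 0x9124b93afe04)) (.st (nat_lit 764) (unp (nat_lit 7) (nat_lit 0x536efe304)) [] .nil))) (unp (nat_lit 8) (nat_lit 0xeef4f8e59d05)) [])⟩)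
 (.nd (nat_lit 1099) (.lf ⟨nat_lit 0, nat_lit 0, nat_lit 11, (nat_lit 0x80069c2002a750531a6c524b5b70c339f701), one, (nat_lit 0x80069c2002a750531a6c524b5b70c339f701), (.we (nat_lit 30) (nat_lit 0) one (.sp (.st (nat_lit 485) (unp (nat_lit 8) (nat_lit 0xbcdde5d99c05)) (unp (nat_lit 8) (nat_lit 0xcbe8eaa104)) (.st (nat_lit 1097) (unp (nat_lit 8) (nat_lit 0xeeb8ffd904)) (unp (nat_lit 11) (nat_lit 0x3cd03a09c2504)) (.st (nat_lit 1097) (unp (nat_lit 8) (nat_lit 0xecf1dd9d04)) (unp (nat_lit 11) (nat_lit 0x1e63df0517642705)) (.st (nat_lit 508) (unp (nat_lit 8) (nat_lit 0xbee6d99d04)) [nat_lit 507, nat_lit 745] (.st (nat_lit 272) (unp (nat_lit 8) (nat_lit 0xbfe6d99c04)) [] (.sp .nil))))))))⟩)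
 (.lf ⟨nat_lit 2, nat_lit 2, nat_lit 2, (nat_lit 0x8002a80a125b3ef69c2293ac5f452b6aa180), (nat_lit 0x8005b309156c7a224c24b7120c33f95b75a9), (nat_lit 0x8003d165b7826af6c567326c4c11c1397174), (.ren (nat_lit 536) [] [] [nat_lit 1091])⟩)))))
 (.nd (nat_lit 1105) (.nd (nat_lit 1102) (.nd (nat_lit 1101) (.lf ⟨nat_lit 0, nat_lit 0, nat_lit 12, (nat_lit 0x8004fd44951d5f401022e2eb23a425255058), one, (nat_lit 0x8004fd44951d5f401022e2eb23a425255058), (.we (nat_lit 31) (nat_lit 0) one (.sp (.st (nat_lit 485) (unp (nat_lit 8) (nat_lit 0xbcdde5d99c05)) (unp (nat_lit 8) (nat_lit 0xcbe8eaa104)) (.st (nat_lit 1097) (unp (nat_lit 8) (nat_lit 0xecb8dee5d99d06)) (unp (nat_lit 11) (nat_lit 0x1e63df0620dc2105)) (.st (nat_lit 508) [nat_lit 156, nat_lit 189] (unp (nat_lit 11) (nat_lit 0xf31ef825082121fb06)) (.st (nat_lit 1099) (unp (nat_lit 8) (nat_lit 0x8e9be3d904)) (unp (nat_lit 8) (nat_lit 0xc6e8e9dba105))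 (.st (nat_lit 485) (unp (nat_lit 8) (nat_lit 0xab90fbe5d99d06)) (unp (nat_lit 9) (nat_lit 0xec50435d4a205)) (.st (nat_lit 508) (unp (nat_lit 8) (nat_lit 0xb7dee6d904)) (unp (nat_lit 11) (nat_lit 0xf31f0827075781fa06)) (.st (nat_lit 272) (unp (nat_lit 8) (nat_lit 0x9adee6d99d05)) [] (.sp .nil))))))))))⟩)
 (.lf ⟨nat_lit 0, nat_lit 0, nat_lit 20, one, one, one, (.we (nat_lit 39) (nat_lit 0) one (.sp (.st (nat_lit 336) [] [] (.st (nat_lit 338) [nat_lit 25] [] (.st (nat_lit 485) (unp (nat_lit 8) (nat_lit 0xbcdd9c03)) (unp (nat_lit 8) (nat_lit 0xc4d5e8eadb05)) (.st (nat_lit 1097) (unp (nat_lit 8) (nat_lit 0xeeb5f7e69c05)) (unp (nat_lit 11) (nat_lit 0x3cd03a09c2504)) (.st (nat_lit 508) (unp (nat_lit 8) (nat_lit 0xdde6d99c04)) (unp (nat_lit 11) (nat_lit 0x1ec82d07d789fa05)) (.st (nat_lit 272) (unp (nat_lit 8) (nat_lit 0xb6dde6d904)) [] (.sp .nil)))))))))⟩))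
 (.nd (nat_lit 1103) (.lf ⟨nat_lit 1, nat_lit 693, nat_lit 615, (nat_lit 0x80067870b2f96605f46aa5852007962eb12d), (nat_lit 0x80068f3794cb45a1007d804f6647ef033782), (nat_lit 0x80074f5f14024002890196644cb38a700023), (.wt (nat_lit 11) (nat_lit 3) (nat_lit 0x8005b71a854d5a528a2080402ce098512769) (.st (nat_lit 863) (unp (nat_lit 7) (nat_lit 0x75fb3a86405)) [nat_lit 629, nat_lit 621] (.st (nat_lit 1074) (unp (nat_lit 7) (nat_lit 0x5d2e103)) [nat_lit 853, nat_lit 851] (.st (nat_lit 984) (unp (nat_lit 7) (nat_lit 0x1ef5370e305)) [] .nil))) (unp (nat_lit 7) (nat_lit 0x2780fa86305)) [])⟩)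
 (.nd (nat_lit 1104) (.lf ⟨nat_lit 0, nat_lit 693, nat_lit 927, (nat_lit 0x8007a25f41b422e0194930c162466036430a), one, (nat_lit 0x8005ce7124e442543a4cb39a5546247a2379), (.we (nat_lit 0) (nat_lit 0) (nat_lit 0x80067870b2f96605f46aa5852007962eb12d) (.st (nat_lit 1102) [] [] (.st (nat_lit 932) (unp (nat_lit 7) (nat_lit 0x1d5bdb03)) [nat_lit 628, nat_lit 621] .nil)))⟩)
 (.lf ⟨nat_lit 0, nat_lit 927, nat_lit 693, (nat_lit 0x8006bf53c30a0e85bf63816946e5b3259547), one, (nat_lit 0x80066971230a3e25f41c302379b0bc052796), (.inv (nat_lit 1103))⟩))))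
 (.nd (nat_lit 1108) (.nd (nat_lit 1106) (.lf ⟨nat_lit 1, nat_lit 693, nat_lit 339, (nat_lit 0x8000c470b3913df6b629a15224c1a87a2004), (nat_lit 0x80053c6600ae3390e44573ac45a7b32a73f3), (nat_lit 0x8005ce7124e442543a4cb39a5546247a2379), (.ren (nat_lit 930) (unp (nat_lit 7) (nat_lit 0x7af6303)) [nat_lit 1104] [])⟩)
 (.nd (nat_lit 1107) (.lf ⟨nat_lit 1, nat_lit 693, nat_lit 956, (nat_lit 0x8005a94e42295190984d071224b3f913a259), (nat_lit 0x8003e32951e51c36387b362054d5bc3a4457), (nat_lit 0x80013a4026af68f2551a82a72594495f1197), (.ren (nat_lit 972) (unp (nat_lit 7) (nat_lit 0x72fb72fe405)) [nat_lit 1104] [])⟩)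
 (.lf ⟨nat_lit 1, nat_lit 693, nat_lit 973, (nat_lit 0x8007663f93b41ed3ac3d00041007e951737c), (nat_lit 0x8000ae3d109c09876601959e3b925b747249), (nat_lit 0x8005bf0233a73645055f428c278391503747), (.ren (nat_lit 982) (unp (nat_lit 7) (nat_lit 0x58de75f04)) [nat_lit 1104] [])⟩)))
 (.nd (nat_lit 1109) (.lf ⟨nat_lit 1, nat_lit 615, nat_lit 693, (nat_lit 0x8005e726c3d12cf1522ae3e32556dc126002), (nat_lit 0x80026c5b779b5175a97b31431ef0264f32eb), (nat_lit 0x8006dc1b40691521ef4ff1260896780205f1), (.ren (nat_lit 935) [] [] [nat_lit 1104])⟩)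
 (.nd (nat_lit 1110) (.lf ⟨nat_lit 1, nat_lit 973, nat_lit 693, (nat_lit 0x8000027a217c2d804e0a17d913d669400379), (nat_lit 0x80056d6a60c10932715b32ce60327a39138a), (nat_lit 0x8003665f52b93d051237c23a04e64b6a8603), (.ren (nat_lit 980) [] [] [nat_lit 1104])⟩)
 (.lf ⟨nat_lit 1, nat_lit 985, nat_lit 693, (nat_lit 0x8004001d73d013b6b65ce52b3795250025f5), (nat_lit 0x8001ed2460a12f46783f30203ef4cb364073), (nat_lit 0x8005ce5f40a61743ef27139149d0333640bc), (.ren (nat_lit 994) [] [] [nat_lit 1104])⟩)))))))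

noncomputable def qcT_1111 : Tr :=
  (.nd (nat_lit 1132) (.nd (nat_lit 1121) (.nd (nat_lit 1116) (.nd (nat_lit 1113) (.nd (nat_lit 1112) (.lf ⟨nat_lit 1, nat_lit 956, nat_lit 693, (nat_lit 0x80027150b6642380267122c87475f1673033), (nat_lit 0x8000a65b727836627113b1680a50635a522e), (nat_lit 0x80008939a6b668f1a827a7475c16b02810bc), (.ren (nat_lit 1023) [] [] [nat_lit 1104])⟩)
 (.lf ⟨nat_lit 1, nat_lit 956, nat_lit 985, (nat_lit 0x80049311e38a7b06dc16954779b4c40913b4), (nat_lit 0x80071223809124916839a0ae45829555574f), (nat_lit 0x8001ed0805472084c14c45551d23e245a063), (.wt (nat_lit 11) (nat_lit 3) (nat_lit 0x8005b33a743a4e33f25850e40c123a5f453c) (.st (nat_lit 1005) (unp (nat_lit 7) (nat_lit 0x57ee6e104)) [] (.st (nat_lit 1006) (unp (nat_lit 7) (nat_lit 0x19fcfa8e405)) (unp (nat_lit 11) (nat_lit 0x10ea1f44003)) (.st (nat_lit 995) (unp (nat_lit 7) (nat_lit 0x1a8172fe305)) [] .nil))) (unp (nat_lit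 7) (nat_lit 0x1a82fb0e305)) [])⟩))
 (.nd (nat_lit 1114) (.lf ⟨nat_lit 1, nat_lit 985, nat_lit 956, (nat_lit 0x8005852ab0b845c62012d2462f94f31437d9), (nat_lit 0x8005255ef36613d63b45a56c0ae6c50b83e2), (nat_lit 0x80069c5c11d72002cf0395f45416734e4613), (.wt (nat_lit 0) (nat_lit 0) (nat_lit 0x80049311e38a7b06dc16954779b4c40913b4) (.st (nat_lit 1112) [] [] .nil) (unp (nat_lit 7) (nat_lit 0x2dfd730e305)) [])⟩)
 (.nd (nat_lit 1115) (.lf ⟨nat_lit 0, nat_lit 817, nat_lit 567, (nat_lit 0x8003ac2f913d79b4097e93ef1690985bf02e), one, (nat_lit 0x80056c3641e75036035127d845e3393902a8), (.we (nat_lit 11) (nat_lit 0) (nat_lit 0x8005b71975542cf23806969f3390d9058052) (.st (nat_lit 1006) [nat_lit 100, nat_lit 80] [] (.st (nat_lit 1110) (unp (nat_lit 7) (nat_lit 0x19f56efe305)) [] (.st (nat_lit 701) (unp (nat_lit 7) (nat_lit 0x707f6efe305)) [nat_lit 694] (.st (nat_lit 768) (unp (nat_lit 7) (nat_lit 0x75f4fb0e305))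 [] .nil)))))⟩)
 (.lf ⟨nat_lit 1, nat_lit 567, nat_lit 985, (nat_lit 0x8006384e456c04f2891684d00026076c543a), (nat_lit 0x8001a91d20580bc68f7d91264cf79b04639a), (nat_lit 0x8004932296aa24c5bc49d0696207a27ef3f2), (.ren (nat_lit 1006) (unp (nat_lit 7) (nat_lit 0x71fd6f06405)) [nat_lit 1114] [])⟩))))
 (.nd (nat_lit 1118) (.nd (nat_lit 1117) (.lf ⟨nat_lit 1, nat_lit 867, nat_lit 985, (nat_lit 0x8004005553ac0263ed0b85f13f3397093180), (nat_lit 0x80036614354c70b1265b356d23a27111e4e3), (nat_lit 0x8005b75f522e1005bc5e76e23e24e42896bc), (.wt (nat_lit 10) (nat_lit 2) (nat_lit 0x80059e3e263b0930e429a0a53ac1c322d0ae) (.st (nat_lit 993) (unp (nat_lit 7) (nat_lit 0x72853a8e405)) [] (.st (nat_lit 1092) (unp (nat_lit 7) (nat_lit 0x1dff6f06405)) [nat_lit 816, nat_lit 807] .nil)) (unp (nat_lit 7) (nat_lit 0xe3eeed104)) [])⟩)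
 (.lf ⟨nat_lit 1, nat_lit 985, nat_lit 867, (nat_lit 0x80046e7b316812e50333906359d2a8091517), (nat_lit 0x8002555f17820205b32b925b0011436b6208), (nat_lit 0x8000980c10803b913a5f051a4e47ef73a79e), (.wt (nat_lit 0) (nat_lit 0) (nat_lit 0x8004005553ac0263ed0b85f13f3397093180) (.st (nat_lit 1116) [] [] .nil) (unp (nat_lit 7) (nat_lit 0x70f76f16305)) [])⟩))
 (.nd (nat_lit 1119) (.lf ⟨nat_lit 1, nat_lit 661, nat_lit 693, (nat_lit 0x8002a868500804739145e7a227838a63b499), (nat_lit 0x8006134773d055509800854113a6696603ed), (nat_lit 0x80066973e3f923a4c43e251276679624c197), (.wt (nat_lit 11) (nat_lit 0) (nat_lit 0x8000020580521802a72951a42a85541a83b4) (.st (nat_lit 1102) (unp (nat_lit 7) (nat_lit 0x5fcbe03)) [] (.st (nat_lit 1108) (unp (nat_lit 7) (nat_lit 0xe102de304)) [nat_lit 629, nat_lit 636] (.st (nat_lit 703) (unp (nat_lit 7) (nat_lit 0x4ee26e104)) [nat_lit 694] .nil))) (unp (nat_lit 7) (nat_lit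 0xe1066e004)) [])⟩)
 (.nd (nat_lit 1120) (.lf ⟨nat_lit 1, nat_lit 985, nat_lit 673, (nat_lit 0x80036463b3f906951d0463ac2eb49976642a), (nat_lit 0x80009113d4906a812e0c46176033d11e55bc), (nat_lit 0x80040900212e3a713a4e36fc4ff2ae271503), (.wt (nat_lit 11) (nat_lit 3) (nat_lit 0x8006206bf36640068f5bc1aa29a7962eb391) (.st (nat_lit 702) [nat_lit 65, nat_lit 42] [] (.st (nat_lit 1105) (unp (nat_lit 7) (nat_lit 0x2c4afa86405)) [] (.st (nat_lit 985) (unp (nat_lit 8) (nat_lit 0x19805d6304)) [nat_lit 360, nat_lit 350] .nil))) (unp (nat_lit 7) (nat_lit 0x296f3a86405)) [])⟩)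
 (.lf ⟨nat_lit 1, nat_lit 673, nat_lit 985, (nat_lit 0x8006785191693a72591a943a2f045739722e), (nat_lit 0x8003394c104f50338a09179e0c44f3141660), (nat_lit 0x8003ed49d7692f065b3e37a21686e2200685), (.wt (nat_lit 0) (nat_lit 0) (nat_lit 0x80036463b3f906951d0463ac2eb49976642a) (.st (nat_lit 1119) [] [] .nil) (unp (nat_lit 7) (nat_lit 0x194b3b0e305)) [])⟩)))))
 (.nd (nat_lit 1126) (.nd (nat_lit 1123) (.nd (nat_lit 1122) (.lf ⟨nat_lit 1, nat_lit 956, nat_lit 985, (nat_lit 0x8005a90a57475ce39f6dc1807b70693f2617), (nat_lit 0x8000bc0a138a07340517467373a0010581ef), (nat_lit 0x8003f90c15b75f051a42a5a51680891520c4), (.wt (nat_lit 11) (nat_lit 3) (nat_lit 0x80022d08912e3d70a62eb2f07a25552955c1) (.st (nat_lit 1113) (unp (nat_lit 7) (nat_lit 0x29fb7306405)) [] (.st (nat_lit 1111) (unp (nat_lit 7) (nat_lit 0x26ff7716405)) [nat_lit 957] (.st (nat_lit 1106) (unp (nat_lit 7) (nat_lit 0xde86303)) [nat_lit 697,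 nat_lit 694] .nil))) (unp (nat_lit 7) (nat_lit 0x3d7316404)) [])⟩)
 (.lf ⟨nat_lit 1, nat_lit 985, nat_lit 956, (nat_lit 0x8005a87b35250191800917965f50335ef458), (nat_lit 0x8003977ef09c56d3f555566963838a0230b8), (nat_lit 0x8002464991ef25b0fd3e326c2f92a737c0a6), (.wt (nat_lit 0) (nat_lit 0) (nat_lit 0x8005a90a57475ce39f6dc1807b70693f2617) (.st (nat_lit 1121) [] [] .nil) (unp (nat_lit 7) (nat_lit 0x54de76404)) [])⟩))
 (.nd (nat_lit 1124) (.lf ⟨nat_lit 1, nat_lit 956, nat_lit 973, (nat_lit 0x8000c372b45c51d3b91745f026c7824026a6), (nat_lit 0x80002354c79b51a4000803914252006bc004), (nat_lit 0x80031a3a41d771204e59d4092d84c6227425), (.wt (nat_lit 11) (nat_lit 0) (nat_lit 0x80056c3f24e40b843c2f051701017452b040) (.st (nat_lit 983) (unp (nat_lit 7) (nat_lit 0xe896ed104)) [] (.st (nat_lit 1121) (unp (nat_lit 7) (nat_lit 0x2f7316404)) [] (.st (nat_lit 1000) (unp (nat_lit 7) (nat_lit 0xecfede304)) []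 .nil))) (unp (nat_lit 7) (nat_lit 0x73fb7b16305)) [])⟩)
 (.nd (nat_lit 1125) (.lf ⟨nat_lit 1, nat_lit 825, nat_lit 956, (nat_lit 0x80066438a7822cf62067165b3a40a645e457), (nat_lit 0x8005a828c50352339a49d3916732787003f5), (nat_lit 0x8004576733a464b4901b45f54095f04773a7), (.wt (nat_lit 11) (nat_lit 0) (nat_lit 0x80054c12e53c0395476241e51ef3e213b517) (.st (nat_lit 1018) (unp (nat_lit 7) (nat_lit 0xe696edf04)) [] (.st (nat_lit 1123) (unp (nat_lit 7) (nat_lit 0xe0fb0e404)) [] (.st (nat_lit 1065) (unp (nat_lit 7) (nat_lit 0x1f676303)) [] .nil))) (unp (nat_lit 8) (nat_lit 0x28803e5004)) [])⟩)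
 (.lf ⟨nat_lit 1, nat_lit 985, nat_lit 457, (nat_lit 0x8006af55500802609873e37c70000207331a), (nat_lit 0x80062012e54770063806831a43c2810bc68f), (nat_lit 0x8000267a22715412496696854c404722e0b8), (.wt (nat_lit 11) (nat_lit 0) (nat_lit 0x80026c28c0bc50b3900932cf5bc033505607) (.st (nat_lit 836) (unp (nat_lit 7) (nat_lit 0x268336fe305)) [nat_lit 461, nat_lit 458] (.st (nat_lit 1124) (unp (nat_lit 7) (nat_lit 0xe0966df04)) [nat_lit 826, nat_lit 829] (.st (nat_lit 997) (unp (nat_lit 7) (nat_lit 0x3d066e004)) [nat_lit 957] .nil))) (unp (nat_lit 7) (nat_lit 0xece1f6204)) [])⟩))))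
 (.nd (nat_lit 1129) (.nd (nat_lit 1127) (.lf ⟨nat_lit 1, nat_lit 693, nat_lit 673, (nat_lit 0x8007ef5bc1ef0932f056d0335a52a732e063), (nat_lit 0x80022d39056d1a91b46b63a72ab0bc7302a8), (nat_lit 0x80004f56d6384c102e4e373a6bc3ef174730), (.wt (nat_lit 11) (nat_lit 3) (nat_lit 0x8005f102379e12e1745413906bc002068782) (.st (nat_lit 1120) (unp (nat_lit 7) (nat_lit 0x549676004)) [] (.st (nat_lit 1125) (unp (nat_lit 7) (nat_lit 0x2fe6de304)) [nat_lit 986] (.st (nat_lit 710) (unp (nat_lit 7) (nat_lit 0x2cf37716405)) [nat_lit 464] .nil))) (unp (nat_lit 7) (nat_lit 0x73817b06405)) [])⟩)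
 (.nd (nat_lit 1128) (.lf ⟨nat_lit 1, nat_lit 693, nat_lit 867, (nat_lit 0x8003e34ff54774f6bc5a506845e2f95a83b4), (nat_lit 0x80043c6203b40083e249359d27a72b25554c), (nat_lit 0x8003ac6aa66059917c5a86a64d02ae12673a), (.wt (nat_lit 11) (nat_lit 3) (nat_lit 0x8004d01d75177a25f00b809122e0a62b965b) (.st (nat_lit 1116) (unp (nat_lit 7) (nat_lit 0x28816efe305)) [] (.st (nat_lit 1125) (unp (nat_lit 7) (nat_lit 0x17f73686305)) [] (.st (nat_lit 708) (unp (nat_lit 7) (nat_lit 0x2af77b0e405)) [nat_lit 461, nat_lit 465] .nil))) (unp (nat_lit 7) (nat_lit 0xe102ddf04)) [])⟩)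
 (.lf ⟨nat_lit 1, nat_lit 615, nat_lit 973, (nat_lit 0x8000c320045c1e712d62001979e4904c1457), (nat_lit 0x80020813a49007305868551d54d3b43ed56c), (nat_lit 0x8001b44006643f966912d54d49351969f397), (.wt (nat_lit 11) (nat_lit 0) (nat_lit 0x8003e305c0a54fd1975236aa27152528a379) (.st (nat_lit 1109) (unp (nat_lit 7) (nat_lit 0x1af4fb16405)) [] (.st (nat_lit 1126) (unp (nat_lit 7) (nat_lit 0x17f73716405)) [nat_lit 697] (.st (nat_lit 686) (unp (nat_lit 7) (nat_lit 0x2d8136fe405)) [nat_lit 683, nat_lit 674] .nil))) (unp (nat_lit 7) (nat_lit 0x2efb0e404)) [])⟩)))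
 (.nd (nat_lit 1130) (.lf ⟨nat_lit 1, nat_lit 973, nat_lit 615, (nat_lit 0x8004000893395856af4905bf3ed5120c1152), (nat_lit 0x80054d4ff4054c13df22d25b2552eb6af73e), (nat_lit 0x80017c5a903324b5054492f42464991745a5), (.wt (nat_lit 0) (nat_lit 0) (nat_lit 0x8000c320045c1e712d62001979e4904c1457) (.st (nat_lit 1128) (unp (nat_lit 7) (nat_lit 0xe26d103)) [nat_lit 620] .nil) (unp (nat_lit 8) (nat_lit 0x2680506304)) [])⟩)
 (.nd (nat_lit 1131) (.lf ⟨nat_lit 1, nat_lit 673, nat_lit 825, (nat_lit 0x80061365b0403b93646e272b6bf2f428a0ae), (nat_lit 0x8003a42710e80a60c31d70a522d1c150b023), (nat_lit 0x8000c122e6206786b60630ae069295126457), (.wt (nat_lit 11) (nat_lit 3) (nat_lit 0x80012d02e4572c840923a1697475a51a404e) (.st (nat_lit 843) (unp (nat_lit 8) (nat_lit 0x27804d616305)) [] (.st (nat_lit 1108) (unp (nat_lit 7) (nat_lit 0xe57b0e404)) [nat_lit 629, nat_lit 636] (.st (nat_lit 1126) (unp (nat_lit 7)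 (nat_lit 0xfb7a8e304)) [nat_lit 697, nat_lit 694] .nil))) (unp (nat_lit 7) (nat_lit 0x3edee6404)) [])⟩)
 (.lf ⟨nat_lit 1, nat_lit 867, nat_lit 661, (nat_lit 0x8002387b346e0195a902338a5b35f00c1523), (nat_lit 0x8004cb7d852b6bc2811b41a86b038a63b541), (nat_lit 0x80063b79645c59d69c3d731a5171aa5475a9), (.wt (nat_lit 11) (nat_lit 3) (nat_lit 0x8002f072b13d60713b64b08052b3df620002) (.st (nat_lit 1118) (unp (nat_lit 7) (nat_lit 0x510a75004)) [] (.st (nat_lit 700) (unp (nat_lit 7) (nat_lit 0x510aee104)) [] (.st (nat_lit 1127) (unp (nat_lit 7) (nat_lit 0x714b7286405)) [nat_lit 697] .nil))) (unp (nat_lit 7) (nat_lit 0xebf66d004)) [])⟩))))))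
 (.nd (nat_lit 1142) (.nd (nat_lit 1137) (.nd (nat_lit 1134) (.nd (nat_lit 1133) (.lf ⟨nat_lit 1, nat_lit 867, nat_lit 912, (nat_lit 0x8006785121c159d4995035853b44e327a37c), (nat_lit 0x8004cb5854096713bc0735f55bc7665993ed), (nat_lit 0x8004cb24639711e1aa4c40803f24e3004503), (.wt (nat_lit 11) (nat_lit 3) (nat_lit 0x8002a81ed30a6170890396710c34cb6783df) (.st (nat_lit 923) (unp (nat_lit 7) (nat_lit 0x287f7686405)) [] (.st (nat_lit 706) (unp (nat_lit 7) (nat_lit 0x7681768e405)) [nat_lit 629, nat_lit 622] (.st (nat_lit 1127) (unp (nat_lit 7) (nat_lit 0x51f6f6304)) [nat_lit 697] .nil))) (unp (nat_lit 7) (nat_lit 0x3bfdf5104)) [])⟩)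
 (.lf ⟨nat_lit 1, nat_lit 891, nat_lit 973, (nat_lit 0x8005c13ef6bf3f37a27302f432e62038a174), (nat_lit 0x80062413b51773e3795253b44934ff6bc04e), (nat_lit 0x80024b2556e22c85e70b80476aa1801a915e), (.wt (nat_lit 11) (nat_lit 0) (nat_lit 0x80052329a70125536459e39005233909c45c) (.st (nat_lit 1109) (unp (nat_lit 7) (nat_lit 0x2a4b6f06305)) [] (.st (nat_lit 1127) (unp (nat_lit 7) (nat_lit 0xa3ee203)) [nat_lit 697] (.st (nat_lit 905) (unp (nat_lit 7) (nat_lit 0xedf6e6004)) [nat_lit 873] .nil))) (unp (nat_lit 7) (nat_lit 0xe9fede204)) [])⟩))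
 (.nd (nat_lit 1135) (.lf ⟨nat_lit 1, nat_lit 825, nat_lit 956, (nat_lit 0x8002cf52572b0393901d239f76905c3e21ef), (nat_lit 0x8000391a82a86aa0732465990c13b479b624), (nat_lit 0x8005f10b86aa23a69f3ef2a749d0fd3d13a4), (.wt (nat_lit 11) (nat_lit 3) (nat_lit 0x80073e0011805411ed0a10263e24097a270b) (.st (nat_lit 1121) (unp (nat_lit 7) (nat_lit 0x2a817afe405)) [] (.st (nat_lit 1119) (unp (nat_lit 7) (nat_lit 0x550ade104)) [nat_lit 986] (.st (nat_lit 1130) (unp (nat_lit 7) (nat_lit 0xe0fb0e304)) [nat_lit 682, nat_lit 674] .nil))) (unp (nat_lit 7) (nat_lit 0x4cff16304)) [])⟩)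
 (.nd (nat_lit 1136) (.lf ⟨nat_lit 1, nat_lit 912, nat_lit 867, (nat_lit 0x8006785121c159d4995035853b44e327a37c), (nat_lit 0x8001971aa39a4f366409c43a54c5bc39f12e), (nat_lit 0x8007122a828a16804039a5032f409c79b79e), (.wt (nat_lit 10) (nat_lit 0) (nat_lit 0x8007007120100735c104e6b06855b35ce141) (.st (nat_lit 1131) (unp (nat_lit 7) (nat_lit 0x5906f5004)) [nat_lit 879] (.st (nat_lit 926) (unp (nat_lit 7) (nat_lit 0xa9fd103)) [] .nil)) (unp (nat_lit 7) (nat_lit 0x277f7286305)) [])⟩)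
 (.lf ⟨nat_lit 1, nat_lit 956, nat_lit 912, (nat_lit 0x8001b47e96132d80024252892a804022e56d), (nat_lit 0x8000086c551d6170c12c87b72557a279e678), (nat_lit 0x8003d128c09c6fc04f2ae50b6b665b27a093), (.wt (nat_lit 10) (nat_lit 2) (nat_lit 0x8005bb54d05873e1c328c2ab54c4d03ac31a) (.st (nat_lit 925) (unp (nat_lit 7) (nat_lit 0x76ee403)) [] (.st (nat_lit 1134) (unp (nat_lit 7) (nat_lit 0x2efa86404)) [nat_lit 826, nat_lit 828] .nil)) (unp (nat_lit 7) (nat_lit 0x1ef57306405)) [])⟩))))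
 (.nd (nat_lit 1139) (.nd (nat_lit 1138) (.lf ⟨nat_lit 1, nat_lit 912, nat_lit 956, (nat_lit 0x8001ef70b43c5555056787307825bf45c091), (nat_lit 0x8004093a70e95a80686fc1e736437c42a2f0), (nat_lit 0x8005f46bf25526c14138a5bf0636b01aa678), (.wt (nat_lit 0) (nat_lit 0) (nat_lit 0x8001b47e96132d80024252892a804022e56d) (.st (nat_lit 1136) [] [] .nil) (unp (nat_lit 7) (nat_lit 0x32fede304)) [])⟩)
 (.lf ⟨nat_lit 1, nat_lit 339, nat_lit 1138, (nat_lit 0x8000a13d024b0730bc5ce52333929a45e493), one, one, (.df (unp (nat_lit 5) (nat_lit 0x6b2803)))⟩))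
 (.nd (nat_lit 1140) (.lf ⟨nat_lit 0, nat_lit 1138, nat_lit 1138, (nat_lit 0x8003646bf1d20804e37b73d73f2039766796), one, (nat_lit 0x8004cb3df25913d72b3d07b00084fd49924c), (.cmp (nat_lit 1138) (nat_lit 1138) (unp (nat_lit 7) (nat_lit 0x5e76003)) (unp (nat_lit 9) (nat_lit 0x586d16c03)))⟩)
 (.nd (nat_lit 1141) (.lf ⟨nat_lit 1, nat_lit 1138, nat_lit 339, one, (nat_lit 0x8000a13d024b0730bc5ce52333929a45e493), one, (.wt (nat_lit 0) (nat_lit 0) (nat_lit 0x8000a13d024b0730bc5ce52333929a45e493) (.st (nat_lit 1138) [] [] .nil) [] [])⟩)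
 (.lf ⟨nat_lit 1, nat_lit 1138, nat_lit 881, (nat_lit 0x8006382002a72cf1a81740337470b84026a6), (nat_lit 0x8004c154d54774724902615e6bf0e943c620), (nat_lit 0x80068f3b47123ef3390261692c85f56af660), (.wt (nat_lit 12) (nat_lit 2) (nat_lit 0x8000c43ed01038a4905f579e32e7820fd141) (.st (nat_lit 1089) (unp (nat_lit 7) (nat_lit 0x96f6303)) [nat_lit 882, nat_lit 885] (.st (nat_lit 1070) (unp (nat_lit 8) (nat_lit 0xa8b6e3e69d05)) [nat_lit 402, nat_lit 393] (.st (nat_lit 1138) (unp (nat_lit 7) (nat_lit 0xe1e676004)) [nat_lit 348, nat_lit 344] .nil))) (unp (nat_lit 7) (nat_lit 0x296f6f16405)) [])⟩)))))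
 (.nd (nat_lit 1147) (.nd (nat_lit 1144) (.nd (nat_lit 1143) (.lf ⟨nat_lit 1, nat_lit 339, nat_lit 1142, (nat_lit 0x80068522e12e74709354c01059928127a56d), one, one, (.df [nat_lit 8])⟩)
 (.lf ⟨nat_lit 1, nat_lit 1142, nat_lit 339, one, (nat_lit 0x80068522e12e74709354c01059928127a56d), one, (.wt (nat_lit 0) (nat_lit 0) (nat_lit 0x80068522e12e74709354c01059928127a56d) (.st (nat_lit 1142) [] [] .nil) [] [])⟩))
 (.nd (nat_lit 1145) (.lf ⟨nat_lit 1, nat_lit 1142, nat_lit 881, (nat_lit 0x80005c13d5f10e843c04f6717a217c45e4d0), (nat_lit 0x8000c45ce0465f125937938a36622d0fd247), (nat_lit 0x80052b73a6132d843c2087306074e46fc678), (.wt (nat_lit 10) (nat_lit 2) (nat_lit 0x80046e6bc1430a62710472f00987822d8246) (.st (nat_lit 888) (unp (nat_lit 7) (nat_lit 0x3deaee104)) [] (.st (nat_lit 1142) [nat_lit 99, nat_lit 23] (unp (nat_lit 9) (nat_lit 0x586d16f03)) .nil)) (unp (nat_lit 8) (nat_lit 0x27805e606305))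 [])⟩)
 (.nd (nat_lit 1146) (.lf ⟨nat_lit 1, nat_lit 881, nat_lit 1142, (nat_lit 0x8005a87820731a412e7014cf5255231a831a), (nat_lit 0x80004f4251a43e26710235050e466000879b), (nat_lit 0x8005f40c415e12d1ab4580260e412e2f46e2), (.wt (nat_lit 0) (nat_lit 0) (nat_lit 0x80005c13d5f10e843c04f6717a217c45e4d0) (.st (nat_lit 1144) [] [] .nil) (unp (nat_lit 7) (nat_lit 0x1ef73afe305)) [])⟩)
 (.lf ⟨nat_lit 1, nat_lit 1142, nat_lit 1138, (nat_lit 0x80040040949909c02e04e3f5673555141073), (nat_lit 0x8002495a92a72814490394583f204714370b), (nat_lit 0x8005e722916856d2ce54737945850b1e5685), (.wt (nat_lit 10) (nat_lit 2) (nat_lit 0x80004e7b02b92783d72496a6080004174089) (.st (nat_lit 1140) (unp (nat_lit 7) (nat_lit 0x3adefe404)) [] (.st (nat_lit 1142) [] [nat_lit 358] .nil)) (unp (nat_lit 7) (nat_lit 0xe4e2fe304)) [])⟩))))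
 (.nd (nat_lit 1150) (.nd (nat_lit 1148) (.lf ⟨nat_lit 1, nat_lit 1138, nat_lit 1142, (nat_lit 0x8004001a40a15bb12e6034902d82ce002068), (nat_lit 0x8005474254490635553ac51d0c173e6aa5ef), (nat_lit 0x8005e70bc3a713d3e251d25545879e1e53f9), (.wt (nat_lit 0) (nat_lit 0) (nat_lit 0x80040040949909c02e04e3f5673555141073) (.st (nat_lit 1146) [] [] .nil) (unp (nat_lit 7) (nat_lit 0x7684fb0e405)) [])⟩)
 (.nd (nat_lit 1149) (.lf ⟨nat_lit 1, nat_lit 1142, nat_lit 956, (nat_lit 0x8002a81802cf0017b769f0a12f91ed4e3278), (nat_lit 0x8000ae2f04c16386851e76af0041520e913d), (nat_lit 0x80002379e2a736600124c30a52b7b72590fd), (.wt (nat_lit 10) (nat_lit 2) (nat_lit 0x8002ae52b2c813b0c112d7b00982f071204e) (.st (nat_lit 958) (unp (nat_lit 7) (nat_lit 0x27f73b16405)) [] (.st (nat_lit 1142) [nat_lit 62, nat_lit 23] (unp (nat_lit 9) (nat_lit 0x56acf6b03)) .nil)) (unp (nat_lit 7) (nat_lit 0x27857686305)) [])⟩)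
 (.lf ⟨nat_lit 1, nat_lit 956, nat_lit 1142, (nat_lit 0x8002a81802cf0017b769f0a12f91ed4e3278), (nat_lit 0x8000e85ce3b938a6b01e71d72ce49351d603), (nat_lit 0x8000e85b33a729a0fd50324b747229143040), (.wt (nat_lit 0) (nat_lit 0) (nat_lit 0x8002a81802cf0017b769f0a12f91ed4e3278) (.st (nat_lit 1148) [] [] .nil) [nat_lit 78, nat_lit 43] [])⟩)))
 (.nd (nat_lit 1151) (.lf ⟨nat_lit 1, nat_lit 1142, nat_lit 956, (nat_lit 0x80028a7b70680e839f6aa22d09c3b40730fd), (nat_lit 0x8003a41970681522715556dc6243643ac0c1), (nat_lit 0x8006bc0a506804e73a4902ae6033a44c6271), (.wt (nat_lit 10) (nat_lit 2) (nat_lit 0x8003f32a81e73df6bc59d6b02553643e34cb) (.st (nat_lit 958) (unp (nat_lit 7) (nat_lit 0x1fff768e305)) [] (.st (nat_lit 1142) [nat_lit 96, nat_lit 23] (unp (nat_lit 9) (nat_lit 0x56acf7003)) .nil)) (unp (nat_lit 7) (nat_lit 0x2984fb16305)) [])⟩)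
 (.nd (nat_lit 1152) (.lf ⟨nat_lit 1, nat_lit 1142, nat_lit 956, (nat_lit 0x8005e71d704712e03322725523a45c796152), (nat_lit 0x80049965b5540e870b45e1ef0c43b928a3df), (nat_lit 0x8002595555995bf0465852ab3d03660c343a), (.wt (nat_lit 11) (nat_lit 2) (nat_lit 0x8001431ef0bc0a520851705274759d27a64b) (.st (nat_lit 1015) (unp (nat_lit 7) (nat_lit 0xefe6e6004)) [] (.st (nat_lit 942) (unp (nat_lit 7) (nat_lit 0x52fa8e304)) [] (.st (nat_lit 1142) (unp (nat_lit 7) (nat_lit 0x17286403)) (unp (nat_lit 9) (nat_lit 0x562d36b03)) .nil))) (unp (nat_lit 7) (nat_lit 0x5bedf5104)) [])⟩)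
 (.lf ⟨nat_lit 1, nat_lit 956, nat_lit 1142, (nat_lit 0x80004608940063826c6a622912d1001ed5bb), (nat_lit 0x80073a5235195b70c30404e451a42a4cf069), (nat_lit 0x8000a12eb0c34253ac26c5a93397b045c3d7), (.wt (nat_lit 0) (nat_lit 0) (nat_lit 0x8005e71d704712e03322725523a45c796152) (.st (nat_lit 1151) [] [] .nil) (unp (nat_lit 7) (nat_lit 0x3bfef5004)) [])⟩)))))))

noncomputable def qcT_1153 : Tr :=
  (.nd (nat_lit 1173) (.nd (nat_lit 1163) (.nd (nat_lit 1158) (.nd (nat_lit 1155) (.nd (nat_lit 1154) (.lf ⟨nat_lit 1, nat_lit 1142, nat_lit 956, (nat_lit 0x8002597667470475f540543a15e1746a6141), (nat_lit 0x8004d056d2275a56735e76c52464993d02c8), (nat_lit 0x80027a43a22e2ae39009c1ef4e37822590fd), (.wt (nat_lit 11) (nat_lit 2) (nat_lit 0x80039a36405809c7470b84493662466a6180) (.st (nat_lit 960) (unp (nat_lit 7) (nat_lit 0x2cf6fa86305)) [] (.st (nat_lit 942) (unp (nat_lit 7) (nat_lit 0xb3f5003)) [nat_lit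 1021] (.st (nat_lit 1142) (unp (nat_lit 7) (nat_lit 0x717a8e304)) (unp (nat_lit 9) (nat_lit 0x566cf6603)) .nil))) (unp (nat_lit 7) (nat_lit 0x5096fe304)) [])⟩)
 (.lf ⟨nat_lit 1, nat_lit 956, nat_lit 1142, (nat_lit 0x8000c42f015253c3a41807b324c2596fc2cf), (nat_lit 0x8002891d25e73df70045a43a37c16873a3b9), (nat_lit 0x8003f238a3a718067809c1ed2d829525b6c5), (.wt (nat_lit 0) (nat_lit 0) (nat_lit 0x8002597667470475f540543a15e1746a6141) (.st (nat_lit 1153) [] [] .nil) (unp (nat_lit 7) (nat_lit 0x287f7316405)) [])⟩))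
 (.nd (nat_lit 1156) (.lf ⟨nat_lit 1, nat_lit 1142, nat_lit 985, (nat_lit 0x8005ef79b04e5bb4576bf6a82a77b712e1aa), (nat_lit 0x8000ae28c15e3916af29a1e725562402e7b7), (nat_lit 0x8006dc52b3641c349d0d93d0046712660400), (.wt (nat_lit 11) (nat_lit 2) (nat_lit 0x8005056780196dc3f213b18005c5474c4517) (.st (nat_lit 1117) (unp (nat_lit 7) (nat_lit 0xe4fe76204)) [] (.st (nat_lit 874) (unp (nat_lit 7) (nat_lit 0x76813706305)) [nat_lit 879] (.st (nat_lit 1142) (unp (nat_lit 7) (nat_lit 0x19fcfa86305)) [nat_lit 348, nat_lit 345] .nil))) (unp (nat_lit 7) (nat_lit 0xe1eede104)) [])⟩)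
 (.nd (nat_lit 1157) (.lf ⟨nat_lit 1, nat_lit 985, nat_lit 1142, (nat_lit 0x8003647122f90405f413a3bc2ae525766613), (nat_lit 0x80028932e39f50326c13b31a4c16132cf671), (nat_lit 0x8000015b733922725b7ef6e251223a0693ac), (.wt (nat_lit 0) (nat_lit 0) (nat_lit 0x8005ef79b04e5bb4576bf6a82a77b712e1aa) (.st (nat_lit 1155) [] [] .nil) (unp (nat_lit 7) (nat_lit 0x58966df04)) [])⟩)
 (.lf ⟨nat_lit 2, nat_lit 372, nat_lit 1157, (nat_lit 0x80027150b6642380267122c87475f1673033), one, one, (.df (unp (nat_lit 5) (nat_lit 0x6b5903)))⟩))))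
 (.nd (nat_lit 1160) (.nd (nat_lit 1159) (.lf ⟨nat_lit 2, nat_lit 1157, nat_lit 372, one, (nat_lit 0x80027150b6642380267122c87475f1673033), one, (.wt (nat_lit 13) (nat_lit 0) (nat_lit 0x80027150b6642380267122c87475f1673033) (.st (nat_lit 1157) [] [] .nil) [] [])⟩)
 (.lf ⟨nat_lit 1, nat_lit 372, nat_lit 1159, (nat_lit 0x8004936aa33968573e50368f1ed45c2c8069), one, one, (.df (unp (nat_lit 6) (nat_lit 0x1785403)))⟩))
 (.nd (nat_lit 1161) (.lf ⟨nat_lit 0, nat_lit 1159, nat_lit 1159, (nat_lit 0x8000693f27666385195bb3ed54d6bc3e31ef), one, (nat_lit 0x80030a1691d723852527a2a813b5545855b3), (.cmp (nat_lit 1159) (nat_lit 1159) (unp (nat_lit 7) (nat_lit 0xb3fe403)) [nat_lit 399, nat_lit 393])⟩)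
 (.nd (nat_lit 1162) (.lf ⟨nat_lit 1, nat_lit 1159, nat_lit 372, one, (nat_lit 0x8004936aa33968573e50368f1ed45c2c8069), one, (.wt (nat_lit 0) (nat_lit 0) (nat_lit 0x8004936aa33968573e50368f1ed45c2c8069) (.st (nat_lit 1159) [] [] .nil) [] [])⟩)
 (.lf ⟨nat_lit 1, nat_lit 1159, nat_lit 849, (nat_lit 0x80054124673e61300849067100102314343c), (nat_lit 0x8006074093a402e5a97e978219717449d390), (nat_lit 0x8000bc0521c353c6bc25b5b31267d85a5766), (.wt (nat_lit 10) (nat_lit 2) (nat_lit 0x80002e0d96bc52325b15e51d7005f11c34c1) (.st (nat_lit 864) (unp (nat_lit 7) (nat_lit 0x56de6e404)) [] (.st (nat_lit 1159) (unp (nat_lit 7) (nat_lit 0x1ef9730e405)) [nat_lit 373] .nil)) (unp (nat_lit 7) (nat_lit 0x1f717686405)) [])⟩)))))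
 (.nd (nat_lit 1168) (.nd (nat_lit 1165) (.nd (nat_lit 1164) (.lf ⟨nat_lit 1, nat_lit 1159, nat_lit 615, (nat_lit 0x80064b5121003f92812474570ae4d06173f2), (nat_lit 0x80015e1ab4d068538a5f017440269f5170c1), (nat_lit 0x80040053c4997b70462ce6bc0a1259093730), (.wt (nat_lit 10) (nat_lit 2) (nat_lit 0x8000634d04fd4582d80207d933905c13d026) (.st (nat_lit 658) (unp (nat_lit 7) (nat_lit 0x34fb06404)) [nat_lit 629, nat_lit 622] (.st (nat_lit 1159) (unp (nat_lit 7) (nat_lit 0x33e6ee404)) [nat_lit 402, nat_lit 373] .nil)) (unp (nat_lit 7) (nat_lit 0x2ff2ee204)) [])⟩)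
 (.lf ⟨nat_lit 1, nat_lit 1159, nat_lit 457, (nat_lit 0x80022737c4c64050080bc3912d81a879b769), (nat_lit 0x8002b914109c6fc63b70b7b01a865b43c45e), (nat_lit 0x8002951800a153c3e215e7ef0e90024094f3), (.wt (nat_lit 10) (nat_lit 2) (nat_lit 0x8003e21e717c6e24c606973a4fd24c64b180) (.st (nat_lit 660) (unp (nat_lit 7) (nat_lit 0x3bfa6df04)) [] (.st (nat_lit 1159) (unp (nat_lit 8) (nat_lit 0x26805d5f04)) [nat_lit 401, nat_lit 390] .nil)) (unp (nat_lit 7) (nat_lit 0x2c7f7316305)) [])⟩))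
 (.nd (nat_lit 1166) (.lf ⟨nat_lit 1, nat_lit 1159, nat_lit 457, (nat_lit 0x8002ab0a122909c4e474704f73a0e809129a), (nat_lit 0x8005055f03911d705c2d83b44580d90394e6), (nat_lit 0x8001e50331d246e4906bf3ef6bc2a704f058), (.wt (nat_lit 11) (nat_lit 2) (nat_lit 0x80064b0e82895b332e23a24c13a0a53e37b0) (.st (nat_lit 473) (unp (nat_lit 7) (nat_lit 0xf4fb0e304)) [] (.st (nat_lit 660) (unp (nat_lit 7) (nat_lit 0x5bfe8e304)) [] (.st (nat_lit 1159) (unp (nat_lit 7) (nat_lit 0xe26e303)) [nat_lit 399, nat_lit 377] .nil))) (unp (nat_lit 7) (nat_lit 0x2ff6de304)) [])⟩)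
 (.nd (nat_lit 1167) (.lf ⟨nat_lit 1, nat_lit 457, nat_lit 1159, (nat_lit 0x8002496bc0085b71805f56bf6fc06964b79b), (nat_lit 0x8005b34c150568f15e3f31970c17960a124c), (nat_lit 0x8003f26b673e4993d750372b4fd70065b673), (.wt (nat_lit 0) (nat_lit 0) (nat_lit 0x8002ab0a122909c4e474704f73a0e809129a) (.st (nat_lit 1165) [] [] .nil) (unp (nat_lit 7) (nat_lit 0xe3ea6e404)) [])⟩)
 (.lf ⟨nat_lit 1, nat_lit 1159, nat_lit 1159, (nat_lit 0x80023a24639f5e760336622d56d0806c53a4), (nat_lit 0x8005bc1973f265b5bf5ce6172eb1c36c56b0), (nat_lit 0x80023854c03330a4c13ed39a13b5f14c45b3), (.wt (nat_lit 11) (nat_lit 2) (nat_lit 0x8002294002b912622e6072d854150b28c701) (.st (nat_lit 1162) (unp (nat_lit 7) (nat_lit 0x55eeee204)) [] (.st (nat_lit 861) (unp (nat_lit 7) (nat_lit 0x40df06304)) [] (.st (nat_lit 1159) (unp (nat_lit 7) (nat_lit 0xe275003)) (unp (nat_lit 9) (nat_lit 0x61b198f03)) .nil))) (unp (nat_lit 7) (nat_lit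 0x3c9706304)) [])⟩))))
 (.nd (nat_lit 1170) (.nd (nat_lit 1169) (.lf ⟨nat_lit 1, nat_lit 1159, nat_lit 1159, (nat_lit 0x8005c16bf33939f2f068f15e6071ab1001ef), (nat_lit 0x8004c16a63396bc45a7960471b4701100366), (nat_lit 0x8002a824710039a0404e630a13b7d826c5b3), (.wt (nat_lit 11) (nat_lit 2) (nat_lit 0x80049d3912892006032950027010265f4339) (.st (nat_lit 1163) (unp (nat_lit 7) (nat_lit 0x34de8e404)) [] (.st (nat_lit 659) (unp (nat_lit 7) (nat_lit 0xf97afe404)) [nat_lit 635] (.st (nat_lit 1159) (unp (nat_lit 8) (nat_lit 0x2080506404)) [nat_lit 402, nat_lit 376] .nil))) (unp (nat_lit 7) (nat_lit 0x96f5103)) [])⟩)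
 (.lf ⟨nat_lit 1, nat_lit 1159, nat_lit 867, (nat_lit 0x8005ef1c112d2490d96070e90684cb12e019), (nat_lit 0x8002894c67697012c86dc7126bc24b0475e7), (nat_lit 0x80024639f1003f951946e68f3d03b47b35ce), (.wt (nat_lit 12) (nat_lit 2) (nat_lit 0x80056d46e1e702642a5f073a17c4901685a5) (.st (nat_lit 874) (unp (nat_lit 7) (nat_lit 0x3cde6e404)) [] (.st (nat_lit 1071) (unp (nat_lit 8) (nat_lit 0x91f3f9d904)) (unp (nat_lit 9) (nat_lit 0x556b97203)) (.st (nat_lit 1159) (unp (nat_lit 7) (nat_lit 0x2af5370e405)) (unp (nat_lit 9) (nat_lit 0x5ef238f03)) .nil))) (unp (nat_lit 7) (nat_lit 0x1efb3686305)) [])⟩))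
 (.nd (nat_lit 1171) (.lf ⟨nat_lit 1, nat_lit 1159, nat_lit 1142, (nat_lit 0x8001ab5ce04f13b53c45c30a2f04055a9449), (nat_lit 0x8004fd6732c80237e90203df7d932e0fd3a4), (nat_lit 0x80064b3b46200bc1a97304cf2003643e3126), (.wt (nat_lit 12) (nat_lit 2) (nat_lit 0x8003663914996033d068f45e0e82711e7512) (.st (nat_lit 1143) (unp (nat_lit 7) (nat_lit 0x2083730e305)) [] (.st (nat_lit 1071) (unp (nat_lit 8) (nat_lit 0x92b6dee504)) (unp (nat_lit 9) (nat_lit 0x55ad56603)) (.st (nat_lit 1159) (unp (nat_lit 7) (nat_lit 0x9706303)) [nat_lit 396, nat_lit 379] .nil))) (unp (nat_lit 7) (nat_lit 0x74f3368e405)) [])⟩)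
 (.nd (nat_lit 1172) (.lf ⟨nat_lit 1, nat_lit 1142, nat_lit 1159, (nat_lit 0x80060737c6dc69c7d924b2550915193b4126), (nat_lit 0x8000890014ff23a39a0987965a861328963b), (nat_lit 0x8006380082cf7826697303ef04739a66427a), (.wt (nat_lit 0) (nat_lit 0) (nat_lit 0x8001ab5ce04f13b53c45c30a2f04055a9449) (.st (nat_lit 1170) [] [] .nil) (unp (nat_lit 7) (nat_lit 0x2afcfafe305)) [])⟩)
 (.lf ⟨nat_lit 1, nat_lit 1159, nat_lit 1138, (nat_lit 0x8001a83f50e870159945e3ac46e29a390271), (nat_lit 0x8003e22591d233979e42509c6a620839159d), (nat_lit 0x80063851928920039f0984772291c36c50c1), (.wt (nat_lit 12) (nat_lit 2) (nat_lit 0x8003df0804c41a829a19764b5a513a4495ce) (.st (nat_lit 1140) (unp (nat_lit 7) (nat_lit 0x26f3768e305)) [] (.st (nat_lit 1071) (unp (nat_lit 8) (nat_lit 0xeff1e3e5d905)) (unp (nat_lit 9) (nat_lit 0x55ad56b03)) (.st (nat_lit 1159) (unp (nat_lit 7) (nat_lit 0x1af33a86405)) [nat_lit 396, nat_lit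 379] .nil))) (unp (nat_lit 7) (nat_lit 0x2c836f16405)) [])⟩))))))
 (.nd (nat_lit 1183) (.nd (nat_lit 1178) (.nd (nat_lit 1175) (.nd (nat_lit 1174) (.lf ⟨nat_lit 1, nat_lit 1138, nat_lit 1159, (nat_lit 0x8002a86b66645bb0e845842a12d50b6691c3), (nat_lit 0x8003d06fc2f454725953c0e415e24b2b913a), (nat_lit 0x8005a80805f17b72786bf46e3f952b5f45ce), (.wt (nat_lit 0) (nat_lit 0) (nat_lit 0x8001a83f50e870159945e3ac46e29a390271) (.st (nat_lit 1172) [] [] .nil) (unp (nat_lit 7) (nat_lit 0xedfa6e104)) [])⟩)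
 (.lf ⟨nat_lit 1, nat_lit 973, nat_lit 1159, (nat_lit 0x8002a83ef1691806a678209c002040701026), (nat_lit 0x80031a28150b4e453c40213b11e49960726c), (nat_lit 0x8000521ed5e77ef0986853790465ce6e2603), (.wt (nat_lit 11) (nat_lit 1) (nat_lit 0x80023a2271745bb01024650b5194003f9700) (.st (nat_lit 1164) (unp (nat_lit 7) (nat_lit 0xe096e6104)) [] (.st (nat_lit 710) (unp (nat_lit 7) (nat_lit 0x35eaf6104)) [nat_lit 461, nat_lit 464] (.st (nat_lit 1107) (unp (nat_lit 7) (nat_lit 0xe0e2e6404)) [nat_lit 694] .nil))) (unp (nat_lit 7) (nat_lit 0x5beede004)) [])⟩))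
 (.nd (nat_lit 1176) (.lf ⟨nat_lit 1, nat_lit 956, nat_lit 1159, (nat_lit 0x8006a605c0e91412815250d949d6fc259033), (nat_lit 0x8004cf3b45034253ed0690e83a42554936bc), (nat_lit 0x80073a52b0d96693ed50330a04653c73e093), (.wt (nat_lit 11) (nat_lit 0) (nat_lit 0x8002c822751a43c0336605251410c42597b3) (.st (nat_lit 1169) (unp (nat_lit 7) (nat_lit 0x65f5f03)) [] (.st (nat_lit 1093) (unp (nat_lit 7) (nat_lit 0x1cd2dc03)) [nat_lit 872] (.st (nat_lit 969) (unp (nat_lit 7) (nat_lit 0x17fd7706305)) [nat_lit 815, nat_lit 808] .nil))) (unp (nat_lit 7) (nat_lit 0x58fb0e404)) [])⟩)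
 (.nd (nat_lit 1177) (.lf ⟨nat_lit 1, nat_lit 1159, nat_lit 985, (nat_lit 0x80073a2554cb5f104f6bf0c36a83b915e64b), (nat_lit 0x80049351a2a751760327a51d6b656c63b246), (nat_lit 0x8002892466af38a09105c3392476a8517499), (.wt (nat_lit 11) (nat_lit 3) (nat_lit 0x80030a6240392550525bf7ef5f41ab141782) (.st (nat_lit 998) (unp (nat_lit 7) (nat_lit 0xed3b06404)) [] (.st (nat_lit 1133) (unp (nat_lit 7) (nat_lit 0x51fa75104)) [nat_lit 892, nat_lit 895] (.st (nat_lit 1174) (unp (nat_lit 7) (nat_lit 0xf37b06304)) [nat_lit 974] .nil))) (unp (nat_lit 7) (nat_lit 0x51370e304)) [])⟩)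
 (.lf ⟨nat_lit 2, nat_lit 956, nat_lit 1159, (nat_lit 0x8001ed2ae5230265a878225b73016817c0a5), (nat_lit 0x8005ef0a61aa1a81680bc22e31a0983d712d), (nat_lit 0x8003f322d5473ed7a251a3b95b340031a0bc), (.wt (nat_lit 12) (nat_lit 0) (nat_lit 0x80074f0047a26bc17c7d81b46600c11e5541) (.st (nat_lit 1168) (unp (nat_lit 7) (nat_lit 0x287f7a8e405)) [] (.st (nat_lit 1176) [nat_lit 37] [] (.st (nat_lit 1122) (unp (nat_lit 7) (nat_lit 0x9f0e303)) [nat_lit 986] .nil))) (unp (nat_lit 8) (nat_lit 0xb2bae603)) [])⟩))))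
 (.nd (nat_lit 1180) (.nd (nat_lit 1179) (.lf ⟨nat_lit 2, nat_lit 1159, nat_lit 956, (nat_lit 0x8005ef1d26072f41007b77d80933ac047040), (nat_lit 0x8003b46e20a60e805c1976a846e10052b0bc), (nat_lit 0x8000040264e324942a3d14fd523047519493), (.wt (nat_lit 13) (nat_lit 0) (nat_lit 0x8001ed2ae5230265a878225b73016817c0a5) (.st (nat_lit 1177) [] [] .nil) (unp (nat_lit 8) (nat_lit 0xbbdde5d904)) [])⟩)
 (.lf ⟨nat_lit 1, nat_lit 372, nat_lit 1179, (nat_lit 0x80049324650559d74f0bc1412cf28a091685), one, one, (.df [nat_lit 29, nat_lit 29])⟩))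
 (.nd (nat_lit 1181) (.lf ⟨nat_lit 0, nat_lit 1179, nat_lit 1179, (nat_lit 0x80039a50b6782a828a20823852b0042c8001), one, (nat_lit 0x80065b6601001c31973ac4e409c5b331a2ce), (.cmp (nat_lit 1179) (nat_lit 1179) (unp (nat_lit 7) (nat_lit 0xb214d03)) (unp (nat_lit 9) (nat_lit 0x603258f03)))⟩)
 (.nd (nat_lit 1182) (.lf ⟨nat_lit 1, nat_lit 1179, nat_lit 372, one, (nat_lit 0x80049324650559d74f0bc1412cf28a091685), one, (.wt (nat_lit 0) (nat_lit 0) (nat_lit 0x80049324650559d74f0bc1412cf28a091685) (.st (nat_lit 1179) [] [] .nil) [] [])⟩)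
 (.lf ⟨nat_lit 1, nat_lit 1179, nat_lit 1179, (nat_lit 0x8005ef3ef2cf56d2f90692292782551ed51d), (nat_lit 0x8005ef3ef6204cb7b0169391366255402503), (nat_lit 0x8000c47b71001520404e43ac60351226c517), (.wt (nat_lit 10) (nat_lit 2) (nat_lit 0x8007b01ef2b928a5e76070390472f059e364) (.st (nat_lit 1181) (unp (nat_lit 8) (nat_lit 0x2c804e03)) [] (.st (nat_lit 1179) [nat_lit 99, nat_lit 121] [nat_lit 396, nat_lit 375] .nil)) (unp (nat_lit 7) (nat_lit 0xe5e66e104)) [])⟩)))))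
 (.nd (nat_lit 1188) (.nd (nat_lit 1185) (.nd (nat_lit 1184) (.lf ⟨nat_lit 1, nat_lit 1179, nat_lit 550, (nat_lit 0x8005a908917c09104f6bf4902a7685168098), (nat_lit 0x8002952ce0683f243c5413ed0475bf0b82eb), (nat_lit 0x8006fc1527122553663f239706945e2f90e4), (.wt (nat_lit 10) (nat_lit 2) (nat_lit 0x8004c470067869c1c32292d82f412e52379b) (.st (nat_lit 1027) (unp (nat_lit 7) (nat_lit 0xe5f66e304)) (unp (nat_lit 10) (nat_lit 0x22f8ae2d03)) (.st (nat_lit 1179) [nat_lit 100, nat_lit 123] [nat_lit 401, nat_lit 392] .nil)) (unp (nat_lit 7) (nat_lit 0x72f7730e405)) [])⟩)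
 (.lf ⟨nat_lit 1, nat_lit 1179, nat_lit 973, (nat_lit 0x8005b36b62383f91e52464cb0337e95ef3f3), (nat_lit 0x8006fc7e951779b6131a932e51d54c3df5c1), (nat_lit 0x80059d3bc6c55552ae5ce56d39f0c138a402), (.wt (nat_lit 10) (nat_lit 2) (nat_lit 0x8005f050b1c14005bb36440579e6853901d2) (.st (nat_lit 1076) (unp (nat_lit 7) (nat_lit 0x77f7368e305)) [] (.st (nat_lit 1179) [nat_lit 99, nat_lit 80] (unp (nat_lit 9) (nat_lit 0x5db198f03)) .nil)) (unp (nat_lit 7) (nat_lit 0x276f7a8e305)) [])⟩))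
 (.nd (nat_lit 1186) (.lf ⟨nat_lit 1, nat_lit 973, nat_lit 1179, (nat_lit 0x8002a811e04f1aa0206136073661d26696c5), (nat_lit 0x8006714c62f025510001054d72b11e44917c), (nat_lit 0x8005f040945c2381264e33ed79e0fd5f131a), (.wt (nat_lit 0) (nat_lit 0) (nat_lit 0x8005b36b62383f91e52464cb0337e95ef3f3) (.st (nat_lit 1184) [] [] .nil) (unp (nat_lit 7) (nat_lit 0x1efb3706405)) [])⟩)
 (.nd (nat_lit 1187) (.lf ⟨nat_lit 1, nat_lit 1179, nat_lit 550, (nat_lit 0x8005ef5032a773a6bc43c45a04e5473b41a8), (nat_lit 0x80071200412e1ed7e902645762042a79b238), (nat_lit 0x8000525ce01953c3ac62066470025b12e2b5), (.wt (nat_lit 11) (nat_lit 2) (nat_lit 0x8001001a845713a13d79669c2387b728a402) (.st (nat_lit 1066) (unp (nat_lit 7) (nat_lit 0x4ffe75f04)) [nat_lit 553, nat_lit 559] (.st (nat_lit 656) (unp (nat_lit 7) (nat_lit 0x59fede404)) (unp (nat_lit 10) (nat_lit 0x22f8ae2e03)) (.st (nat_lit 1179) (unp (nat_lit 7) (nat_lit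 0x1ef8fa8e305)) [nat_lit 396, nat_lit 385] .nil))) (unp (nat_lit 7) (nat_lit 0x1ce6d003)) [])⟩)
 (.lf ⟨nat_lit 1, nat_lit 550, nat_lit 1179, (nat_lit 0x8006c524611e3f57e91262595a902066045c), (nat_lit 0x8002a704f4997b765b04013a0082557a224b), (nat_lit 0x80022d3641417e96af16966027a69f4cf51a), (.wt (nat_lit 0) (nat_lit 0) (nat_lit 0x8005ef5032a773a6bc43c45a04e5473b41a8) (.st (nat_lit 1186) [] [] .nil) (unp (nat_lit 7) (nat_lit 0x5afeed104)) [])⟩))))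
 (.nd (nat_lit 1191) (.nd (nat_lit 1189) (.lf ⟨nat_lit 1, nat_lit 1179, nat_lit 973, (nat_lit 0x8005e762473e5f010039152b0b82c81e5671), (nat_lit 0x8002382c85f55540895e70476bf43a4903b9), (nat_lit 0x80028c0a67b373a2382494770e93b440909c), (.wt (nat_lit 11) (nat_lit 2) (nat_lit 0x80032e6bf1411c122d3e24cb50b1aa3a726c) (.st (nat_lit 977) (unp (nat_lit 8) (nat_lit 0x20803e6304)) [] (.st (nat_lit 922) (unp (nat_lit 7) (nat_lit 0x57fa6e204)) [] (.st (nat_lit 1179) [nat_lit 62, nat_lit 25] (unp (nat_lit 9) (nat_lit 0x5db198f03)) .nil))) (unp (nat_lit 7) (nat_lit 0x704b7b16305)) [])⟩)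
 (.nd (nat_lit 1190) (.lf ⟨nat_lit 0, nat_lit 1179, nat_lit 1179, (nat_lit 0x8004057303bc5030027692eb27100428a79b), one, (nat_lit 0x8001523d76780c44991ab5ce37959e1746b6), (.we (nat_lit 0) (nat_lit 0) (nat_lit 0x8005e762473e5f010039152b0b82c81e5671) (.st (nat_lit 1188) [] [] (.st (nat_lit 1185) (unp (nat_lit 7) (nat_lit 0xa7ddd03)) [] .nil)))⟩)
 (.lf ⟨nat_lit 0, nat_lit 1179, nat_lit 1179, (nat_lit 0x80039f0d94c472b2c85410c37b000404079b), one, (nat_lit 0x8007697b76785e712e22713a3ed44926c019), (.prod [nat_lit 1180, nat_lit 1189])⟩)))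
 (.nd (nat_lit 1192) (.lf ⟨nat_lit 1, nat_lit 956, nat_lit 1179, (nat_lit 0x80027124625b0230ae53c5bb5f154c6736fc), (nat_lit 0x8005c11a96603792550b81aa046409766174), (nat_lit 0x8006c50985bf1260477b04000b83ed15e701), (.wt (nat_lit 10) (nat_lit 0) (nat_lit 0x80014342a09c05804078228a25b37c0a659d) (.st (nat_lit 1183) (unp (nat_lit 7) (nat_lit 0x5df5003)) [] (.st (nat_lit 1024) (unp (nat_lit 7) (nat_lit 0x3bf2ed104)) (unp (nat_lit 10) (nat_lit 0x22f8ae2e03)) .nil)) (unp (nat_lit 7) (nat_lit 0x5fd6403)) [])⟩)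
 (.nd (nat_lit 1193) (.lf ⟨nat_lit 1, nat_lit 1179, nat_lit 1179, (nat_lit 0x80052320023a39045c79b2eb3b454d2b530a), (nat_lit 0x80016951245845c09154174f6b654d24713d), (nat_lit 0x8004090806dc39164b08912e51d4c422974f), (.wt (nat_lit 11) (nat_lit 0) (nat_lit 0x80005832e3660024904770391000015b73ac) (.st (nat_lit 1183) [nat_lit 100, nat_lit 97] [] (.st (nat_lit 1066) (unp (nat_lit 7) (nat_lit 0x5fe5e03)) [nat_lit 557, nat_lit 556] (.st (nat_lit 1187) (unp (nat_lit 7) (nat_lit 0x1ff57b06405)) (unp (nat_lit 10) (nat_lit 0x22f8aa2e03)) .nil))) (unp (nat_lit 7) (nat_lit 0x28ff3afe405)) [])⟩)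
 (.lf ⟨nat_lit 1, nat_lit 1142, nat_lit 1179, (nat_lit 0x80079b45802045739a0d904666054136404f), (nat_lit 0x8000087b746e6a622723a7b00bc56c74f5f5), (nat_lit 0x8001d25c16dc3df6b669f1ef06967337c11e), (.wt (nat_lit 11) (nat_lit 0) (nat_lit 0x80000254154759e38a79b00131a2eb4c40bc) (.st (nat_lit 1183) (unp (nat_lit 7) (nat_lit 0x17f2fb16305)) [] (.st (nat_lit 1024) (unp (nat_lit 7) (nat_lit 0x17837a86305)) [nat_lit 551, nat_lit 559] (.st (nat_lit 1152) (unp (nat_lit 7) (nat_lit 0xe4feee304)) [nat_lit 957] .nil))) (unp (nat_lit 7) (nat_lit 0x5bf6f5004)) [])⟩)))))))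

noncomputable def qcT_1194 : Tr :=
  (.nd (nat_lit 1214) (.nd (nat_lit 1204) (.nd (nat_lit 1199) (.nd (nat_lit 1196) (.nd (nat_lit 1195) (.lf ⟨nat_lit 2, nat_lit 372, nat_lit 372, (nat_lit 0x8005e751d12d24b2f054d2eb5f45123bc23a), (nat_lit 0x80013b2f91e51ab59e1ef01907359d63b541), (nat_lit 0x80051204e10028a5ce23a56c54d49328c278), (.wt (nat_lit 12) (nat_lit 0) (nat_lit 0x8004003e27a251774f0a52c806820000269c) (.st (nat_lit 1179) (unp (nat_lit 7) (nat_lit 0x16e8e303)) [] (.st (nat_lit 1192) (unp (nat_lit 7) (nat_lit 0x4cfef6404)) [nat_lit 1190] (.st (nat_lit 1181) (unp (nat_lit 7) (nat_lit 0x73fb7a8e305)) [nat_lit 1189] .nil))) (unp (nat_lit 8) (nat_lit 0xee90fce604)) [])⟩)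
 (.lf ⟨nat_lit 1, nat_lit 1179, nat_lit 1138, (nat_lit 0x80023a2000687692b55193e32893bc402477), (nat_lit 0x8005855ce01970b05c4496132891ab0e92eb), (nat_lit 0x80042a2a766932e23a0e93e23f562469f5e7), (.wt (nat_lit 11) (nat_lit 3) (nat_lit 0x8001aa3df1d214164b3d142a02670b45a79b) (.st (nat_lit 1141) (unp (nat_lit 7) (nat_lit 0x174b7afe305)) [] (.st (nat_lit 1145) (unp (nat_lit 7) (nat_lit 0xe5fa75104)) [nat_lit 882] (.st (nat_lit 1193) (unp (nat_lit 7) (nat_lit 0x2fea86304)) [] .nil))) (unp (nat_lit 7) (nat_lit 0x28f73a86405)) [])⟩))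
 (.nd (nat_lit 1197) (.lf ⟨nat_lit 1, nat_lit 1159, nat_lit 1179, (nat_lit 0x8005a956c45c7b34e37824095053b41ab2f9), (nat_lit 0x8005bc3f24021c32eb7d90085f11a4227669), (nat_lit 0x80040945c5191d279b74725905c1d73d1069), (.wt (nat_lit 11) (nat_lit 0) (nat_lit 0x8007b33666af02055416963867108037c4d0) (.st (nat_lit 1182) (unp (nat_lit 7) (nat_lit 0xeb06ee404)) [] (.st (nat_lit 1195) (unp (nat_lit 7) (nat_lit 0xe0fa8e304)) [] (.st (nat_lit 1173) (unp (nat_lit 8) (nat_lit 0x73804d6304)) [] .nil))) (unp (nat_lit 7) (nat_lit 0x70716e8e405)) [])⟩)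
 (.nd (nat_lit 1198) (.lf ⟨nat_lit 1, nat_lit 372, nat_lit 1197, (nat_lit 0x8004c172b73a2cf0696bf5b75234fd0c363b), one, one, (.df [nat_lit 33, nat_lit 33])⟩)
 (.lf ⟨nat_lit 1, nat_lit 1197, nat_lit 615, (nat_lit 0x8005a915e4f37e904751a7b03f524916845c), (nat_lit 0x80001902e2f92b942a6a87b73a44c60e404f), (nat_lit 0x8000fd0913bc5bb0d942524645a15e0c4339), (.wt (nat_lit 10) (nat_lit 2) (nat_lit 0x8001740bc1ab2464d05c17a24e46b02d8607) (.st (nat_lit 659) (unp (nat_lit 7) (nat_lit 0x4dfeee004)) [] (.st (nat_lit 1197) (unp (nat_lit 8) (nat_lit 0x75803e606405)) (unp (nat_lit 9) (nat_lit 0x5df198f03)) .nil)) (unp (nat_lit 7) (nat_lit 0x5bfade104)) [])⟩))))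
 (.nd (nat_lit 1201) (.nd (nat_lit 1200) (.lf ⟨nat_lit 1, nat_lit 1197, nat_lit 693, (nat_lit 0x8002f01d725b3f35f569c0390730266aa0ae), (nat_lit 0x8001a473e1aa00126c3b917c0bc1e7712180), (nat_lit 0x8003d130a3a728145a52b1c164b54c7017b3), (.wt (nat_lit 11) (nat_lit 2) (nat_lit 0x8000476bf09805c6a80892eb39a43a12e3df) (.st (nat_lit 703) (unp (nat_lit 7) (nat_lit 0x74f576fe405)) [] (.st (nat_lit 671) (unp (nat_lit 7) (nat_lit 0x17ff7706405)) [] (.st (nat_lit 1197) (unp (nat_lit 7) (nat_lit 0x2fe5f5104)) (unp (nat_lit 9) (nat_lit 0x5e7238f03)) .nil))) (unp (nat_lit 7) (nat_lit 0x29f97706405)) [])⟩)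
 (.lf ⟨nat_lit 1, nat_lit 693, nat_lit 1197, (nat_lit 0x8005c159e45a0a57e96644e479e1742a768f), (nat_lit 0x8007300683bc6036855b35ce5a92ab143020), (nat_lit 0x8003ac56c29a1b47660b817c5853d1073458), (.wt (nat_lit 0) (nat_lit 0) (nat_lit 0x8002f01d725b3f35f569c0390730266aa0ae) (.st (nat_lit 1199) [] [] .nil) (unp (nat_lit 7) (nat_lit 0x767f76fe405)) [])⟩))
 (.nd (nat_lit 1202) (.lf ⟨nat_lit 1, nat_lit 1197, nat_lit 1159, (nat_lit 0x80063842551d73a2eb22e03949901023a6a8), (nat_lit 0x80026c5e76a64ff4cf1691a95bf7306fc6af), (nat_lit 0x80005851d04656d5ce05227a59d43a40054c), (.wt (nat_lit 11) (nat_lit 2) (nat_lit 0x8001973e23a742540222d5237016032470ae) (.st (nat_lit 1163) (unp (nat_lit 7) (nat_lit 0x5aff0e404)) [] (.st (nat_lit 659) (unp (nat_lit 7) (nat_lit 0x20f56f16405)) [] (.st (nat_lit 1197) (unp (nat_lit 7) (nat_lit 0x19f56f06405)) [nat_lit 399, nat_lit 375] .nil))) (unp (nat_lit 7) (nat_lit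 0xe0e275004)) [])⟩)
 (.nd (nat_lit 1203) (.lf ⟨nat_lit 1, nat_lit 1197, nat_lit 1197, (nat_lit 0x8003f237c0730335b702036463b0e942a5e7), (nat_lit 0x8001ab56c28c6855b74cf13d4c420823a541), (nat_lit 0x8005e732e04654d0400e90d90c10a51e5505), (.wt (nat_lit 11) (nat_lit 2) (nat_lit 0x8004f35055f47b304e6602eb68f79e7e90fd) (.st (nat_lit 1198) (unp (nat_lit 7) (nat_lit 0x1ff2fb16405)) [] (.st (nat_lit 657) (unp (nat_lit 8) (nat_lit 0x2a805c03)) [nat_lit 635] (.st (nat_lit 1197) (unp (nat_lit 7) (nat_lit 0x2fef06304)) [nat_lit 402, nat_lit 383] .nil))) (unp (nat_lit 7) (nat_lit 0x19fd728e405)) [])⟩)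
 (.lf ⟨nat_lit 1, nat_lit 1159, nat_lit 1197, (nat_lit 0x8005bb11e42524c39025979e12d0394cf541), (nat_lit 0x8007d84e61b47b35413906204ff52b1a9100), (nat_lit 0x8005550ae24b25b0b82f05232892463d0100), (.wt (nat_lit 12) (nat_lit 2) (nat_lit 0x8002a845851d0e87825056a65b72ab70059e) (.st (nat_lit 1201) (unp (nat_lit 7) (nat_lit 0x1ea86403)) [] (.st (nat_lit 1178) (unp (nat_lit 9) (nat_lit 0xed79c01cc9d05)) [] (.st (nat_lit 1175) (unp (nat_lit 7) (nat_lit 0x1ef93b06305)) [] .nil))) (unp (nat_lit 7) (nat_lit 0x73f96f16405)) [])⟩)))))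
 (.nd (nat_lit 1209) (.nd (nat_lit 1206) (.nd (nat_lit 1205) (.lf ⟨nat_lit 1, nat_lit 1197, nat_lit 1159, (nat_lit 0x80027127a39a02e4774c471233949d0d9073), (nat_lit 0x8001e70b832e18062050546e24c3640085a8), (nat_lit 0x8000260040011682b54e454761723a53c3b4), (.wt (nat_lit 11) (nat_lit 2) (nat_lit 0x80045a6fc0fd05c0890017e92f95251e542a) (.st (nat_lit 1167) (unp (nat_lit 7) (nat_lit 0x75f76e86405)) [] (.st (nat_lit 1203) (unp (nat_lit 7) (nat_lit 0x7771370e405)) [] (.st (nat_lit 1202) (unp (nat_lit 7) (nat_lit 0x33f706404)) [] .nil))) (unp (nat_lit 7) (nat_lit 0x4c9676404)) [])⟩)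
 (.lf ⟨nat_lit 1, nat_lit 1159, nat_lit 1197, (nat_lit 0x80073e1d73f33b41d26690e43911c145a796), (nat_lit 0x80051a1524d06aa6383a754c17c1b4554617), (nat_lit 0x8000393e21416712f469c04f5a920009c100), (.wt (nat_lit 0) (nat_lit 0) (nat_lit 0x80027127a39a02e4774c471233949d0d9073) (.st (nat_lit 1204) [] [] .nil) (unp (nat_lit 7) (nat_lit 0x3296e5f04)) [])⟩))
 (.nd (nat_lit 1207) (.lf ⟨nat_lit 1, nat_lit 372, nat_lit 1206, (nat_lit 0x80064b2001d27e90c152306350b2cf2495f0), one, one, (.df [nat_lit 29, nat_lit 30])⟩)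
 (.nd (nat_lit 1208) (.lf ⟨nat_lit 1, nat_lit 1206, nat_lit 372, one, (nat_lit 0x80064b2001d27e90c152306350b2cf2495f0), one, (.wt (nat_lit 0) (nat_lit 0) (nat_lit 0x80064b2001d27e90c152306350b2cf2495f0) (.st (nat_lit 1206) [] [] .nil) [] [])⟩)
 (.lf ⟨nat_lit 1, nat_lit 1206, nat_lit 1179, (nat_lit 0x80076624617c5b73df69c0e956d0103a759d), (nat_lit 0x80039a4092812cf0bc30a45e678169505255), (nat_lit 0x80054705c6af4e404015218045e7d826c047), (.wt (nat_lit 10) (nat_lit 2) (nat_lit 0x8000046693d13d04023ac72b6b01c1664227) (.st (nat_lit 1181) (unp (nat_lit 7) (nat_lit 0x2af53706405)) [] (.st (nat_lit 1206) (unp (nat_lit 7) (nat_lit 0x1ee86303)) (unp (nat_lit 9) (nat_lit 0x627198f03)) .nil)) (unp (nat_lit 7) (nat_lit 0x72f37316305)) [])⟩))))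
 (.nd (nat_lit 1211) (.nd (nat_lit 1210) (.lf ⟨nat_lit 1, nat_lit 1179, nat_lit 1206, (nat_lit 0x8006692ae17c09124b69c5545850632a859d), (nat_lit 0x8004576732811e704730a0404024252c8255), (nat_lit 0x8002ae5a86af6bf0401c366913b5120a65f5), (.wt (nat_lit 0) (nat_lit 0) (nat_lit 0x80076624617c5b73df69c0e956d0103a759d) (.st (nat_lit 1208) [] [] .nil) (unp (nat_lit 7) (nat_lit 0x79f6303)) [])⟩)
 (.lf ⟨nat_lit 1, nat_lit 1206, nat_lit 867, (nat_lit 0x8000a11970681c161329a70040917445e227), (nat_lit 0x8007e90986712711aa3975f161770b0a629a), (nat_lit 0x80023a0107b362455579647725b0ae36409c), (.wt (nat_lit 11) (nat_lit 2) (nat_lit 0x8001c32ce5f155450b6e224b2817ef143405) (.st (nat_lit 875) (unp (nat_lit 7) (nat_lit 0x74fd3706405)) [] (.st (nat_lit 687) (unp (nat_lit 7) (nat_lit 0x75f97b06305)) [nat_lit 684, nat_lit 674] (.st (nat_lit 1206) (unp (nat_lit 7) (nat_lit 0x5ee6003)) [nat_lit 399, nat_lit 392]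 .nil))) (unp (nat_lit 7) (nat_lit 0x73f7728e305)) [])⟩))
 (.nd (nat_lit 1212) (.lf ⟨nat_lit 1, nat_lit 1142, nat_lit 1206, (nat_lit 0x8005e737c7d83d10193d738a63b5f012645e), (nat_lit 0x8001a81b451945a12e13a0d90105e72ce59d), (nat_lit 0x80000259964b3a445737951a73e6b04e43f3), (.wt (nat_lit 11) (nat_lit 1) (nat_lit 0x8005c12293b439749000146e5bf2ae2a749d) (.st (nat_lit 1208) (unp (nat_lit 7) (nat_lit 0xfafe303)) [] (.st (nat_lit 1195) (unp (nat_lit 8) (nat_lit 0x1d805b6404)) [nat_lit 1180] (.st (nat_lit 1147) (unp (nat_lit 7) (nat_lit 0x1e7f3a86305)) [nat_lit 1139] .nil))) (unp (nat_lit 7) (nat_lit 0xe3e6ee404)) [])⟩)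
 (.nd (nat_lit 1213) (.lf ⟨nat_lit 1, nat_lit 1206, nat_lit 1142, (nat_lit 0x80023a46e0e81a91005ce7964cf6036383d0), (nat_lit 0x80060325551728970b28a62474f39139a1a8), (nat_lit 0x8000c15bc7b372b24c23a06830a79e40013b), (.wt (nat_lit 0) (nat_lit 0) (nat_lit 0x8005e737c7d83d10193d738a63b5f012645e) (.st (nat_lit 1211) [] [] .nil) (unp (nat_lit 7) (nat_lit 0x410275004)) [])⟩)
 (.lf ⟨nat_lit 1, nat_lit 956, nat_lit 1206, (nat_lit 0x8007661803ed1a427804e55558563b15e0b8), (nat_lit 0x8001410b82552a86607d939a7822b90ae174), (nat_lit 0x8000106853642810d90ae0b82b915225b001), (.wt (nat_lit 11) (nat_lit 0) (nat_lit 0x80070b1693974d02290803df28a4574e43f2) (.st (nat_lit 1210) (unp (nat_lit 7) (nat_lit 0xe2f5003)) [] (.st (nat_lit 1132) (unp (nat_lit 7) (nat_lit 0xedfaee204)) [nat_lit 869] (.st (nat_lit 1137) (unp (nat_lit 7) (nat_lit 0xe5fa8e404)) [nat_lit 916] .nil))) (unp (nat_lit 7) (nat_lit 0x77816f16405))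 [])⟩))))))
 (.nd (nat_lit 1224) (.nd (nat_lit 1219) (.nd (nat_lit 1216) (.nd (nat_lit 1215) (.lf ⟨nat_lit 1, nat_lit 372, nat_lit 1214, (nat_lit 0x8005e77a26601d76e25f50473647690a628a), one, one, (.df (unp (nat_lit 5) (nat_lit 0x5dda03)))⟩)
 (.lf ⟨nat_lit 0, nat_lit 1214, nat_lit 1214, (nat_lit 0x8001ed4fd5235bf24c2f92ce1c17305ef2d8), one, (nat_lit 0x8007d833973e7b77474cf4ff3d050543a5e7), (.cmp (nat_lit 1214) (nat_lit 1214) (unp (nat_lit 7) (nat_lit 0x2f3706304)) [nat_lit 399, nat_lit 391])⟩))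
 (.nd (nat_lit 1217) (.lf ⟨nat_lit 1, nat_lit 1214, nat_lit 372, one, (nat_lit 0x8005e77a26601d76e25f50473647690a628a), one, (.wt (nat_lit 0) (nat_lit 0) (nat_lit 0x8005e77a26601d76e25f50473647690a628a) (.st (nat_lit 1214) [] [] .nil) [] [])⟩)
 (.nd (nat_lit 1218) (.lf ⟨nat_lit 1, nat_lit 1214, nat_lit 849, (nat_lit 0x8005a94771ed3641a803951d1522083f228a), (nat_lit 0x80022d4d039104e3665125c13391a445e54c), (nat_lit 0x8004e679b1e75e75f56600690390ae3ed010), (.wt (nat_lit 10) (nat_lit 2) (nat_lit 0x8001e55254d011e5ef46e6b03f95851ab25b) (.st (nat_lit 864) (unp (nat_lit 7) (nat_lit 0x4d0b0e404)) [] (.st (nat_lit 1214) [nat_lit 81, nat_lit 121] (unp (nat_lit 9) (nat_lit 0x5f7238f03)) .nil)) (unp (nat_lit 8) (nat_lit 0x72806103)) [])⟩)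
 (.lf ⟨nat_lit 1, nat_lit 1214, nat_lit 912, (nat_lit 0x80064b7b71d214169c51a49d60323a43a505), (nat_lit 0x8006bc2c843a1a45a55f42553f5499040008), (nat_lit 0x80012d6a83b95c10e86bf56c6712ab3a451a), (.wt (nat_lit 11) (nat_lit 2) (nat_lit 0x80009c4903bc39f3ef54d12d74751d058673) (.st (nat_lit 917) (unp (nat_lit 7) (nat_lit 0x1e857286405)) [] (.st (nat_lit 655) (unp (nat_lit 7) (nat_lit 0x33e6e5004)) (unp (nat_lit 9) (nat_lit 0x58ad17203)) (.st (nat_lit 1214) (unp (nat_lit 7) (nat_lit 0xe6deed004)) (unp (nat_lit 9) (nat_lit 0x5df238f03)) .nil))) (unp (nat_lit 7) (nat_lit 0x20f4fb16305)) [])⟩))))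
 (.nd (nat_lit 1221) (.nd (nat_lit 1220) (.lf ⟨nat_lit 1, nat_lit 1214, nat_lit 1214, (nat_lit 0x8003661973df66459970140203355522717c), (nat_lit 0x8003661973df66459970140203355522717c), (nat_lit 0x8000477ef1000803912594572710a554c278), (.wt (nat_lit 11) (nat_lit 2) (nat_lit 0x8006af29a67345e39f4933663f3519020554) (.st (nat_lit 1217) (unp (nat_lit 7) (nat_lit 0xecfe75f04)) [] (.st (nat_lit 861) (unp (nat_lit 7) (nat_lit 0x27837afe405)) [] (.st (nat_lit 1214) (unp (nat_lit 7) (nat_lit 0x33e716404)) [nat_lit 396, nat_lit 375] .nil))) (unp (nat_lit 8) (nat_lit 0x27805e506305)) [])⟩)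
 (.lf ⟨nat_lit 1, nat_lit 1214, nat_lit 1142, (nat_lit 0x80067870b2f96605f46aa5852007962eb12d), (nat_lit 0x80004f11e1411d22f03f979e0890fd1aa28a), (nat_lit 0x80005c50359e79e2496bc7010bc3f3766238), (.wt (nat_lit 12) (nat_lit 2) (nat_lit 0x8002b561371220878227a18024b3f926c5b3) (.st (nat_lit 1143) (unp (nat_lit 7) (nat_lit 0xe0e275004)) [] (.st (nat_lit 1071) (unp (nat_lit 8) (nat_lit 0xa7f3ffe69c05)) (unp (nat_lit 9) (nat_lit 0x55ad56603)) (.st (nat_lit 1214) (unp (nat_lit 7) (nat_lit 0x4b6e8e304)) [nat_lit 402, nat_lit 377] .nil))) (unp (nat_lit 7) (nat_lit 0x1f2f6303)) [])⟩))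
 (.nd (nat_lit 1222) (.lf ⟨nat_lit 1, nat_lit 1214, nat_lit 867, (nat_lit 0x8000fd78228a1a40690a64c46dc42a4ff5f1), (nat_lit 0x80032e76915e76602379624b02e54d0525bc), (nat_lit 0x80038a06355579b54745a0c13914cf5c12b5), (.wt (nat_lit 12) (nat_lit 2) (nat_lit 0x8003ed4d00a679629a5f504724c1521a47a2) (.st (nat_lit 874) (unp (nat_lit 7) (nat_lit 0x2ffe6d104)) [] (.st (nat_lit 1071) (unp (nat_lit 8) (nat_lit 0xaab6fce6d99c06)) (unp (nat_lit 9) (nat_lit 0x556b97203)) (.st (nat_lit 1214) (unp (nat_lit 7) (nat_lit 0x70f37a8e305)) [nat_lit 402, nat_lit 377] .nil))) (unp (nat_lit 7) (nat_lit 0x70f2fa8e405)) [])⟩)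
 (.nd (nat_lit 1223) (.lf ⟨nat_lit 1, nat_lit 867, nat_lit 1214, (nat_lit 0x80065b2550524570e954d3a474f45a063624), (nat_lit 0x8006bc4cb3b45ef5ce0b843a499001197002), (nat_lit 0x8002492eb25b6717472ce7ef46e09c6af126), (.wt (nat_lit 0) (nat_lit 0) (nat_lit 0x8000fd78228a1a40690a64c46dc42a4ff5f1) (.st (nat_lit 1221) [] [] .nil) (unp (nat_lit 8) (nat_lit 0x72806403)) [])⟩)
 (.lf ⟨nat_lit 1, nat_lit 1214, nat_lit 1214, (nat_lit 0x80016923817c5ef5253d16133df31a0c3098), (nat_lit 0x8004e63d00080a65f52ab68f2b97694e4058), (nat_lit 0x80054739a00113a5196734c169f289197664), (.wt (nat_lit 11) (nat_lit 1) (nat_lit 0x8004ff6e20462895a52f956c4cb7ef0a1278) (.st (nat_lit 1218) (unp (nat_lit 7) (nat_lit 0x2efb06404)) [] (.st (nat_lit 1135) (unp (nat_lit 7) (nat_lit 0x570aee004)) [nat_lit 913] (.st (nat_lit 1222) (unp (nat_lit 7) (nat_lit 0x19f93afe305)) [nat_lit 869] .nil))) (unp (nat_lit 7) (nat_lit 0xf93706304))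 [])⟩)))))
 (.nd (nat_lit 1229) (.nd (nat_lit 1226) (.nd (nat_lit 1225) (.lf ⟨nat_lit 1, nat_lit 1214, nat_lit 1214, (nat_lit 0x80050b5ce3df3901c31977d826c4cf3a425b), (nat_lit 0x8007a20332081e717c6aa3f20405550207b0), (nat_lit 0x80012d4581b41971aa74f5124cb3917a2100), (.wt (nat_lit 0) (nat_lit 0) (nat_lit 0x80016923817c5ef5253d16133df31a0c3098) (.st (nat_lit 1223) [] [] .nil) (unp (nat_lit 8) (nat_lit 0x71805c5f6405)) [])⟩)
 (.lf ⟨nat_lit 1, nat_lit 1214, nat_lit 1214, (nat_lit 0x8003642472f46173d139a6e25f040579b008), (nat_lit 0x8000c42474e36171002eb42a0471ab0e45bf), (nat_lit 0x8001e73d71c359d59e0195ce5ef5190c1001), (.wt (nat_lit 11) (nat_lit 3) (nat_lit 0x8005a84050d943a6035f522e5852380fd091) (.st (nat_lit 1224) (unp (nat_lit 7) (nat_lit 0x41728e404)) [] (.st (nat_lit 1219) (unp (nat_lit 7) (nat_lit 0xfb06303)) [] (.st (nat_lit 1223) (unp (nat_lit 7) (nat_lit 0x57e6e6004)) [] .nil))) (unp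 (nat_lit 7) (nat_lit 0x20ff6e86305)) [])⟩))
 (.nd (nat_lit 1227) (.lf ⟨nat_lit 1, nat_lit 956, nat_lit 1214, (nat_lit 0x80027169f6a845c5bf3d04256fc79b67313a), (nat_lit 0x8004d07123642496b02ab1a90190696245e7), (nat_lit 0x8005ce27129a31a1ef3e33df0c45f5089152), (.wt (nat_lit 11) (nat_lit 3) (nat_lit 0x8003a431a5bb17473e7d824c3395a81ef3f9) (.st (nat_lit 1225) (unp (nat_lit 7) (nat_lit 0x1afefafe305)) [] (.st (nat_lit 1220) (unp (nat_lit 7) (nat_lit 0x33ea8e304)) [] (.st (nat_lit 1150) (unp (nat_lit 7) (nat_lit 0xe7eeddf04)) [] .nil))) (unp (nat_lit 7) (nat_lit 0x1d9fdb03)) [])⟩)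
 (.nd (nat_lit 1228) (.lf ⟨nat_lit 1, nat_lit 1214, nat_lit 956, (nat_lit 0x8000e45232f929a25513a7b01e545c5a5613), (nat_lit 0x8004e33975c10805f04e44ff17c3df6697d8), (nat_lit 0x80039723a1690e92c874f525073229685098), (.wt (nat_lit 0) (nat_lit 0) (nat_lit 0x80027169f6a845c5bf3d04256fc79b67313a) (.st (nat_lit 1226) [] [] .nil) (unp (nat_lit 7) (nat_lit 0x28fb6e86305)) [])⟩)
 (.lf ⟨nat_lit 1, nat_lit 372, nat_lit 1228, (nat_lit 0x80005c6fc0801431690102cf1d76714cf5b7), one, one, (.df (unp (nat_lit 5) (nat_lit 0x6b9603)))⟩))))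
 (.nd (nat_lit 1232) (.nd (nat_lit 1230) (.lf ⟨nat_lit 0, nat_lit 1228, nat_lit 1228, (nat_lit 0x80004e04073e2f020002001027859d1e5271), one, (nat_lit 0x8000c47b71001520404e43ac60351226c517), (.cmp (nat_lit 1228) (nat_lit 1228) (unp (nat_lit 7) (nat_lit 0x1d857286405)) [nat_lit 396, nat_lit 375])⟩)
 (.nd (nat_lit 1231) (.lf ⟨nat_lit 1, nat_lit 1228, nat_lit 372, one, (nat_lit 0x80005c6fc0801431690102cf1d76714cf5b7), one, (.wt (nat_lit 0) (nat_lit 0) (nat_lit 0x80005c6fc0801431690102cf1d76714cf5b7) (.st (nat_lit 1228) [] [] .nil) [] [])⟩)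
 (.lf ⟨nat_lit 1, nat_lit 1228, nat_lit 881, (nat_lit 0x8006692ae17c09124b69c5545850632a859d), (nat_lit 0x80024b5ef5540e815256c73a6782594e4547), (nat_lit 0x8003bc0bc0911aa52b3391c124c79b2085f5), (.wt (nat_lit 10) (nat_lit 2) (nat_lit 0x80036453c6bc3d10043ef0e91003d7281477) (.st (nat_lit 887) (unp (nat_lit 7) (nat_lit 0x4d0a76004)) [] (.st (nat_lit 1228) [nat_lit 80, nat_lit 123] (unp (nat_lit 9) (nat_lit 0x5db238f03)) .nil)) (unp (nat_lit 7) (nat_lit 0x1c7fd003)) [])⟩)))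
 (.nd (nat_lit 1233) (.lf ⟨nat_lit 1, nat_lit 1228, nat_lit 891, (nat_lit 0x8005e724612e0520692380d90e86035bb033), (nat_lit 0x80038a72b0e831a5ef4e66a832e3d06b6517), (nat_lit 0x8006850472952290737ef6071ef2a73394c6), (.wt (nat_lit 10) (nat_lit 2) (nat_lit 0x80039f05836615e1d22476af65b0c33b92f4) (.st (nat_lit 911) (unp (nat_lit 8) (nat_lit 0x1a803e6304)) [nat_lit 892, nat_lit 895] (.st (nat_lit 1228) [nat_lit 80, nat_lit 23] (unp (nat_lit 9) (nat_lit 0x617198f03)) .nil)) (unp (nat_lit 7) (nat_lit 0x4eff06304)) [])⟩)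
 (.nd (nat_lit 1234) (.lf ⟨nat_lit 1, nat_lit 1228, nat_lit 985, (nat_lit 0x8005c12473ac24b66473e7e91694771c3409), (nat_lit 0x8004900041c10803d17662955b769f1d7169), (nat_lit 0x8004932383b93d01265852594907b76e23a4), (.wt (nat_lit 11) (nat_lit 2) (nat_lit 0x8000526850585a804e6bf0d91971c309312d) (.st (nat_lit 990) (unp (nat_lit 7) (nat_lit 0x1a4b3a86405)) [] (.st (nat_lit 889) (unp (nat_lit 7) (nat_lit 0x69f6003)) [] (.st (nat_lit 1228) (unp (nat_lit 7) (nat_lit 0x5e6e303)) (unp (nat_lit 9) (nat_lit 0x5ef258f03)) .nil))) (unp (nat_lit 7) (nat_lit 0x9a06103)) [])⟩)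
 (.lf ⟨nat_lit 1, nat_lit 1228, nat_lit 973, (nat_lit 0x8006380891681000bc6a82c82895bc23a22d), (nat_lit 0x8007a214113a5a95bf2b959d4e46aa15e3e3), (nat_lit 0x80003920863823a12e2f059d04e1410203d0), (.wt (nat_lit 11) (nat_lit 2) (nat_lit 0x8003f568f4d03d16dc7ef3b438a6712270c3) (.st (nat_lit 1129) (unp (nat_lit 7) (nat_lit 0x3302f5f04)) [] (.st (nat_lit 659) (unp (nat_lit 7) (nat_lit 0x1af4fb0e305)) [] (.st (nat_lit 1228) (unp (nat_lit 7) (nat_lit 0x5505f6204)) [nat_lit 399, nat_lit 390] .nil))) (unp (nat_lit 7) (nat_lit 0x53ee6e404)) [])⟩)))))))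

noncomputable def qcT_1235 : Tr :=
  (.nd (nat_lit 1255) (.nd (nat_lit 1245) (.nd (nat_lit 1240) (.nd (nat_lit 1237) (.nd (nat_lit 1236) (.lf ⟨nat_lit 1, nat_lit 1228, nat_lit 985, (nat_lit 0x8002c824759d73a29562026c0e93ac0914fd), (nat_lit 0x8007661e74493910201aa08074f7b32896a6), (nat_lit 0x8007b00084c16692786a609804712d6e2660), (.wt (nat_lit 11) (nat_lit 2) (nat_lit 0x8000696bf45717c59e39140269c4e35991e7) (.st (nat_lit 992) (unp (nat_lit 7) (nat_lit 0xabf5e03)) [] (.st (nat_lit 889) (unp (nat_lit 7) (nat_lit 0x1a7f3b0e305)) [] (.st (nat_lit 1228) (unp (nat_lit 7) (nat_lit 0x27716f16405)) [nat_lit 399, nat_lit 379] .nil))) (unp (nat_lit 7) (nat_lit 0x20816f06305)) [])⟩)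
 (.lf ⟨nat_lit 1, nat_lit 1228, nat_lit 973, (nat_lit 0x8006784251d715e5f52594c41692f033953c), (nat_lit 0x8005415230636645ce3974250390935c15f1), (nat_lit 0x80067850b43c1691d773a5196bf7d827863b), (.wt (nat_lit 11) (nat_lit 2) (nat_lit 0x8004092d853c5994f304e73a17c6fc69c7ef) (.st (nat_lit 1129) (unp (nat_lit 7) (nat_lit 0xe1fa75004)) [] (.st (nat_lit 659) (unp (nat_lit 7) (nat_lit 0x2ff6fe304)) [nat_lit 635] (.st (nat_lit 1228) (unp (nat_lit 7) (nat_lit 0xb205003)) [nat_lit 399, nat_lit 389] .nil))) (unp (nat_lit 8) (nat_lit 0x1f805d506305)) [])⟩))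
 (.nd (nat_lit 1238) (.lf ⟨nat_lit 1, nat_lit 973, nat_lit 1228, (nat_lit 0x80056d11e0bc6af74731a67115e1004c6174), (nat_lit 0x80058567170b24c2d80583a745c0080e823a), (nat_lit 0x8004021d753c6a627879e1745476af36451d), (.wt (nat_lit 0) (nat_lit 0) (nat_lit 0x8006784251d715e5f52594c41692f033953c) (.st (nat_lit 1236) [] [] .nil) (unp (nat_lit 7) (nat_lit 0x1782fa86405)) [])⟩)
 (.nd (nat_lit 1239) (.lf ⟨nat_lit 1, nat_lit 1228, nat_lit 985, (nat_lit 0x8001e520024c4773d05c143a3b466451a0e8), (nat_lit 0x8004937302460683d70334f328c5f40930c3), (nat_lit 0x80002e7964c128a27813d09c7d825520051d), (.wt (nat_lit 11) (nat_lit 2) (nat_lit 0x8000520330580041ab2ae49069c28109353c) (.st (nat_lit 990) (unp (nat_lit 7) (nat_lit 0x1a4b6f16405)) [] (.st (nat_lit 887) (unp (nat_lit 7) (nat_lit 0x3306e5004)) [] (.st (nat_lit 1228) (unp (nat_lit 7) (nat_lit 0x7bd5c03)) [nat_lit 374] .nil))) (unp (nat_lit 7) (nat_lit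 0xf76e8e304)) [])⟩)
 (.lf ⟨nat_lit 1, nat_lit 985, nat_lit 1228, (nat_lit 0x80040051d7b759979b7d84575f407325b1ed), (nat_lit 0x8006aa0890204e43915c122d3f56b6700519), (nat_lit 0x8002f90025c15a84d02d85a53ef3f26c5281), (.wt (nat_lit 0) (nat_lit 0) (nat_lit 0x8001e520024c4773d05c143a3b466451a0e8) (.st (nat_lit 1238) [] [] .nil) [nat_lit 98] [])⟩))))
 (.nd (nat_lit 1242) (.nd (nat_lit 1241) (.lf ⟨nat_lit 1, nat_lit 1206, nat_lit 1228, (nat_lit 0x8001a97b34e34f35c128945a0a11741a8379), (nat_lit 0x8006693f23792ae4001c36b6046004169457), (nat_lit 0x80037c5256604490466172270693bc63b0c4), (.wt (nat_lit 11) (nat_lit 1) (nat_lit 0x8000fd1800462465bf4e42f428a3f94ff2eb) (.st (nat_lit 1232) (unp (nat_lit 7) (nat_lit 0xf37a8e304)) [] (.st (nat_lit 962) (unp (nat_lit 7) (nat_lit 0x2e96f5104)) [nat_lit 909] (.st (nat_lit 1213) (unp (nat_lit 7) (nat_lit 0x2d7f7afe305)) [nat_lit 957] .nil))) (unp (nat_lit 7)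 (nat_lit 0x174b3b06405)) [])⟩)
 (.lf ⟨nat_lit 1, nat_lit 1228, nat_lit 1206, (nat_lit 0x8005a80041a90e83f90893bc0a14771aa2b9), (nat_lit 0x80059d1d25e70581d76b67822c812e1c31a9), (nat_lit 0x8002cf6385123b47b02470b86604053f539f), (.wt (nat_lit 0) (nat_lit 0) (nat_lit 0x8001a97b34e34f35c128945a0a11741a8379) (.st (nat_lit 1240) [] [] .nil) (unp (nat_lit 7) (nat_lit 0x28fd7306305)) [])⟩))
 (.nd (nat_lit 1243) (.lf ⟨nat_lit 1, nat_lit 1228, nat_lit 1228, (nat_lit 0x80031a74745c36645a4c11d70086bc39a13b), (nat_lit 0x8000472812550393f24c11d77966240694cb), (nat_lit 0x8006b01c369c2eb1d73e365b1e52552291a9), (.wt (nat_lit 11) (nat_lit 1) (nat_lit 0x80059e06813d3664c10196aa5f552b208613) (.st (nat_lit 1233) (unp (nat_lit 7) (nat_lit 0xe106de104)) [] (.st (nat_lit 1004) (unp (nat_lit 7) (nat_lit 0x1c9f6103)) [] (.st (nat_lit 1239) (unp (nat_lit 7) (nat_lit 0x72813b0e405)) [] .nil))) (unp (nat_lit 7) (nat_lit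 0xa52de03)) [])⟩)
 (.nd (nat_lit 1244) (.lf ⟨nat_lit 1, nat_lit 1228, nat_lit 1228, (nat_lit 0x80024970b6243d155552b60329576964b093), (nat_lit 0x80023813a69c6af3642a81801743f34587b3), (nat_lit 0x8006b039103327a22e5a84e456d13d22946e), (.wt (nat_lit 11) (nat_lit 0) (nat_lit 0x8004773f31414c43ed6202893bc3e242528c) (.st (nat_lit 1234) (unp (nat_lit 7) (nat_lit 0x337b06304)) [] (.st (nat_lit 978) (unp (nat_lit 7) (nat_lit 0x3e96de404)) [] (.st (nat_lit 1237) (unp (nat_lit 7) (nat_lit 0x35ea75f04)) [] .nil))) (unp (nat_lit 7) (nat_lit 0x3b0a76004)) [])⟩)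
 (.lf ⟨nat_lit 1, nat_lit 372, nat_lit 1244, (nat_lit 0x80068522e12e74709354c01059928127a56d), one, one, (.df [nat_lit 8])⟩)))))
 (.nd (nat_lit 1250) (.nd (nat_lit 1247) (.nd (nat_lit 1246) (.lf ⟨nat_lit 1, nat_lit 1244, nat_lit 1214, (nat_lit 0x80040273a00104e1d70c16e22f4599259033), (nat_lit 0x8002eb4ff6a80c12ae39159d3640c40336bf), (nat_lit 0x80040561367827a52523820860379e58579b), (.wt (nat_lit 10) (nat_lit 2) (nat_lit 0x8004d072b0020c101004779b0c47963d12ab) (.st (nat_lit 1216) (unp (nat_lit 7) (nat_lit 0xa28e303)) [] (.st (nat_lit 1244) [nat_lit 99] [nat_lit 375] .nil)) (unp (nat_lit 7) (nat_lit 0xe4fe75f04)) [])⟩)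
 (.lf ⟨nat_lit 1, nat_lit 1244, nat_lit 1228, (nat_lit 0x8005ef3ef2cf56d2f90692292782551ed51d), (nat_lit 0x8003d179e2f073e51a5a824952b45c168525), (nat_lit 0x8004902716af68f1971521806735b36a8554), (.wt (nat_lit 10) (nat_lit 2) (nat_lit 0x8006850264991695ce42a37c5250ae0a1402) (.st (nat_lit 1230) (unp (nat_lit 7) (nat_lit 0x2df93686405)) [] (.st (nat_lit 1244) [nat_lit 99, nat_lit 121] (unp (nat_lit 9) (nat_lit 0x62b238f03)) .nil)) (unp (nat_lit 7) (nat_lit 0xe5e66e104)) [])⟩))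
 (.nd (nat_lit 1248) (.lf ⟨nat_lit 1, nat_lit 1244, nat_lit 1159, (nat_lit 0x80005c13d5f10e843c04f6717a217c45e4d0), (nat_lit 0x80045e3e270054715251743c30a6384c65bf), (nat_lit 0x80037c09c7e95bc3643e23d702040024739f), (.wt (nat_lit 10) (nat_lit 2) (nat_lit 0x8005175193d11977690200105f017c28c126) (.st (nat_lit 1161) (unp (nat_lit 7) (nat_lit 0x20fb368e305)) [] (.st (nat_lit 1244) [nat_lit 99, nat_lit 23] [nat_lit 399, nat_lit 387] .nil)) (unp (nat_lit 8) (nat_lit 0x27805e606305)) [])⟩)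
 (.nd (nat_lit 1249) (.lf ⟨nat_lit 1, nat_lit 1244, nat_lit 1142, (nat_lit 0x8003e21b46b07962890985994f33903d1477), (nat_lit 0x8003f36a84054c65ef0bc5bc3ef796001040), (nat_lit 0x8003f267317c4cf22e4256fc7303ac65b555), (.wt (nat_lit 11) (nat_lit 2) (nat_lit 0x8005bc06912612e69c3f522d1a86605542a8) (.st (nat_lit 1193) (unp (nat_lit 8) (nat_lit 0x77803e516305)) [] (.st (nat_lit 1181) (unp (nat_lit 7) (nat_lit 0x2f3b06404)) [] (.st (nat_lit 1244) (unp (nat_lit 7) (nat_lit 0x666d103)) [nat_lit 399] .nil))) (unp (nat_lit 7) (nat_lit 0x1f70fafe305)) [])⟩)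
 (.lf ⟨nat_lit 1, nat_lit 1244, nat_lit 1228, (nat_lit 0x8007667301972003df01969f0e813b3640c1), (nat_lit 0x8001ab4cb50369c40053c56c4992f43ed379), (nat_lit 0x8002f93e228c5177b76a825938a09818069c), (.wt (nat_lit 11) (nat_lit 2) (nat_lit 0x80047763804f5553e24583644496245a53b4) (.st (nat_lit 1231) (unp (nat_lit 7) (nat_lit 0x27f76efe405)) [] (.st (nat_lit 1089) (unp (nat_lit 8) (nat_lit 0x77805c626305)) [nat_lit 882, nat_lit 885] (.st (nat_lit 1244) (unp (nat_lit 7) (nat_lit 0x33ea8e304)) [nat_lit 402, nat_lit 385] .nil))) (unp (nat_lit 7) (nat_lit 0xe0e2dd004)) [])⟩))))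
 (.nd (nat_lit 1252) (.nd (nat_lit 1251) (.lf ⟨nat_lit 1, nat_lit 1142, nat_lit 1244, (nat_lit 0x80025950336622717c66056c5bb70165b100), (nat_lit 0x80012e0e838a6133646641977d80c429a477), (nat_lit 0x8004cf11e04f5e73d77e96b613d4c409170b), (.wt (nat_lit 11) (nat_lit 0) (nat_lit 0x8001aa3b46692f406823861379e0a62473f5) (.st (nat_lit 1245) (unp (nat_lit 7) (nat_lit 0x5fd5003)) [] (.st (nat_lit 1227) (unp (nat_lit 7) (nat_lit 0x1ea75003)) [nat_lit 1215] (.st (nat_lit 1149) (unp (nat_lit 7) (nat_lit 0xff6f06404)) [] .nil))) (unp (nat_lit 7) (nat_lit 0x1a4afa8e405)) [])⟩)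
 (.lf ⟨nat_lit 1, nat_lit 1228, nat_lit 1142, (nat_lit 0x8004e62005052a76606a60520ae27845e001), (nat_lit 0x8001521412554ff49d3b405873011e02670b), (nat_lit 0x8005125192477b33d106367109c2a75ef425), (.wt (nat_lit 11) (nat_lit 0) (nat_lit 0x8003a77ef4d070117c5a506927145a1264c4) (.st (nat_lit 1250) (unp (nat_lit 7) (nat_lit 0x4cfee6004)) [] (.st (nat_lit 1246) (unp (nat_lit 7) (nat_lit 0x704b3b16405)) [] (.st (nat_lit 1242) (unp (nat_lit 7) (nat_lit 0x746f7706405)) [] .nil))) (unp (nat_lit 7) (nat_lit 0x2a83770e405)) [])⟩))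
 (.nd (nat_lit 1253) (.lf ⟨nat_lit 1, nat_lit 1142, nat_lit 1228, (nat_lit 0x80051d6c57d854d4051b409166074f30a678), (nat_lit 0x80069c65b0e97e936424609806351a4251c1), (nat_lit 0x8002591c15f17b76fc04f7820930ae42a2b9), (.wt (nat_lit 0) (nat_lit 0) (nat_lit 0x8004e62005052a76606a60520ae27845e001) (.st (nat_lit 1251) [] [] .nil) (unp (nat_lit 7) (nat_lit 0xe5f66e004)) [])⟩)
 (.nd (nat_lit 1254) (.lf ⟨nat_lit 1, nat_lit 1206, nat_lit 1244, (nat_lit 0x80064b32e7305195b356d3f33a7503249490), (nat_lit 0x8005a57d84c15c11a446e74f3f25b7782040), (nat_lit 0x8000e94022cf5175254cb0630c352b247033), (.wt (nat_lit 11) (nat_lit 1) (nat_lit 0x8004ff05231a0230200693d73f51a90fd5bf) (.st (nat_lit 1247) (unp (nat_lit 7) (nat_lit 0x2efb16304)) [] (.st (nat_lit 1196) (unp (nat_lit 7) (nat_lit 0x58e276204)) [nat_lit 1160] (.st (nat_lit 1209) (unp (nat_lit 7) (nat_lit 0x27837b16405)) [] .nil))) (unp (nat_lit 7) (nat_lit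 0x2cfd7706305)) [])⟩)
 (.lf ⟨nat_lit 1, nat_lit 1244, nat_lit 1206, (nat_lit 0x80064b37c1e71410b851712e15269f249255), (nat_lit 0x8004e45bb7ef0c43f32eb3f91e53a454d43c), (nat_lit 0x80071245e3df6383e36203f273a26c5120c1), (.wt (nat_lit 0) (nat_lit 0) (nat_lit 0x80064b32e7305195b356d3f33a7503249490) (.st (nat_lit 1253) [] [] .nil) (unp (nat_lit 7) (nat_lit 0x4efa8e304)) [])⟩))))))
 (.nd (nat_lit 1265) (.nd (nat_lit 1260) (.nd (nat_lit 1257) (.nd (nat_lit 1256) (.lf ⟨nat_lit 1, nat_lit 985, nat_lit 1244, (nat_lit 0x8000a14257305414d06fc2a728a1a845e3bc), (nat_lit 0x80054174739166402009359928979665b3ed), (nat_lit 0x8007d87123d02ce0c402e09351a24c22d603), (.wt (nat_lit 11) (nat_lit 0) (nat_lit 0x80027855450506931a78263b6b65ef1e77b7) (.st (nat_lit 1248) (unp (nat_lit 7) (nat_lit 0x2fe706404)) [] (.st (nat_lit 1252) (unp (nat_lit 7) (nat_lit 0x5afe8e304)) [] (.st (nat_lit 1235) (unp (nat_lit 7) (nat_lit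 0xe50ae6404)) [] .nil))) (unp (nat_lit 7) (nat_lit 0xe50a86404)) [])⟩)
 (.lf ⟨nat_lit 1, nat_lit 1142, nat_lit 985, (nat_lit 0x8002ae6b60d924c1ef45e02338a04e379493), (nat_lit 0x80036660702070b6e22b95bf2f439136464b), (nat_lit 0x8002f40801a43ef1741ab0207306c52f0678), (.wt (nat_lit 11) (nat_lit 3) (nat_lit 0x8001690a51741d25c15ce59e09c27a3e345c) (.st (nat_lit 1008) (unp (nat_lit 7) (nat_lit 0x34fe6e404)) [] (.st (nat_lit 1255) (unp (nat_lit 7) (nat_lit 0x6a15e03)) [] (.st (nat_lit 1248) (unp (nat_lit 7) (nat_lit 0x2efb0e304)) [] .nil))) (unp (nat_lit 7) (nat_lit 0x70717716305)) [])⟩))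
 (.nd (nat_lit 1258) (.lf ⟨nat_lit 1, nat_lit 1142, nat_lit 1244, (nat_lit 0x8002f91417470082eb06869f51d3e3638673), (nat_lit 0x8003d005813d12d547180091599503624449), (nat_lit 0x8000520fd6dc54c02309c7475bc1a449d796), (.wt (nat_lit 11) (nat_lit 1) (nat_lit 0x8004c12b55120a53f30736aa50551d052278) (.st (nat_lit 1249) (unp (nat_lit 7) (nat_lit 0x7f3686304)) [] (.st (nat_lit 1243) (unp (nat_lit 7) (nat_lit 0xe172fe304)) [] (.st (nat_lit 1251) (unp (nat_lit 7) (nat_lit 0x51eef6404)) [nat_lit 1229] .nil))) (unp (nat_lit 7) (nat_lit 0x33f26e104)) [])⟩)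
 (.nd (nat_lit 1259) (.lf ⟨nat_lit 1, nat_lit 1244, nat_lit 1142, (nat_lit 0x8000c46a80e90ae3e21b46dc74f517405620), (nat_lit 0x8006037b324967302017455532e5ef458040), (nat_lit 0x80059e6070931742b95256603f24c60d95bc), (.wt (nat_lit 0) (nat_lit 0) (nat_lit 0x8002f91417470082eb06869f51d3e3638673) (.st (nat_lit 1257) [] [] .nil) (unp (nat_lit 7) (nat_lit 0x74f57316305)) [])⟩)
 (.lf ⟨nat_lit 1, nat_lit 372, nat_lit 1259, (nat_lit 0x80040031a4906c55f40201263b43f5002599), one, one, (.df [nat_lit 23, nat_lit 23])⟩))))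
 (.nd (nat_lit 1262) (.nd (nat_lit 1261) (.lf ⟨nat_lit 1, nat_lit 1259, nat_lit 372, one, (nat_lit 0x80040031a4906c55f40201263b43f5002599), one, (.wt (nat_lit 0) (nat_lit 0) (nat_lit 0x80040031a4906c55f40201263b43f5002599) (.st (nat_lit 1259) [] [] .nil) [] [])⟩)
 (.lf ⟨nat_lit 1, nat_lit 1259, nat_lit 1259, (nat_lit 0x80076624617c5b73df69c0e956d0103a759d), (nat_lit 0x8006710c356d03974769c2d845e39a59e0a6), (nat_lit 0x80024943c1d73df5253394932555f0259517), (.wt (nat_lit 10) (nat_lit 2) (nat_lit 0x80024c22e39037979b0c300872b00463b3e2) (.st (nat_lit 1260) (unp (nat_lit 7) (nat_lit 0x73836efe405)) [] (.st (nat_lit 1259) (unp (nat_lit 7) (nat_lit 0x1ee86303)) [nat_lit 382] .nil)) (unp (nat_lit 7) (nat_lit 0x72f37316305)) [])⟩))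
 (.nd (nat_lit 1263) (.lf ⟨nat_lit 1, nat_lit 1259, nat_lit 1159, (nat_lit 0x8005415253b41ef2f472b28a5993df143001), (nat_lit 0x8005f142539f3972f47ef23a40513b06812d), (nat_lit 0x8000c47b71001520404e43ac60351226c517), (.wt (nat_lit 10) (nat_lit 2) (nat_lit 0x80005c1c13d168551942a37c38a1ed5f4669) (.st (nat_lit 1161) (unp (nat_lit 7) (nat_lit 0xf57a8e304)) [] (.st (nat_lit 1259) (unp (nat_lit 7) (nat_lit 0x1e68e303)) [nat_lit 396, nat_lit 375] .nil)) (unp (nat_lit 7) (nat_lit 0xe5e5f6204)) [])⟩)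
 (.nd (nat_lit 1264) (.lf ⟨nat_lit 1, nat_lit 1259, nat_lit 1244, (nat_lit 0x8006850bc3912cf17c6170d949950527a3f3), (nat_lit 0x8001ab58524754c3f96855e768f4cf1a94f3), (nat_lit 0x8003f25b349945a3d014179b0b849056d6e2), (.wt (nat_lit 11) (nat_lit 3) (nat_lit 0x80009c7b05f439011e0ae1e70d970b0a528a) (.st (nat_lit 1254) (unp (nat_lit 7) (nat_lit 0x1efb6e8e405)) [] (.st (nat_lit 1207) (unp (nat_lit 8) (nat_lit 0x19804d506305)) [] (.st (nat_lit 1259) [nat_lit 63, nat_lit 23] [nat_lit 380] .nil))) (unp (nat_lit 7) (nat_lit 0x54e30e304)) [])⟩)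
 (.lf ⟨nat_lit 1, nat_lit 1259, nat_lit 1179, (nat_lit 0x8000c470b3913df6b629a15224c1a87a2004), (nat_lit 0x8001682ab4581c15a50d972b17c3bc28a0fd), (nat_lit 0x80068f18074f24c1c379e73a2ae13a3e3023), (.wt (nat_lit 12) (nat_lit 2) (nat_lit 0x8003d03ef43a2294e602613a0896a63976fc) (.st (nat_lit 1181) (unp (nat_lit 7) (nat_lit 0x74f56e8e405)) [] (.st (nat_lit 1194) (unp (nat_lit 8) (nat_lit 0xecbffee6d99d06)) (unp (nat_lit 9) (nat_lit 0x603258f03)) (.st (nat_lit 1259) (unp (nat_lit 7) (nat_lit 0x16e8e303)) [nat_lit 402, nat_lit 394] .nil))) (unp (nat_lit 7) (nat_lit 0x1f2e6103)) [])⟩)))))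
 (.nd (nat_lit 1270) (.nd (nat_lit 1267) (.nd (nat_lit 1266) (.lf ⟨nat_lit 1, nat_lit 1179, nat_lit 1259, (nat_lit 0x80007336637c47704e2f040567125964b59d), (nat_lit 0x80009816815e13d5c12494e47012eb56c200), (nat_lit 0x8005175031d73d77005411a94256a611e45e), (.wt (nat_lit 0) (nat_lit 0) (nat_lit 0x8000c470b3913df6b629a15224c1a87a2004) (.st (nat_lit 1264) [] [] .nil) (unp (nat_lit 7) (nat_lit 0x76833716305)) [])⟩)
 (.lf ⟨nat_lit 1, nat_lit 1259, nat_lit 550, (nat_lit 0x80064b4fd0231b413b36402645c7e928a0bc), (nat_lit 0x80051d3ac6206bc24776629a3a46dc22d4ff), (nat_lit 0x80004020812e29a0a50b85411744e34091a8), (.wt (nat_lit 12) (nat_lit 2) (nat_lit 0x8000917476175f55030401802f028c2c822e) (.st (nat_lit 1027) (unp (nat_lit 7) (nat_lit 0x20fd7afe405)) (unp (nat_lit 10) (nat_lit 0x22f8ae2d03)) (.st (nat_lit 1194) (unp (nat_lit 8) (nat_lit 0xbffed99d04)) (unp (nat_lit 9) (nat_lit 0x623198f03)) (.st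 (nat_lit 1259) [nat_lit 100] [nat_lit 402, nat_lit 394] .nil))) (unp (nat_lit 7) (nat_lit 0x817316304)) [])⟩))
 (.nd (nat_lit 1268) (.lf ⟨nat_lit 1, nat_lit 550, nat_lit 1259, (nat_lit 0x8000c47016c53d72c86170897001434c4126), (nat_lit 0x8004e35bf15e3f539a49d54d09c6785474ff), (nat_lit 0x8003e332e53c6a64002b551d12e69c13b2cf), (.wt (nat_lit 0) (nat_lit 0) (nat_lit 0x80064b4fd0231b413b36402645c7e928a0bc) (.st (nat_lit 1266) [] [] .nil) (unp (nat_lit 7) (nat_lit 0x4ff5f6204)) [])⟩)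
 (.nd (nat_lit 1269) (.lf ⟨nat_lit 1, nat_lit 1259, nat_lit 1259, (nat_lit 0x80046e72b7d83f20e47473b97a21434cb5f4), (nat_lit 0x80068f2ab1690c373a5193b94934f352b295), (nat_lit 0x80045872b74f3bc04050b51d50564b366554), (.wt (nat_lit 11) (nat_lit 0) (nat_lit 0x8003f56a66aa4027305f50476032083a76fc) (.st (nat_lit 1260) (unp (nat_lit 7) (nat_lit 0x333716304)) [] (.st (nat_lit 1026) (unp (nat_lit 7) (nat_lit 0x287efa86405)) [nat_lit 402, nat_lit 391] (.st (nat_lit 1267) (unp (nat_lit 7) (nat_lit 0x349706404)) (unp (nat_lit 10) (nat_lit 0x22f8a62e03)) .nil))) (unp (nat_lit 7) (nat_lit 0x3adf0e304)) [])⟩)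
 (.lf ⟨nat_lit 1, nat_lit 1259, nat_lit 1259, (nat_lit 0x80067854753c5126171e756d7e96e22b90bc), (nat_lit 0x8006dc45a1696b02cf2c830a4c60086c57ef), (nat_lit 0x80022d4990083df0e94f34771003ef73a685), (.wt (nat_lit 11) (nat_lit 1) (nat_lit 0x80023a56d4f31b44586b059d02039f39017c) (.st (nat_lit 1260) (unp (nat_lit 7) (nat_lit 0x2feb0e304)) [] (.st (nat_lit 652) (unp (nat_lit 8) (nat_lit 0x29805d606305)) (unp (nat_lit 9) (nat_lit 0x60b258f03)) (.st (nat_lit 1267) (unp (nat_lit 7) (nat_lit 0x7481370e405)) [nat_lit 555] .nil))) (unp (nat_lit 7) (nat_lit 0x350286304)) [])⟩))))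
 (.nd (nat_lit 1273) (.nd (nat_lit 1271) (.lf ⟨nat_lit 1, nat_lit 1259, nat_lit 956, (nat_lit 0x8005417123b40462f428a0bc0396731d21a8), (nat_lit 0x8002815541ed45a68f2b96a80683f308905c), (nat_lit 0x8005a81a45a50206b04cf3f94e33645e73d1), (.wt (nat_lit 11) (nat_lit 2) (nat_lit 0x80022717c54c52555445a1b412e74f730098) (.st (nat_lit 1191) (unp (nat_lit 7) (nat_lit 0x41e68e304)) [] (.st (nat_lit 1265) (unp (nat_lit 7) (nat_lit 0x5adeee004)) [nat_lit 1180] (.st (nat_lit 1261) (unp (nat_lit 7) (nat_lit 0x19fcfa86405)) [] .nil))) (unp (nat_lit 7) (nat_lit 0x2b713716405)) [])⟩)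
 (.nd (nat_lit 1272) (.lf ⟨nat_lit 1, nat_lit 1159, nat_lit 1259, (nat_lit 0x8006381ef2ce3d061726c6e251250323a499), (nat_lit 0x8005192ab51a00856d0100b82eb3660e90d9), (nat_lit 0x8005f01a44906aa05269c79b43a3b45f1098), (.wt (nat_lit 11) (nat_lit 0) (nat_lit 0x8000bc6b03a428939a66446e2b91ab458700) (.st (nat_lit 1263) (unp (nat_lit 7) (nat_lit 0xe1f5103)) [] (.st (nat_lit 1258) (unp (nat_lit 7) (nat_lit 0x71837706305)) [] (.st (nat_lit 1171) (unp (nat_lit 7) (nat_lit 0x67ee403)) [] .nil))) (unp (nat_lit 7) (nat_lit 0x66e5f03)) [])⟩)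
 (.lf ⟨nat_lit 1, nat_lit 1259, nat_lit 1159, (nat_lit 0x8004935470e90e81c30396dc2f01ef4cf010), (nat_lit 0x8000891a95b30046c52594e30015a52084c1), (nat_lit 0x80063b7b344928c42556c5b773a1a91d2402), (.wt (nat_lit 0) (nat_lit 0) (nat_lit 0x8006381ef2ce3d061726c6e251250323a499) (.st (nat_lit 1271) [] [] .nil) (unp (nat_lit 7) (nat_lit 0x2a856e86305)) [])⟩)))
 (.nd (nat_lit 1274) (.lf ⟨nat_lit 1, nat_lit 1197, nat_lit 1259, (nat_lit 0x8005a84fd3df1d71ab5b35174580203f3033), (nat_lit 0x80024767300804666030a4c422d78213b669), (nat_lit 0x8006b05853a40735036787b756c70129a45e), (.wt (nat_lit 11) (nat_lit 0) (nat_lit 0x8000e45175bc0803ed1a926c13d620493390) (.st (nat_lit 1268) (unp (nat_lit 7) (nat_lit 0x2e95f5104)) [] (.st (nat_lit 1272) (unp (nat_lit 7) (nat_lit 0x178372fe305)) [] (.st (nat_lit 1205) (unp (nat_lit 7) (nat_lit 0x53fa6d004)) [] .nil))) (unp (nat_lit 7) (nat_lit 0x57eef5104)) [])⟩)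
 (.nd (nat_lit 1275) (.lf ⟨nat_lit 1, nat_lit 1259, nat_lit 1197, (nat_lit 0x8005c179b20874f45a69c61728956d3f913b), (nat_lit 0x8001c149d7b70582550087a245e3e27b0023), (nat_lit 0x8007a228a09337c5a53971c32f93f22ce5bf), (.wt (nat_lit 0) (nat_lit 0) (nat_lit 0x8005a84fd3df1d71ab5b35174580203f3033) (.st (nat_lit 1273) [] [] .nil) (unp (nat_lit 7) (nat_lit 0xe5f6ddf04)) [])⟩)
 (.lf ⟨nat_lit 1, nat_lit 1142, nat_lit 1259, (nat_lit 0x80004770b36645c4e34c60e8425152555271), (nat_lit 0x80040945c29a25970b7471d205c6c57d93e2), (nat_lit 0x8000461805250195bf3ef3f31d24493d15ce), (.wt (nat_lit 11) (nat_lit 0) (nat_lit 0x8001d273a4d039f02e6af1b40a1169143458) (.st (nat_lit 1269) (unp (nat_lit 7) (nat_lit 0x67ce303)) [] (.st (nat_lit 1270) (unp (nat_lit 7) (nat_lit 0xa676003)) [] (.st (nat_lit 1154) (unp (nat_lit 7) (nat_lit 0x5102f6004)) [nat_lit 957] .nil))) (unp (nat_lit 7) (nat_lit 0x737f3b06405)) [])⟩)))))))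

noncomputable def qcT_1276 : Tr :=
  (.nd (nat_lit 1297) (.nd (nat_lit 1286) (.nd (nat_lit 1281) (.nd (nat_lit 1278) (.nd (nat_lit 1277) (.lf ⟨nat_lit 1, nat_lit 372, nat_lit 1276, (nat_lit 0x8005ef5bc0017006606af62408072b1ed126), one, one, (.df [nat_lit 23, nat_lit 29])⟩)
 (.lf ⟨nat_lit 1, nat_lit 1276, nat_lit 1228, (nat_lit 0x8005412552a72cf6133df42a6aa13b18045c), (nat_lit 0x80039f6a64024006130205473f27302b9069), (nat_lit 0x8002ab6856af68f7ef6691c35bc5f0093517), (.wt (nat_lit 10) (nat_lit 2) (nat_lit 0x8000e437c43a7d81aa00845832e3795c1039) (.st (nat_lit 1230) (unp (nat_lit 7) (nat_lit 0x73f5768e305)) [] (.st (nat_lit 1276) [nat_lit 123] [nat_lit 401, nat_lit 394] .nil)) (unp (nat_lit 7) (nat_lit 0xe5ee6e304)) [])⟩))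
 (.nd (nat_lit 1279) (.lf ⟨nat_lit 1, nat_lit 1276, nat_lit 985, (nat_lit 0x8001e75470462cf6c54055f47694cb0a6402), (nat_lit 0x80017432e3f360728c6132272000405e74c4), (nat_lit 0x80067113d7e90ae04e63832e3f32d8409039), (.wt (nat_lit 11) (nat_lit 2) (nat_lit 0x80024615273e73a0ae23a24c38a405712023) (.st (nat_lit 987) (unp (nat_lit 7) (nat_lit 0x3bf6ee204)) [] (.st (nat_lit 654) (unp (nat_lit 7) (nat_lit 0x5b7716404)) (unp (nat_lit 9) (nat_lit 0x592d57003)) (.st (nat_lit 1276) (unp (nat_lit 7) (nat_lit 0x5fd6303)) [nat_lit 402, nat_lit 386] .nil))) (unp (nat_lit 7) (nat_lit 0x73833a8e405)) [])⟩)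
 (.nd (nat_lit 1280) (.lf ⟨nat_lit 1, nat_lit 1142, nat_lit 1276, (nat_lit 0x8004c424645a73e5f439f0190687e91ef2c8), (nat_lit 0x8005413d025553c13a36442a54c0043793ef), (nat_lit 0x8003bc4936856b652b00454d1d259e026002), (.wt (nat_lit 11) (nat_lit 0) (nat_lit 0x8003f53a42596aa02055405c12e7b02277b7) (.st (nat_lit 1277) (unp (nat_lit 7) (nat_lit 0x337afe404)) [] (.st (nat_lit 1241) (unp (nat_lit 7) (nat_lit 0x2c6f7afe305)) [nat_lit 1229] (.st (nat_lit 1212) (unp (nat_lit 7) (nat_lit 0x9bdd103)) [] .nil))) (unp (nat_lit 7) (nat_lit 0xe8fdf6004)) [])⟩)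
 (.lf ⟨nat_lit 1, nat_lit 985, nat_lit 1276, (nat_lit 0x8003e372b0a639f06873a12e2b56036af0fd), (nat_lit 0x8001ef24959e70b3d13a709c30a5f44fd2ab), (nat_lit 0x80047743c3d12460c46730ae6b66643f5069), (.wt (nat_lit 11) (nat_lit 1) (nat_lit 0x8003a70041d21416b65056dc2f03f211e402) (.st (nat_lit 1278) (unp (nat_lit 7) (nat_lit 0x2f7316404)) [] (.st (nat_lit 1156) (unp (nat_lit 7) (nat_lit 0x74f6fa8e405)) [nat_lit 986] (.st (nat_lit 1256) (unp (nat_lit 7) (nat_lit 0x65bde03)) [] .nil))) (unp (nat_lit 7) (nat_lit 0x33e66e404)) [])⟩))))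
 (.nd (nat_lit 1283) (.nd (nat_lit 1282) (.lf ⟨nat_lit 1, nat_lit 1276, nat_lit 985, (nat_lit 0x8006383ef1d263b02e5f112d4e43bc23a56c), (nat_lit 0x8001e72d829579e3b96035a930a79b6a80c3), (nat_lit 0x80068531a2473e349963874f2c873a039068), (.wt (nat_lit 0) (nat_lit 0) (nat_lit 0x8003e372b0a639f06873a12e2b56036af0fd) (.st (nat_lit 1280) [] [] .nil) (unp (nat_lit 7) (nat_lit 0x57eee5f04)) [])⟩)
 (.lf ⟨nat_lit 1, nat_lit 372, nat_lit 1282, (nat_lit 0x8002496bc0085b71805f56bf6fc06964b79b), one, one, (.df (unp (nat_lit 5) (nat_lit 0x741a03)))⟩))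
 (.nd (nat_lit 1284) (.lf ⟨nat_lit 1, nat_lit 1282, nat_lit 372, one, (nat_lit 0x8002496bc0085b71805f56bf6fc06964b79b), one, (.wt (nat_lit 0) (nat_lit 0) (nat_lit 0x8002496bc0085b71805f56bf6fc06964b79b) (.st (nat_lit 1282) [] [] .nil) [] [])⟩)
 (.nd (nat_lit 1285) (.lf ⟨nat_lit 1, nat_lit 1282, nat_lit 1259, (nat_lit 0x80005c02373059e54d0390c106302e45e5ce), (nat_lit 0x80039102645e1ed1a405869f5036712cf5bc), (nat_lit 0x80068547710012e64b7b344913b14179b259), (.wt (nat_lit 11) (nat_lit 2) (nat_lit 0x8002295ce5ef63818068f6bf2ce1ab28c026) (.st (nat_lit 1260) (unp (nat_lit 7) (nat_lit 0x55ee76204)) [] (.st (nat_lit 921) (unp (nat_lit 7) (nat_lit 0x70f37306405)) (unp (nat_lit 9) (nat_lit 0x623258f03)) (.st (nat_lit 1282) (unp (nat_lit 7) (nat_lit 0x66ed003)) [nat_lit 396, nat_lit 376] .nil))) (unp (nat_lit 7) (nat_lit 0x704afb16305)) [])⟩)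
 (.lf ⟨nat_lit 1, nat_lit 1259, nat_lit 1282, (nat_lit 0x8000e43ef1522d83a76c50a61a97470b845a), (nat_lit 0x8003f904f1ed28954d5190d95e71a4152607), (nat_lit 0x8006245a510049964b7123907304575f574f), (.wt (nat_lit 0) (nat_lit 0) (nat_lit 0x80005c02373059e54d0390c106302e45e5ce) (.st (nat_lit 1284) [] [] .nil) (unp (nat_lit 7) (nat_lit 0x777f6f16405)) [])⟩)))))
 (.nd (nat_lit 1291) (.nd (nat_lit 1288) (.nd (nat_lit 1287) (.lf ⟨nat_lit 2, nat_lit 403, nat_lit 1286, one, one, one, (.df [])⟩)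
 (.lf ⟨nat_lit 0, nat_lit 1286, nat_lit 1286, (nat_lit 0x80040038a2890ae6851aa1b47692294c454d), one, (nat_lit 0x8000fd1ed1005252eb7307005b35bf7123f2), (.cmp (nat_lit 1286) (nat_lit 1286) (unp (nat_lit 8) (nat_lit 0xb9f89c03)) [nat_lit 417, nat_lit 404])⟩))
 (.nd (nat_lit 1289) (.lf ⟨nat_lit 0, nat_lit 1286, nat_lit 1286, (nat_lit 0x80013a20010039a5f051a30a52b62463b638), one, (nat_lit 0x8003664255b745a39172b3ac29a069141624), (.cmp (nat_lit 1286) (nat_lit 1286) (unp (nat_lit 8) (nat_lit 0xa4b7d903)) [nat_lit 405, nat_lit 407])⟩)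
 (.nd (nat_lit 1290) (.lf ⟨nat_lit 0, nat_lit 1286, nat_lit 1286, (nat_lit 0x80051928a28936654d23a37c669271585685), one, (nat_lit 0x80043c22767819776967313b73a04e019603), (.cmp (nat_lit 1286) (nat_lit 1286) (unp (nat_lit 9) (nat_lit 0xa95dc05ca9c05)) [nat_lit 417, nat_lit 408])⟩)
 (.lf ⟨nat_lit 0, nat_lit 1286, nat_lit 1286, (nat_lit 0x80002328a2893f50fd7003ef0c37d83bc0bc), one, (nat_lit 0x8005124022cf54d2f07304cf5a8023712026), (.prod [nat_lit 1288, nat_lit 1289])⟩))))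
 (.nd (nat_lit 1294) (.nd (nat_lit 1292) (.lf ⟨nat_lit 0, nat_lit 1286, nat_lit 1286, (nat_lit 0x80013a5475235e70e953c61366945c046063), one, (nat_lit 0x8002780bc1680c304772b2f44cb63814112d), (.cmp (nat_lit 1286) (nat_lit 1286) (unp (nat_lit 8) (nat_lit 0xabbbd99c04)) [nat_lit 405, nat_lit 410])⟩)
 (.nd (nat_lit 1293) (.lf ⟨nat_lit 0, nat_lit 1286, nat_lit 1286, (nat_lit 0x80040068f6aa1ab6a60471977a26e25c15a5), one, (nat_lit 0x8005541c339750b1267300103f93f57122a8), (.prod [nat_lit 1289, nat_lit 1291])⟩)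
 (.lf ⟨nat_lit 0, nat_lit 1286, nat_lit 1286, (nat_lit 0x80051968f6aa27a47715e24652b42a4994fd), one, (nat_lit 0x8000a53392a70895e7673063033747019052), (.prod [nat_lit 1290, nat_lit 1291])⟩)))
 (.nd (nat_lit 1295) (.lf ⟨nat_lit 1, nat_lit 1286, nat_lit 457, (nat_lit 0x80005c50b50538a27a55513d747458664168), (nat_lit 0x8003640e828c25556c3ac0581d26dc11e22e), (nat_lit 0x8007963d70194ff7ef3f27692ab73a0a6613), (.wt (nat_lit 12) (nat_lit 1) (nat_lit 0x80072b7d80734e37825bf1ef42a1694c659d) (.st (nat_lit 472) (unp (nat_lit 7) (nat_lit 0x1ca15003)) [] (.st (nat_lit 403) (unp (nat_lit 8) (nat_lit 0x74803e5f6405)) (unp (nat_lit 8) (nat_lit 0x8455576d04)) (.st (nat_lit 1286) (unp (nat_lit 8) (nat_lit 0xb1bdf7e6d99c06)) [nat_lit 417, nat_lit 405] .nil))) (unp (nat_lit 8) (nat_lit 0x2b805c03)) [])⟩)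
 (.nd (nat_lit 1296) (.lf ⟨nat_lit 1, nat_lit 457, nat_lit 1286, (nat_lit 0x80073a53c0932eb0082a82470685856176bf), (nat_lit 0x8001aa5bb56d03960344922702640054c63b), (nat_lit 0x80004f0c369f1b41c16242714ff5ce54c519), (.wt (nat_lit 0) (nat_lit 0) (nat_lit 0x80005c50b50538a27a55513d747458664168) (.st (nat_lit 1294) (unp (nat_lit 7) (nat_lit 0x75713a8e305)) [nat_lit 1292] .nil) (unp (nat_lit 7) (nat_lit 0x52de86304)) [])⟩)
 (.lf ⟨nat_lit 1, nat_lit 1159, nat_lit 1286, (nat_lit 0x8006fc24749d45c3f55a53f20474d04c63ac), (nat_lit 0x80062410068f0734007b725529a4773d02cf), (nat_lit 0x8001d750501951a67130a45e0692cf4905b7), (.wt (nat_lit 10) (nat_lit 0) (nat_lit 0x8000e415e40543c1ed3e34d036639a0b85f1) (.st (nat_lit 1294) (unp (nat_lit 7) (nat_lit 0x73816e8e305)) [nat_lit 1292] (.st (nat_lit 1166) (unp (nat_lit 7) (nat_lit 0x35f2e6204)) [nat_lit 458] .nil)) (unp (nat_lit 7) (nat_lit 0x5706de304)) [])⟩))))))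
 (.nd (nat_lit 1307) (.nd (nat_lit 1302) (.nd (nat_lit 1299) (.nd (nat_lit 1298) (.lf ⟨nat_lit 1, nat_lit 1286, nat_lit 1286, (nat_lit 0x8005a94771ed3641a803951d1522083f228a), (nat_lit 0x8003a76bf52b0c42084ff2f439a1a80523e2), (nat_lit 0x8001a92003b95051267307003d74cb00265b), (.wt (nat_lit 11) (nat_lit 0) (nat_lit 0x8001aa0630265bb4936af56d29a5ce247141) (.st (nat_lit 1294) (unp (nat_lit 8) (nat_lit 0x74804d6204)) [nat_lit 1292] (.st (nat_lit 479) (unp (nat_lit 7) (nat_lit 0x5a96de404)) [nat_lit 468] (.st (nat_lit 1295) (unp (nat_lit 8) (nat_lit 0x1a805d5004)) [nat_lit 461, nat_lit 467] .nil))) (unp (nat_lit 7) (nat_lit 0x56e2edf04)) [])⟩)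
 (.lf ⟨nat_lit 1, nat_lit 444, nat_lit 1286, (nat_lit 0x8006fc24749d45c3f55a53f20474d04c63ac), (nat_lit 0x8001c36fc31a0e879664b79b09c37c02e4e4), (nat_lit 0x8005122b554c0e43df1c366951760704637c), (.wt (nat_lit 12) (nat_lit 1) (nat_lit 0x8000fd06952b50b0c31d74d015222728c5f1) (.st (nat_lit 1294) (unp (nat_lit 7) (nat_lit 0x714b6e8e305)) [nat_lit 1292] (.st (nat_lit 472) (unp (nat_lit 7) (nat_lit 0x5936fe404)) [] (.st (nat_lit 444) (unp (nat_lit 8) (nat_lit 0xacb9fee59d05)) (unp (nat_lit 8) (nat_lit 0x858b556e04)) .nil))) (unp (nat_lit 7) (nat_lit 0xe5e6e5104)) [])⟩))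
 (.nd (nat_lit 1300) (.lf ⟨nat_lit 1, nat_lit 1286, nat_lit 1259, (nat_lit 0x80013a62051a1e749d7823f333968f1ab02e), (nat_lit 0x8002f970b73a00450564b6aa3ef33912e6a6), (nat_lit 0x8003917660040bc56c32e1413f57960733b4), (.wt (nat_lit 10) (nat_lit 2) (nat_lit 0x80013b27160751d2816693a444909c091554) (.st (nat_lit 1262) (unp (nat_lit 7) (nat_lit 0x1d2de003)) [] (.st (nat_lit 1296) (unp (nat_lit 7) (nat_lit 0x5e86303)) [] .nil)) (unp (nat_lit 7) (nat_lit 0xa12d103)) [])⟩)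
 (.nd (nat_lit 1301) (.lf ⟨nat_lit 1, nat_lit 1282, nat_lit 1286, (nat_lit 0x8005a93ed1d24cb4054fd3d71aa0335f5026), (nat_lit 0x80073a6b673031a4e60264005122472cf2eb), (nat_lit 0x8000802080023642b50e4554008490599010), (.wt (nat_lit 11) (nat_lit 0) (nat_lit 0x8001e506973067143c12d3913f30045032eb) (.st (nat_lit 1297) (unp (nat_lit 7) (nat_lit 0x2fe66e304)) [] (.st (nat_lit 1299) (unp (nat_lit 7) (nat_lit 0x1dfcfb16305)) [nat_lit 1293] (.st (nat_lit 1285) (unp (nat_lit 7) (nat_lit 0xe4fdf6404)) [] .nil))) (unp (nat_lit 7) (nat_lit 0x29fb7b0e305)) [])⟩)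
 (.lf ⟨nat_lit 1, nat_lit 1286, nat_lit 1282, (nat_lit 0x8005a849939a25b1ed25568f00411e54c3df), (nat_lit 0x8006af27a3bc2086e209c5f53642f90e4255), (nat_lit 0x8004052086a84004cf69c0010086731006a6), (.wt (nat_lit 0) (nat_lit 0) (nat_lit 0x8005a93ed1d24cb4054fd3d71aa0335f5026) (.st (nat_lit 1300) [] [] .nil) (unp (nat_lit 7) (nat_lit 0x756f3b0e405)) [])⟩))))
 (.nd (nat_lit 1304) (.nd (nat_lit 1303) (.lf ⟨nat_lit 0, nat_lit 444, nat_lit 1157, (nat_lit 0x8007d903951951d13a50b3ac69f3b95a81d7), one, (nat_lit 0x8000267ef3976bc2292380e92a85543bc49d), (.we (nat_lit 12) (nat_lit 0) (nat_lit 0x80030a69f0083df4254fd5f013d24643a45e) (.st (nat_lit 1298) (unp (nat_lit 7) (nat_lit 0x1e686303)) [] (.st (nat_lit 1301) (unp (nat_lit 7) (nat_lit 0xe0e1f5104)) [nat_lit 1287] (.st (nat_lit 1283) (unp (nat_lit 7) (nat_lit 0x2af33716405)) [] (.st (nat_lit 1157) (unp (nat_lit 8) (nat_lit 0xecbffde6d905)) [nat_lit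 399, nat_lit 401] .nil)))))⟩)
 (.lf ⟨nat_lit 0, nat_lit 1157, nat_lit 444, (nat_lit 0x8004ff56d2f459d5f050b3ac69f18028c238), one, (nat_lit 0x80052b32e5a965b5255bc6730c13d026c613), (.inv (nat_lit 1302))⟩))
 (.nd (nat_lit 1305) (.lf ⟨nat_lit 2, nat_lit 444, nat_lit 372, (nat_lit 0x8006b65472590637666b05b376933961354c), (nat_lit 0x8000a56b039004f39770b5c116836446e51d), (nat_lit 0x8000267ef3976bc2292380e92a85543bc49d), (.ren (nat_lit 1158) (unp (nat_lit 8) (nat_lit 0x92b6dee6d99d06)) [nat_lit 1303] [])⟩)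
 (.nd (nat_lit 1306) (.lf ⟨nat_lit 2, nat_lit 403, nat_lit 1305, (nat_lit 0x8005c171245c5f506362004728c5ce1c3457), one, one, (.df (unp (nat_lit 6) (nat_lit 0x2289903)))⟩)
 (.lf ⟨nat_lit 0, nat_lit 1305, nat_lit 1305, (nat_lit 0x80005c28953c0690200402590086716170e8), one, (nat_lit 0x8000c450b1001c30333ef3df3b45f05855f5), (.cmp (nat_lit 1305) (nat_lit 1305) (unp (nat_lit 8) (nat_lit 0xbdffe59c04)) [nat_lit 405])⟩)))))
 (.nd (nat_lit 1312) (.nd (nat_lit 1309) (.nd (nat_lit 1308) (.lf ⟨nat_lit 0, nat_lit 1305, nat_lit 1305, (nat_lit 0x80064b22e5b70476bc6dc25b0260c36170e8), one, (nat_lit 0x8001ef7ef1001c36030203df64b2eb141701), (.cmp (nat_lit 1305) (nat_lit 1305) (unp (nat_lit 8) (nat_lit 0xb8e6d99d04)) [nat_lit 423])⟩)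
 (.lf ⟨nat_lit 0, nat_lit 1305, nat_lit 1305, (nat_lit 0x8004022a779e0ae6dc6bc6070266b6002001), one, (nat_lit 0x80052b0e41000805bf3ef0106384d04c613a), (.prod [nat_lit 1306, nat_lit 1307])⟩))
 (.nd (nat_lit 1310) (.lf ⟨nat_lit 0, nat_lit 1305, nat_lit 1305, (nat_lit 0x8005bf26c2d82eb2472275542a822d4996bf), one, (nat_lit 0x80027a0a51000c105c7307004cb3a44c615e), (.cmp (nat_lit 1305) (nat_lit 1305) (unp (nat_lit 8) (nat_lit 0xacf4e6d904)) [nat_lit 417, nat_lit 410])⟩)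
 (.nd (nat_lit 1311) (.lf ⟨nat_lit 1, nat_lit 1305, nat_lit 693, (nat_lit 0x8002a85251ed17c22720828a0696bc4f35f1), (nat_lit 0x8000583a41a916825973a79650b457620769), (nat_lit 0x8001683f90fd6b673000425b026477169547), (.wt (nat_lit 12) (nat_lit 1) (nat_lit 0x80046e6076a80d91c36af5b702356d7125e7) (.st (nat_lit 699) (unp (nat_lit 7) (nat_lit 0x336f16304)) [] (.st (nat_lit 704) (unp (nat_lit 7) (nat_lit 0xf33a8e304)) [] (.st (nat_lit 1305) (unp (nat_lit 8) (nat_lit 0xb8fde503)) [nat_lit 429] .nil))) (unp (nat_lit 7) (nat_lit 0x77ff7b0e305)) [])⟩)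
 (.lf ⟨nat_lit 1, nat_lit 1197, nat_lit 1305, (nat_lit 0x80040054d1743ac5996247300016690026a6), (nat_lit 0x8003f339754149312672b6600460d925b6af), (nat_lit 0x8002713794fd51a4575ce3a418045a5a854d), (.wt (nat_lit 10) (nat_lit 0) (nat_lit 0x80049350b1ab04e3660d95f03d71802c83b9) (.st (nat_lit 1310) (unp (nat_lit 7) (nat_lit 0x77813a8e405)) [nat_lit 1308, nat_lit 1309] (.st (nat_lit 1200) (unp (nat_lit 7) (nat_lit 0x724b6e86405)) [nat_lit 697, nat_lit 694] .nil)) (unp (nat_lit 7) (nat_lit 0x1d82fafe405)) [])⟩))))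
 (.nd (nat_lit 1315) (.nd (nat_lit 1313) (.lf ⟨nat_lit 1, nat_lit 1305, nat_lit 1142, (nat_lit 0x8000737ef46e6850ae73a6b05c104f2494f3), (nat_lit 0x8007a223a2a85e716871259d27a3a42ce141), (nat_lit 0x8007ef6bc31a22704615242562404f40043a), (.wt (nat_lit 11) (nat_lit 2) (nat_lit 0x80072b3e32a80fd78202e0e83ac27a7b3238) (.st (nat_lit 1275) (unp (nat_lit 7) (nat_lit 0x29816e8e405)) [] (.st (nat_lit 1274) (unp (nat_lit 7) (nat_lit 0xe0e2de204)) [] (.st (nat_lit 1311) (unp (nat_lit 7) (nat_lit 0x1728e303)) [] .nil))) (unp (nat_lit 7) (nat_lit 0x19f37716305)) [])⟩)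
 (.nd (nat_lit 1314) (.lf ⟨nat_lit 1, nat_lit 1305, nat_lit 444, (nat_lit 0x8007ef0e829a43c3ac4e43f55f13903ed624), (nat_lit 0x8002f02cf0ae3b459e28a23873a0397001c3), (nat_lit 0x8005474e40fd0c41681e562454c3a47e93f9), (.wt (nat_lit 12) (nat_lit 3) (nat_lit 0x8003a47d90bc54d0a66fc7696e23641ef05c) (.st (nat_lit 1304) (unp (nat_lit 8) (nat_lit 0xb2beddd99d05)) (unp (nat_lit 9) (nat_lit 0x6f78fbe03)) (.st (nat_lit 1197) (unp (nat_lit 7) (nat_lit 0xf56f16304)) [nat_lit 383] (.st (nat_lit 1311) (unp (nat_lit 7) (nat_lit 0x4b6e8e404)) [] .nil))) (unp (nat_lit 7) (nat_lit 0x72f372fe305)) [])⟩)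
 (.lf ⟨nat_lit 1, nat_lit 985, nat_lit 1305, (nat_lit 0x80061771254c0201680231ef53c74f2492ab), (nat_lit 0x8000fd13d3391431520bc2476070085a9669), (nat_lit 0x8002f97a23f37d95ef5bf4cf5056af379255), (.wt (nat_lit 11) (nat_lit 1) (nat_lit 0x8005990c37825ce6fc39f4002595127b0617) (.st (nat_lit 1312) (unp (nat_lit 7) (nat_lit 0x5fcdb03)) [] (.st (nat_lit 1279) (unp (nat_lit 7) (nat_lit 0xe2deee104)) [] (.st (nat_lit 1281) (unp (nat_lit 7) (nat_lit 0x72f37a8e305)) [] .nil))) (unp (nat_lit 7) (nat_lit 0x1ff5768e405)) [])⟩)))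
 (.nd (nat_lit 1316) (.lf ⟨nat_lit 2, nat_lit 444, nat_lit 567, (nat_lit 0x8001e54fd7b32471007822f01a90235e76fc), (nat_lit 0x8004773ed5540fd6201263b41c368f295390), (nat_lit 0x8000a55bb59e7ef6bf0524d073a56c5b7379), (.wt (nat_lit 12) (nat_lit 0) (nat_lit 0x80009c2385a52ae5c112e79b4492d84c674f) (.st (nat_lit 1115) (unp (nat_lit 8) (nat_lit 0x805d616304)) (unp (nat_lit 10) (nat_lit 0x90a4793afe04)) (.st (nat_lit 1314) (unp (nat_lit 7) (nat_lit 0x70f57a86305)) [nat_lit 986] (.st (nat_lit 1313) (unp (nat_lit 7) (nat_lit 0xae0e103)) [] .nil))) (unp (nat_lit 8) (nat_lit 0xedf1f803)) [])⟩)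
 (.nd (nat_lit 1317) (.lf ⟨nat_lit 2, nat_lit 567, nat_lit 444, (nat_lit 0x80059939f0c30c161700152b0a66bf73e28c), (nat_lit 0x80004e29a27a27843a15e5a81b459d5547e9), (nat_lit 0x80051a7010911aa1c104073a5473b4019405), (.wt (nat_lit 13) (nat_lit 0) (nat_lit 0x8001e54fd7b32471007822f01a90235e76fc) (.st (nat_lit 1315) (unp (nat_lit 8) (nat_lit 0xb190e59c04)) [nat_lit 447, nat_lit 455] .nil) (unp (nat_lit 9) (nat_lit 0xb25b401ca9c05)) [])⟩)
 (.lf ⟨nat_lit 0, nat_lit 0, nat_lit 19, (nat_lit 0x80073050b5051521260a14e31ef2593395f1), one, (nat_lit 0x80073050b5051521260a14e31ef2593395f1), (.we (nat_lit 38) (nat_lit 0) one (.sp (.st (nat_lit 485) (unp (nat_lit 8) (nat_lit 0xbcdde5d99c05)) (unp (nat_lit 8) (nat_lit 0xcbe8eaa104)) (.st (nat_lit 769) (unp (nat_lit 7) (nat_lit 0x3edeee204)) (unp (nat_lit 11) (nat_lit 0x1e63e27cd76c2805)) (.st (nat_lit 1316) (unp (nat_lit 8) (nat_lit 0xb2b5fbe69c05)) (unp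 (nat_lit 10) (nat_lit 0x241bfefe03)) (.st (nat_lit 456) (unp (nat_lit 8) (nat_lit 0xefb4e5d99c05)) [] (.st (nat_lit 271) (unp (nat_lit 7) (nat_lit 0xe50b0e304)) [] (.sp .nil))))))))⟩)))))))

noncomputable def qcT : Tr :=
  (.nd (nat_lit 659) (.nd (nat_lit 329) (.nd (nat_lit 164) (.nd (nat_lit 82) (.nd (nat_lit 41) qcT_0
 qcT_41)
 (.nd (nat_lit 123) qcT_82
 qcT_123))
 (.nd (nat_lit 246) (.nd (nat_lit 205) qcT_164
 qcT_205)
 (.nd (nat_lit 287) qcT_246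
 qcT_287)))
 (.nd (nat_lit 494) (.nd (nat_lit 411) (.nd (nat_lit 370) qcT_329
 qcT_370)
 (.nd (nat_lit 452) qcT_411
 qcT_452))
 (.nd (nat_lit 576) (.nd (nat_lit 535) qcT_494
 qcT_535)
 (.nd (nat_lit 617) qcT_576
 qcT_617))))
 (.nd (nat_lit 988) (.nd (nat_lit 823) (.nd (nat_lit 741) (.nd (nat_lit 700) qcT_659
 qcT_700)
 (.nd (nat_lit 782) qcT_741
 qcT_782))
 (.nd (nat_lit 905) (.nd (nat_lit 864) qcT_823
 qcT_864)
 (.nd (nat_lit 946) qcT_905
 qcT_946)))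
 (.nd (nat_lit 1153) (.nd (nat_lit 1070) (.nd (nat_lit 1029) qcT_988
 qcT_1029)
 (.nd (nat_lit 1111) qcT_1070
 qcT_1111))
 (.nd (nat_lit 1235) (.nd (nat_lit 1194) qcT_1153
 qcT_1194)
 (.nd (nat_lit 1276) qcT_1235
 qcT_1276)))))

theorem qchr : relsOk mul one lc8 dom8 [18, 26, 81, 83, 85, 87, 89, 91, 93, 95, 97, 99, 101, 103, 105, 107, 109, 111, 113, 115, 117] 21 (2 * 10) ((R8 ++ qcN) ++ qd 40 qcQ) [(16, 54, 0), (17, 54, 0), (19, 32, 0), (27, 45, 0)] 2 qcrs = true := by decide +kernel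

theorem qchc_0 : rng (chk mul one wf qcT lc8 (mapR (fun e => e.2.2) qcrs) 21) (nat_lit 0) (nat_lit 1147) = true := by decide +kernel

theorem qchc_1 : rng (chk mul one wf qcT lc8 (mapR (fun e => e.2.2) qcrs) 21) (nat_lit 1147) (nat_lit 171) = true := by decide +kernel

theorem qchq : qOk qcT 1318 21 40 [18, 26, 81, 83, 85, 87, 89, 91, 93, 95, 97, 99, 101, 103, 105, 107, 109, 111, 113, 115, 117] [754, 1072, 755, 1073, 756, 757, 758, 509, 1098, 1100, 274, 275, 276, 277, 278, 279, 1317, 1101, 280] qcQ.length = true := by decide +kernel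

theorem qchl : allL (fun r => allL (fun l => Nat.blt l (2 * 40)) r.1) ((R8 ++ qcN) ++ qcQ) = true := by decide +kernel

theorem qchc : ∀ i < 1318, (chk mul one wf qcT lc8 (mapR (fun e => e.2.2) qcrs) 21) i = true :=
  (rng_add (rng_add rng_zero qchc_0) qchc_1)

section
universe u v
variable {R : Type v} {ι : Type} [CommRing R] [Fintype ι] [DecidableEq ι] (V : VCod R ι 12 12 app wfT) (h2 : V.mat one = 1)

include V h2 in
theorem qc {G : Type u} [Group G] {g1 : ℕ → G} (hR : Rels (R8 ++ qcN) g1) : Rels qcQ g1 :=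
  hR.qry (L8 V h2) (U8 V h2) qchr qchc qchq qchl

end

noncomputable def qeN : List (List ℕ × ℕ) :=
  [([nat_lit 18], nat_lit 2),
  ([nat_lit 18, nat_lit 0], nat_lit 2),
  ([nat_lit 18, nat_lit 4], nat_lit 2),
  ([nat_lit 18, nat_lit 6], nat_lit 2),
  ([nat_lit 18, nat_lit 10], nat_lit 2),
  ([nat_lit 18, nat_lit 14], nat_lit 2),
  ((unp (nat_lit 5) (nat_lit 0x1185204)), nat_lit 2),
  ((unp (nat_lit 5) (nat_lit 0x4c00a42030520a)), nat_lit 1),
  ((unp (nat_lit 5) (nat_lit 0x10442988222482218a4111212)), nat_lit 1),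
  ((unp (nat_lit 5) (nat_lit 0x10a6184e429802190652248519062018a438466291222)), nat_lit 1),
  ((unp (nat_lit 5) (nat_lit 0x1034a1205)), nat_lit 1),
  ((unp (nat_lit 5) (nat_lit 0x485220a506394c8314e6088213)), nat_lit 1),
  ((unp (nat_lit 5) (nat_lit 0x126494c9298a09)), nat_lit 1),
  ((unp (nat_lit 5) (nat_lit 0x41840411444314e2218a41244520405204c521cc22904132483010a1018a021cc5208238)), nat_lit 2)]

noncomputable def qeQ : List (List ℕ × ℕ) :=
  [((unp (nat_lit 5) (nat_lit 0x9214c831489214c831489214c831481214c71904530083284828)), nat_lit 1)]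

noncomputable def qers : List (ℕ × ℕ × List (ℕ × ℕ)) :=
  [(nat_lit 42, nat_lit 0, [(nat_lit 1, (nat_lit 0x800400200100080040020010008004002001)), (nat_lit 1, (nat_lit 0x800400200100080040020010008004002001))]),
  (nat_lit 43, nat_lit 3, [(nat_lit 1, (nat_lit 0x8001ed3ef1d208049054d12d4585bb5ef56c)), (nat_lit 1, (nat_lit 0x8001ed3ef1d208049054d12d4585bb5ef56c))]),
  (nat_lit 44, nat_lit 3, [(nat_lit 1, (nat_lit 0x8004cb2086aa4d03797823e200845c4993f3)), (nat_lit 1, (nat_lit 0x8004cb2086aa4d03797823e200845c4993f3))]),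
  (nat_lit 45, nat_lit 3, [(nat_lit 1, (nat_lit 0x8000e822e2891ef6604e62d87696245855a8)), (nat_lit 1, (nat_lit 0x8000e822e2891ef6604e62d87696245855a8))]),
  (nat_lit 46, nat_lit 3, [(nat_lit 1, (nat_lit 0x80065b22e28917c3d025524b1c30043bc391)), (nat_lit 1, (nat_lit 0x80065b22e28917c3d025524b1c30043bc391))]),
  (nat_lit 47, nat_lit 3, [(nat_lit 1, (nat_lit 0x8005e77b012e7475f04772491c16243bc391)), (nat_lit 1, (nat_lit 0x8005e77b012e7475f04772491c16243bc391))]),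
  (nat_lit 48, nat_lit 5, [(nat_lit 1, (nat_lit 0x80056d22e5b71ed12d4e406302616958505c)), (nat_lit 1, (nat_lit 0x80056d22e5b71ed12d4e406302616958505c))]),
  (nat_lit 49, nat_lit 6, [(nat_lit 1, (nat_lit 0x8000c178267827a38a72b0632815f51415f0)), (nat_lit 1, (nat_lit 0x8000c178267827a38a72b0632815f51415f0))]),
  (nat_lit 50, nat_lit 10, [(nat_lit 1, (nat_lit 0x8005e73912b91805253ef01056d0a574f73a)), (nat_lit 1, (nat_lit 0x8000c47823b933932e3df0103665f0457512))]),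
  (nat_lit 51, nat_lit 18, [(nat_lit 1, (nat_lit 0x8000d95f56b63ac3d76bc0c14cf2ce6aa22e)), (nat_lit 1, (nat_lit 0x80042a3913e313b69c7a27693795122597b7))]),
  (nat_lit 52, nat_lit 3, [(nat_lit 1, (nat_lit 0xd9e400200100080040020010008004002001)), (nat_lit 1, (nat_lit 0xd9e0e822e2891ef6604e62d87696245855a8))]),
  (nat_lit 53, nat_lit 0, [(nat_lit 1, (nat_lit 0x8006782001c32a70930bc01004726c2b904e)), (nat_lit 1, (nat_lit 0x8006fc24749d45c3f55a53f20474d04c63ac)), (nat_lit 1, (nat_lit 0xd8715e24745e0040c469c3f204f0803a73a4))]),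
  (nat_lit 54, nat_lit 0, [(nat_lit 1, (nat_lit 0x8005415253b41ef2f472b28a5993df143001)), (nat_lit 1, (nat_lit 0x8004c150b1522a770068530a1ed3df4995f5)), (nat_lit 1, (nat_lit 0x80076653c0ae12e6fc69c2d80261aa73e5f5))]),
  (nat_lit 55, nat_lit 94, [(nat_lit 1, (nat_lit 0x8006850ae2c869f0017823f918000251a2f0)), (nat_lit 1, (nat_lit 0x80016845c14336474751a0406075052464cb)), (nat_lit 1, (nat_lit 0x8006850ae2c869f0017823f918000251a2f0)), (nat_lit 1, (nat_lit 0x80016845c14336474751a0406075052464cb))]),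
  (nat_lit 56, nat_lit 0, [(nat_lit 1, (nat_lit 0xa71400200100080040020010008004002001)), (nat_lit 1, (nat_lit 0xa71400200100080040020010008004002001)), (nat_lit 1, (nat_lit 0xa7167154d5555bc73a52b60350303300232e)), (nat_lit 2, (nat_lit 0x800400200100080040020010008004002001))])]

noncomputable def qeT_0 : Tr :=
  (.nd (nat_lit 19) (.nd (nat_lit 9) (.nd (nat_lit 4) (.nd (nat_lit 2) (.nd (nat_lit 1) (.lf ⟨nat_lit 0, nat_lit 0, nat_lit 0, one, one, one, .triv⟩)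
 (.lf ⟨nat_lit 0, nat_lit 0, nat_lit 0, one, one, one, .triv⟩))
 (.nd (nat_lit 3) (.lf ⟨nat_lit 0, nat_lit 0, nat_lit 0, one, one, one, .triv⟩)
 (.lf ⟨nat_lit 1, nat_lit 1, nat_lit 0, (nat_lit 0x8001ed3ef1d208049054d12d4585bb5ef56c), (nat_lit 0x8001ed3ef1d208049054d12d4585bb5ef56c), one, (.wt (nat_lit 1) (nat_lit 0) one (.sp .nil) [] [])⟩)))
 (.nd (nat_lit 6) (.nd (nat_lit 5) (.lf ⟨nat_lit 0, nat_lit 1, nat_lit 1, (nat_lit 0x8001ed3ef1d208049054d12d4585bb5ef56c), one, (nat_lit 0x8001ed3ef1d208049054d12d4585bb5ef56c), (.we (nat_lit 0) (nat_lit 1) (nat_lit 0x8001ed3ef1d208049054d12d4585bb5ef56c) (.st (nat_lit 3) [] [] (.sp .nil)))⟩)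
 (.lf ⟨nat_lit 1, nat_lit 1, nat_lit 0, (nat_lit 0x8004cb2086aa4d03797823e200845c4993f3), (nat_lit 0x8004cb2086aa4d03797823e200845c4993f3), one, (.wt (nat_lit 2) (nat_lit 0) one (.sp .nil) [] [])⟩))
 (.nd (nat_lit 7) (.lf ⟨nat_lit 0, nat_lit 1, nat_lit 1, (nat_lit 0x8004cb2086aa4d03797823e200845c4993f3), one, (nat_lit 0x8004cb2086aa4d03797823e200845c4993f3), (.we (nat_lit 0) (nat_lit 1) (nat_lit 0x8004cb2086aa4d03797823e200845c4993f3) (.st (nat_lit 5) [] [] (.sp .nil)))⟩)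
 (.nd (nat_lit 8) (.lf ⟨nat_lit 0, nat_lit 1, nat_lit 1, (nat_lit 0x8001267b76784d03f96bf68f4585b31742ce), one, (nat_lit 0x8001267b76784d03f96bf68f4585b31742ce), (.prod [nat_lit 4, nat_lit 6])⟩)
 (.lf ⟨nat_lit 1, nat_lit 1, nat_lit 0, (nat_lit 0x8000e822e2891ef6604e62d87696245855a8), (nat_lit 0x8000e822e2891ef6604e62d87696245855a8), one, (.wt (nat_lit 3) (nat_lit 0) one (.sp .nil) [] [])⟩)))))
 (.nd (nat_lit 14) (.nd (nat_lit 11) (.nd (nat_lit 10) (.lf ⟨nat_lit 0, nat_lit 1, nat_lit 1, (nat_lit 0x8000e822e2891ef6604e62d87696245855a8), one, (nat_lit 0x8000e822e2891ef6604e62d87696245855a8), (.we (nat_lit 0) (nat_lit 1) (nat_lit 0x8000e822e2891ef6604e62d87696245855a8) (.st (nat_lit 8) [] [] (.sp .nil)))⟩)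
 (.lf ⟨nat_lit 0, nat_lit 1, nat_lit 1, (nat_lit 0x8005052ae25b1ef3df0e428a3392f40681aa), one, (nat_lit 0x8005052ae25b1ef3df0e428a3392f40681aa), (.prod [nat_lit 4, nat_lit 9])⟩))
 (.nd (nat_lit 12) (.lf ⟨nat_lit 0, nat_lit 1, nat_lit 1, (nat_lit 0x8005052ae25b1ef3df0e428a3392f40681aa), one, (nat_lit 0x8005052ae25b1ef3df0e428a3392f40681aa), (.prod [nat_lit 4, nat_lit 9])⟩)
 (.nd (nat_lit 13) (.lf ⟨nat_lit 1, nat_lit 1, nat_lit 0, (nat_lit 0x80065b22e28917c3d025524b1c30043bc391), (nat_lit 0x80065b22e28917c3d025524b1c30043bc391), one, (.wt (nat_lit 4) (nat_lit 0) one (.sp .nil) [] [])⟩)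
 (.lf ⟨nat_lit 0, nat_lit 1, nat_lit 1, (nat_lit 0x80065b22e28917c3d025524b1c30043bc391), one, (nat_lit 0x80065b22e28917c3d025524b1c30043bc391), (.we (nat_lit 0) (nat_lit 1) (nat_lit 0x80065b22e28917c3d025524b1c30043bc391) (.st (nat_lit 12) [] [] (.sp .nil)))⟩))))
 (.nd (nat_lit 16) (.nd (nat_lit 15) (.lf ⟨nat_lit 0, nat_lit 1, nat_lit 1, (nat_lit 0x8000261b41d217c56c55428a60345e5c1490), one, (nat_lit 0x8000261b41d217c56c55428a60345e5c1490), (.prod [nat_lit 4, nat_lit 13])⟩)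
 (.lf ⟨nat_lit 0, nat_lit 1, nat_lit 1, (nat_lit 0x8005193ed5236bc13b43c3e21c360773e238), one, (nat_lit 0x8005193ed5236bc13b43c3e21c360773e238), (.prod [nat_lit 6, nat_lit 13])⟩))
 (.nd (nat_lit 17) (.lf ⟨nat_lit 0, nat_lit 1, nat_lit 1, (nat_lit 0x8003647b76786bc0474fd4e360359d1432f9), one, (nat_lit 0x8003647b76786bc0474fd4e360359d1432f9), (.prod [nat_lit 7, nat_lit 13])⟩)
 (.nd (nat_lit 18) (.lf ⟨nat_lit 0, nat_lit 1, nat_lit 1, (nat_lit 0x80013a20010039a5f051a30a52b62463b638), one, (nat_lit 0x80013a20010039a5f051a30a52b62463b638), (.prod [nat_lit 9, nat_lit 13])⟩)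
 (.lf ⟨nat_lit 0, nat_lit 1, nat_lit 1, (nat_lit 0x80013a5475235e70e953c61366945c046063), one, (nat_lit 0x80013a5475235e70e953c61366945c046063), (.prod [nat_lit 13, nat_lit 6])⟩))))))
 (.nd (nat_lit 28) (.nd (nat_lit 23) (.nd (nat_lit 21) (.nd (nat_lit 20) (.lf ⟨nat_lit 0, nat_lit 1, nat_lit 1, (nat_lit 0x8005190891000c10010392d828105c143040), one, (nat_lit 0x8005190891000c10010392d828105c143040), (.prod [nat_lit 14, nat_lit 4])⟩)
 (.lf ⟨nat_lit 0, nat_lit 1, nat_lit 1, (nat_lit 0x8007472466785e72ce6a62491a949d63b3f9), one, (nat_lit 0x8007472466785e72ce6a62491a949d63b3f9), (.prod [nat_lit 14, nat_lit 6])⟩))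
 (.nd (nat_lit 22) (.lf ⟨nat_lit 0, nat_lit 1, nat_lit 1, (nat_lit 0x80027832e2892275a84ff0106695f54c4660), one, (nat_lit 0x80027832e2892275a84ff0106695f54c4660), (.prod [nat_lit 15, nat_lit 6])⟩)
 (.lf ⟨nat_lit 0, nat_lit 1, nat_lit 1, (nat_lit 0x80065b2086aa7011a851203328151d5c12ab), one, (nat_lit 0x80065b2086aa7011a851203328151d5c12ab), (.prod [nat_lit 16, nat_lit 4])⟩)))
 (.nd (nat_lit 25) (.nd (nat_lit 24) (.lf ⟨nat_lit 0, nat_lit 1, nat_lit 1, (nat_lit 0x8004053ef1d222704f0a538a1a92f42b923a), one, (nat_lit 0x8004053ef1d222704f0a538a1a92f42b923a), (.prod [nat_lit 16, nat_lit 6])⟩)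
 (.lf ⟨nat_lit 0, nat_lit 1, nat_lit 1, (nat_lit 0x8000e872b6aa4022ab50b6137a26070681a8), one, (nat_lit 0x8000e872b6aa4022ab50b6137a26070681a8), (.prod [nat_lit 18, nat_lit 13])⟩))
 (.nd (nat_lit 26) (.lf ⟨nat_lit 0, nat_lit 1, nat_lit 1, (nat_lit 0x8004cb32e28913d39124c30a0c305c1743d0), one, (nat_lit 0x8004cb32e28913d39124c30a0c305c1743d0), (.prod [nat_lit 19, nat_lit 13])⟩)
 (.nd (nat_lit 27) (.lf ⟨nat_lit 0, nat_lit 1, nat_lit 1, (nat_lit 0x8005052466784022f94e43ac3f273a585047), one, (nat_lit 0x8005052466784022f94e43ac3f273a585047), (.prod [nat_lit 20, nat_lit 13])⟩)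
 (.lf ⟨nat_lit 0, nat_lit 1, nat_lit 1, (nat_lit 0x80002308910005263850324b7a25f54f35f0), one, (nat_lit 0x80002308910005263850324b7a25f54f35f0), (.prod [nat_lit 21, nat_lit 13])⟩)))))
 (.nd (nat_lit 33) (.nd (nat_lit 30) (.nd (nat_lit 29) (.lf ⟨nat_lit 0, nat_lit 1, nat_lit 1, (nat_lit 0x8004003ed52356d0635250330c34cf5ef0e9), one, (nat_lit 0x8004003ed52356d0635250330c34cf5ef0e9), (.prod [nat_lit 22, nat_lit 13])⟩)
 (.lf ⟨nat_lit 0, nat_lit 1, nat_lit 1, (nat_lit 0x8005ce1b41d205223a0bc3a43f209811e04f), one, (nat_lit 0x8005ce1b41d205223a0bc3a43f209811e04f), (.prod [nat_lit 23, nat_lit 13])⟩))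
 (.nd (nat_lit 31) (.lf ⟨nat_lit 0, nat_lit 1, nat_lit 1, (nat_lit 0x8000261b41d217c56c55428a60345e5c1490), one, (nat_lit 0x8000261b41d217c56c55428a60345e5c1490), (.prod [nat_lit 4, nat_lit 13])⟩)
 (.nd (nat_lit 32) (.lf ⟨nat_lit 0, nat_lit 1, nat_lit 1, (nat_lit 0x8005193ed5236bc13b43c3e21c360773e238), one, (nat_lit 0x8005193ed5236bc13b43c3e21c360773e238), (.prod [nat_lit 6, nat_lit 13])⟩)
 (.lf ⟨nat_lit 0, nat_lit 1, nat_lit 1, (nat_lit 0x80074737c25b39a1aa0fd12d2eb0980463df), one, (nat_lit 0x80074737c25b39a1aa0fd12d2eb0980463df), (.prod [nat_lit 11, nat_lit 13])⟩))))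
 (.nd (nat_lit 35) (.nd (nat_lit 34) (.lf ⟨nat_lit 0, nat_lit 1, nat_lit 1, (nat_lit 0x80013a5475235e70e953c61366945c046063), one, (nat_lit 0x80013a5475235e70e953c61366945c046063), (.prod [nat_lit 13, nat_lit 6])⟩)
 (.lf ⟨nat_lit 0, nat_lit 1, nat_lit 1, (nat_lit 0x8005190891000c10010392d828105c143040), one, (nat_lit 0x8005190891000c10010392d828105c143040), (.prod [nat_lit 30, nat_lit 4])⟩))
 (.nd (nat_lit 36) (.lf ⟨nat_lit 0, nat_lit 1, nat_lit 1, (nat_lit 0x8007472466785e72ce6a62491a949d63b3f9), one, (nat_lit 0x8007472466785e72ce6a62491a949d63b3f9), (.prod [nat_lit 30, nat_lit 6])⟩)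
 (.nd (nat_lit 37) (.lf ⟨nat_lit 0, nat_lit 1, nat_lit 1, (nat_lit 0x80027832e2892275a84ff0106695f54c4660), one, (nat_lit 0x80027832e2892275a84ff0106695f54c4660), (.prod [nat_lit 31, nat_lit 6])⟩)
 (.lf ⟨nat_lit 0, nat_lit 1, nat_lit 1, (nat_lit 0x8000e872b6aa4022ab50b6137a26070681a8), one, (nat_lit 0x8000e872b6aa4022ab50b6137a26070681a8), (.prod [nat_lit 33, nat_lit 13])⟩)))))))

noncomputable def qeT_38 : Tr :=
  (.nd (nat_lit 57) (.nd (nat_lit 47) (.nd (nat_lit 42) (.nd (nat_lit 40) (.nd (nat_lit 39) (.lf ⟨nat_lit 0, nat_lit 1, nat_lit 1, (nat_lit 0x8004cb32e28913d39124c30a0c305c1743d0), one, (nat_lit 0x8004cb32e28913d39124c30a0c305c1743d0), (.prod [nat_lit 34, nat_lit 13])⟩)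
 (.lf ⟨nat_lit 0, nat_lit 1, nat_lit 1, (nat_lit 0x8005052466784022f94e43ac3f273a585047), one, (nat_lit 0x8005052466784022f94e43ac3f273a585047), (.prod [nat_lit 35, nat_lit 13])⟩))
 (.nd (nat_lit 41) (.lf ⟨nat_lit 0, nat_lit 1, nat_lit 1, (nat_lit 0x80002308910005263850324b7a25f54f35f0), one, (nat_lit 0x80002308910005263850324b7a25f54f35f0), (.prod [nat_lit 36, nat_lit 13])⟩)
 (.lf ⟨nat_lit 1, nat_lit 1, nat_lit 0, (nat_lit 0x8005e77b012e7475f04772491c16243bc391), (nat_lit 0x8005e77b012e7475f04772491c16243bc391), one, (.wt (nat_lit 5) (nat_lit 0) one (.sp .nil) [] [])⟩)))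
 (.nd (nat_lit 44) (.nd (nat_lit 43) (.lf ⟨nat_lit 0, nat_lit 1, nat_lit 1, (nat_lit 0x8005e77b012e7475f04772491c16243bc391), one, (nat_lit 0x8005e77b012e7475f04772491c16243bc391), (.we (nat_lit 0) (nat_lit 1) (nat_lit 0x8005e77b012e7475f04772491c16243bc391) (.st (nat_lit 41) [] [] (.sp .nil)))⟩)
 (.lf ⟨nat_lit 0, nat_lit 1, nat_lit 1, (nat_lit 0x80065b22e28917c3d025524b1c30043bc391), one, (nat_lit 0x80065b22e28917c3d025524b1c30043bc391), (.inv (nat_lit 13))⟩))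
 (.nd (nat_lit 45) (.lf ⟨nat_lit 0, nat_lit 1, nat_lit 1, (nat_lit 0x80040279e2a75056605bc3ac3b4624002001), one, (nat_lit 0x80040279e2a75056605bc3ac3b4624002001), (.prod [nat_lit 42, nat_lit 43])⟩)
 (.nd (nat_lit 46) (.lf ⟨nat_lit 0, nat_lit 1, nat_lit 1, (nat_lit 0x80040279e2a75056605bc3ac3b4624002001), one, (nat_lit 0x80040279e2a75056605bc3ac3b4624002001), (.prod [nat_lit 42, nat_lit 43])⟩)
 (.lf ⟨nat_lit 1, nat_lit 1, nat_lit 0, (nat_lit 0x80056d22e5b71ed12d4e406302616958505c), (nat_lit 0x80056d22e5b71ed12d4e406302616958505c), one, (.wt (nat_lit 6) (nat_lit 0) one (.sp .nil) [] [])⟩)))))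
 (.nd (nat_lit 52) (.nd (nat_lit 49) (.nd (nat_lit 48) (.lf ⟨nat_lit 0, nat_lit 1, nat_lit 1, (nat_lit 0x80056d22e5b71ed12d4e406302616958505c), one, (nat_lit 0x80056d22e5b71ed12d4e406302616958505c), (.we (nat_lit 0) (nat_lit 1) (nat_lit 0x80056d22e5b71ed12d4e406302616958505c) (.st (nat_lit 46) [] [] (.sp .nil)))⟩)
 (.lf ⟨nat_lit 0, nat_lit 1, nat_lit 1, (nat_lit 0x8001ef3ed69f5053ac54d6603647005ef51d), one, (nat_lit 0x8001ef3ed69f5053ac54d6603647005ef51d), (.prod [nat_lit 10, nat_lit 47])⟩))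
 (.nd (nat_lit 50) (.lf ⟨nat_lit 0, nat_lit 1, nat_lit 1, (nat_lit 0x8004023ef7e90e82d85252f92783f35ef098), one, (nat_lit 0x8004023ef7e90e82d85252f92783f35ef098), (.prod [nat_lit 24, nat_lit 47])⟩)
 (.nd (nat_lit 51) (.lf ⟨nat_lit 0, nat_lit 1, nat_lit 1, (nat_lit 0x8000527b73b902364b24c23a51900117473a), one, (nat_lit 0x8000527b73b902364b24c23a51900117473a), (.prod [nat_lit 25, nat_lit 47])⟩)
 (.lf ⟨nat_lit 0, nat_lit 1, nat_lit 1, (nat_lit 0x8001ef7ef2cf0e86130203df65b3d000259d), one, (nat_lit 0x8001ef7ef2cf0e86130203df65b3d000259d), (.prod [nat_lit 26, nat_lit 47])⟩))))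
 (.nd (nat_lit 54) (.nd (nat_lit 53) (.lf ⟨nat_lit 0, nat_lit 1, nat_lit 1, (nat_lit 0x80056d2ae1e740001050b15e51913b06845e), one, (nat_lit 0x80056d2ae1e740001050b15e51913b06845e), (.prod [nat_lit 28, nat_lit 47])⟩)
 (.lf ⟨nat_lit 0, nat_lit 1, nat_lit 1, (nat_lit 0x8004d01b40914cb30a4253f965b1a811e5bb), one, (nat_lit 0x8004d01b40914cb30a4253f965b1a811e5bb), (.prod [nat_lit 29, nat_lit 47])⟩))
 (.nd (nat_lit 55) (.lf ⟨nat_lit 0, nat_lit 1, nat_lit 1, (nat_lit 0x80056d22e5b71ed12d4e406302616958505c), one, (nat_lit 0x80056d22e5b71ed12d4e406302616958505c), (.inv (nat_lit 47))⟩)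
 (.nd (nat_lit 56) (.lf ⟨nat_lit 0, nat_lit 1, nat_lit 1, (nat_lit 0x8002a822e12e0086606a609808003363b001), one, (nat_lit 0x8002a822e12e0086606a609808003363b001), (.prod (unp (nat_lit 6) (nat_lit 0x3636f03)))⟩)
 (.lf ⟨nat_lit 0, nat_lit 1, nat_lit 1, (nat_lit 0x8004023ef7e90e82d85252f92783f35ef098), one, (nat_lit 0x8004023ef7e90e82d85252f92783f35ef098), (.prod [nat_lit 37, nat_lit 47])⟩))))))
 (.nd (nat_lit 67) (.nd (nat_lit 62) (.nd (nat_lit 59) (.nd (nat_lit 58) (.lf ⟨nat_lit 0, nat_lit 1, nat_lit 1, (nat_lit 0x8000527b73b902364b24c23a51900117473a), one, (nat_lit 0x8000527b73b902364b24c23a51900117473a), (.prod [nat_lit 38, nat_lit 47])⟩)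
 (.lf ⟨nat_lit 0, nat_lit 1, nat_lit 1, (nat_lit 0x8001ef7ef2cf0e86130203df65b3d000259d), one, (nat_lit 0x8001ef7ef2cf0e86130203df65b3d000259d), (.prod [nat_lit 39, nat_lit 47])⟩))
 (.nd (nat_lit 60) (.lf ⟨nat_lit 0, nat_lit 1, nat_lit 1, (nat_lit 0x8002a822e12e0086606a609808003363b001), one, (nat_lit 0x8002a822e12e0086606a609808003363b001), (.prod (unp (nat_lit 6) (nat_lit 0x3636f03)))⟩)
 (.nd (nat_lit 61) (.lf ⟨nat_lit 1, nat_lit 1, nat_lit 0, (nat_lit 0x8000c178267827a38a72b0632815f51415f0), (nat_lit 0x8000c178267827a38a72b0632815f51415f0), one, (.wt (nat_lit 7) (nat_lit 0) one (.sp .nil) [] [])⟩)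
 (.lf ⟨nat_lit 0, nat_lit 1, nat_lit 1, (nat_lit 0x8000c178267827a38a72b0632815f51415f0), one, (nat_lit 0x8000c178267827a38a72b0632815f51415f0), (.we (nat_lit 0) (nat_lit 1) (nat_lit 0x8000c178267827a38a72b0632815f51415f0) (.st (nat_lit 60) [] [] (.sp .nil)))⟩))))
 (.nd (nat_lit 64) (.nd (nat_lit 63) (.lf ⟨nat_lit 0, nat_lit 1, nat_lit 1, (nat_lit 0x80002308910005263850324b7a25f54f35f0), one, (nat_lit 0x80002308910005263850324b7a25f54f35f0), (.inv (nat_lit 27))⟩)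
 (.lf ⟨nat_lit 0, nat_lit 1, nat_lit 1, (nat_lit 0x80039a50b6782a828a20823852b0042c8001), one, (nat_lit 0x80039a50b6782a828a20823852b0042c8001), (.prod [nat_lit 61, nat_lit 62])⟩))
 (.nd (nat_lit 65) (.lf ⟨nat_lit 0, nat_lit 1, nat_lit 1, (nat_lit 0x8000800e439752b6134fd5bb2a82f9143001), one, (nat_lit 0x8000800e439752b6134fd5bb2a82f9143001), (.prod [nat_lit 55, nat_lit 63])⟩)
 (.nd (nat_lit 66) (.lf ⟨nat_lit 0, nat_lit 1, nat_lit 1, (nat_lit 0x80002651205849312d42a23a0ae62474f001), one, (nat_lit 0x80002651205849312d42a23a0ae62474f001), (.prod [nat_lit 63, nat_lit 44])⟩)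
 (.lf ⟨nat_lit 0, nat_lit 1, nat_lit 1, (nat_lit 0x80052b53c05840049d2ae49039a0334c6001), one, (nat_lit 0x80052b53c05840049d2ae49039a0334c6001), (.prod [nat_lit 63, nat_lit 55])⟩)))))
 (.nd (nat_lit 72) (.nd (nat_lit 69) (.nd (nat_lit 68) (.lf ⟨nat_lit 0, nat_lit 1, nat_lit 1, (nat_lit 0x8005050fd5b70ae0334e660749315e4c4001), one, (nat_lit 0x8005050fd5b70ae0334e660749315e4c4001), (.prod [nat_lit 64, nat_lit 44])⟩)
 (.lf ⟨nat_lit 0, nat_lit 1, nat_lit 1, (nat_lit 0x8000ae52567840273a2b52ab026613141001), one, (nat_lit 0x8000ae52567840273a2b52ab026613141001), (.prod [nat_lit 65, nat_lit 55])⟩))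
 (.nd (nat_lit 70) (.lf ⟨nat_lit 0, nat_lit 1, nat_lit 1, (nat_lit 0x8005e753c5b77472f937c45c1c312d3bc001), one, (nat_lit 0x8005e753c5b77472f937c45c1c312d3bc001), (.prod [nat_lit 67, nat_lit 63])⟩)
 (.nd (nat_lit 71) (.lf ⟨nat_lit 0, nat_lit 1, nat_lit 1, (nat_lit 0x80002308910005263850324b7a25f54f35f0), one, (nat_lit 0x80002308910005263850324b7a25f54f35f0), (.inv (nat_lit 40))⟩)
 (.lf ⟨nat_lit 0, nat_lit 1, nat_lit 1, (nat_lit 0x80039a50b6782a828a20823852b0042c8001), one, (nat_lit 0x80039a50b6782a828a20823852b0042c8001), (.prod [nat_lit 61, nat_lit 70])⟩))))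
 (.nd (nat_lit 74) (.nd (nat_lit 73) (.lf ⟨nat_lit 0, nat_lit 1, nat_lit 1, (nat_lit 0x8000800e439752b6134fd5bb2a82f9143001), one, (nat_lit 0x8000800e439752b6134fd5bb2a82f9143001), (.prod [nat_lit 59, nat_lit 71])⟩)
 (.lf ⟨nat_lit 0, nat_lit 1, nat_lit 1, (nat_lit 0x80002651205849312d42a23a0ae62474f001), one, (nat_lit 0x80002651205849312d42a23a0ae62474f001), (.prod [nat_lit 71, nat_lit 45])⟩))
 (.nd (nat_lit 75) (.lf ⟨nat_lit 0, nat_lit 1, nat_lit 1, (nat_lit 0x80052b53c05840049d2ae49039a0334c6001), one, (nat_lit 0x80052b53c05840049d2ae49039a0334c6001), (.prod [nat_lit 71, nat_lit 59])⟩)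
 (.nd (nat_lit 76) (.lf ⟨nat_lit 0, nat_lit 1, nat_lit 1, (nat_lit 0x8000080fd59939a62424c30a4002f9174001), one, (nat_lit 0x8000080fd59939a62424c30a4002f9174001), (.prod [nat_lit 72, nat_lit 59])⟩)
 (.lf ⟨nat_lit 0, nat_lit 1, nat_lit 1, (nat_lit 0x8000ae52567840273a2b52ab026613141001), one, (nat_lit 0x8000ae52567840273a2b52ab026613141001), (.prod [nat_lit 73, nat_lit 59])⟩)))))))

noncomputable def qeT_77 : Tr :=
  (.nd (nat_lit 96) (.nd (nat_lit 86) (.nd (nat_lit 81) (.nd (nat_lit 79) (.nd (nat_lit 78) (.lf ⟨nat_lit 1, nat_lit 1, nat_lit 0, (nat_lit 0x8005e73912b91805253ef01056d0a574f73a), (nat_lit 0x8005e73912b91805253ef01056d0a574f73a), one, (.wt (nat_lit 8) (nat_lit 0) one (.sp .nil) [] [])⟩)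
 (.lf ⟨nat_lit 0, nat_lit 1, nat_lit 1, (nat_lit 0x8005e73912b91805253ef01056d0a574f73a), one, (nat_lit 0x8005e73912b91805253ef01056d0a574f73a), (.we (nat_lit 0) (nat_lit 1) (nat_lit 0x8005e73912b91805253ef01056d0a574f73a) (.st (nat_lit 77) [] [] (.sp .nil)))⟩))
 (.nd (nat_lit 80) (.lf ⟨nat_lit 0, nat_lit 1, nat_lit 1, (nat_lit 0x8004d00894c112638a4773793640474f3004), one, (nat_lit 0x8004d00894c112638a4773793640474f3004), (.inv (nat_lit 50))⟩)
 (.lf ⟨nat_lit 0, nat_lit 1, nat_lit 1, (nat_lit 0x8000800e439752b6134fd5bb2a82f9143001), one, (nat_lit 0x8000800e439752b6134fd5bb2a82f9143001), (.inv (nat_lit 66))⟩)))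
 (.nd (nat_lit 83) (.nd (nat_lit 82) (.lf ⟨nat_lit 0, nat_lit 1, nat_lit 1, (nat_lit 0x80045a49d02e7696856bf68f0527ef002001), one, (nat_lit 0x80045a49d02e7696856bf68f0527ef002001), (.prod (unp (nat_lit 7) (nat_lit 0x1427ce03)))⟩)
 (.lf ⟨nat_lit 0, nat_lit 1, nat_lit 1, (nat_lit 0x80004e49d02e5055a82ab4e329a1970a60a5), one, (nat_lit 0x80004e49d02e5055a82ab4e329a1970a60a5), (.prod [nat_lit 17, nat_lit 81])⟩))
 (.nd (nat_lit 84) (.lf ⟨nat_lit 0, nat_lit 1, nat_lit 1, (nat_lit 0x8000c345c69f39a2d854d0fd3660e9499547), one, (nat_lit 0x8000c345c69f39a2d854d0fd3660e9499547), (.prod [nat_lit 48, nat_lit 81])⟩)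
 (.nd (nat_lit 85) (.lf ⟨nat_lit 0, nat_lit 1, nat_lit 1, (nat_lit 0x80045845e7e97013ac52551227a56c4991b4), one, (nat_lit 0x80045845e7e97013ac52551227a56c4991b4), (.prod [nat_lit 49, nat_lit 81])⟩)
 (.lf ⟨nat_lit 0, nat_lit 1, nat_lit 1, (nat_lit 0x8000c30042cf70164b6bf46e09c3d000222e), one, (nat_lit 0x8000c30042cf70164b6bf46e09c3d000222e), (.prod [nat_lit 51, nat_lit 81])⟩)))))
 (.nd (nat_lit 91) (.nd (nat_lit 88) (.nd (nat_lit 87) (.lf ⟨nat_lit 0, nat_lit 1, nat_lit 1, (nat_lit 0x8001ab73a02e7476380e968f3661970910bc), one, (nat_lit 0x8001ab73a02e7476380e968f3661970910bc), (.prod [nat_lit 82, nat_lit 13])⟩)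
 (.lf ⟨nat_lit 0, nat_lit 1, nat_lit 1, (nat_lit 0x80036645e0a60264e35540e40c356c11e6e2), one, (nat_lit 0x80036645e0a60264e35540e40c356c11e6e2), (.prod [nat_lit 83, nat_lit 44])⟩))
 (.nd (nat_lit 89) (.lf ⟨nat_lit 0, nat_lit 1, nat_lit 1, (nat_lit 0x80051959d12e0520fd6fc1b47690330a6001), one, (nat_lit 0x80051959d12e0520fd6fc1b47690330a6001), (.prod [nat_lit 55, nat_lit 81])⟩)
 (.nd (nat_lit 90) (.lf ⟨nat_lit 0, nat_lit 1, nat_lit 1, (nat_lit 0x8007690bc2b929a64b23a37c5195126a8001), one, (nat_lit 0x8007690bc2b929a64b23a37c5195126a8001), (.prod [nat_lit 64, nat_lit 81])⟩)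
 (.lf ⟨nat_lit 0, nat_lit 1, nat_lit 1, (nat_lit 0x8001522f90585bf12d2b54fd6691971d2001), one, (nat_lit 0x8001522f90585bf12d2b54fd6691971d2001), (.prod [nat_lit 65, nat_lit 81])⟩))))
 (.nd (nat_lit 93) (.nd (nat_lit 92) (.lf ⟨nat_lit 0, nat_lit 1, nat_lit 1, (nat_lit 0x8004cb3f94c11805125bb3ed1c112d457001), one, (nat_lit 0x8004cb3f94c11805125bb3ed1c112d457001), (.prod [nat_lit 69, nat_lit 81])⟩)
 (.lf ⟨nat_lit 0, nat_lit 1, nat_lit 1, (nat_lit 0x8002f005c39727a53c3ac4e45412f926c001), one, (nat_lit 0x8002f005c39727a53c3ac4e45412f926c001), (.prod [nat_lit 88, nat_lit 63])⟩))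
 (.nd (nat_lit 94) (.lf ⟨nat_lit 0, nat_lit 1, nat_lit 1, (nat_lit 0x80015268573e28164b2380d96bc50b091001), one, (nat_lit 0x80015268573e28164b2380d96bc50b091001), (.prod [nat_lit 89, nat_lit 44])⟩)
 (.nd (nat_lit 95) (.lf ⟨nat_lit 0, nat_lit 1, nat_lit 1, (nat_lit 0x8001ed2f967833973a42a24c0c17b71e5001), one, (nat_lit 0x8001ed2f967833973a42a24c0c17b71e5001), (.prod [nat_lit 90, nat_lit 55])⟩)
 (.lf ⟨nat_lit 0, nat_lit 1, nat_lit 1, (nat_lit 0x8004586b02a739a0fd4902d8405197002001), one, (nat_lit 0x8004586b02a739a0fd4902d8405197002001), (.prod [nat_lit 44, nat_lit 81])⟩))))))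
 (.nd (nat_lit 106) (.nd (nat_lit 101) (.nd (nat_lit 98) (.nd (nat_lit 97) (.lf ⟨nat_lit 0, nat_lit 1, nat_lit 1, (nat_lit 0x80027a0891000260e42ab4e3227229002001), one, (nat_lit 0x80027a0891000260e42ab4e3227229002001), (.prod [nat_lit 95, nat_lit 44])⟩)
 (.lf ⟨nat_lit 0, nat_lit 1, nat_lit 1, (nat_lit 0x8004d00894c112638a4773793640474f3004), one, (nat_lit 0x8004d00894c112638a4773793640474f3004), (.inv (nat_lit 57))⟩))
 (.nd (nat_lit 99) (.lf ⟨nat_lit 0, nat_lit 1, nat_lit 1, (nat_lit 0x8000800e439752b6134fd5bb2a82f9143001), one, (nat_lit 0x8000800e439752b6134fd5bb2a82f9143001), (.inv (nat_lit 74))⟩)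
 (.nd (nat_lit 100) (.lf ⟨nat_lit 0, nat_lit 1, nat_lit 1, (nat_lit 0x80045a49d02e7696856bf68f0527ef002001), one, (nat_lit 0x80045a49d02e7696856bf68f0527ef002001), (.prod (unp (nat_lit 7) (nat_lit 0x18b0ce03)))⟩)
 (.lf ⟨nat_lit 0, nat_lit 1, nat_lit 1, (nat_lit 0x8001805bb4c65051a866012d39f1b416846e), one, (nat_lit 0x8001805bb4c65051a866012d39f1b416846e), (.prod [nat_lit 32, nat_lit 99])⟩))))
 (.nd (nat_lit 103) (.nd (nat_lit 102) (.lf ⟨nat_lit 0, nat_lit 1, nat_lit 1, (nat_lit 0x8000c30042cf70164b6bf46e09c3d000222e), one, (nat_lit 0x8000c30042cf70164b6bf46e09c3d000222e), (.prod [nat_lit 58, nat_lit 99])⟩)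
 (.lf ⟨nat_lit 0, nat_lit 1, nat_lit 1, (nat_lit 0x8007a26071410801aa04028a6037962cf24c), one, (nat_lit 0x8007a26071410801aa04028a6037962cf24c), (.prod [nat_lit 100, nat_lit 45])⟩))
 (.nd (nat_lit 104) (.lf ⟨nat_lit 0, nat_lit 1, nat_lit 1, (nat_lit 0x80029a3f905845a2002f45bc50503325b001), one, (nat_lit 0x80029a3f905845a2002f45bc50503325b001), (.prod [nat_lit 74, nat_lit 99])⟩)
 (.nd (nat_lit 105) (.lf ⟨nat_lit 0, nat_lit 1, nat_lit 1, (nat_lit 0x8004586b02a739a0fd4902d8405197002001), one, (nat_lit 0x8004586b02a739a0fd4902d8405197002001), (.prod [nat_lit 45, nat_lit 99])⟩)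
 (.lf ⟨nat_lit 0, nat_lit 1, nat_lit 1, (nat_lit 0x80027873a02e1520bc51a30a5ce271002001), one, (nat_lit 0x80027873a02e1520bc51a30a5ce271002001), (.prod [nat_lit 99, nat_lit 45])⟩)))))
 (.nd (nat_lit 111) (.nd (nat_lit 108) (.nd (nat_lit 107) (.lf ⟨nat_lit 1, nat_lit 1, nat_lit 0, (nat_lit 0x8000d95f56b63ac3d76bc0c14cf2ce6aa22e), (nat_lit 0x8000d95f56b63ac3d76bc0c14cf2ce6aa22e), one, (.wt (nat_lit 9) (nat_lit 0) one (.sp .nil) [] [])⟩)
 (.lf ⟨nat_lit 0, nat_lit 1, nat_lit 1, (nat_lit 0x8000d95f56b63ac3d76bc0c14cf2ce6aa22e), one, (nat_lit 0x8000d95f56b63ac3d76bc0c14cf2ce6aa22e), (.we (nat_lit 0) (nat_lit 1) (nat_lit 0x8000d95f56b63ac3d76bc0c14cf2ce6aa22e) (.st (nat_lit 106) [] [] (.sp .nil)))⟩))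
 (.nd (nat_lit 109) (.lf ⟨nat_lit 0, nat_lit 1, nat_lit 1, (nat_lit 0x80027a2ce5a913a0a55036fc5ce20000259d), one, (nat_lit 0x80027a2ce5a913a0a55036fc5ce20000259d), (.inv (nat_lit 85))⟩)
 (.nd (nat_lit 110) (.lf ⟨nat_lit 0, nat_lit 1, nat_lit 1, (nat_lit 0x8001c32712891ef28a72b2f45e7660143001), one, (nat_lit 0x8001c32712891ef28a72b2f45e7660143001), (.inv (nat_lit 68))⟩)
 (.lf ⟨nat_lit 0, nat_lit 1, nat_lit 1, (nat_lit 0x8004e479e6172d86855bf0800d915e002001), one, (nat_lit 0x8004e479e6172d86855bf0800d915e002001), (.prod (unp (nat_lit 7) (nat_lit 0x1b766b03)))⟩))))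
 (.nd (nat_lit 113) (.nd (nat_lit 112) (.lf ⟨nat_lit 0, nat_lit 1, nat_lit 1, (nat_lit 0x8003ac17c1416714d00bc59d46e7a23e31ab), one, (nat_lit 0x8003ac17c1416714d00bc59d46e7a23e31ab), (.prod [nat_lit 10, nat_lit 110])⟩)
 (.lf ⟨nat_lit 0, nat_lit 1, nat_lit 1, (nat_lit 0x8003ef36463b4e35055a80bc45e04e71229a), one, (nat_lit 0x8003ef36463b4e35055a80bc45e04e71229a), (.prod [nat_lit 87, nat_lit 110])⟩))
 (.nd (nat_lit 114) (.lf ⟨nat_lit 0, nat_lit 1, nat_lit 1, (nat_lit 0x8004e66b01a43ac04049376973079b002001), one, (nat_lit 0x8004e66b01a43ac04049376973079b002001), (.prod [nat_lit 44, nat_lit 110])⟩)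
 (.nd (nat_lit 115) (.lf ⟨nat_lit 0, nat_lit 1, nat_lit 1, (nat_lit 0x80023849d1a430a0e46bc39a5bb512002001), one, (nat_lit 0x80023849d1a430a0e46bc39a5bb512002001), (.prod [nat_lit 95, nat_lit 110])⟩)
 (.lf ⟨nat_lit 0, nat_lit 1, nat_lit 1, (nat_lit 0x80027a2ce5a913a0a55036fc5ce20000259d), one, (nat_lit 0x80027a2ce5a913a0a55036fc5ce20000259d), (.inv (nat_lit 101))⟩)))))))

noncomputable def qeT_116 : Tr :=
  (.nd (nat_lit 135) (.nd (nat_lit 125) (.nd (nat_lit 120) (.nd (nat_lit 118) (.nd (nat_lit 117) (.lf ⟨nat_lit 0, nat_lit 1, nat_lit 1, (nat_lit 0x8001c32712891ef28a72b2f45e7660143001), one, (nat_lit 0x8001c32712891ef28a72b2f45e7660143001), (.inv (nat_lit 76))⟩)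
 (.lf ⟨nat_lit 0, nat_lit 1, nat_lit 1, (nat_lit 0x8004e479e6172d86855bf0800d915e002001), one, (nat_lit 0x8004e479e6172d86855bf0800d915e002001), (.prod (unp (nat_lit 7) (nat_lit 0x1d39eb03)))⟩))
 (.nd (nat_lit 119) (.lf ⟨nat_lit 0, nat_lit 1, nat_lit 1, (nat_lit 0x8002082270932d81ab68559d37966924709c), one, (nat_lit 0x8002082270932d81ab68559d37966924709c), (.prod [nat_lit 102, nat_lit 117])⟩)
 (.lf ⟨nat_lit 0, nat_lit 1, nat_lit 1, (nat_lit 0x80023849d1a430a0e46bc39a5bb512002001), one, (nat_lit 0x80023849d1a430a0e46bc39a5bb512002001), (.prod [nat_lit 104, nat_lit 117])⟩)))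
 (.nd (nat_lit 122) (.nd (nat_lit 121) (.lf ⟨nat_lit 1, nat_lit 1, nat_lit 0, (nat_lit 0xd9e400200100080040020010008004002001), (nat_lit 0xd9e0e822e2891ef6604e62d87696245855a8), one, (.wt (nat_lit 10) (nat_lit 0) one (.sp .nil) [] [])⟩)
 (.lf ⟨nat_lit 0, nat_lit 1, nat_lit 1, (nat_lit 0xd9e400200100080040020010008004002001), one, (nat_lit 0xd9e0e822e2891ef6604e62d87696245855a8), (.we (nat_lit 0) (nat_lit 1) (nat_lit 0xd9e400200100080040020010008004002001) (.st (nat_lit 120) [] [] (.sp .nil)))⟩))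
 (.nd (nat_lit 123) (.lf ⟨nat_lit 0, nat_lit 1, nat_lit 1, (nat_lit 0xa9539a50b6782a828a20823852b0042c8001), one, (nat_lit 0xa957010e42893b461337c23a54149d74f069), (.prod [nat_lit 121, nat_lit 63])⟩)
 (.nd (nat_lit 124) (.lf ⟨nat_lit 0, nat_lit 1, nat_lit 1, (nat_lit 0xa2d45a49d02e7696856bf68f0527ef002001), one, (nat_lit 0xa2d70159d3a70c30fd4e43ac0801974f35f0), (.prod [nat_lit 121, nat_lit 81])⟩)
 (.lf ⟨nat_lit 0, nat_lit 1, nat_lit 1, (nat_lit 0x92e4e479e6172d86855bf0800d915e002001), one, (nat_lit 0x92e13b3a459e67104045a39a68f79b17454d), (.prod [nat_lit 121, nat_lit 110])⟩)))))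
 (.nd (nat_lit 130) (.nd (nat_lit 127) (.nd (nat_lit 126) (.lf ⟨nat_lit 0, nat_lit 1, nat_lit 1, (nat_lit 0xc9930a22901902059d74727879615e31a001), one, (nat_lit 0xc9956c0bc59e7303f93b427a47773a26c3e2), (.prod [nat_lit 122, nat_lit 110])⟩)
 (.lf ⟨nat_lit 0, nat_lit 1, nat_lit 1, (nat_lit 0xf0b39a50b6782a828a20823852b0042c8001), one, (nat_lit 0xf0b5e754d1001520331b46fc1a973a74f047), (.prod [nat_lit 122, nat_lit 121])⟩))
 (.nd (nat_lit 128) (.lf ⟨nat_lit 0, nat_lit 1, nat_lit 1, (nat_lit 0xba723a73a43a68f0fd51902660750b002001), one, (nat_lit 0xba756c12d7b345e0e44587692d8512585391), (.prod [nat_lit 123, nat_lit 110])⟩)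
 (.nd (nat_lit 129) (.lf ⟨nat_lit 0, nat_lit 1, nat_lit 1, (nat_lit 0xaa75a57b06170100a54d01ef7962f95855a8), one, (nat_lit 0xaa73f338a59e7306606bc17c24943c4f30e4), (.prod [nat_lit 124, nat_lit 9])⟩)
 (.lf ⟨nat_lit 0, nat_lit 1, nat_lit 1, (nat_lit 0xa894ff2006174e30bc02350537c2f9002001), one, (nat_lit 0xa897003a459e3ed66027802630a4254f3554), (.prod [nat_lit 124, nat_lit 44])⟩))))
 (.nd (nat_lit 132) (.nd (nat_lit 131) (.lf ⟨nat_lit 0, nat_lit 1, nat_lit 1, (nat_lit 0xe2049022971220805c0ae29a2b512d6a8001), one, (nat_lit 0xe2004f7b72950d964b1ef0523ed73a0a6391), (.prod [nat_lit 125, nat_lit 63])⟩)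
 (.lf ⟨nat_lit 0, nat_lit 1, nat_lit 1, (nat_lit 0xdb730a22901902059d74727879615e31a001), one, (nat_lit 0xdb724c5f061701053c0ae39f1a808926c7d8), (.prod [nat_lit 126, nat_lit 110])⟩))
 (.nd (nat_lit 133) (.lf ⟨nat_lit 0, nat_lit 1, nat_lit 1, (nat_lit 0xe3923a73a43a68f0fd51902660750b002001), one, (nat_lit 0xe391aa28a7b309854d33900801053c002638), (.prod [nat_lit 127, nat_lit 121])⟩)
 (.nd (nat_lit 134) (.lf ⟨nat_lit 0, nat_lit 1, nat_lit 1, (nat_lit 0xf665472716642380a51803b42b503374f069), one, (nat_lit 0xf661a86382950d96131261ed2ab68514122e), (.prod [nat_lit 128, nat_lit 63])⟩)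
 (.lf ⟨nat_lit 0, nat_lit 1, nat_lit 1, (nat_lit 0xf174ff2006174e30bc02350537c2f9002001), one, (nat_lit 0xc9e04f38a59e72b04051974724b7821740fd), (.prod [nat_lit 129, nat_lit 121])⟩))))))
 (.nd (nat_lit 145) (.nd (nat_lit 140) (.nd (nat_lit 137) (.nd (nat_lit 136) (.lf ⟨nat_lit 0, nat_lit 1, nat_lit 1, (nat_lit 0xf4f0407967127b745e1c13f57d801039756c), one, (nat_lit 0xf4f5f02082954092491ef0527ef6075996fc), (.prod [nat_lit 130, nat_lit 4])⟩)
 (.lf ⟨nat_lit 0, nat_lit 1, nat_lit 1, (nat_lit 0x9413f96717122004cf39f1ab51768f5993f3), one, (nat_lit 0x9410473ef2957b02d85bf40232e098397063), (.prod [nat_lit 130, nat_lit 6])⟩))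
 (.nd (nat_lit 138) (.lf ⟨nat_lit 0, nat_lit 1, nat_lit 1, (nat_lit 0x82930a22901902059d74727879615e31a001), one, (nat_lit 0xe275033d06172d85121c12f00e932e1e5271), (.prod [nat_lit 131, nat_lit 121])⟩)
 (.nd (nat_lit 139) (.lf ⟨nat_lit 0, nat_lit 1, nat_lit 1, (nat_lit 0xe9d27a0891000260e42ab4e3227229002001), one, (nat_lit 0xe9d1ab59d2892815f046e0d908064b00269c), (.prod [nat_lit 132, nat_lit 110])⟩)
 (.lf ⟨nat_lit 0, nat_lit 1, nat_lit 1, (nat_lit 0x98a23849d1a430a0e46bc39a5bb512002001), one, (nat_lit 0xa0313b38a22d6076852a8180249782174660), (.prod [nat_lit 134, nat_lit 81])⟩))))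
 (.nd (nat_lit 142) (.nd (nat_lit 141) (.lf ⟨nat_lit 0, nat_lit 1, nat_lit 1, (nat_lit 0xcdf3f96717122004cf39f1ab51768f5993f3), one, (nat_lit 0xcdf0692ae29579e0104d056d08945e5992ab), (.prod [nat_lit 136, nat_lit 121])⟩)
 (.lf ⟨nat_lit 0, nat_lit 1, nat_lit 1, (nat_lit 0xf2249022971220805c0ae29a2b512d6a8001), one, (nat_lit 0xe5472b16966423a51265b51970069c4577b0), (.prod [nat_lit 137, nat_lit 63])⟩))
 (.nd (nat_lit 143) (.lf ⟨nat_lit 0, nat_lit 1, nat_lit 1, (nat_lit 0xfde2271975b700854d2d849027a6b058505c), one, (nat_lit 0xfde5410473b939f49d46e0d91ed391585782), (.prod [nat_lit 138, nat_lit 47])⟩)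
 (.nd (nat_lit 144) (.lf ⟨nat_lit 0, nat_lit 1, nat_lit 1, (nat_lit 0x9f968f5f01d723a54d3663b404f53c58505c), one, (nat_lit 0xff74cf3d77d93f379b70145a37969c17428a), (.prod [nat_lit 139, nat_lit 47])⟩)
 (.lf ⟨nat_lit 0, nat_lit 1, nat_lit 1, (nat_lit 0x8d06bc2f95ef7477826e251d12622e4c4001), one, (nat_lit 0xc210085f511e27a2715a52ab56d0a53bc28a), (.prod [nat_lit 141, nat_lit 110])⟩)))))
 (.nd (nat_lit 150) (.nd (nat_lit 147) (.nd (nat_lit 146) (.lf ⟨nat_lit 0, nat_lit 1, nat_lit 1, (nat_lit 0x9a10105a80a14fd54d36440513b3f94f37b7), one, (nat_lit 0xed920843c7d956c15e0e840025569c1743a4), (.prod [nat_lit 143, nat_lit 81])⟩)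
 (.lf ⟨nat_lit 0, nat_lit 1, nat_lit 1, (nat_lit 0xa2d45a49d02e7696856bf68f0527ef002001), one, (nat_lit 0xa2d70159d3a70c30fd4e43ac0801974f35f0), (.prod [nat_lit 121, nat_lit 99])⟩))
 (.nd (nat_lit 148) (.lf ⟨nat_lit 0, nat_lit 1, nat_lit 1, (nat_lit 0xba723a73a43a68f0fd51902660750b002001), one, (nat_lit 0xba756c12d7b345e0e44587692d8512585391), (.prod [nat_lit 146, nat_lit 117])⟩)
 (.nd (nat_lit 149) (.lf ⟨nat_lit 0, nat_lit 1, nat_lit 1, (nat_lit 0xcc62f909843a12d46e2787475f55034993f3), one, (nat_lit 0xcc62ce68f7b349d47745876964b51a11e063), (.prod [nat_lit 147, nat_lit 6])⟩)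
 (.lf ⟨nat_lit 0, nat_lit 1, nat_lit 1, (nat_lit 0x9582f909843a12d46e2787475f55034993f3), one, (nat_lit 0x9581692497b373a6bf3390083e22554992ab), (.prod [nat_lit 148, nat_lit 121])⟩))))
 (.nd (nat_lit 152) (.nd (nat_lit 151) (.lf ⟨nat_lit 0, nat_lit 1, nat_lit 1, (nat_lit 0x8cb62428110022e65b4fd2b52ce2f06640e8), one, (nat_lit 0x8cb5f51c328908951946e0d90690c4664023), (.prod [nat_lit 149, nat_lit 117])⟩)
 (.lf ⟨nat_lit 1, nat_lit 1, nat_lit 0, one, one, one, (.wt (nat_lit 0) (nat_lit 0) one (.sp .nil) [] [])⟩))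
 (.nd (nat_lit 153) (.lf ⟨nat_lit 1, nat_lit 1, nat_lit 1, (nat_lit 0x8006fc24749d45c3f55a53f20474d04c63ac), (nat_lit 0xac846e0a62f024c28a671069008624712063), (nat_lit 0x82e1d70980336b67666713f22f459970b047), (.wt (nat_lit 11) (nat_lit 0) (nat_lit 0xf4f46e5bf7e924c1ab5175b304f50571265b) (.st (nat_lit 151) (unp (nat_lit 8) (nat_lit 0x87355d7104)) [] (.sp .nil)) [] [])⟩)
 (.nd (nat_lit 154) (.lf ⟨nat_lit 1, nat_lit 1, nat_lit 1, (nat_lit 0xaa8400200100080040020010008004002001), (nat_lit 0xae90c368559909c0013ef0104d005c14315e), (nat_lit 0xc714000980911ab2083d743c09c24c5c1730), (.wt (nat_lit 11) (nat_lit 2) (nat_lit 0xfde5542a752b50b3796b02f40261aa71264b) (.st (nat_lit 152) (unp (nat_lit 8) (nat_lit 0x8e705c6004)) [] (.st (nat_lit 152) (unp (nat_lit 8) (nat_lit 0x90345e6e04)) (unp (nat_lit 8) (nat_lit 0x9638677704)) .nil)) (unp (nat_lit 8) (nat_lit 0x91545b03)) [])⟩)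
 (.lf ⟨nat_lit 0, nat_lit 0, nat_lit 2, one, one, one, (.we (nat_lit 14) (nat_lit 0) one (.sp (.st (nat_lit 153) (unp (nat_lit 8) (nat_lit 0x856f3f7204)) (unp (nat_lit 7) (nat_lit 0x1da5e903)) (.st (nat_lit 151) (unp (nat_lit 8) (nat_lit 0x8c565103)) [] (.sp .nil)))))⟩)))))))

noncomputable def qeT : Tr :=
  (.nd (nat_lit 77) (.nd (nat_lit 38) qeT_0
 qeT_38)
 (.nd (nat_lit 116) qeT_77
 qeT_116))

theorem qehr : relsOk mul one lc9 dom9 [18, 81] 2 (2 * 10) ((R9 ++ qeN) ++ qd 40 qeQ) [(19, 42, 0)] 1 qers = true := by decide +kernel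

theorem qehc_0 : rng (chk mul one wf qeT lc9 (mapR (fun e => e.2.2) qers) 2) (nat_lit 0) (nat_lit 155) = true := by decide +kernel

theorem qehq : qOk qeT 155 2 40 [18, 81] [154] qeQ.length = true := by decide +kernel

theorem qehl : allL (fun r => allL (fun l => Nat.blt l (2 * 40)) r.1) ((R9 ++ qeN) ++ qeQ) = true := by decide +kernel

theorem qehc : ∀ i < 155, (chk mul one wf qeT lc9 (mapR (fun e => e.2.2) qers) 2) i = true :=
  (rng_add rng_zero qehc_0)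

section
universe u v
variable {R : Type v} {ι : Type} [CommRing R] [Fintype ι] [DecidableEq ι] (V : VCod R ι 12 12 app wfT) (h2 : V.mat one = 1)

include V h2 in
theorem qe {G : Type u} [Group G] {g1 : ℕ → G} (hR : Rels (R9 ++ qeN) g1) : Rels qeQ g1 :=
  hR.qry (L9 V h2) (U9 V h2) qehr qehc qehq qehl

end

end H15.J4
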