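import Cfsg.Agent.H15.J4MAa
import Cfsg.Agent.H15.J4WAa

/-! The fourth Janko group in dimension 112. Relators. -/

set_option maxRecDepth 100000
set_option Elab.async false

namespace H15.J4M
open H13

noncomputable def pr : List (List ℕ × ℕ) :=
  mapR (fun r => (expd J4W.wb r.1, r.2)) J4W.Rl

theorem pr_n : Nat.beq pr.length 12 = true := by decide +kernel

theorem pr_c_0 : rng (fun i => relC mul one bc (2 * 10) (nthD ([], nat_lit 0) pr i)) (nat_lit 0) (nat_lit 6) = true := by decide +kernel

theorem pr_c_1 : rng (fun i => relC mul one bc (2 * 10) (nthD ([], nat_lit 0) pr i)) (nat_lit 6) (nat_lit 2) = true := by decide +kernel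

theorem pr_c_2 : rng (fun i => relC mul one bc (2 * 10) (nthD ([], nat_lit 0) pr i)) (nat_lit 8) (nat_lit 3) = true := by decide +kernel

theorem pr_c_3 : rng (fun i => relC mul one bc (2 * 10) (nthD ([], nat_lit 0) pr i)) (nat_lit 11) (nat_lit 1) = true := by decide +kernel

theorem pr_d : allL (fun r => allL (fun l => memL (Nat.shiftRight l (nat_lit 1)) (List.range 10)) r.1) pr = true := by decide +kernel

theorem pr_c : ∀ i < 12, (fun i => relC mul one bc (2 * 10) (nthD ([], nat_lit 0) pr i)) i = true :=
  (rng_add (rng_add (rng_add (rng_add rng_zero pr_c_0) pr_c_1) pr_c_2) pr_c_3)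

section
universe v
variable {R : Type v} {ι : Type} [CommRing R] [Fintype ι] [DecidableEq ι] (V : VCod R ι 112 112 app wfT) (h2 : V.mat one = 1)

theorem pr_r : Rels pr (g V h2) := (S V h2).rels (h0 V h2) bco (allR pr_n pr_c)

theorem pr_m : Rels pr (mgen (g V h2) (List.range 10)) := (pr_r V h2).mgen pr_d

end

noncomputable def ps : List (List ℕ × ℕ) :=
  [((apd (unp (nat_lit 5) (nat_lit 0x3148018825100861148239825114802802509cc5200e131480010e031489256d0bd210a56d1bc295b5e358c2b0a56558daf2a5656a42558ca70a56d1bc295b5e358c2b0a56558daf2a5656a42558ca70a56d1bc295b5e358c2b0a56558daf2a5656a42558ca70a56d1bc295b5e358c2b0a56558daf2a5656a42558ca7229005004a1398a401c26290058daf2a5656a42558ca7229005004a1398a401c262900ff)) (apd (unp (nat_lit 4) (nat_lit 0x31b19b5b3df59b5d915b35719bd3f19bdf3b31b19b5b3df59b5d915b3574a80a02a2eca80e2ca80b3df59b5d915b3574a80a02a2eca80e2ca80642a408c4a84ec2a19bd3f19bdf3b31b19b5642a408c4a84ec2a4a80a02a2eca80e2ca80642a408c4a84ec2a4a80a02a2eca80e2ca80642a408c4a84ec2a4a80a02a2eca80e2ff)) (apd (unp (nat_lit 5)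 (nat_lit 0x35e358c2b0a5653104a2010c229047304a229005004a1398a401c2629003104a2010c229047304a229005004a1398a401c2629003104a2010c229047304a229005004a1398a401c2629003104a2010c229047304a229005004a1398a401c262900021c0629124ada17a4214ada37852b6bc6b185614acab1b5e54acad484ab194e14ada37852b6bc6b185614acab1b5e54acad484ab194e14ada37852b6bc6bff)) (apd (unp (nat_lit 5) (nat_lit 0x4a1398a401c262900021c0629124ada17a4214ada37852b6bc6b185614acab1b5e54acad484ab194e14ada37852b6bc6b185614acab1b5e54acad484ab194e14ada37852b6bc6b185614acab1b5e54acad484ab194e14ada37852b6bc6b185614acab1b5e54acad484ab194e45200a00942731480384c5200b1b5e54acad484ab194e45200a00942731480384c5200620944021845208e609414ada37852bff)) (unp (nat_lit 5) (nat_lit 0xb6c5ab19c295b4af4adb16ad2f2b56909c6620944021845208e609414ada37852b6bc6b185614aca620944021845208e609445200a00942731480384c5200620944021845208e609445200a00942731480384c5200620944021845208e609445200a00942731480384c5200620944021845208e609445200ac1)))))), nat_lit 1),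
  ((unp (nat_lit 5) (nat_lit 0xf388c0429847214c831487118a400c25320c519c23010a611c85320c521c4629003094c831513d)), nat_lit 1)]

theorem ps_n : Nat.beq ps.length 2 = true := by decide +kernel

theorem ps_c_0 : rng (fun i => relC mul one bc (2 * 10) (nthD ([], nat_lit 0) ps i)) (nat_lit 0) (nat_lit 1) = true := by decide +kernel

theorem ps_c_1 : rng (fun i => relC mul one bc (2 * 10) (nthD ([], nat_lit 0) ps i)) (nat_lit 1) (nat_lit 1) = true := by decide +kernel

theorem ps_d : allL (fun r => allL (fun l => memL (Nat.shiftRight l (nat_lit 1)) (List.range 10)) r.1) ps = true := by decide +kernel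

theorem ps_c : ∀ i < 2, (fun i => relC mul one bc (2 * 10) (nthD ([], nat_lit 0) ps i)) i = true :=
  (rng_add (rng_add rng_zero ps_c_0) ps_c_1)

section
universe v
variable {R : Type v} {ι : Type} [CommRing R] [Fintype ι] [DecidableEq ι] (V : VCod R ι 112 112 app wfT) (h2 : V.mat one = 1)

theorem ps_r : Rels ps (g V h2) := (S V h2).rels (h0 V h2) bco (allR ps_n ps_c)

theorem ps_m : Rels ps (mgen (g V h2) (List.range 10)) := (ps_r V h2).mgen ps_d

end

end H15.J4M
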