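import Cfsg.Agent.H15.M24AAa

/-! A presentation of the Mathieu group M24. Generators. -/

set_option maxRecDepth 100000
set_option Elab.async false

namespace H15.M24P
open H13

noncomputable def one : ℕ :=
  (nat_lit 0x800400200100080040020010008004002001)

noncomputable def app : ℕ → ℕ → ℕ → ℕ → ℕ :=
  appB (nat_lit 12)

noncomputable def wfT : ℕ → ℕ → ℕ → Bool :=
  wfB (nat_lit 12)

noncomputable def mul : ℕ → ℕ → ℕ :=
  skp (app (nat_lit 12) (nat_lit 12)) one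

noncomputable def wf : ℕ → Bool :=
  wfT (nat_lit 12) (nat_lit 12)

noncomputable def bc : List ℕ :=
  [(nat_lit 0x8001ed3ef1d208049054d12d4585bb5ef56c),
  (nat_lit 0x8001ed3ef1d208049054d12d4585bb5ef56c),
  (nat_lit 0x8006782001c32a70930bc01004726c2b904e),
  (nat_lit 0x8006782001c32a70930bc01004726c2b904e),
  (nat_lit 0x8004cb2086aa4d03797823e200845c4993f3),
  (nat_lit 0x8004cb2086aa4d03797823e200845c4993f3),
  (nat_lit 0x8000e822e2891ef6604e62d87696245855a8),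
  (nat_lit 0x8000e822e2891ef6604e62d87696245855a8),
  (nat_lit 0x80068522e12e74709354c01059928127a56d),
  (nat_lit 0x80068522e12e74709354c01059928127a56d),
  (nat_lit 0x80065b22e28917c3d025524b1c30043bc391),
  (nat_lit 0x80065b22e28917c3d025524b1c30043bc391),
  (nat_lit 0x8005415253b41ef2f472b28a5993df143001),
  (nat_lit 0x8005415253b41ef2f472b28a5993df143001),
  (nat_lit 0x8005e77b012e7475f04772491c16243bc391),
  (nat_lit 0x8005e77b012e7475f04772491c16243bc391),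
  (nat_lit 0x800400200100080040020010008004002001),
  (nat_lit 0x800400200100080040020010008004002001),
  (nat_lit 0x800400200100080040020010008004002001),
  (nat_lit 0x800400200100080040020010008004002001),
  (nat_lit 0x8004000bc07323a5053973a754d547541174),
  (nat_lit 0x8004000bc07323a5053973a754d547541174),
  (nat_lit 0x80022700252502e6784050a11e75f11d23f3),
  (nat_lit 0x8003d71d25051c111e4257d80a66032005f4),
  (nat_lit 0x800400200100080040020010008004002001),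
  (nat_lit 0x800400200100080040020010008004002001),
  (nat_lit 0x800400200100080040020010008004002001),
  (nat_lit 0x800400200100080040020010008004002001),
  (nat_lit 0x8004c44250a151d2596e23e31265f16a83b9),
  (nat_lit 0x80067146e0460e87007ef03351a599238607),
  (nat_lit 0x8004cf67339a0807ef50b1a828c613624168),
  (nat_lit 0x8000736bc06908009129549d26c4581a43f2),
  (nat_lit 0x8002462d86385e76bc0027824cf2f02ae28c),
  (nat_lit 0x80052536628c4ff2f90235472275bf020493),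
  (nat_lit 0x80049d7124e625928963830a51a2295f4068),
  (nat_lit 0x8002951975a83e30393a731a39f4587b01ab),
  (nat_lit 0x8004004ff2b940913d6fc0801e55f00935f5),
  (nat_lit 0x80040063b29a0105257a24091745f11ef5f4)]

theorem h1 : wfT 12 12 one = true := by decide +kernel

theorem bcw : band (allL (wfT 12 12) bc) (Nat.beq bc.length (2 * 19)) = true := by decide +kernel

theorem bco : bcOk mul one bc 19 = true := by decide +kernel

section
universe u v
variable {R : Type v} {ι : Type} [CommRing R] [Fintype ι] [DecidableEq ι] (V : VCod R ι 12 12 app wfT) (h2 : V.mat one = 1)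

/-- the coding of the general linear group -/
noncomputable def S : Sem (Matrix ι ι R)ˣ mul one wf := V.sem h1 h2

theorem h0 : ∀ c ∈ bc, (S V h2).ok c := V.ok_of_bc h1 h2 bcw bco

/-- the generators -/
noncomputable def g : ℕ → (Matrix ι ι R)ˣ := (S V h2).bg bc

end

def dom0 : List ℕ := [11, 14, 18]

noncomputable def us0 : List (List ℕ) :=
  [(unp (nat_lit 6) (nat_lit 0x255a45a475607)), (unp (nat_lit 6) (nat_lit 0x165e459605)), (unp (nat_lit 6) (nat_lit 0x279e703)), (unp (nat_lit 6) (nat_lit 0x9a79a604)), [nat_lit 39, nat_lit 39], (unp (nat_lit 6) (nat_lit 0x2aa6aa6905)), [nat_lit 42, nat_lit 41]]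

noncomputable def lc0 : List ℕ :=
  [one,
  one,
  one,
  one,
  one,
  one,
  one,
  one,
  one,
  one,
  one,
  one,
  one,
  one,
  one,
  one,
  one,
  one,
  one,
  one,
  one,
  one,
  nthD one bc (nat_lit 22),
  nthD one bc (nat_lit 23),
  one,
  one,
  one,
  one,
  nthD one bc (nat_lit 28),
  nthD one bc (nat_lit 29),
  one,
  one,
  one,
  one,
  one,
  one,
  nthD one bc (nat_lit 36),
  nthD one bc (nat_lit 37),
  (nat_lit 0x8002890393e224627849005c51a5f012e39a),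
  (nat_lit 0x8003d71a46bc6855a97821c12085f01ed607),
  (nat_lit 0x8000731ef13d2c85c14052461e75f0249624),
  (nat_lit 0x8002a81415552ce0b83ed0460a659963b023),
  (nat_lit 0x8007ef24b54d7010633a73973ac0043ed069),
  (nat_lit 0x8002a830a3f902e2b97822470a65f1255607),
  (nat_lit 0x80054154713b56c49d00238a74f5f15bc023)]

noncomputable def R0 : List (List ℕ × ℕ) :=
  M24A.R3 ++ [(M24A.kcz, 1)]

noncomputable def v0_0 : VL :=
  ⟨(nat_lit 38), [[nat_lit 22], [nat_lit 28], [nat_lit 36]], nat_lit 2, [(nat_lit 0xb0c608)], nat_lit 3, nat_lit 6⟩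

noncomputable def v0_1 : VL :=
  ⟨(nat_lit 927), [(unp (nat_lit 6) (nat_lit 0x5dd9abb2c06)), (unp (nat_lit 6) (nat_lit 0x24a269aaa6907))], nat_lit 2, [(nat_lit 0x201907)], nat_lit 3, nat_lit 5⟩

noncomputable def v0_2 : VL :=
  ⟨(nat_lit 5), [(unp (nat_lit 6) (nat_lit 0x1c5a69a79ab07)), (unp (nat_lit 6) (nat_lit 0x1c5a69a79aaa6c09)), [nat_lit 22]], nat_lit 2, [(nat_lit 0x32105)], nat_lit 2, nat_lit 4⟩

noncomputable def v0_3 : VL :=
  ⟨(nat_lit 532), [(unp (nat_lit 6) (nat_lit 0x169279ac05)), (unp (nat_lit 6) (nat_lit 0x7279a6a6c06)), (unp (nat_lit 6) (nat_lit 0x9279aaa6906))], nat_lit 2, [(nat_lit 0x30c609700c385c070e0d6001825c01701c35802701c3655b)], nat_lit 6, nat_lit 48⟩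

noncomputable def vl0 : List VL :=
  [v0_0, v0_1, v0_2, v0_3]

def dom99 : List ℕ := []

theorem lco0 : lcOk mul one bc lc0 dom0 (2 * 19) us0 45 = true := by decide +kernel

theorem Rn0 : Nat.beq R0.length 11 = true := by decide +kernel

theorem rc0_0 : rng (fun i => relC mul one bc (2 * 19) (nthD ([], nat_lit 0) R0 i)) (nat_lit 0) (nat_lit 11) = true := by decide +kernel

theorem rd0 : allL (fun r => allL (fun l => memL (Nat.shiftRight l (nat_lit 1)) dom0) r.1) R0 = true := by decide +kernel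

theorem vc0 : vchainOk (app 12 1) (wfT 12 1) mul one lc0 [] vl0 = true := by decide +kernel

theorem vf0 : band (allL (fun i => memL i dom0) []) (VCod.fixD (app 12 1) (wfT 12 1) one bc [] vl0) = true := by decide +kernel

theorem vp0 : (vl0.map VL.d).prod * 1 = 5760 := by decide +kernel

theorem rc0 : ∀ i < 11, (fun i => relC mul one bc (2 * 19) (nthD ([], nat_lit 0) R0 i)) i = true :=
  (rng_add rng_zero rc0_0)

section
universe u v
variable {R : Type v} {ι : Type} [CommRing R] [Fintype ι] [DecidableEq ι] (V : VCod R ι 12 12 app wfT) (h2 : V.mat one = 1)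

theorem L0 : Lc ((S V h2).sub (mdl (g V h2) dom0)) (mgen (g V h2) dom0) lc0 dom0 (2 * 19) us0 45 :=
  lc_of (S V h2) (h0 V h2) bco lco0

theorem rel0 : Rels R0 (g V h2) := (S V h2).rels (h0 V h2) bco (allR Rn0 rc0)

theorem q0 : (Finite (mdl (g V h2) dom0) ∧ Nat.card (mdl (g V h2) dom0) ≤ 5760) ∧
    (Nat.card (mdl (g V h2) dom0) = 5760 → UP.{0} (mgen (g V h2) dom0) dom0 R0) :=
  M24A.uq (rel0 V h2) (by decide +kernel) rd0

theorem fin0 : Finite (mdl (g V h2) dom0) := (q0 V h2).1.1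

theorem card0 : Nat.card (mdl (g V h2) dom0) = 5760 := by
  have : Finite (mdl ((V.sem h1 h2).bg bc) dom0) := fin0 V h2
  have h := V.le_card_mdl h1 h2 (h0 V h2) (L0 V h2).ok vc0 vf0
  exact le_antisymm (q0 V h2).1.2 (le_trans (vp0.symm.trans (congrArg (HMul.hMul (vl0.map VL.d).prod) (card_mdl_nil _).symm)).le h)

theorem U0 : UP.{0} (mgen (g V h2) dom0) dom0 R0 := (q0 V h2).2 (card0 V h2)

theorem card99 : Nat.card (mdl (g V h2) dom99) = 1 := card_mdl_nil _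

end

noncomputable def qaN : List (List ℕ × ℕ) :=
  [([nat_lit 34], nat_lit 3),
  ((unp (nat_lit 6) (nat_lit 0x8e48a589706)), nat_lit 1),
  ((unp (nat_lit 6) (nat_lit 0x5e395d04)), nat_lit 2),
  ((unp (nat_lit 6) (nat_lit 0x8969225a58a408)), nat_lit 1),
  ((unp (nat_lit 6) (nat_lit 0x5a48a504)), nat_lit 2)]

noncomputable def qaQ : List (List ℕ × ℕ) :=
  [((unp (nat_lit 6) (nat_lit 0x9179569578e55a20a)), nat_lit 1),
  ((unp (nat_lit 6) (nat_lit 0x2459d5a47237167620b)), nat_lit 1),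
  ((unp (nat_lit 6) (nat_lit 0x5e471791791d8dc95c5a20e)), nat_lit 1)]

noncomputable def qars : List (ℕ × ℕ × List (ℕ × ℕ)) :=
  [(nat_lit 11, nat_lit 0, [(nat_lit 1, (nat_lit 0x800400200100080040020010008004002001)), (nat_lit 1, (nat_lit 0x800400200100080040020010008004002001)), (nat_lit 1, (nat_lit 0x800400200100080040020010008004002001))]),
  (nat_lit 12, nat_lit 9, [(nat_lit 1, (nat_lit 0x8000732552cf24669f4257b074f62024b5f4)), (nat_lit 1, (nat_lit 0x80040063b29a0105257a24091745f11ef5f4)), (nat_lit 1, (nat_lit 0x8000397471697d967815e1ab74f60371259d))]),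
  (nat_lit 13, nat_lit 16, [(nat_lit 1, (nat_lit 0x8002953ef0471695054e345e1e762028c3f2)), (nat_lit 1, (nat_lit 0x8002953ef0471695054e345e1e762028c3f2))]),
  (nat_lit 14, nat_lit 0, [(nat_lit 1, (nat_lit 0x80029509304027a65b4057001e700479e068)), (nat_lit 1, (nat_lit 0x8000731ef13d2c85c14052461e75f0249624)), (nat_lit 1, (nat_lit 0x8004004ff2b940913d6fc0801e55f00935f5))]),
  (nat_lit 15, nat_lit 6, [(nat_lit 1, (nat_lit 0x8002957123907006bc3a731a51a5996715f5)), (nat_lit 1, (nat_lit 0x8002957123907006bc3a731a51a5996715f5))]),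
  (nat_lit 16, nat_lit 8, [(nat_lit 1, (nat_lit 0x8003d76aa56d7d81000e46851e50040ae3f3)), (nat_lit 1, (nat_lit 0x800400200100080040020010008004002001)), (nat_lit 2, (nat_lit 0x80012d1d216870165b6fc1c30a60046b63d0))]),
  (nat_lit 17, nat_lit 9, [(nat_lit 1, (nat_lit 0x8003f540054c7d938a26c6a61e70042273d1)), (nat_lit 1, (nat_lit 0x800400200100080040020010008004002001)), (nat_lit 3, (nat_lit 0x80064b09124756c13d0d90801e56206b65f5))]),
  (nat_lit 18, nat_lit 10, [(nat_lit 1, (nat_lit 0x80066923a54d2465b34576a61e55991803d0)), (nat_lit 1, (nat_lit 0x800400200100080040020010008004002001)), (nat_lit 4, (nat_lit 0x80049324904639113d0d90801e50040933d0))])]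

noncomputable def qaT : Tr :=
  (.nd (nat_lit 17) (.nd (nat_lit 8) (.nd (nat_lit 4) (.nd (nat_lit 2) (.nd (nat_lit 1) (.lf ⟨nat_lit 0, nat_lit 0, nat_lit 0, one, one, one, .triv⟩)
 (.lf ⟨nat_lit 0, nat_lit 0, nat_lit 0, one, one, one, .triv⟩))
 (.nd (nat_lit 3) (.lf ⟨nat_lit 0, nat_lit 0, nat_lit 0, one, one, one, .triv⟩)
 (.lf ⟨nat_lit 0, nat_lit 0, nat_lit 0, one, one, one, .triv⟩)))
 (.nd (nat_lit 6) (.nd (nat_lit 5) (.lf ⟨nat_lit 0, nat_lit 0, nat_lit 0, one, one, one, .triv⟩)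
 (.lf ⟨nat_lit 1, nat_lit 1, nat_lit 0, (nat_lit 0x8002953ef0471695054e345e1e762028c3f2), (nat_lit 0x80051232e3394094cf63854c1266033a4068), one, (.wt (nat_lit 2) (nat_lit 0) one (.sp .nil) [] [])⟩))
 (.nd (nat_lit 7) (.lf ⟨nat_lit 0, nat_lit 1, nat_lit 1, (nat_lit 0x8004003ed1525056647e97d91e56201ef3f2), one, (nat_lit 0x80046e1d74d027a02e02073a3df6035bc001), (.we (nat_lit 4) (nat_lit 1) (nat_lit 0x8002953ef0471695054e345e1e762028c3f2) (.st (nat_lit 5) [] [] (.sp .nil)))⟩)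
 (.lf ⟨nat_lit 1, nat_lit 1, nat_lit 0, (nat_lit 0x8002957123907006bc3a731a51a5996715f5), (nat_lit 0x80036437c0986172b96384f31745f0673068), one, (.wt (nat_lit 2) (nat_lit 0) one (.sp .nil) [nat_lit 6] [])⟩))))
 (.nd (nat_lit 12) (.nd (nat_lit 10) (.nd (nat_lit 9) (.lf ⟨nat_lit 1, nat_lit 1, nat_lit 1, one, (nat_lit 0x8002953ef0471695054e345e1e762028c3f2), (nat_lit 0x8002953ef0471695054e345e1e762028c3f2), (.wt (nat_lit 0) (nat_lit 0) (nat_lit 0x8002953ef0471695054e345e1e762028c3f2) (.st (nat_lit 7) [nat_lit 6] [] (.sp .nil)) [] [])⟩)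
 (.lf ⟨nat_lit 1, nat_lit 1, nat_lit 1, (nat_lit 0x8000732552cf24669f4257b074f62024b5f4), (nat_lit 0x8000734fd1ab1686bc2ae13b1e76034e359d), (nat_lit 0x8006fc7120465a938a47711e20860323a5f4), (.wt (nat_lit 1) (nat_lit 2) (nat_lit 0x8002953ef0471695054e345e1e762028c3f2) (.st (nat_lit 7) [nat_lit 6] [] (.sp .nil)) [] [])⟩))
 (.nd (nat_lit 11) (.lf ⟨nat_lit 1, nat_lit 1, nat_lit 1, (nat_lit 0x8005856e21a93912b95475b379660330a069), (nat_lit 0x8006690ae54d2460630c445c0a66206aa069), (nat_lit 0x8007e912e4092eb25b0c46641265f16aa069), (.wt (nat_lit 4) (nat_lit 0) (nat_lit 0x8000732552cf24669f4257b074f62024b5f4) (.st (nat_lit 9) [] [] .nil) [] [])⟩)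
 (.lf ⟨nat_lit 1, nat_lit 1, nat_lit 1, (nat_lit 0x8000731ef13d2c85c14052461e75f0249624), (nat_lit 0x8002276a84cf49d69f28c0461e75992ae3d0), (nat_lit 0x8004c479b7010e80476af5c151a6200c1607), (.wt (nat_lit 3) (nat_lit 0) (nat_lit 0x8002953ef0471695054e345e1e762028c3f2) (.st (nat_lit 7) [nat_lit 6] [] (.sp .nil)) [] [])⟩)))
 (.nd (nat_lit 14) (.nd (nat_lit 13) (.lf ⟨nat_lit 1, nat_lit 1, nat_lit 1, (nat_lit 0x8000525170403972f45411a97965f032e39a), (nat_lit 0x80047712e7002ce6853792460085996af607), (nat_lit 0x80024b2ab25931a0a10e456d3df5f06a83b9), (.wt (nat_lit 4) (nat_lit 0) (nat_lit 0x8000731ef13d2c85c14052461e75f0249624) (.st (nat_lit 11) [] [] .nil) [nat_lit 6] [])⟩)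
 (.lf ⟨nat_lit 1, nat_lit 1, nat_lit 1, (nat_lit 0x8004004ff2b940913d6fc0801e55f00935f5), (nat_lit 0x80040063b29a0105257a24091745f11ef5f4), (nat_lit 0x8000392ae2b92eb54d7667d92080044fd39a), (.wt (nat_lit 3) (nat_lit 1) (nat_lit 0x8002957123907006bc3a731a51a5996715f5) (.st (nat_lit 7) [] [] (.sp .nil)) [] [])⟩))
 (.nd (nat_lit 15) (.lf ⟨nat_lit 1, nat_lit 1, nat_lit 1, (nat_lit 0x8002953a406331a2ce4c127a0085f128c59d), (nat_lit 0x80036479e6bc2786bf2f96177965994ff001), (nat_lit 0x8004e67471692472a763855474f004673023), (.wt (nat_lit 4) (nat_lit 0) (nat_lit 0x8004004ff2b940913d6fc0801e55f00935f5) (.st (nat_lit 13) [] [] .nil) [] [])⟩)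
 (.nd (nat_lit 16) (.lf ⟨nat_lit 1, nat_lit 1, nat_lit 1, (nat_lit 0x80029509304027a65b4057001e700479e068), (nat_lit 0x8005173a47b309869c0931aa0085f10d939a), (nat_lit 0x80029515e5b345e3e363b0803df5f1671023), (.wt (nat_lit 3) (nat_lit 2) (nat_lit 0x8002953ef0471695054e345e1e762028c3f2) (.st (nat_lit 7) [nat_lit 6] [] (.sp .nil)) [] [])⟩)
 (.lf ⟨nat_lit 1, nat_lit 1, nat_lit 1, (nat_lit 0x8004025bc22e10011e79e45c51a5f12493f3), (nat_lit 0x8004004ff2b940913d6fc0801e55f00935f5), (nat_lit 0x8006aa43c42a010047766391126599143624), (.wt (nat_lit 4) (nat_lit 0) (nat_lit 0x80029509304027a65b4057001e700479e068) (.st (nat_lit 15) [] [] .nil) [] [])⟩))))))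
 (.nd (nat_lit 26) (.nd (nat_lit 21) (.nd (nat_lit 19) (.nd (nat_lit 18) (.lf ⟨nat_lit 1, nat_lit 1, nat_lit 1, (nat_lit 0x8002ab5122f449d2ce2491b451a6201d2068), (nat_lit 0x8003f554731a69f49d6b61ab2085990933d0), (nat_lit 0x8001d72891aa1695546af2eb008599379607), (.wt (nat_lit 1) (nat_lit 1) (nat_lit 0x8004025bc22e10011e79e45c51a5f12493f3) (.st (nat_lit 16) [] [] (.st (nat_lit 8) [] [] .nil)) [] [])⟩)
 (.lf ⟨nat_lit 1, nat_lit 1, nat_lit 1, (nat_lit 0x80079b0936bc3975a92f93e31745994ff607), (nat_lit 0x80040063b29a0105257a24091745f11ef5f4), (nat_lit 0x8002ab3ed16855469c7662f42085f02d839a), (.wt (nat_lit 3) (nat_lit 0) one (.st (nat_lit 8) [] [] (.st (nat_lit 10) [] [] .nil)) [] [])⟩))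
 (.nd (nat_lit 20) (.lf ⟨nat_lit 0, nat_lit 1, nat_lit 1, (nat_lit 0x8001d70025051525a842522d1e56032003d1), one, (nat_lit 0x80022779e2b92783f90204cf0086035bc001), (.we (nat_lit 4) (nat_lit 0) (nat_lit 0x80079b0936bc3975a92f93e31745994ff607) (.st (nat_lit 18) [] [] (.st (nat_lit 14) [] [] .nil)))⟩)
 (.lf ⟨nat_lit 0, nat_lit 1, nat_lit 1, (nat_lit 0x8004003ed1525056647e97d91e56201ef3f2), one, (nat_lit 0x80046e1d74d027a02e02073a3df6035bc001), (.inv (nat_lit 6))⟩)))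
 (.nd (nat_lit 23) (.nd (nat_lit 22) (.lf ⟨nat_lit 0, nat_lit 1, nat_lit 1, (nat_lit 0x8001d71ef08010065b63b0330085f03ed5f5), one, (nat_lit 0x80024944976953c39702065b3df004002001), (.prod [nat_lit 19, nat_lit 20])⟩)
 (.lf ⟨nat_lit 0, nat_lit 1, nat_lit 1, (nat_lit 0x80024c6b656d0e813d2f922d3ac5f07473b9), one, (nat_lit 0x80036479e6bc2786bf2f96177965994ff001), (.we (nat_lit 3) (nat_lit 2) one (.st (nat_lit 8) [] [] (.st (nat_lit 9) [] [nat_lit 6] (.st (nat_lit 12) [nat_lit 6] [] .nil))))⟩))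
 (.nd (nat_lit 24) (.lf ⟨nat_lit 0, nat_lit 1, nat_lit 1, (nat_lit 0x80024c51213a1682ce2ae27a0086034e359d), one, (nat_lit 0x8001d250b1b46a64092f95c1503004141001), (.prod [nat_lit 6, nat_lit 22])⟩)
 (.nd (nat_lit 25) (.lf ⟨nat_lit 0, nat_lit 1, nat_lit 1, (nat_lit 0x80079b74716813a69c6fc1aa0080046b639a), one, (nat_lit 0x8004000d969f25969c2f9152796004141001), (.prod [nat_lit 21, nat_lit 23])⟩)
 (.lf ⟨nat_lit 0, nat_lit 1, nat_lit 1, (nat_lit 0x8001d75ef50515245c43c3e300862023a3f2), one, (nat_lit 0x80079b42502e1c34d059e2c81260045bc001), (.prod [nat_lit 23, nat_lit 23])⟩)))))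
 (.nd (nat_lit 30) (.nd (nat_lit 28) (.nd (nat_lit 27) (.lf ⟨nat_lit 0, nat_lit 1, nat_lit 1, (nat_lit 0x80079b50b0e856d4f349345e0085f012d3b9), one, (nat_lit 0x80024932e6bf25b6bc7472a72080044ff001), (.prod [nat_lit 24, nat_lit 21])⟩)
 (.lf ⟨nat_lit 0, nat_lit 1, nat_lit 1, (nat_lit 0x8004003d71525052472276170086034023d1), one, (nat_lit 0x8001d226c3f91c12b959e13d74f0045bc001), (.prod [nat_lit 24, nat_lit 23])⟩))
 (.nd (nat_lit 29) (.lf ⟨nat_lit 0, nat_lit 1, nat_lit 1, (nat_lit 0x8005850913911a91690e40101e50040ae3b9), one, (nat_lit 0x8004c463b2b93393f976642a74f0044fd001), (.cmp (nat_lit 17) (nat_lit 11) [nat_lit 6] [nat_lit 25])⟩)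
 (.lf ⟨nat_lit 0, nat_lit 1, nat_lit 1, (nat_lit 0x8005850c32465a92eb3666171e560352b069), one, (nat_lit 0x8002ae5ef0402781002d86bf008004143001), (.prod [nat_lit 27, nat_lit 28])⟩)))
 (.nd (nat_lit 32) (.nd (nat_lit 31) (.lf ⟨nat_lit 0, nat_lit 1, nat_lit 1, (nat_lit 0x80079b50b0e856d4f349345e0085f012d3b9), one, (nat_lit 0x80024932e6bf25b6bc7472a72080044ff001), (.inv (nat_lit 23))⟩)
 (.lf ⟨nat_lit 0, nat_lit 1, nat_lit 1, (nat_lit 0x8007ef24b54d7010633a73973ac0043ed069), one, (nat_lit 0x8000c16e25c153c13d0204d0174004002001), (.prod (unp (nat_lit 5) (nat_lit 0x7b9703)))⟩))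
 (.nd (nat_lit 33) (.lf ⟨nat_lit 0, nat_lit 0, nat_lit 2, (nat_lit 0x80044963b29a3b456c78227817400443a068), one, (nat_lit 0x80044963b29a3b456c78227817400443a068), (.we (nat_lit 5) (nat_lit 0) one (.sp (.st (nat_lit 7) [] (unp (nat_lit 5) (nat_lit 0x5b9f03)) (.sp .nil))))⟩)
 (.nd (nat_lit 34) (.lf ⟨nat_lit 0, nat_lit 0, nat_lit 3, (nat_lit 0x8002713a74f30100a11d22782815f079e068), one, (nat_lit 0x8002713a74f30100a11d22782815f079e068), (.we (nat_lit 6) (nat_lit 0) one (.sp (.st (nat_lit 7) [] [nat_lit 31, nat_lit 26] (.sp .nil))))⟩)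
 (.lf ⟨nat_lit 0, nat_lit 0, nat_lit 4, (nat_lit 0x8004023a72c80100e92551971260041ed068), one, (nat_lit 0x8004023a72c80100e92551971260041ed068), (.we (nat_lit 7) (nat_lit 0) one (.sp (.st (nat_lit 7) [] (unp (nat_lit 5) (nat_lit 0x5bbf03)) (.sp .nil))))⟩)))))))

theorem qahr : relsOk mul one lc0 dom0 [34, 81, 83, 85] 4 (2 * 19) ((R0 ++ qaN) ++ qd 40 qaQ) [(35, 15, 1)] 1 qars = true := by decide +kernel

theorem qahc_0 : rng (chk mul one wf qaT lc0 (mapR (fun e => e.2.2) qars) 4) (nat_lit 0) (nat_lit 35) = true := by decide +kernel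

theorem qahq : qOk qaT 35 4 40 [34, 81, 83, 85] [32, 33, 34] qaQ.length = true := by decide +kernel

theorem qahl : allL (fun r => allL (fun l => Nat.blt l (2 * 40)) r.1) ((R0 ++ qaN) ++ qaQ) = true := by decide +kernel

theorem qahc : ∀ i < 35, (chk mul one wf qaT lc0 (mapR (fun e => e.2.2) qars) 4) i = true :=
  (rng_add rng_zero qahc_0)

section
universe u v
variable {R : Type v} {ι : Type} [CommRing R] [Fintype ι] [DecidableEq ι] (V : VCod R ι 12 12 app wfT) (h2 : V.mat one = 1)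

include V h2 in
theorem qa {G : Type u} [Group G] {g1 : ℕ → G} (hR : Rels (R0 ++ qaN) g1) : Rels qaQ g1 :=
  hR.qry (L0 V h2) (U0 V h2) qahr qahc qahq qahl

end

noncomputable def N1 : List (List ℕ × ℕ) :=
  [([nat_lit 34], nat_lit 3),
  ((unp (nat_lit 6) (nat_lit 0x8e48a589706)), nat_lit 1),
  ((unp (nat_lit 6) (nat_lit 0x5e395d04)), nat_lit 2),
  ((unp (nat_lit 6) (nat_lit 0x8969225a58a408)), nat_lit 1),
  ((unp (nat_lit 6) (nat_lit 0x5a48a504)), nat_lit 2),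
  ((unp (nat_lit 6) (nat_lit 0x9179569578e55a20a)), nat_lit 1),
  ((unp (nat_lit 6) (nat_lit 0x2459d5a47237167620b)), nat_lit 1),
  ((unp (nat_lit 6) (nat_lit 0x5e471791791d8dc95c5a20e)), nat_lit 1)]

noncomputable def R1 : List (List ℕ × ℕ) :=
  R0 ++ N1

noncomputable def n0_22 : Net :=
  mkNet (nat_lit 6) (nat_lit 16) (nat_lit 0x11102100050000d0050430325511)

noncomputable def n0_28 : Net :=
  mkNet (nat_lit 6) (nat_lit 16) (nat_lit 0x80000800e0c00014100)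

noncomputable def n0_36 : Net :=
  mkNet (nat_lit 6) (nat_lit 16) (nat_lit 0x5150020009000058010213005151)

noncomputable def n0_38 : Net :=
  mkNet (nat_lit 6) (nat_lit 16) (nat_lit 0x11401120000000b8060430320514)

noncomputable def n0_39 : Net :=
  mkNet (nat_lit 6) (nat_lit 16) (nat_lit 0x54001010000000be030c13225104)

noncomputable def n0_40 : Net :=
  mkNet (nat_lit 6) (nat_lit 16) (nat_lit 0x14000310090000f6030a23205554)

noncomputable def n0_41 : Net :=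
  mkNet (nat_lit 6) (nat_lit 16) (nat_lit 0x404001001000014080232300414)

noncomputable def n0_42 : Net :=
  mkNet (nat_lit 6) (nat_lit 16) (nat_lit 0x110022000000088080a12300510)

noncomputable def n0_43 : Net :=
  mkNet (nat_lit 6) (nat_lit 16) (nat_lit 0x400000000a00000a0b0022324050)

noncomputable def n0_44 : Net :=
  mkNet (nat_lit 6) (nat_lit 16) (nat_lit 0x450031200a000068030030104500)

noncomputable def n0 : List Net :=
  [Net.nil, Net.nil, Net.nil, Net.nil, Net.nil, Net.nil, Net.nil, Net.nil, Net.nil, Net.nil, Net.nil, Net.nil, Net.nil, Net.nil, Net.nil, Net.nil, Net.nil, Net.nil, Net.nil, Net.nil, Net.nil, Net.nil, n0_22, rv n0_22, Net.nil, Net.nil, Net.nil, Net.nil, n0_28, rv n0_28, Net.nil, Net.nil, Net.nil, Net.nil, Net.nil, Net.nil, n0_36, rv n0_36, n0_38, n0_39, n0_40, n0_41, n0_42, n0_43, n0_44]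

def nodes0 : List ℕ := [34]

def sb0 : List (ℕ × ℕ × ℕ) := [(35, 15, 1)]

noncomputable def rs0 : List (ℕ × ℕ × List (ℕ × ℕ)) :=
  [(nat_lit 11, nat_lit 0, [(nat_lit 1, (nat_lit 0x800400200100080040020010008004002001)), (nat_lit 1, (nat_lit 0x800400200100080040020010008004002001)), (nat_lit 1, (nat_lit 0x800400200100080040020010008004002001))]),
  (nat_lit 12, nat_lit 9, [(nat_lit 1, (nat_lit 0x8000732552cf24669f4257b074f62024b5f4)), (nat_lit 1, (nat_lit 0x80040063b29a0105257a24091745f11ef5f4)), (nat_lit 1, (nat_lit 0x8000397471697d967815e1ab74f60371259d))]),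
  (nat_lit 13, nat_lit 16, [(nat_lit 1, (nat_lit 0x8002953ef0471695054e345e1e762028c3f2)), (nat_lit 1, (nat_lit 0x8002953ef0471695054e345e1e762028c3f2))]),
  (nat_lit 14, nat_lit 0, [(nat_lit 1, (nat_lit 0x80029509304027a65b4057001e700479e068)), (nat_lit 1, (nat_lit 0x8000731ef13d2c85c14052461e75f0249624)), (nat_lit 1, (nat_lit 0x8004004ff2b940913d6fc0801e55f00935f5))]),
  (nat_lit 15, nat_lit 6, [(nat_lit 1, (nat_lit 0x8002957123907006bc3a731a51a5996715f5)), (nat_lit 1, (nat_lit 0x8002957123907006bc3a731a51a5996715f5))]),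
  (nat_lit 16, nat_lit 7, [(nat_lit 1, (nat_lit 0x8003d76aa56d7d81000e46851e50040ae3f3)), (nat_lit 1, (nat_lit 0x80012d1d216870165b6fc1c30a60046b63d0))]),
  (nat_lit 17, nat_lit 8, [(nat_lit 1, (nat_lit 0x8003f540054c7d938a26c6a61e70042273d1)), (nat_lit 1, (nat_lit 0x80064b09124756c13d0d90801e56206b65f5))]),
  (nat_lit 18, nat_lit 9, [(nat_lit 1, (nat_lit 0x80066923a54d2465b34576a61e55991803d0)), (nat_lit 1, (nat_lit 0x80049324904639113d0d90801e50040933d0))])]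

noncomputable def T0 : Tr :=
  (.nd (nat_lit 24) (.nd (nat_lit 12) (.nd (nat_lit 6) (.nd (nat_lit 3) (.nd (nat_lit 1) (.lf ⟨nat_lit 0, nat_lit 0, nat_lit 0, one, one, one, .triv⟩)
 (.nd (nat_lit 2) (.lf ⟨nat_lit 0, nat_lit 0, nat_lit 0, one, one, one, .triv⟩)
 (.lf ⟨nat_lit 1, nat_lit 1, nat_lit 0, (nat_lit 0x8002953ef0471695054e345e1e762028c3f2), (nat_lit 0x80051232e3394094cf63854c1266033a4068), one, (.wt (nat_lit 2) (nat_lit 0) one (.sp .nil) [] [])⟩)))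
 (.nd (nat_lit 4) (.lf ⟨nat_lit 0, nat_lit 1, nat_lit 1, (nat_lit 0x8004003ed1525056647e97d91e56201ef3f2), one, (nat_lit 0x80046e1d74d027a02e02073a3df6035bc001), (.we (nat_lit 4) (nat_lit 1) (nat_lit 0x8002953ef0471695054e345e1e762028c3f2) (.st (nat_lit 2) [] [] (.sp .nil)))⟩)
 (.nd (nat_lit 5) (.lf ⟨nat_lit 1, nat_lit 1, nat_lit 0, (nat_lit 0x8003d76aa56d7d81000e46851e50040ae3f3), (nat_lit 0x80044963b29a3b456c78227817400443a068), one, (.wt (nat_lit 5) (nat_lit 0) one (.sp .nil) [] [])⟩)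
 (.lf ⟨nat_lit 0, nat_lit 1, nat_lit 1, (nat_lit 0x8000527303911a90987663977965f02d839a), one, (nat_lit 0x8004c63a40636a649d766409008599143001), (.we (nat_lit 4) (nat_lit 1) (nat_lit 0x8003d76aa56d7d81000e46851e50040ae3f3) (.st (nat_lit 4) [] [] (.sp .nil)))⟩))))
 (.nd (nat_lit 9) (.nd (nat_lit 7) (.lf ⟨nat_lit 0, nat_lit 1, nat_lit 1, (nat_lit 0x80005268f3911a93390fd45e3ac6036b0069), one, (nat_lit 0x80058515e5b345c4f32d87b03df620143001), (.prod [nat_lit 5, nat_lit 3])⟩)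
 (.nd (nat_lit 8) (.lf ⟨nat_lit 0, nat_lit 1, nat_lit 1, (nat_lit 0x8001d70025051525a842522d1e56032003d1), one, (nat_lit 0x80022779e2b92783f90204cf0086035bc001), (.prod [nat_lit 5, nat_lit 5])⟩)
 (.lf ⟨nat_lit 0, nat_lit 1, nat_lit 1, (nat_lit 0x8001d75ef50515245c43c3e300862023a3f2), one, (nat_lit 0x80079b42502e1c34d059e2c81260045bc001), (.prod [nat_lit 6, nat_lit 5])⟩)))
 (.nd (nat_lit 10) (.lf ⟨nat_lit 0, nat_lit 1, nat_lit 1, (nat_lit 0x8005856b05a924613b6c53b479600468f3b9), one, (nat_lit 0x8004e46383b431a2f42d81973df5994fd001), (.prod [nat_lit 8, nat_lit 5])⟩)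
 (.nd (nat_lit 11) (.lf ⟨nat_lit 0, nat_lit 1, nat_lit 1, (nat_lit 0x80040023a1000801b40394091e55f05ef5f5), one, (nat_lit 0x80040240539768576959e617126603002001), (.prod [nat_lit 9, nat_lit 5])⟩)
 (.lf ⟨nat_lit 0, nat_lit 1, nat_lit 1, (nat_lit 0x80005230a2465a956c6a82593ac0046e23b9), one, (nat_lit 0x8003ef28a2f451d3b47665251266204fd001), (.prod [nat_lit 3, nat_lit 5])⟩)))))
 (.nd (nat_lit 18) (.nd (nat_lit 15) (.nd (nat_lit 13) (.lf ⟨nat_lit 0, nat_lit 1, nat_lit 1, (nat_lit 0x8005856b05a924613b6c53b479600468f3b9), one, (nat_lit 0x8004e46383b431a2f42d81973df5994fd001), (.inv (nat_lit 11))⟩)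
 (.nd (nat_lit 14) (.lf ⟨nat_lit 0, nat_lit 1, nat_lit 1, (nat_lit 0x8004003d71525052472276170086034023d1), one, (nat_lit 0x8001d226c3f91c12b959e13d74f0045bc001), (.prod (unp (nat_lit 4) (nat_lit 0xc3503)))⟩)
 (.lf ⟨nat_lit 0, nat_lit 1, nat_lit 1, (nat_lit 0x8004003ed1525056647e97d91e56201ef3f2), one, (nat_lit 0x80046e1d74d027a02e02073a3df6035bc001), (.inv (nat_lit 3))⟩)))
 (.nd (nat_lit 16) (.lf ⟨nat_lit 0, nat_lit 1, nat_lit 1, (nat_lit 0x8001d71ef08010065b63b0330085f03ed5f5), one, (nat_lit 0x80024944976953c39702065b3df004002001), (.prod (unp (nat_lit 4) (nat_lit 0xe5503)))⟩)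
 (.nd (nat_lit 17) (.lf ⟨nat_lit 0, nat_lit 1, nat_lit 1, (nat_lit 0x8001d75ef50515245c43c3e300862023a3f2), one, (nat_lit 0x80079b42502e1c34d059e2c81260045bc001), (.prod [nat_lit 13, nat_lit 15])⟩)
 (.lf ⟨nat_lit 1, nat_lit 1, nat_lit 0, (nat_lit 0x80012d1d216870165b6fc1c30a60046b63d0), (nat_lit 0x80029509304027a65b4057001e700479e068), one, (.wt (nat_lit 5) (nat_lit 1) one (.sp .nil) [] [])⟩))))
 (.nd (nat_lit 21) (.nd (nat_lit 19) (.lf ⟨nat_lit 0, nat_lit 1, nat_lit 1, (nat_lit 0x80024c6b656d0e813d2f922d3ac5f07473b9), one, (nat_lit 0x80036479e6bc2786bf2f96177965994ff001), (.we (nat_lit 4) (nat_lit 1) (nat_lit 0x80012d1d216870165b6fc1c30a60046b63d0) (.st (nat_lit 17) [] [] (.sp .nil)))⟩)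
 (.nd (nat_lit 20) (.lf ⟨nat_lit 0, nat_lit 1, nat_lit 1, (nat_lit 0x80024c28956d0e80a10c12590086206af069), one, (nat_lit 0x80079b6fc42a31a19774738a5230044ff001), (.prod [nat_lit 10, nat_lit 18])⟩)
 (.lf ⟨nat_lit 0, nat_lit 1, nat_lit 1, (nat_lit 0x8005852d85a924629a15e1aa3ac62073059d), one, (nat_lit 0x80001917c66445e29a76622e0086204fd001), (.inv (nat_lit 5))⟩)))
 (.nd (nat_lit 22) (.lf ⟨nat_lit 0, nat_lit 1, nat_lit 1, (nat_lit 0x80023859e54d70105c7a21aa7966031ef3b9), one, (nat_lit 0x8001801a411e27a05c0207693ac6035bc001), (.prod (unp (nat_lit 5) (nat_lit 0x524503)))⟩)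
 (.nd (nat_lit 23) (.lf ⟨nat_lit 0, nat_lit 1, nat_lit 1, (nat_lit 0x8002382005542cf65b63b033008004671069), one, (nat_lit 0x8001ef7ef4cf0a10330200635e7599002001), (.prod [nat_lit 3, nat_lit 21])⟩)
 (.lf ⟨nat_lit 0, nat_lit 1, nat_lit 1, (nat_lit 0x8002381a470154d6785bc3b43ac5f000259d), one, (nat_lit 0x8006aa08938a0802c80202b9281004002001), (.prod [nat_lit 21, nat_lit 3])⟩))))))
 (.nd (nat_lit 36) (.nd (nat_lit 30) (.nd (nat_lit 27) (.nd (nat_lit 25) (.lf ⟨nat_lit 0, nat_lit 1, nat_lit 1, (nat_lit 0x8004001a45051520633a73973ac5f06715f5), one, (nat_lit 0x8003645476640a129a0202eb74f599002001), (.prod [nat_lit 21, nat_lit 21])⟩)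
 (.nd (nat_lit 26) (.lf ⟨nat_lit 0, nat_lit 1, nat_lit 1, (nat_lit 0x8002383ed2cf5545a842522d1e562024b39a), one, (nat_lit 0x8006c537c65b25b2a70205b31746205bc001), (.prod [nat_lit 22, nat_lit 3])⟩)
 (.lf ⟨nat_lit 0, nat_lit 1, nat_lit 1, (nat_lit 0x80040059e08010039046e45e79660324b3d1), one, (nat_lit 0x80030a32e3b425b2f40205c11266205bc001), (.prod [nat_lit 22, nat_lit 21])⟩)))
 (.nd (nat_lit 28) (.lf ⟨nat_lit 0, nat_lit 1, nat_lit 1, (nat_lit 0x8005ce4ff3f922e54c4c13971e50044e33f2), one, (nat_lit 0x8004c43a465b6a62a72f91973ac004141001), (.prod [nat_lit 18, nat_lit 20])⟩)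
 (.nd (nat_lit 29) (.lf ⟨nat_lit 0, nat_lit 1, nat_lit 1, (nat_lit 0x8005ce4e61c15c16a672b5b31e562012d001), one, (nat_lit 0x80028c05213d25b5c174769c1740044ff001), (.prod [nat_lit 13, nat_lit 27])⟩)
 (.lf ⟨nat_lit 0, nat_lit 1, nat_lit 1, (nat_lit 0x8000196aa22e3f911e0930471e56036b65f5), one, (nat_lit 0x8002ae5ce2c825938a2f96bc281004141001), (.prod [nat_lit 15, nat_lit 27])⟩))))
 (.nd (nat_lit 33) (.nd (nat_lit 31) (.lf ⟨nat_lit 0, nat_lit 1, nat_lit 1, (nat_lit 0x80045730a52553c29a15e1aa3ac00417c3d1), one, (nat_lit 0x8000c11a46bc27a6bf76602e2080044fd001), (.prod [nat_lit 27, nat_lit 27])⟩)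
 (.nd (nat_lit 32) (.lf ⟨nat_lit 0, nat_lit 1, nat_lit 1, (nat_lit 0x80018068f2a77694cf70b27a3ac60312e001), one, (nat_lit 0x8003797a219768542a2d8769523004143001), (.inv (nat_lit 28))⟩)
 (.lf ⟨nat_lit 0, nat_lit 1, nat_lit 1, (nat_lit 0x8007ef24b54d7010633a73973ac0043ed069), one, (nat_lit 0x8000c16e25c153c13d0204d0174004002001), (.prod (unp (nat_lit 5) (nat_lit 0xfb36304)))⟩)))
 (.nd (nat_lit 34) (.lf ⟨nat_lit 1, nat_lit 1, nat_lit 0, (nat_lit 0x8003d76aa56d7d81000e46851e50040ae3f3), (nat_lit 0x80044963b29a3b456c78227817400443a068), one, (.wt (nat_lit 2) (nat_lit 0) one (.sp .nil) [nat_lit 26, nat_lit 19] [])⟩)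
 (.nd (nat_lit 35) (.lf ⟨nat_lit 1, nat_lit 1, nat_lit 1, one, (nat_lit 0x80070b67113a5a95054e345e1e76032ae3d0), (nat_lit 0x80070b6733e22cf09817c1c11e56207123f3), (.wt (nat_lit 0) (nat_lit 0) (nat_lit 0x80070b67113a5a95054e345e1e76032ae3d0) (.st (nat_lit 33) [nat_lit 25, nat_lit 6] [] (.sp .nil)) [] [])⟩)
 (.lf ⟨nat_lit 1, nat_lit 1, nat_lit 1, (nat_lit 0x8000731ef13d2c85c14052461e75f0249624), (nat_lit 0x80023a43a73a51d6780203b43ac599002001), (nat_lit 0x8003660ae54d1ab56c6382f40a65993ef023), (.wt (nat_lit 3) (nat_lit 0) (nat_lit 0x8003f530a54c7d965b6fc1c30a66200935f5) (.st (nat_lit 33) [nat_lit 25] [] (.sp .nil)) [] [])⟩)))))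
 (.nd (nat_lit 42) (.nd (nat_lit 39) (.nd (nat_lit 37) (.lf ⟨nat_lit 1, nat_lit 1, nat_lit 1, (nat_lit 0x8001413ed13b3e30a12a87b02086034e43d1), (nat_lit 0x8004052ae7012cf4cf6af65b2086200c1069), (nat_lit 0x80040536465b4f303314122e2810042f9001), (.wt (nat_lit 0) (nat_lit 0) (nat_lit 0x8002550895050800b82d80402086034fd001) (.st (nat_lit 34) [nat_lit 25, nat_lit 6] [] (.st (nat_lit 34) [nat_lit 26, nat_lit 7] [nat_lit 32, nat_lit 28] .nil)) [nat_lit 22] [])⟩)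
 (.nd (nat_lit 38) (.lf ⟨nat_lit 1, nat_lit 1, nat_lit 37, (nat_lit 0x8004c44250a151d2596e23e31265f16a83b9), one, one, (.df [nat_lit 28])⟩)
 (.lf ⟨nat_lit 0, nat_lit 37, nat_lit 37, (nat_lit 0x8001d764b1000801a826c5b33ac6034493d1), one, (nat_lit 0x8004c463b2b93393f976642a74f0044fd001), (.cmp (nat_lit 37) (nat_lit 37) [nat_lit 24, nat_lit 8] [nat_lit 32, nat_lit 30])⟩)))
 (.nd (nat_lit 40) (.lf ⟨nat_lit 0, nat_lit 37, nat_lit 37, (nat_lit 0x8001d71ef08010065b63b0330085f03ed5f5), one, (nat_lit 0x80024b24c04033910059e05c74f603002001), (.cmp (nat_lit 37) (nat_lit 37) [nat_lit 3, nat_lit 7] [nat_lit 16, nat_lit 3])⟩)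
 (.nd (nat_lit 41) (.lf ⟨nat_lit 0, nat_lit 37, nat_lit 37, (nat_lit 0x8007ef3d770154d45c43c3e30086032713b9), one, (nat_lit 0x8007300524f325b5b37666bc126599143001), (.cmp (nat_lit 37) (nat_lit 37) [nat_lit 22, nat_lit 8] [nat_lit 15, nat_lit 5])⟩)
 (.lf ⟨nat_lit 0, nat_lit 37, nat_lit 37, (nat_lit 0x8001d764b1000801a826c5b33ac6034493d1), one, (nat_lit 0x8004c463b2b93393f976642a74f0044fd001), (.inv (nat_lit 38))⟩))))
 (.nd (nat_lit 45) (.nd (nat_lit 43) (.lf ⟨nat_lit 0, nat_lit 37, nat_lit 37, (nat_lit 0x8007ef24b54d7010633a73973ac0043ed069), one, (nat_lit 0x80030a32e3b425b2f40205c11266205bc001), (.prod [nat_lit 40, nat_lit 41])⟩)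
 (.nd (nat_lit 44) (.lf ⟨nat_lit 1, nat_lit 37, nat_lit 1, (nat_lit 0x8003d76aa56d7d81000e46851e50040ae3f3), (nat_lit 0x8002953a745e5b30337121a91265997303f3), one, (.wt (nat_lit 4) (nat_lit 0) (nat_lit 0x8004c44250a151d2596e23e31265f16a83b9) (.st (nat_lit 37) [] [] .nil) [nat_lit 18] [])⟩)
 (.lf ⟨nat_lit 1, nat_lit 37, nat_lit 1, (nat_lit 0x8001ef2b50632c82ce6aa1007960045123d1), (nat_lit 0x8006733666853392460e449d2815996e23f3), (nat_lit 0x8004fd58516839145e17c5255236207123f3), (.wt (nat_lit 0) (nat_lit 2) (nat_lit 0x8003a46a854c1692460fd31a74f59952b624) (.st (nat_lit 34) [nat_lit 3, nat_lit 9] [nat_lit 32, nat_lit 29] (.st (nat_lit 37) [nat_lit 25, nat_lit 6] [nat_lit 32, nat_lit 28] .nil)) [nat_lit 26] [])⟩)))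
 (.nd (nat_lit 47) (.nd (nat_lit 46) (.lf ⟨nat_lit 0, nat_lit 37, nat_lit 37, (nat_lit 0x80052b23831a4f32a728a4cf3df5f04c63d1), one, (nat_lit 0x8001413ed13b3e30a12a87b02086034e43d1), (.we (nat_lit 4) (nat_lit 0) (nat_lit 0x8001ef2b50632c82ce6aa1007960045123d1) (.st (nat_lit 44) [] [] (.st (nat_lit 37) [nat_lit 3, nat_lit 8] [nat_lit 32, nat_lit 13] .nil)))⟩)
 (.lf ⟨nat_lit 0, nat_lit 37, nat_lit 37, (nat_lit 0x8001d71ef08010065b63b0330085f03ed5f5), one, (nat_lit 0x80024b24c04033910059e05c74f603002001), (.inv (nat_lit 39))⟩))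
 (.nd (nat_lit 48) (.lf ⟨nat_lit 0, nat_lit 37, nat_lit 37, (nat_lit 0x80076668f1697004cf1ed1b4523620782068), one, (nat_lit 0x8006712006bf69f1ab18038a0080042383d0), (.prod (unp (nat_lit 6) (nat_lit 0xba9b6604)))⟩)
 (.lf ⟨nat_lit 1, nat_lit 37, nat_lit 37, (nat_lit 0x8002890393e224627849005c51a5f012e39a), (nat_lit 0x8000c44e30e82cf1aa1d729a3ac599400624), (nat_lit 0x8006aa08938a0802c80202b9281004002001), (.wt (nat_lit 0) (nat_lit 2) (nat_lit 0x8004933641687010331d751d1e55994003f3) (.st (nat_lit 43) [nat_lit 23, nat_lit 18] [] (.st (nat_lit 37) [nat_lit 24, nat_lit 6] [nat_lit 32, nat_lit 15] .nil)) [nat_lit 26] [])⟩)))))))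

noncomputable def q0_1_22 : Net :=
  mkNet (nat_lit 7) (nat_lit 60) (nat_lit 0x114441401044401100120010210000d050f0e0d040000700390061002000006800000000000000000e5011a0000066f0000e39000c002800f500b0001010b0b090400100332032001032111055555415415)

noncomputable def q0_1_28 : Net :=
  mkNet (nat_lit 7) (nat_lit 60) (nat_lit 0x511515405411004302121033323030006010e0202000a00000f5000a00e0000050b0000d00000000000fc3d27800004e20000453a00f006400c300c800c08030f090d06333020322201033511151411551004)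

noncomputable def q0_1_36 : Net :=
  mkNet (nat_lit 7) (nat_lit 60) (nat_lit 0x5551405401501000102301213103100010c0105060c0900600f200cf00d000000120000f00000000000046f8110000c9400003f00003005c0087001b0010f030601060a220222310110023100540145440514)

noncomputable def q0_1_38 : Net :=
  mkNet (nat_lit 7) (nat_lit 60) (nat_lit 0x101500104144100003322112231310001050501000c000040050004500b000001330000600000000000c53fd2000008a10000723c008009700a000a600a010e060e070f301010030113330151051041015000)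

noncomputable def q0_1_39 : Net :=
  mkNet (nat_lit 7) (nat_lit 60) (nat_lit 0x55500110441115032210231011110000f0f08010b0c00003004e008000200000a24000010000000000068458a00000f5a0000ec2800d0051007400ca0070405010d0e09133031321022010505044401104041)

noncomputable def q0_1_40 : Net :=
  mkNet (nat_lit 7) (nat_lit 60) (nat_lit 0x5450111441151423303031200102000a090e030b0c04008002400a9004000004d0000010000000000049c3840000082f00007dd4001009a00c4009500b0e0503070c07330202320222200004551451044405)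

noncomputable def q0_1_41 : Net :=
  mkNet (nat_lit 7) (nat_lit 60) (nat_lit 0x50100454500104020230020112022000f0c0a0a050808009004b0015003000001000000300000000000a1cbf600000822000065c800100a800a2002b00e0e050e060e03303303122223220545044415000555)

noncomputable def q0_1_42 : Net :=
  mkNet (nat_lit 7) (nat_lit 60) (nat_lit 0x14455010045404012321001031210000106000604000400a00c20020005000002100000c00000000000a20c01000003520000d0ca00e00f60024007500b0e00060d000c101210012312300144550100454040)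

noncomputable def q0_1_43 : Net :=
  mkNet (nat_lit 7) (nat_lit 60) (nat_lit 0x1151154555104032033000132001000c0402080e0500008006800380020000000000000000000000008308aa000001610000584400e00540051006000c060208040d01300110223103210011511545551040)

noncomputable def q0_1_44 : Net :=
  mkNet (nat_lit 7) (nat_lit 60) (nat_lit 0x4440404105504412031230012121000408070304010400e00ec001a00a0000065200008000000000009769fa400000f20000d65e003001200d500050010108060c0c01202122303313112145015454441504)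

noncomputable def q0_1 : List Net :=
  [Net.nil, Net.nil, Net.nil, Net.nil, Net.nil, Net.nil, Net.nil, Net.nil, Net.nil, Net.nil, Net.nil, Net.nil, Net.nil, Net.nil, Net.nil, Net.nil, Net.nil, Net.nil, Net.nil, Net.nil, Net.nil, Net.nil, q0_1_22, rv q0_1_22, Net.nil, Net.nil, Net.nil, Net.nil, q0_1_28, rv q0_1_28, Net.nil, Net.nil, Net.nil, Net.nil, Net.nil, Net.nil, q0_1_36, rv q0_1_36, q0_1_38, q0_1_39, q0_1_40, q0_1_41, q0_1_42, q0_1_43, q0_1_44]

noncomputable def Qs0 : List (ℕ × ℕ × List Net) :=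
  [(nat_lit 60, nat_lit 7, q0_1)]

noncomputable def ls0 : List Ld :=
  [⟨[(nat_lit 21, (unp (nat_lit 6) (nat_lit 0x299a703))), (nat_lit 3, (unp (nat_lit 6) (nat_lit 0xb2ba669e79a608))), (nat_lit 18, [nat_lit 36, nat_lit 23])], [⟨nat_lit 0, (unp (nat_lit 2) (nat_lit 0x2403)), (nat_lit 0x827df1040830430df7c3100), nat_lit 12⟩, ⟨nat_lit 2, [nat_lit 0, nat_lit 1], (nat_lit 0x5f7df0df04209f09f7c00df), nat_lit 8⟩], [[nat_lit 23], [nat_lit 29]], (nat_lit 0xc20406101c3880c18385101030406143090c203890c1840410144070a101870e14386080c3890e14302061c20610143820208080)⟩]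

noncomputable def lk0 : List (List ℕ) :=
  [[]]

noncomputable def d0_0 : Nd :=
  ⟨nat_lit 1, nat_lit 60, [(nat_lit 32, (unp (nat_lit 6) (nat_lit 0x2cb2903))), (nat_lit 13, (unp (nat_lit 6) (nat_lit 0x29a699e605))), (nat_lit 27, (unp (nat_lit 6) (nat_lit 0x2ba6603))), (nat_lit 3, (unp (nat_lit 6) (nat_lit 0xb2ca699d606)))], [⟨nat_lit 0, [nat_lit 2, nat_lit 3], (nat_lit 0x7df09f7df7df0df7df7df040), nat_lit 4⟩, ⟨nat_lit 2, [nat_lit 1, nat_lit 2], (nat_lit 0x847c10c31037c10820c07df), nat_lit 12⟩, ⟨nat_lit 1, [nat_lit 0], (nat_lit 0x7df7df7df7df05f7df7df01f), nat_lit 2⟩],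
  [⟨(unp (nat_lit 2) (nat_lit 0x3803)), (nat_lit 0x608203060c2020614203040820102081840608204020c001080410206041840208103040c204080c003060410100082000404180), [(nat_lit 33, nat_lit 13, [nat_lit 23, nat_lit 37]), (nat_lit 34, nat_lit 0, []), (nat_lit 35, nat_lit 7, [nat_lit 40]), (nat_lit 36, nat_lit 33, [nat_lit 37, nat_lit 29]), (nat_lit 37, nat_lit 4, [nat_lit 28])]⟩]⟩

noncomputable def d0_1 : Nd :=
  ⟨nat_lit 37, nat_lit 16, [(nat_lit 42, (unp (nat_lit 6) (nat_lit 0x2cb2903))), (nat_lit 47, (unp (nat_lit 6) (nat_lit 0x2cb2b03))), (nat_lit 39, (unp (nat_lit 6) (nat_lit 0x2cae703))), (nat_lit 45, (unp (nat_lit 6) (nat_lit 0xb2ca699e675708)))], [⟨nat_lit 0, [nat_lit 1, nat_lit 3], (nat_lit 0x7df15f0c47c17df7c27df7c0), nat_lit 6⟩, ⟨nat_lit 2, (unp (nat_lit 2) (nat_lit 0x2403)), (nat_lit 0x867c57df05f10311f0c015f), nat_lit 10⟩, ⟨nat_lit 1, [nat_lit 0, nat_lit 1], (nat_lit 0x7c17c27df7df0420df7df01f),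 nat_lit 6⟩],
  [⟨(unp (nat_lit 2) (nat_lit 0x3403)), (nat_lit 0xa142050404101060c18306142010808080080c0830810184080c183040810504141820610204060c004080c2040a141040808202), [(nat_lit 43, nat_lit 13, [nat_lit 23, nat_lit 37]), (nat_lit 48, nat_lit 40, [nat_lit 38])]⟩]⟩

noncomputable def ds0 : List Nd :=
  [d0_0, d0_1]

noncomputable def ks0 : List ℕ :=
  [nat_lit 1, nat_lit 37]

def kc0 : List (ℕ × ℕ) := [(0, 1), (1, 60), (37, 16)]

theorem Rn1 : Nat.beq R1.length 19 = true := by decide +kernel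

theorem Nn1 : Nat.beq N1.length 8 = true := by decide +kernel

theorem A0_p : actP 6 16 n0 45 = true := by decide +kernel

theorem A0_l_0 : rng (actL 6 16 n0 dom0 (2 * 19) us0) (nat_lit 0) (nat_lit 45) = true := by decide +kernel

theorem A0_r_0 : rng (fun i => relN 6 16 n0 (2 * 19) (nthD ([], nat_lit 0) R0 i)) (nat_lit 0) (nat_lit 11) = true := by decide +kernel

theorem hr0 : relsOk mul one lc0 dom0 nodes0 1 (2 * 19) R1 sb0 1 rs0 = true := by decide +kernel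

theorem hc0_0 : rng (chk mul one wf T0 lc0 (mapR (fun e => e.2.2) rs0) 1) (nat_lit 0) (nat_lit 49) = true := by decide +kernel

theorem AQ0_1_p : actP 7 60 q0_1 45 = true := by decide +kernel

theorem AQ0_1_l_0 : rng (actL 7 60 q0_1 dom0 (2 * 19) us0) (nat_lit 0) (nat_lit 45) = true := by decide +kernel

theorem AQ0_1_r_0 : rng (fun i => relN 7 60 q0_1 (2 * 19) (nthD ([], nat_lit 0) R0 i)) (nat_lit 0) (nat_lit 11) = true := by decide +kernel

theorem la0 : ldA mul one T0 49 lc0 16 6 n0 ls0 1 = true := by decide +kernel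

theorem lb0 : ldB 5760 Qs0 ls0 1 = true := by decide +kernel

theorem na0_0 : rng (fun i => ndA mul one T0 49 lc0 16 6 n0 5760 (nthD ⟨nat_lit 0, nat_lit 0, [], [], []⟩ ds0 i)) (nat_lit 0) (nat_lit 2) = true := by decide +kernel

theorem nb0_0 : rng (fun i => ndB mul one T0 49 lc0 ks0 Qs0 1 (nthD ⟨nat_lit 0, nat_lit 0, [], [], []⟩ ds0 i)) (nat_lit 0) (nat_lit 2) = true := by decide +kernel

theorem dn0 : Nat.beq ds0.length 2 = true := by decide +kernel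

theorem hk0 : ks0 = ds0.map Nd.k := by decide +kernel

theorem hkc0 : kc0 = (0, 1) :: ds0.map fun d => (d.k, d.c) := by decide +kernel

theorem lo0 : linkOk mul one T0 49 ks0 lk0 1 = true := by decide +kernel

theorem do0 : domOk dom0 [11, 14, 17, 18] nodes0 1 R1 sb0 1 = true := by decide +kernel

theorem A0_l : ∀ i < 45, (actL 6 16 n0 dom0 (2 * 19) us0) i = true :=
  (rng_add rng_zero A0_l_0)

theorem A0_r : ∀ i < 11, (fun i => relN 6 16 n0 (2 * 19) (nthD ([], nat_lit 0) R0 i)) i = true :=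
  (rng_add rng_zero A0_r_0)

theorem hc0 : ∀ i < 49, (chk mul one wf T0 lc0 (mapR (fun e => e.2.2) rs0) 1) i = true :=
  (rng_add rng_zero hc0_0)

theorem AQ0_1_l : ∀ i < 45, (actL 7 60 q0_1 dom0 (2 * 19) us0) i = true :=
  (rng_add rng_zero AQ0_1_l_0)

theorem AQ0_1_r : ∀ i < 11, (fun i => relN 7 60 q0_1 (2 * 19) (nthD ([], nat_lit 0) R0 i)) i = true :=
  (rng_add rng_zero AQ0_1_r_0)

theorem na0 : ∀ i < 2, (fun i => ndA mul one T0 49 lc0 16 6 n0 5760 (nthD ⟨nat_lit 0, nat_lit 0, [], [], []⟩ ds0 i)) i = true :=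
  (rng_add rng_zero na0_0)

theorem nb0 : ∀ i < 2, (fun i => ndB mul one T0 49 lc0 ks0 Qs0 1 (nthD ⟨nat_lit 0, nat_lit 0, [], [], []⟩ ds0 i)) i = true :=
  (rng_add rng_zero nb0_0)

section
universe u v
variable {R : Type v} {ι : Type} [CommRing R] [Fintype ι] [DecidableEq ι] (V : VCod R ι 12 12 app wfT) (h2 : V.mat one = 1)

theorem A0 : Act.{0} (((S V h2).sub (mdl (g V h2) dom0)).gen lc0) 16 6 n0 :=
  act_of_up (L0 V h2) (U0 V h2) A0_p A0_l (by decide) (allR Rn0 A0_r)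

theorem AQ0_1 : Act.{0} (((S V h2).sub (mdl (g V h2) dom0)).gen lc0) 60 7 q0_1 :=
  act_of_up (L0 V h2) (U0 V h2) AQ0_1_p AQ0_1_l (by decide) (allR Rn0 AQ0_1_r)

theorem C0 : Cert.{u} ((S V h2).sub (mdl (g V h2) dom0)) T0 49 (mgen (g V h2) dom0) dom0 [11, 14, 17, 18] nodes0 1 (R0 ++ N1) kc0 :=
  have := fin0 V h2
  cert_of (L0 V h2) (card0 V h2).le (A0 V h2) (Qs := Qs0) (List.forall_mem_cons.2 ⟨AQ0_1 V h2, List.forall_mem_nil _⟩) hr0 hc0 la0 lb0 hk0 (allR dn0 na0) (allR dn0 nb0) lo0 do0 hkc0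

end

def dom1 : List ℕ := [11, 14, 17, 18]

noncomputable def us1 : List (List ℕ) :=
  [(unp (nat_lit 6) (nat_lit 0x1d7168a405)), (unp (nat_lit 6) (nat_lit 0x248dc96205)), [nat_lit 38, nat_lit 39], (unp (nat_lit 6) (nat_lit 0x9e89a79a806)), (unp (nat_lit 6) (nat_lit 0xa26a2704)), (unp (nat_lit 6) (nat_lit 0x29a69a6a05)), (unp (nat_lit 6) (nat_lit 0x2baabaa9aa907)), (unp (nat_lit 6) (nat_lit 0xaabaeaa6aae908)), (unp (nat_lit 6) (nat_lit 0xaeaaaba6906)), (unp (nat_lit 6) (nat_lit 0x2dbacbacbad07)), (unp (nat_lit 6) (nat_lit 0x2cbadbacb6d07)), (unp (nat_lit 6) (nat_lit 0x2cb2eb6eb6cbad09)), [nat_lit 45, nat_lit 44]]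

noncomputable def lc1 : List ℕ :=
  [one,
  one,
  one,
  one,
  one,
  one,
  one,
  one,
  one,
  one,
  one,
  one,
  one,
  one,
  one,
  one,
  one,
  one,
  one,
  one,
  one,
  one,
  nthD one bc (nat_lit 22),
  nthD one bc (nat_lit 23),
  one,
  one,
  one,
  one,
  nthD one bc (nat_lit 28),
  nthD one bc (nat_lit 29),
  one,
  one,
  one,
  one,
  nthD one bc (nat_lit 34),
  nthD one bc (nat_lit 35),
  nthD one bc (nat_lit 36),
  nthD one bc (nat_lit 37),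
  (nat_lit 0x80050500149363b0c315e01004f00402e339),
  (nat_lit 0x80016954d2ab1525bc13d00204e620669617),
  (nat_lit 0x80067822743c46e6a86af02e0a645a7ef607),
  (nat_lit 0x8002552ae6fc0400e40472492085f16692c8),
  (nat_lit 0x8006bf4fd0e92ce7ef5f524951a59902363b),
  (nat_lit 0x8000c45543971ef2ce2ae2d804e6604c659d),
  (nat_lit 0x8000c43b90011a83d751d01039f73e26c712),
  (nat_lit 0x8005413f24e60203970930733bc7b72272f4),
  (nat_lit 0x80054145e3b452b70b6a86b61e562008013a),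
  (nat_lit 0x8004005f40195bc2cf4052d804f7b76a8397),
  (nat_lit 0x8004005ce02333959d45728a74f6601a84ff),
  (nat_lit 0x8004005f402331a66956d38a5bb5b736670b),
  (nat_lit 0x80040069c2f47e93b472b07339f4994fd001)]

noncomputable def v1_0 : VL :=
  ⟨(nat_lit 2213), [[nat_lit 22], [nat_lit 28], [nat_lit 34], [nat_lit 36]], nat_lit 3, [(nat_lit 0x8140044c00c180148000b6020500c928)], nat_lit 5, nat_lit 22⟩

noncomputable def v1_1 : VL :=
  ⟨(nat_lit 793), [(unp (nat_lit 6) (nat_lit 0x8dc9a69ebae9c700a)), (unp (nat_lit 6) (nat_lit 0x9169a89e9a69c700a))], nat_lit 2, [(nat_lit 0x801609600182608582526)], nat_lit 5, nat_lit 21⟩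

noncomputable def v1_2 : VL :=
  ⟨(nat_lit 78), [(unp (nat_lit 6) (nat_lit 0x179a69e7a6aa6c09)), (unp (nat_lit 6) (nat_lit 0x7229aaa6dcb108))], nat_lit 2, [(nat_lit 0x1980286600282609521)], nat_lit 5, nat_lit 20⟩

noncomputable def v1_3 : VL :=
  ⟨(nat_lit 682), [(unp (nat_lit 6) (nat_lit 0x7169e7aaba69cb10a)), (unp (nat_lit 6) (nat_lit 0x1c5a6a289ebaa9b32c6f0d)), (unp (nat_lit 6) (nat_lit 0x1da279ebaa9b3209)), (unp (nat_lit 6) (nat_lit 0x716a2ba69cb108))], nat_lit 3, [(nat_lit 0xe00d805008c0048040816020500812c00c20600d80d01032800c20600d81030500c95b)], nat_lit 6, nat_lit 48⟩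

noncomputable def vl1 : List VL :=
  [v1_0, v1_1, v1_2, v1_3]

theorem lco1 : lcOk mul one bc lc1 dom1 (2 * 19) us1 51 = true := by decide +kernel

theorem rc1_0 : rng (fun i => relC mul one bc (2 * 19) (nthD ([], nat_lit 0) N1 i)) (nat_lit 0) (nat_lit 8) = true := by decide +kernel

theorem sm0 : Nat.beq ((kc0.map Prod.snd).sum * 5760) 443520 = true := by decide +kernel

theorem vc1 : vchainOk (app 12 1) (wfT 12 1) mul one lc1 [] vl1 = true := by decide +kernel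

theorem vf1 : band (allL (fun i => memL i dom1) dom99) (VCod.fixD (app 12 1) (wfT 12 1) one bc dom99 vl1) = true := by decide +kernel

theorem vp1 : (vl1.map VL.d).prod * 1 = 443520 := by decide +kernel

theorem rd1 : allL (fun r => allL (fun l => memL (Nat.shiftRight l (nat_lit 1)) dom1) r.1) (R0 ++ N1) = true := by decide +kernel

theorem rc1 : ∀ i < 8, (fun i => relC mul one bc (2 * 19) (nthD ([], nat_lit 0) N1 i)) i = true :=
  (rng_add rng_zero rc1_0)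

section
universe u v
variable {R : Type v} {ι : Type} [CommRing R] [Fintype ι] [DecidableEq ι] (V : VCod R ι 12 12 app wfT) (h2 : V.mat one = 1)

theorem L1 : Lc ((S V h2).sub (mdl (g V h2) dom1)) (mgen (g V h2) dom1) lc1 dom1 (2 * 19) us1 51 :=
  lc_of (S V h2) (h0 V h2) bco lco1

theorem rel1 : Rels R1 (g V h2) := (rel0 V h2).append ((S V h2).rels (h0 V h2) bco (allR Nn1 rc1))

theorem le1 : Finite (mdl (g V h2) dom1) ∧ Nat.card (mdl (g V h2) dom1) ≤ 443520 :=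
  have := fin0 V h2
  step_le (C0 V h2) (U0 V h2) (rel1 V h2) (card0 V h2) sm0

theorem fin1 : Finite (mdl (g V h2) dom1) := (le1 V h2).1

theorem card1 : Nat.card (mdl (g V h2) dom1) = 443520 := by
  have : Finite (mdl ((V.sem h1 h2).bg bc) dom1) := fin1 V h2
  have h := V.le_card_mdl h1 h2 (h0 V h2) (L1 V h2).ok vc1 vf1
  exact le_antisymm (le1 V h2).2 (le_trans (vp1.symm.trans (congrArg (HMul.hMul (vl1.map VL.d).prod) (card99 V h2).symm)).le h)

theorem U1 : UP.{0} (mgen (g V h2) dom1) dom1 R1 :=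
  have := fin0 V h2
  step_up (C0 V h2) (U0 V h2) (rel1 V h2) (card0 V h2) sm0 (card1 V h2) rd1

end

noncomputable def N2 : List (List ℕ × ℕ) :=
  [((unp (nat_lit 6) (nat_lit 0x5a37a404)), nat_lit 2),
  ([nat_lit 30], nat_lit 3),
  ((unp (nat_lit 6) (nat_lit 0x2479c8de91f07)), nat_lit 1),
  ((unp (nat_lit 6) (nat_lit 0x89e7235e275f08)), nat_lit 1),
  ((unp (nat_lit 6) (nat_lit 0x237a57d68de95f09)), nat_lit 1),
  ((unp (nat_lit 6) (nat_lit 0x91d7a489e91c8d70a)), nat_lit 1),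
  ((unp (nat_lit 6) (nat_lit 0x1e95f59c7dc7d68e40b)), nat_lit 1),
  ((unp (nat_lit 6) (nat_lit 0x1c59e86291e91f09)), nat_lit 1)]

noncomputable def R2 : List (List ℕ × ℕ) :=
  R1 ++ N2

noncomputable def n1_22 : Net :=
  mkNet (nat_lit 6) (nat_lit 22) (nat_lit 0x105114040c44001000000100000400035010c0b04480541155)

noncomputable def n1_28 : Net :=
  mkNet (nat_lit 6) (nat_lit 22) (nat_lit 0x41440088c44204000000f00003c0001f01050108004015140)

noncomputable def n1_34 : Net :=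
  mkNet (nat_lit 6) (nat_lit 22) (nat_lit 0x140140000c0000900000000000000001f020102080c0540404)

noncomputable def n1_36 : Net :=
  mkNet (nat_lit 6) (nat_lit 22) (nat_lit 0x510000c84003080000006c0001b00012c00002048c0004401)

noncomputable def n1_38 : Net :=
  mkNet (nat_lit 6) (nat_lit 22) (nat_lit 0x10084488305080000700001e0003b03000600800154050)

noncomputable def n1_39 : Net :=
  mkNet (nat_lit 6) (nat_lit 22) (nat_lit 0x445000c8840108000000280003e0000d810204044c4955550)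

noncomputable def n1_40 : Net :=
  mkNet (nat_lit 6) (nat_lit 22) (nat_lit 0x4051000800000a040000040001700030c2060404408100504)

noncomputable def n1_41 : Net :=
  mkNet (nat_lit 6) (nat_lit 22) (nat_lit 0x1155000040c4006000000340003d0002942090900848405004)

noncomputable def n1_42 : Net :=
  mkNet (nat_lit 6) (nat_lit 22) (nat_lit 0x145100000080006080000740001d0003a43070804804004044)

noncomputable def n1_43 : Net :=
  mkNet (nat_lit 6) (nat_lit 22) (nat_lit 0x111440048048004080000f00003c0001d02020a0c8c8914510)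

noncomputable def n1_44 : Net :=
  mkNet (nat_lit 6) (nat_lit 22) (nat_lit 0x105400c0808001080000240000900004430d0a0808c950010)

noncomputable def n1_45 : Net :=
  mkNet (nat_lit 6) (nat_lit 22) (nat_lit 0x144000444001010000001c0001700011c10d0808c4c114400)

noncomputable def n1_46 : Net :=
  mkNet (nat_lit 6) (nat_lit 22) (nat_lit 0x51010084c0010604000084000250000142020c0cc4c115140)

noncomputable def n1_47 : Net :=
  mkNet (nat_lit 6) (nat_lit 22) (nat_lit 0x4040000000001000000bc0003f0002bc004000c4c0014440)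

noncomputable def n1_48 : Net :=
  mkNet (nat_lit 6) (nat_lit 22) (nat_lit 0x140400008400100040000840003500008410f0408cc0045100)

noncomputable def n1_49 : Net :=
  mkNet (nat_lit 6) (nat_lit 22) (nat_lit 0x15004008008020a000000280003a00002820a000c4c8150540)

noncomputable def n1_50 : Net :=
  mkNet (nat_lit 6) (nat_lit 22) (nat_lit 0x101000000040008040000a00003c0000a00080400404111500)

noncomputable def n1 : List Net :=
  [Net.nil, Net.nil, Net.nil, Net.nil, Net.nil, Net.nil, Net.nil, Net.nil, Net.nil, Net.nil, Net.nil, Net.nil, Net.nil, Net.nil, Net.nil, Net.nil, Net.nil, Net.nil, Net.nil, Net.nil, Net.nil, Net.nil, n1_22, rv n1_22, Net.nil, Net.nil, Net.nil, Net.nil, n1_28, rv n1_28, Net.nil, Net.nil, Net.nil, Net.nil, n1_34, rv n1_34, n1_36, rv n1_36, n1_38, n1_39, n1_40, n1_41, n1_42, n1_43, n1_44, n1_45, n1_46, n1_47, n1_48, n1_49, n1_50]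

def nodes1 : List ℕ := [30]

def sb1 : List (ℕ × ℕ × ℕ) := [(32, 26, 5), (33, 26, 5), (31, 19, 1)]

noncomputable def rs1 : List (ℕ × ℕ × List (ℕ × ℕ)) :=
  [(nat_lit 19, nat_lit 6, [(nat_lit 1, (nat_lit 0x8000734cf43c6a64c40e43d017445a1a40e8)), (nat_lit 1, (nat_lit 0x8000734cf43c6a64c40e43d017445a1a40e8))]),
  (nat_lit 20, nat_lit 0, [(nat_lit 1, (nat_lit 0x800400200100080040020010008004002001)), (nat_lit 1, (nat_lit 0x800400200100080040020010008004002001)), (nat_lit 1, (nat_lit 0x800400200100080040020010008004002001))]),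
  (nat_lit 21, nat_lit 12, [(nat_lit 1, (nat_lit 0x8005174c11ef24b0804cf2595e75f10d9555)), (nat_lit 1, (nat_lit 0x8000735470c11ef2ce0c46a620851943a1ab)), (nat_lit 1, (nat_lit 0x8002270476697694c46383f20084cb5bc22d))]),
  (nat_lit 22, nat_lit 13, [(nat_lit 1, (nat_lit 0x8001d22a70c128a0393d06732810582ae3f2)), (nat_lit 1, (nat_lit 0x8002276e269c0336644c102e1745f02ae3f2))]),
  (nat_lit 23, nat_lit 20, [(nat_lit 1, (nat_lit 0x8000737b01693d00197661ef7965f12d8143)), (nat_lit 1, (nat_lit 0x80050b24649d45c64b15e4ff2084cb02e339)), (nat_lit 1, (nat_lit 0x8000737b01693d00197661ef7965f12d8143)), (nat_lit 1, (nat_lit 0x80069f0935ef0ae5174254ff1745991b43e2))]),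
  (nat_lit 24, nat_lit 8, [(nat_lit 1, (nat_lit 0x80049d3d050b1ef68f15e25904f5994cf7d8)), (nat_lit 1, (nat_lit 0x8006732eb4c41ef32e0010731745194ff607))]),
  (nat_lit 25, nat_lit 0, [(nat_lit 1, (nat_lit 0x8000737b01693d00197661ef7965f12d8143)), (nat_lit 1, (nat_lit 0x8004930194493914f32891a8503004152180)), (nat_lit 1, (nat_lit 0x8001975f563b1d23a42711a85bb59969c6a6)), (nat_lit 1, (nat_lit 0x80023a0a11691a854178263b51a5b727a42a))])]

noncomputable def T1 : Tr :=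
  (.nd (nat_lit 26) (.nd (nat_lit 13) (.nd (nat_lit 6) (.nd (nat_lit 3) (.nd (nat_lit 1) (.lf ⟨nat_lit 0, nat_lit 0, nat_lit 0, one, one, one, .triv⟩)
 (.nd (nat_lit 2) (.lf ⟨nat_lit 0, nat_lit 0, nat_lit 0, one, one, one, .triv⟩)
 (.lf ⟨nat_lit 1, nat_lit 1, nat_lit 0, (nat_lit 0x8001d22a70c128a0393d06732810582ae3f2), (nat_lit 0x80047724969f25b3f93a70e93ac62063b5f5), one, (.wt (nat_lit 3) (nat_lit 0) one (.sp .nil) [] [])⟩)))
 (.nd (nat_lit 4) (.lf ⟨nat_lit 0, nat_lit 1, nat_lit 1, (nat_lit 0x8000475ce2b90c13f90104cf28109c1aa0e8), one, (nat_lit 0x8002951975a83e30393a731a39f4587b01ab), (.we (nat_lit 0) (nat_lit 1) (nat_lit 0x8001d22a70c128a0393d06732810582ae3f2) (.st (nat_lit 2) [] [] (.sp .nil)))⟩)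
 (.nd (nat_lit 5) (.lf ⟨nat_lit 0, nat_lit 1, nat_lit 1, (nat_lit 0x8002272713b93d02f94cf0205e76131431a9), one, (nat_lit 0x80049d7124e625928963830a51a2295f4068), (.prod [nat_lit 3, nat_lit 3])⟩)
 (.lf ⟨nat_lit 1, nat_lit 1, nat_lit 0, (nat_lit 0x8002276e269c0336644c102e1745f02ae3f2), (nat_lit 0x80049d6aa22e3ef7a22ab0e974f22928a54d), one, (.wt (nat_lit 3) (nat_lit 1) one (.sp .nil) [] [])⟩))))
 (.nd (nat_lit 9) (.nd (nat_lit 7) (.lf ⟨nat_lit 0, nat_lit 1, nat_lit 1, (nat_lit 0x8002ce17c6af24b7ef4050d90086031aa0e8), one, (nat_lit 0x8000c322e0a16177662b531a0265b72b954d), (.we (nat_lit 0) (nat_lit 1) (nat_lit 0x8002276e269c0336644c102e1745f02ae3f2) (.st (nat_lit 5) [] [] (.sp .nil)))⟩)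
 (.nd (nat_lit 8) (.lf ⟨nat_lit 0, nat_lit 1, nat_lit 1, (nat_lit 0x8000ae66470b54c64b0d90233df4991431a9), one, (nat_lit 0x8007d97ef4e66bf4c446e30a5e74995f43d1), (.prod [nat_lit 3, nat_lit 6])⟩)
 (.lf ⟨nat_lit 0, nat_lit 1, nat_lit 1, (nat_lit 0x8002382a71a42ae0e4023405281229002001), one, (nat_lit 0x8005123ef4093391523640101e75f050b5f5), (.prod [nat_lit 4, nat_lit 6])⟩)))
 (.nd (nat_lit 11) (.nd (nat_lit 10) (.lf ⟨nat_lit 0, nat_lit 1, nat_lit 1, (nat_lit 0x8003793972b57d93f542559d0082f01431a9), one, (nat_lit 0x8006857b31ef3b409156c30a5bb5990fd7d8), (.prod [nat_lit 6, nat_lit 6])⟩)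
 (.lf ⟨nat_lit 0, nat_lit 1, nat_lit 1, (nat_lit 0x8005a80736e20937a25474253df5991aa0e8), one, (nat_lit 0x8001c132e5a864b6642eb31a1260bc7b0046), (.prod [nat_lit 8, nat_lit 6])⟩))
 (.nd (nat_lit 12) (.lf ⟨nat_lit 0, nat_lit 1, nat_lit 1, (nat_lit 0x8003793972b57d93f542559d0082f01431a9), one, (nat_lit 0x8006857b31ef3b409156c30a5bb5990fd7d8), (.prod [nat_lit 6, nat_lit 6])⟩)
 (.lf ⟨nat_lit 1, nat_lit 1, nat_lit 0, (nat_lit 0x80049d3d050b1ef68f15e25904f5994cf7d8), (nat_lit 0x80076937940922d1b43a73e20a65f01c1020), one, (.wt (nat_lit 5) (nat_lit 0) one (.sp .nil) [] [])⟩)))))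
 (.nd (nat_lit 19) (.nd (nat_lit 16) (.nd (nat_lit 14) (.lf ⟨nat_lit 0, nat_lit 1, nat_lit 1, (nat_lit 0x80032e01029540923876651d3bc2f020013a), one, (nat_lit 0x80053c69f1ef1ed5f43a73d13bc5196b60e4), (.we (nat_lit 0) (nat_lit 1) (nat_lit 0x80049d3d050b1ef68f15e25904f5994cf7d8) (.st (nat_lit 12) [] [] (.sp .nil)))⟩)
 (.nd (nat_lit 15) (.lf ⟨nat_lit 0, nat_lit 1, nat_lit 1, (nat_lit 0x80002349012d2cf1801aa45c3df0bc39737c), one, (nat_lit 0x8006dc50512d2cf43c37c27a0264585a505c), (.prod [nat_lit 7, nat_lit 13])⟩)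
 (.lf ⟨nat_lit 0, nat_lit 1, nat_lit 1, (nat_lit 0x8005417826075f474703359e2814cb1431a9), one, (nat_lit 0x8005c12471ef25b6dc73a30a04f6200fd168), (.inv (nat_lit 10))⟩)))
 (.nd (nat_lit 17) (.lf ⟨nat_lit 0, nat_lit 1, nat_lit 1, (nat_lit 0x8004d025b1800e83a40986383bc5f05ce525), one, (nat_lit 0x80065b0891d20e82490c1019208660607069), (.prod (unp (nat_lit 4) (nat_lit 0xfd403)))⟩)
 (.nd (nat_lit 18) (.lf ⟨nat_lit 0, nat_lit 1, nat_lit 1, (nat_lit 0x8001a449016806865b56c3973df0bc59e51d), one, (nat_lit 0x8000e428956d0680a12c827828145a6dc0e9), (.prod [nat_lit 16, nat_lit 16])⟩)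
 (.lf ⟨nat_lit 0, nat_lit 1, nat_lit 1, (nat_lit 0x8002ce17c6af24b7ef4050d90086031aa0e8), one, (nat_lit 0x8000c322e0a16177662b531a0265b72b954d), (.inv (nat_lit 9))⟩))))
 (.nd (nat_lit 22) (.nd (nat_lit 20) (.lf ⟨nat_lit 0, nat_lit 1, nat_lit 1, (nat_lit 0x8001684e32380932957a214374f603046197), one, (nat_lit 0x80029a5051a464b5f479b3d102651912e091), (.prod (unp (nat_lit 5) (nat_lit 0x49a603)))⟩)
 (.nd (nat_lit 21) (.lf ⟨nat_lit 0, nat_lit 1, nat_lit 1, (nat_lit 0x80030a0b80402780c372b0d950373e38a2c8), one, (nat_lit 0x80013d3f94ff24914169c49d3df5b72ce493), (.prod [nat_lit 17, nat_lit 19])⟩)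
 (.lf ⟨nat_lit 0, nat_lit 1, nat_lit 1, (nat_lit 0x8001007ef74763b45e2b52cf20866039a24b), one, (nat_lit 0x80047718079b0fd39039738a0a65f137c098), (.prod [nat_lit 19, nat_lit 16])⟩)))
 (.nd (nat_lit 24) (.nd (nat_lit 23) (.lf ⟨nat_lit 0, nat_lit 1, nat_lit 1, (nat_lit 0x80004051d54d0012a70c417c5bb45a4d043a), one, (nat_lit 0x8001976b656d3f21d223845e3ac05822e50b), (.prod [nat_lit 19, nat_lit 19])⟩)
 (.lf ⟨nat_lit 0, nat_lit 1, nat_lit 1, (nat_lit 0x8001d213d2957d83d768f59d2810581411aa), one, (nat_lit 0x8000403e31ef0464c173a2ae04f5992ab6bf), (.prod [nat_lit 20, nat_lit 19])⟩))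
 (.nd (nat_lit 25) (.lf ⟨nat_lit 0, nat_lit 1, nat_lit 1, (nat_lit 0x80045e2ab43a24b4d040570b3df6031aa0e8), one, (nat_lit 0x8002f939a62461740013b2460260bc43c0ae), (.inv (nat_lit 23))⟩)
 (.lf ⟨nat_lit 0, nat_lit 1, nat_lit 1, (nat_lit 0x8006716aa37c49304656c38a1e566027873a), one, (nat_lit 0x8000521435c16385121b412d0a6004457278), (.prod (unp (nat_lit 5) (nat_lit 0x621503)))⟩))))))
 (.nd (nat_lit 39) (.nd (nat_lit 32) (.nd (nat_lit 29) (.nd (nat_lit 27) (.lf ⟨nat_lit 0, nat_lit 1, nat_lit 1, (nat_lit 0x8001412b94f342a45e7a22d839f5f11ef6dc), one, (nat_lit 0x8000686fc4c112e0e93646af3df00424646e), (.prod [nat_lit 25, nat_lit 25])⟩)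
 (.nd (nat_lit 28) (.lf ⟨nat_lit 0, nat_lit 1, nat_lit 1, (nat_lit 0x80023828a2f45f43b45056783ac0bc0020e8), one, (nat_lit 0x8007827ef23825b13b59d3e25e745a0205bc), (.prod [nat_lit 21, nat_lit 19])⟩)
 (.lf ⟨nat_lit 0, nat_lit 1, nat_lit 1, (nat_lit 0x80025b4d070b54d64b0983d739f5990020e9), one, (nat_lit 0x80002e08947754d43c00230a28109c59d023), (.prod [nat_lit 27, nat_lit 27])⟩)))
 (.nd (nat_lit 30) (.lf ⟨nat_lit 0, nat_lit 1, nat_lit 1, (nat_lit 0x8001c112e7005f443a6fc1ab0084cb278766), one, (nat_lit 0x8005414e63f225b0694570735037b705c79b), (.prod [nat_lit 28, nat_lit 25])⟩)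
 (.nd (nat_lit 31) (.lf ⟨nat_lit 0, nat_lit 1, nat_lit 1, (nat_lit 0x80073078227a40210052b1a82817b737963b), one, (nat_lit 0x8003d14cf1b41d750b7a25415bb6133b94ff), (.inv (nat_lit 20))⟩)
 (.lf ⟨nat_lit 0, nat_lit 1, nat_lit 1, (nat_lit 0x8001a87477ef4934e62b511e00851924b39a), one, (nat_lit 0x8001414cf15e6386a652b38a17445a2ae2b9), (.inv (nat_lit 29))⟩))))
 (.nd (nat_lit 35) (.nd (nat_lit 33) (.lf ⟨nat_lit 0, nat_lit 1, nat_lit 1, (nat_lit 0x8001a949d4e33a43d00c439a5bb5196716dc), one, (nat_lit 0x80054128959d0980012382d828149931a019), (.prod (unp (nat_lit 5) (nat_lit 0xffa1604)))⟩)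
 (.nd (nat_lit 34) (.lf ⟨nat_lit 0, nat_lit 1, nat_lit 1, (nat_lit 0x8001ef70022e2a77304c62c804f0bc45c678), one, (nat_lit 0x8000b81a95c12a70391b407304e49950b27a), (.prod [nat_lit 26, nat_lit 32])⟩)
 (.lf ⟨nat_lit 0, nat_lit 1, nat_lit 1, (nat_lit 0x8004e47e91b460739056d38a0a65b7366678), one, (nat_lit 0x8000c408949d0c10190e8249208599457040), (.prod [nat_lit 32, nat_lit 32])⟩)))
 (.nd (nat_lit 37) (.nd (nat_lit 36) (.lf ⟨nat_lit 0, nat_lit 1, nat_lit 1, (nat_lit 0x8002ce17c6af24b7ef4050d90086031aa0e8), one, (nat_lit 0x8000c322e0a16177662b531a0265b72b954d), (.inv (nat_lit 11))⟩)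
 (.lf ⟨nat_lit 0, nat_lit 1, nat_lit 1, (nat_lit 0x8007010c356c4575c125b61712673e046197), one, (nat_lit 0x8003f552b22d2717121693d10084582a7259), (.prod (unp (nat_lit 6) (nat_lit 0x2334303)))⟩))
 (.nd (nat_lit 38) (.lf ⟨nat_lit 0, nat_lit 1, nat_lit 1, (nat_lit 0x8003390473ef23826c3e273a04f0bc2b91c3), one, (nat_lit 0x8006dc04724b2d85856073ed00873e2953b9), (.prod [nat_lit 36, nat_lit 36])⟩)
 (.lf ⟨nat_lit 0, nat_lit 1, nat_lit 1, (nat_lit 0x80015232e1ab5a914162478220860306952b), one, (nat_lit 0x80043c3b42cf3915a82785050080bc28a59e), (.prod [nat_lit 37, nat_lit 36])⟩)))))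
 (.nd (nat_lit 46) (.nd (nat_lit 42) (.nd (nat_lit 40) (.lf ⟨nat_lit 0, nat_lit 1, nat_lit 1, (nat_lit 0x8006fc1aa3974d013a2a76bf1e561372b0c1), one, (nat_lit 0x80051d3974e64ff2c80897d90084995f568f), (.prod [nat_lit 38, nat_lit 36])⟩)
 (.nd (nat_lit 41) (.lf ⟨nat_lit 0, nat_lit 1, nat_lit 1, (nat_lit 0x80056d39a2272ae28a0e41aa3bc0040462eb), one, (nat_lit 0x80024b52b2ae3397b02f91ab00860345c766), (.prod [nat_lit 6, nat_lit 13])⟩)
 (.lf ⟨nat_lit 0, nat_lit 1, nat_lit 1, (nat_lit 0x8001a402306816824c13b66439f05812d0ae), one, (nat_lit 0x8004492891a90012b92590980084cb6dc080), (.prod [nat_lit 37, nat_lit 40])⟩)))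
 (.nd (nat_lit 44) (.nd (nat_lit 43) (.lf ⟨nat_lit 0, nat_lit 1, nat_lit 1, (nat_lit 0x8001412a717c45724661763802645a3396bf), one, (nat_lit 0x8007121ed49327112d1c1180008660246020), (.prod [nat_lit 38, nat_lit 40])⟩)
 (.lf ⟨nat_lit 0, nat_lit 1, nat_lit 1, (nat_lit 0x8004253970104e30933794020085f05252cf), one, (nat_lit 0x80002302e6640a11aa4577820087b765b168), (.prod [nat_lit 39, nat_lit 40])⟩))
 (.nd (nat_lit 45) (.lf ⟨nat_lit 0, nat_lit 1, nat_lit 1, (nat_lit 0x8003f310061751d3914937471267b769f69c), one, (nat_lit 0x80019779e4fd14139a39042500809c2eb45e), (.prod [nat_lit 43, nat_lit 36])⟩)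
 (.lf ⟨nat_lit 0, nat_lit 1, nat_lit 1, (nat_lit 0x8006fc1aa3974d013a2a76bf1e561372b0c1), one, (nat_lit 0x80051d3974e64ff2c80897d90084995f568f), (.inv (nat_lit 36))⟩))))
 (.nd (nat_lit 49) (.nd (nat_lit 47) (.lf ⟨nat_lit 0, nat_lit 1, nat_lit 1, (nat_lit 0x80054145e2cf7a27693ef28a5bb4cb5a5023), one, (nat_lit 0x8000c450b2ce5171d72781430080040fd168), (.prod (unp (nat_lit 6) (nat_lit 0x2da2403)))⟩)
 (.nd (nat_lit 48) (.lf ⟨nat_lit 0, nat_lit 1, nat_lit 1, (nat_lit 0x80064b2f97471ef2590e856c1260bc05c11e), one, (nat_lit 0x8005251ef69f68f4cf00115e00822970b4ff), (.inv (nat_lit 42))⟩)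
 (.lf ⟨nat_lit 0, nat_lit 1, nat_lit 1, (nat_lit 0x8000b852b1433641a80631a40084cb54d769), one, (nat_lit 0x80063804619708967145701900800465b080), (.prod (unp (nat_lit 6) (nat_lit 0x2f92903)))⟩)))
 (.nd (nat_lit 51) (.nd (nat_lit 50) (.lf ⟨nat_lit 0, nat_lit 1, nat_lit 1, (nat_lit 0x80024c6172002ae3d11aa0c13ac59963b638), one, (nat_lit 0x8007b05ef0333394e46076c50085f0068457), (.inv (nat_lit 44))⟩)
 (.lf ⟨nat_lit 0, nat_lit 1, nat_lit 1, (nat_lit 0x8007820c149365b4905b32491e75f15a56bc), one, (nat_lit 0x8003d10ae1d72f92ce68f4e6008004554271), (.prod (unp (nat_lit 6) (nat_lit 0x31a2b03)))⟩))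
 (.nd (nat_lit 52) (.lf ⟨nat_lit 1, nat_lit 1, nat_lit 0, (nat_lit 0x8004004ff2b940913d6fc0801e55f00935f5), (nat_lit 0x8006b023822e72b63b6785f51e7519169010), one, (.wt (nat_lit 0) (nat_lit 0) one (.sp .nil) (unp (nat_lit 6) (nat_lit 0xe42203)) [])⟩)
 (.lf ⟨nat_lit 1, nat_lit 1, nat_lit 1, one, (nat_lit 0x80022715225b67154c685073026004766200), (nat_lit 0x80049d5174c66fc6781d24fd281599168047), (.wt (nat_lit 1) (nat_lit 0) (nat_lit 0x80022715225b67154c685073026004766200) (.st (nat_lit 51) [nat_lit 33, nat_lit 19] [] (.sp .nil)) [] [])⟩)))))))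

noncomputable def q1_1_22 : Net :=
  mkNet (nat_lit 6) (nat_lit 22) (nat_lit 0x101000040000e040000200002c0001680040400cc0101054)

noncomputable def q1_1_28 : Net :=
  mkNet (nat_lit 6) (nat_lit 22) (nat_lit 0x5545404c4000050c0000000001c0001e00030c04c40845455)

noncomputable def q1_1_34 : Net :=
  mkNet (nat_lit 6) (nat_lit 22) (nat_lit 0x14040404c8c810404000000000360000b80080c0480c851054)

noncomputable def q1_1_36 : Net :=
  mkNet (nat_lit 6) (nat_lit 22) (nat_lit 0x4040c804810000000020000180002083080c08804d01504)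

noncomputable def q1_1_38 : Net :=
  mkNet (nat_lit 6) (nat_lit 22) (nat_lit 0x4000400c08000100000008000260000600020800cc8c15404)

noncomputable def q1_1_39 : Net :=
  mkNet (nat_lit 6) (nat_lit 22) (nat_lit 0x55450004040200080000180000e0003980020b0cc80c40150)

noncomputable def q1_1_40 : Net :=
  mkNet (nat_lit 6) (nat_lit 22) (nat_lit 0x1415040008c4200080000f40003d00005820b0b0c844550051)

noncomputable def q1_1_41 : Net :=
  mkNet (nat_lit 6) (nat_lit 22) (nat_lit 0x10110088800101040000000001c0001d81080b000c4401015)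

noncomputable def q1_1_42 : Net :=
  mkNet (nat_lit 6) (nat_lit 22) (nat_lit 0x500140c040020c000000940002d00012c2050a08884044115)

noncomputable def q1_1_43 : Net :=
  mkNet (nat_lit 6) (nat_lit 22) (nat_lit 0x51454000c80104000000300001e000370104070484c454444)

noncomputable def q1_1_44 : Net :=
  mkNet (nat_lit 6) (nat_lit 22) (nat_lit 0x1500088000204040000340002d0000c82040408c04c10404)

noncomputable def q1_1_45 : Net :=
  mkNet (nat_lit 6) (nat_lit 22) (nat_lit 0x11054004000208000000200002c00004820c0f00c48415001)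

noncomputable def q1_1_46 : Net :=
  mkNet (nat_lit 6) (nat_lit 22) (nat_lit 0x100400c4c8020e000000300002c0002682020804484000145)

noncomputable def q1_1_47 : Net :=
  mkNet (nat_lit 6) (nat_lit 22) (nat_lit 0x1104000000020700000080000200001c82070804444411040)

noncomputable def q1_1_48 : Net :=
  mkNet (nat_lit 6) (nat_lit 22) (nat_lit 0x101440c04c0000040000040000d0001500020308408410144)

noncomputable def q1_1_49 : Net :=
  mkNet (nat_lit 6) (nat_lit 22) (nat_lit 0x5004008480020900000084000290003d420d0408480050041)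

noncomputable def q1_1_50 : Net :=
  mkNet (nat_lit 6) (nat_lit 22) (nat_lit 0xc08000d000000080000200012c008070484c400000)

noncomputable def q1_1 : List Net :=
  [Net.nil, Net.nil, Net.nil, Net.nil, Net.nil, Net.nil, Net.nil, Net.nil, Net.nil, Net.nil, Net.nil, Net.nil, Net.nil, Net.nil, Net.nil, Net.nil, Net.nil, Net.nil, Net.nil, Net.nil, Net.nil, Net.nil, q1_1_22, rv q1_1_22, Net.nil, Net.nil, Net.nil, Net.nil, q1_1_28, rv q1_1_28, Net.nil, Net.nil, Net.nil, Net.nil, q1_1_34, rv q1_1_34, q1_1_36, rv q1_1_36, q1_1_38, q1_1_39, q1_1_40, q1_1_41, q1_1_42, q1_1_43, q1_1_44, q1_1_45, q1_1_46, q1_1_47, q1_1_48, q1_1_49, q1_1_50]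

noncomputable def Qs1 : List (ℕ × ℕ × List Net) :=
  [(nat_lit 22, nat_lit 6, q1_1)]

noncomputable def ls1 : List Ld :=
  [⟨[(nat_lit 32, (unp (nat_lit 6) (nat_lit 0x2fc2d03))), (nat_lit 25, (unp (nat_lit 6) (nat_lit 0x2fc31caca6a07))), (nat_lit 27, (unp (nat_lit 6) (nat_lit 0x2fc31cada6907))), (nat_lit 19, (unp (nat_lit 6) (nat_lit 0xbf0c72b26a2708))), (nat_lit 3, [nat_lit 35])], [⟨nat_lit 0, [nat_lit 0, nat_lit 4], (nat_lit 0x14318414510311f1850840840c6045140), nat_lit 21⟩, ⟨nat_lit 1, [nat_lit 0, nat_lit 3], (nat_lit 0x1010c314414515f1020c21041440c601f), nat_lit 20⟩, ⟨nat_lit 2, (unp (nat_lit 2) (nat_lit 0x2403)), (nat_lit 0xc10847c30820df7c10c20c20df0c07df), nat_lit 16⟩, ⟨nat_lit 3, [nat_lit 0], (nat_lit 0x7df7df7df7df7df7df7df05f09f01f7df), nat_lit 3⟩], [[nat_lit 29], [nat_lit 35]], (nat_lit 0x1841c61031461c21441481450c6242040)⟩]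

noncomputable def lk1 : List (List ℕ) :=
  [[]]

noncomputable def d1_0 : Nd :=
  ⟨nat_lit 1, nat_lit 22, [(nat_lit 46, (unp (nat_lit 6) (nat_lit 0x2fcad03))), (nat_lit 50, (unp (nat_lit 6) (nat_lit 0x2fc6da6905))), (nat_lit 48, (unp (nat_lit 6) (nat_lit 0x2fc72a6aa6a07))), (nat_lit 36, (unp (nat_lit 6) (nat_lit 0x30c6caa99a89e709))), (nat_lit 13, (unp (nat_lit 6) (nat_lit 0xc31aaaa66a288e40a)))], [⟨nat_lit 0, [nat_lit 0, nat_lit 4], (nat_lit 0x811851031021051840c41831df1c5200), nat_lit 21⟩, ⟨nat_lit 1, [nat_lit 0, nat_lit 3], (nat_lit 0x14410314208504614410310315f0c701f), nat_lit 20⟩, ⟨nat_lit 2, (unp (nat_lit 2) (nat_lit 0x2403)), (nat_lit 0x410c37c20c20df7c30820c20df1007df), nat_lit 16⟩, ⟨nat_lit 3, [nat_lit 0], (nat_lit 0x7df7df7df7df7df7df7df05f09f01f7df), nat_lit 3⟩],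
  [⟨[nat_lit 0, nat_lit 4], (nat_lit 0xc30830420c4145144083081100103140), [(nat_lit 51, nat_lit 4, [nat_lit 36]), (nat_lit 52, nat_lit 0, [])]⟩]⟩

noncomputable def ds1 : List Nd :=
  [d1_0]

noncomputable def ks1 : List ℕ :=
  [nat_lit 1]

def kc1 : List (ℕ × ℕ) := [(0, 1), (1, 22)]

theorem Rn2 : Nat.beq R2.length 27 = true := by decide +kernel

theorem Nn2 : Nat.beq N2.length 8 = true := by decide +kernel

theorem A1_p : actP 6 22 n1 51 = true := by decide +kernel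

theorem A1_l_0 : rng (actL 6 22 n1 dom1 (2 * 19) us1) (nat_lit 0) (nat_lit 51) = true := by decide +kernel

theorem A1_r_0 : rng (fun i => relN 6 22 n1 (2 * 19) (nthD ([], nat_lit 0) R1 i)) (nat_lit 0) (nat_lit 19) = true := by decide +kernel

theorem hr1 : relsOk mul one lc1 dom1 nodes1 1 (2 * 19) R2 sb1 2 rs1 = true := by decide +kernel

theorem hc1_0 : rng (chk mul one wf T1 lc1 (mapR (fun e => e.2.2) rs1) 1) (nat_lit 0) (nat_lit 53) = true := by decide +kernel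

theorem AQ1_1_p : actP 6 22 q1_1 51 = true := by decide +kernel

theorem AQ1_1_l_0 : rng (actL 6 22 q1_1 dom1 (2 * 19) us1) (nat_lit 0) (nat_lit 51) = true := by decide +kernel

theorem AQ1_1_r_0 : rng (fun i => relN 6 22 q1_1 (2 * 19) (nthD ([], nat_lit 0) R1 i)) (nat_lit 0) (nat_lit 19) = true := by decide +kernel

theorem la1 : ldA mul one T1 53 lc1 22 6 n1 ls1 1 = true := by decide +kernel

theorem lb1 : ldB 443520 Qs1 ls1 1 = true := by decide +kernel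

theorem na1_0 : rng (fun i => ndA mul one T1 53 lc1 22 6 n1 443520 (nthD ⟨nat_lit 0, nat_lit 0, [], [], []⟩ ds1 i)) (nat_lit 0) (nat_lit 1) = true := by decide +kernel

theorem nb1_0 : rng (fun i => ndB mul one T1 53 lc1 ks1 Qs1 1 (nthD ⟨nat_lit 0, nat_lit 0, [], [], []⟩ ds1 i)) (nat_lit 0) (nat_lit 1) = true := by decide +kernel

theorem dn1 : Nat.beq ds1.length 1 = true := by decide +kernel

theorem hk1 : ks1 = ds1.map Nd.k := by decide +kernel

theorem hkc1 : kc1 = (0, 1) :: ds1.map fun d => (d.k, d.c) := by decide +kernel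

theorem lo1 : linkOk mul one T1 53 ks1 lk1 1 = true := by decide +kernel

theorem do1 : domOk dom1 [11, 14, 15, 16, 17, 18] nodes1 1 R2 sb1 2 = true := by decide +kernel

theorem A1_l : ∀ i < 51, (actL 6 22 n1 dom1 (2 * 19) us1) i = true :=
  (rng_add rng_zero A1_l_0)

theorem A1_r : ∀ i < 19, (fun i => relN 6 22 n1 (2 * 19) (nthD ([], nat_lit 0) R1 i)) i = true :=
  (rng_add rng_zero A1_r_0)

theorem hc1 : ∀ i < 53, (chk mul one wf T1 lc1 (mapR (fun e => e.2.2) rs1) 1) i = true :=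
  (rng_add rng_zero hc1_0)

theorem AQ1_1_l : ∀ i < 51, (actL 6 22 q1_1 dom1 (2 * 19) us1) i = true :=
  (rng_add rng_zero AQ1_1_l_0)

theorem AQ1_1_r : ∀ i < 19, (fun i => relN 6 22 q1_1 (2 * 19) (nthD ([], nat_lit 0) R1 i)) i = true :=
  (rng_add rng_zero AQ1_1_r_0)

theorem na1 : ∀ i < 1, (fun i => ndA mul one T1 53 lc1 22 6 n1 443520 (nthD ⟨nat_lit 0, nat_lit 0, [], [], []⟩ ds1 i)) i = true :=
  (rng_add rng_zero na1_0)

theorem nb1 : ∀ i < 1, (fun i => ndB mul one T1 53 lc1 ks1 Qs1 1 (nthD ⟨nat_lit 0, nat_lit 0, [], [], []⟩ ds1 i)) i = true :=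
  (rng_add rng_zero nb1_0)

section
universe u v
variable {R : Type v} {ι : Type} [CommRing R] [Fintype ι] [DecidableEq ι] (V : VCod R ι 12 12 app wfT) (h2 : V.mat one = 1)

theorem A1 : Act.{0} (((S V h2).sub (mdl (g V h2) dom1)).gen lc1) 22 6 n1 :=
  act_of_up (L1 V h2) (U1 V h2) A1_p A1_l (by decide) (allR Rn1 A1_r)

theorem AQ1_1 : Act.{0} (((S V h2).sub (mdl (g V h2) dom1)).gen lc1) 22 6 q1_1 :=
  act_of_up (L1 V h2) (U1 V h2) AQ1_1_p AQ1_1_l (by decide) (allR Rn1 AQ1_1_r)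

theorem C1 : Cert.{u} ((S V h2).sub (mdl (g V h2) dom1)) T1 53 (mgen (g V h2) dom1) dom1 [11, 14, 15, 16, 17, 18] nodes1 1 (R1 ++ N2) kc1 :=
  have := fin1 V h2
  cert_of (L1 V h2) (card1 V h2).le (A1 V h2) (Qs := Qs1) (List.forall_mem_cons.2 ⟨AQ1_1 V h2, List.forall_mem_nil _⟩) hr1 hc1 la1 lb1 hk1 (allR dn1 na1) (allR dn1 nb1) lo1 do1 hkc1

end

def dom2 : List ℕ := [11, 14, 15, 16, 17, 18]

noncomputable def us2 : List (List ℕ) :=
  [[nat_lit 28, nat_lit 30], (unp (nat_lit 6) (nat_lit 0x1e7655dd7d607)), [nat_lit 38, nat_lit 38], (unp (nat_lit 6) (nat_lit 0x289e803)), (unp (nat_lit 6) (nat_lit 0x279a6a289a79e709)), (unp (nat_lit 6) (nat_lit 0x2aaa9a69a6a07)), (unp (nat_lit 6) (nat_lit 0x2aa6a03)), (unp (nat_lit 6) (nat_lit 0xb2caebb2c06)), (unp (nat_lit 6) (nat_lit 0xb6baecb2cb2b08)), (unp (nat_lit 6) (nat_lit 0x2bb6caebaedb2c09)), (unp (nat_lit 6) (nat_lit 0x2db2baedb2caeb09)), (unp (nat_lit 6) (nat_lit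 0x2ec30baf05))]

noncomputable def lc2 : List ℕ :=
  [one,
  one,
  one,
  one,
  one,
  one,
  one,
  one,
  one,
  one,
  one,
  one,
  one,
  one,
  one,
  one,
  one,
  one,
  one,
  one,
  one,
  one,
  nthD one bc (nat_lit 22),
  nthD one bc (nat_lit 23),
  one,
  one,
  one,
  one,
  nthD one bc (nat_lit 28),
  nthD one bc (nat_lit 29),
  nthD one bc (nat_lit 30),
  nthD one bc (nat_lit 31),
  nthD one bc (nat_lit 32),
  nthD one bc (nat_lit 33),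
  nthD one bc (nat_lit 34),
  nthD one bc (nat_lit 35),
  nthD one bc (nat_lit 36),
  nthD one bc (nat_lit 37),
  (nat_lit 0x8002462a85f451d0200522785ef6133f253c),
  (nat_lit 0x8001412b96bf6af79b4c65bb6785f01d222e),
  (nat_lit 0x8007692086b630a0521aa54d7ef4583b9664),
  (nat_lit 0x8001ed2557ef5a90b83bc03353c5193646fc),
  (nat_lit 0x8004937820681c352b6a63ac24c6207ef141),
  (nat_lit 0x8005a91522272ae0020a13e33b92f0168063),
  (nat_lit 0x8000e404e45713b2f40ae38a1266206dc3ef),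
  (nat_lit 0x80065b4052782eb5b37e912d4c65f0063503),
  (nat_lit 0x80040069c2ce22771252b2495035f125b49d),
  (nat_lit 0x8005e77010a14fd23a6bc28a0e860350337c),
  (nat_lit 0x80054104013d3bc4cf5056af2387b70e9554),
  (nat_lit 0x8005414e632e2084cf56c0734e4603080747)]

noncomputable def v2_0 : VL :=
  ⟨(nat_lit 553), [[nat_lit 22], [nat_lit 28], [nat_lit 30], [nat_lit 32], [nat_lit 34], [nat_lit 36]], nat_lit 3, [(nat_lit 0x2074060c02881b02011a004a201440c92a)], nat_lit 5, nat_lit 23⟩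

noncomputable def v2_1 : VL :=
  ⟨(nat_lit 1177), [(unp (nat_lit 6) (nat_lit 0x289e79a9a69a70bf10b)), (unp (nat_lit 6) (nat_lit 0x28a279a9b2bbb109))], nat_lit 2, [(nat_lit 0x808266821602180286526)], nat_lit 5, nat_lit 22⟩

noncomputable def v2_2 : VL :=
  ⟨(nat_lit 4), [(unp (nat_lit 6) (nat_lit 0x9e89e79aab2ebef0a)), (unp (nat_lit 6) (nat_lit 0x9a79e7a69a6bbf00a))], nat_lit 2, [(nat_lit 0x980860560180a0185524)], nat_lit 5, nat_lit 21⟩

noncomputable def v2_3 : VL :=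
  ⟨(nat_lit 179), [(unp (nat_lit 6) (nat_lit 0x269e79a9a6aaacb30c2e0d)), (unp (nat_lit 6) (nat_lit 0xa26a69a6baf108))], nat_lit 2, [(nat_lit 0x80218166001809609924)], nat_lit 5, nat_lit 20⟩

noncomputable def v2_4 : VL :=
  ⟨(nat_lit 1610), [(unp (nat_lit 6) (nat_lit 0x289a79e6a69a69a6cb6bbafbf111)), (unp (nat_lit 6) (nat_lit 0x289e6aa9aa9a6daef0b)), (unp (nat_lit 6) (nat_lit 0x2aa69a6bb2cc30bf10b))], nat_lit 2, [(nat_lit 0x2c280ca700b1c070d80b1600b0a029c0c70c680c2870e55b)], nat_lit 6, nat_lit 48⟩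

noncomputable def vl2 : List VL :=
  [v2_0, v2_1, v2_2, v2_3, v2_4]

theorem lco2 : lcOk mul one bc lc2 dom2 (2 * 19) us2 50 = true := by decide +kernel

theorem rc2_0 : rng (fun i => relC mul one bc (2 * 19) (nthD ([], nat_lit 0) N2 i)) (nat_lit 0) (nat_lit 8) = true := by decide +kernel

theorem sm1 : Nat.beq ((kc1.map Prod.snd).sum * 443520) 10200960 = true := by decide +kernel

theorem vc2 : vchainOk (app 12 1) (wfT 12 1) mul one lc2 [] vl2 = true := by decide +kernel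

theorem vf2 : band (allL (fun i => memL i dom2) dom99) (VCod.fixD (app 12 1) (wfT 12 1) one bc dom99 vl2) = true := by decide +kernel

theorem vp2 : (vl2.map VL.d).prod * 1 = 10200960 := by decide +kernel

theorem rd2 : allL (fun r => allL (fun l => memL (Nat.shiftRight l (nat_lit 1)) dom2) r.1) (R1 ++ N2) = true := by decide +kernel

theorem rc2 : ∀ i < 8, (fun i => relC mul one bc (2 * 19) (nthD ([], nat_lit 0) N2 i)) i = true :=
  (rng_add rng_zero rc2_0)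

section
universe u v
variable {R : Type v} {ι : Type} [CommRing R] [Fintype ι] [DecidableEq ι] (V : VCod R ι 12 12 app wfT) (h2 : V.mat one = 1)

theorem L2 : Lc ((S V h2).sub (mdl (g V h2) dom2)) (mgen (g V h2) dom2) lc2 dom2 (2 * 19) us2 50 :=
  lc_of (S V h2) (h0 V h2) bco lco2

theorem rel2 : Rels R2 (g V h2) := (rel1 V h2).append ((S V h2).rels (h0 V h2) bco (allR Nn2 rc2))

theorem le2 : Finite (mdl (g V h2) dom2) ∧ Nat.card (mdl (g V h2) dom2) ≤ 10200960 :=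
  have := fin1 V h2
  step_le (C1 V h2) (U1 V h2) (rel2 V h2) (card1 V h2) sm1

theorem fin2 : Finite (mdl (g V h2) dom2) := (le2 V h2).1

theorem card2 : Nat.card (mdl (g V h2) dom2) = 10200960 := by
  have : Finite (mdl ((V.sem h1 h2).bg bc) dom2) := fin2 V h2
  have h := V.le_card_mdl h1 h2 (h0 V h2) (L2 V h2).ok vc2 vf2
  exact le_antisymm (le2 V h2).2 (le_trans (vp2.symm.trans (congrArg (HMul.hMul (vl2.map VL.d).prod) (card99 V h2).symm)).le h)

theorem U2 : UP.{0} (mgen (g V h2) dom2) dom2 R2 :=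
  have := fin1 V h2
  step_up (C1 V h2) (U1 V h2) (rel2 V h2) (card1 V h2) sm1 (card2 V h2) rd2

end

noncomputable def N3 : List (List ℕ × ℕ) :=
  [([nat_lit 20], nat_lit 2),
  ((unp (nat_lit 6) (nat_lit 0x75756251671708)), nat_lit 1),
  ((unp (nat_lit 5) (nat_lit 0x2f5f5e9e06)), nat_lit 1),
  ((unp (nat_lit 6) (nat_lit 0x75459485751f08)), nat_lit 1),
  ((unp (nat_lit 5) (nat_lit 0xadab6adab7adab7adab7adeb6a5a97a5a96a5e96a5e97a5a96a5e97a5e97a5e8134)), nat_lit 1),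
  ((unp (nat_lit 5) (nat_lit 0x2d5bd6d5bd6f5bd6f5b56f4bd2d4b52d4bd2f4b52f4bd2f4b52f4b52f4b52e332)), nat_lit 1),
  ((unp (nat_lit 5) (nat_lit 0x2f5b56f5b56f5b56d5bd6f5b56d4b52d4bd2f4b52f4b52d4b52f4bd2d4bd2f4bd2c536)), nat_lit 1),
  ((unp (nat_lit 5) (nat_lit 0xadab6adeb7adab7ada96a5a96a5e97a5e97a5e96a5a97a5e96a5a96a5e8730)), nat_lit 1),
  ((unp (nat_lit 5) (nat_lit 0x16adeb6adeb6adeb6ada96a5e97a5a96a5e96a5a96a5e96a5e97a5a97a5a8931)), nat_lit 1),
  ((unp (nat_lit 5) (nat_lit 0x16a5e96a5a96a5a96a5e97a5a97a5a97a5a97a5a8b21)), nat_lit 1),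
  ((unp (nat_lit 5) (nat_lit 0x15b56d5bd6d5bd6f5b56d5b56d4bd2f4b52d4b52f4b52f4b52d4b52d4bd2f4bd2cd35)), nat_lit 1),
  ((unp (nat_lit 5) (nat_lit 0x56d5b56d5bd6d5bd6f5b56d4bd2f4b52f4b52f4bd2f4bd2d4bd2f4bd2d4b52cf33)), nat_lit 1)]

noncomputable def R3 : List (List ℕ × ℕ) :=
  R2 ++ N3

noncomputable def n2_22 : Net :=
  mkNet (nat_lit 6) (nat_lit 23) (nat_lit 0x5400606000024000000600000c0000f800283819811011155)

noncomputable def n2_28 : Net :=
  mkNet (nat_lit 6) (nat_lit 23) (nat_lit 0x450542240000020000002700004e00019c00280001010844050)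

noncomputable def n2_30 : Net :=
  mkNet (nat_lit 6) (nat_lit 23) (nat_lit 0x441402646040030200000a00003c00001418200009990855145)

noncomputable def n2_32 : Net :=
  mkNet (nat_lit 6) (nat_lit 23) (nat_lit 0x1555000402000400000000b00007600011418280c01011041101)

noncomputable def n2_34 : Net :=
  mkNet (nat_lit 6) (nat_lit 23) (nat_lit 0x404112262201430000000200005400007a10203c09008844400)

noncomputable def n2_36 : Net :=
  mkNet (nat_lit 6) (nat_lit 23) (nat_lit 0x410010404201020200000600001c00002a04282088808005040)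

noncomputable def n2_38 : Net :=
  mkNet (nat_lit 6) (nat_lit 23) (nat_lit 0x1544042404001810000000300001e0000cc10281899909005400)

noncomputable def n2_39 : Net :=
  mkNet (nat_lit 6) (nat_lit 23) (nat_lit 0x1410112604000038200003400006900002214343011818150411)

noncomputable def n2_40 : Net :=
  mkNet (nat_lit 6) (nat_lit 23) (nat_lit 0x1040542000441c1c000002480005f00008614140819001041450)

noncomputable def n2_41 : Net :=
  mkNet (nat_lit 6) (nat_lit 23) (nat_lit 0x155100660440024200000080004b00003a0c003011101000514)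

noncomputable def n2_42 : Net :=
  mkNet (nat_lit 6) (nat_lit 23) (nat_lit 0x400540660200008200002100005a0001ec183c3098188054410)

noncomputable def n2_43 : Net :=
  mkNet (nat_lit 6) (nat_lit 23) (nat_lit 0x1441042020400010000000d00003e00017c00201088088005444)

noncomputable def n2_44 : Net :=
  mkNet (nat_lit 6) (nat_lit 23) (nat_lit 0x114102004041830000002d80005b00011204000888981100010)

noncomputable def n2_45 : Net :=
  mkNet (nat_lit 6) (nat_lit 23) (nat_lit 0x105000040040002800000080000380001e00c182080110140150)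

noncomputable def n2_46 : Net :=
  mkNet (nat_lit 6) (nat_lit 23) (nat_lit 0x115000206000410200002100005a00002410042081908011500)

noncomputable def n2_47 : Net :=
  mkNet (nat_lit 6) (nat_lit 23) (nat_lit 0x141100060000008200000100003a00006418082009080110540)

noncomputable def n2_48 : Net :=
  mkNet (nat_lit 6) (nat_lit 23) (nat_lit 0x140010026000000020000288000590000020c242009910154010)

noncomputable def n2_49 : Net :=
  mkNet (nat_lit 6) (nat_lit 23) (nat_lit 0x505000222000010200001f00007e0000ac081c2081800050500)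

noncomputable def n2 : List Net :=
  [Net.nil, Net.nil, Net.nil, Net.nil, Net.nil, Net.nil, Net.nil, Net.nil, Net.nil, Net.nil, Net.nil, Net.nil, Net.nil, Net.nil, Net.nil, Net.nil, Net.nil, Net.nil, Net.nil, Net.nil, Net.nil, Net.nil, n2_22, rv n2_22, Net.nil, Net.nil, Net.nil, Net.nil, n2_28, rv n2_28, n2_30, rv n2_30, n2_32, rv n2_32, n2_34, rv n2_34, n2_36, rv n2_36, n2_38, n2_39, n2_40, n2_41, n2_42, n2_43, n2_44, n2_45, n2_46, n2_47, n2_48, n2_49]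

def nodes2 : List ℕ := [20]

def sb2 : List (ℕ × ℕ × ℕ) := [(21, 27, 0), (0, 31, 0), (1, 31, 0), (2, 32, 0), (3, 32, 0), (4, 33, 0), (5, 33, 0), (6, 34, 0), (7, 34, 0), (8, 35, 0), (9, 35, 0), (10, 36, 0), (11, 36, 0), (12, 37, 0), (13, 37, 0), (14, 38, 0), (15, 38, 0)]

noncomputable def rs2 : List (ℕ × ℕ × List (ℕ × ℕ)) :=
  [(nat_lit 27, nat_lit 0, [(nat_lit 1, (nat_lit 0x800400200100080040020010008004002001)), (nat_lit 1, (nat_lit 0x800400200100080040020010008004002001))]),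
  (nat_lit 28, nat_lit 6, [(nat_lit 1, (nat_lit 0x80049d7124e625928963830a51a2295f4068)), (nat_lit 1, (nat_lit 0x8005121a411e0402c82b51c13ac00412e001))]),
  (nat_lit 29, nat_lit 5, [(nat_lit 1, (nat_lit 0x8002597120681c12ab1800476b6229023098)), (nat_lit 1, (nat_lit 0x8002597120681c12ab1800476b6229023098))]),
  (nat_lit 30, nat_lit 7, [(nat_lit 1, (nat_lit 0x80022700252502e6784050a11e75f11d23f3)), (nat_lit 1, (nat_lit 0x8001005ef6b61a47a23d163b4005bf42523a)), (nat_lit 1, (nat_lit 0x8004e35a83f20e86dc72b02e4024582d8624))])]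

noncomputable def T2_0 : Tr :=
  (.nd (nat_lit 21) (.nd (nat_lit 10) (.nd (nat_lit 5) (.nd (nat_lit 2) (.nd (nat_lit 1) (.lf ⟨nat_lit 0, nat_lit 0, nat_lit 0, one, one, one, .triv⟩)
 (.lf ⟨nat_lit 0, nat_lit 0, nat_lit 0, one, one, one, .triv⟩))
 (.nd (nat_lit 3) (.lf ⟨nat_lit 1, nat_lit 1, nat_lit 0, (nat_lit 0x80049d7124e625928963830a51a2295f4068), (nat_lit 0x8004e33ef2592c80802953971e700412d001), one, (.wt (nat_lit 1) (nat_lit 0) one (.sp .nil) [] [])⟩)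
 (.nd (nat_lit 4) (.lf ⟨nat_lit 0, nat_lit 1, nat_lit 1, (nat_lit 0x80049d7124e625928963830a51a2295f4068), one, (nat_lit 0x8004e33ef2592c80802953971e700412d001), (.we (nat_lit 0) (nat_lit 1) (nat_lit 0x80049d7124e625928963830a51a2295f4068) (.st (nat_lit 2) [] [] (.sp .nil)))⟩)
 (.lf ⟨nat_lit 0, nat_lit 1, nat_lit 1, (nat_lit 0x8002951975a83e30393a731a39f4587b01ab), one, (nat_lit 0x8005121a411e0402c82b51c13ac00412e001), (.prod [nat_lit 3, nat_lit 3])⟩))))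
 (.nd (nat_lit 7) (.nd (nat_lit 6) (.lf ⟨nat_lit 0, nat_lit 1, nat_lit 1, (nat_lit 0x8002951975a83e30393a731a39f4587b01ab), one, (nat_lit 0x8005121a411e0402c82b51c13ac00412e001), (.prod [nat_lit 3, nat_lit 3])⟩)
 (.lf ⟨nat_lit 1, nat_lit 1, nat_lit 0, (nat_lit 0x8005121a411e0402c82b51c13ac00412e001), (nat_lit 0x8002951975a83e30393a731a39f4587b01ab), one, (.wt (nat_lit 1) (nat_lit 1) one (.sp .nil) [] [])⟩))
 (.nd (nat_lit 8) (.lf ⟨nat_lit 0, nat_lit 1, nat_lit 1, (nat_lit 0x8005121a411e0402c82b51c13ac00412e001), one, (nat_lit 0x8002951975a83e30393a731a39f4587b01ab), (.we (nat_lit 0) (nat_lit 1) (nat_lit 0x8005121a411e0402c82b51c13ac00412e001) (.st (nat_lit 6) [] [] (.sp .nil)))⟩)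
 (.nd (nat_lit 9) (.lf ⟨nat_lit 0, nat_lit 1, nat_lit 1, (nat_lit 0x80073a54740510024946e23874f0bc5f43d1), one, (nat_lit 0x8004f359e0801d23e349d6857964580631ab), (.prod [nat_lit 3, nat_lit 7])⟩)
 (.lf ⟨nat_lit 0, nat_lit 1, nat_lit 1, (nat_lit 0x8000201b45551a80d93643f93bc5b769c168), one, (nat_lit 0x8003971b46c50391d273a7d93bc4586781ab), (.prod [nat_lit 4, nat_lit 7])⟩)))))
 (.nd (nat_lit 15) (.nd (nat_lit 12) (.nd (nat_lit 11) (.lf ⟨nat_lit 0, nat_lit 1, nat_lit 1, (nat_lit 0x8004e33ef2592c80802953971e700412d001), one, (nat_lit 0x80049d7124e625928963830a51a2295f4068), (.prod [nat_lit 7, nat_lit 7])⟩)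
 (.lf ⟨nat_lit 0, nat_lit 1, nat_lit 1, (nat_lit 0x80045e7ef51711e0c17e917c5e709c5f43f2), one, (nat_lit 0x8007e97b33e32d82594005125bb229585068), (.prod [nat_lit 8, nat_lit 7])⟩))
 (.nd (nat_lit 13) (.lf ⟨nat_lit 0, nat_lit 1, nat_lit 1, (nat_lit 0x8007e97b33e32d82594005125bb229585068), one, (nat_lit 0x80045e7ef51711e0c17e917c5e709c5f43f2), (.prod [nat_lit 10, nat_lit 3])⟩)
 (.nd (nat_lit 14) (.lf ⟨nat_lit 0, nat_lit 1, nat_lit 1, (nat_lit 0x8007d932e4c452b0b84f346e1266607b03e2), one, (nat_lit 0x80046e7b30473d711e4e34005bb09c4773f2), (.prod [nat_lit 11, nat_lit 3])⟩)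
 (.lf ⟨nat_lit 0, nat_lit 1, nat_lit 1, (nat_lit 0x8004e33ef2592c80802953971e700412d001), one, (nat_lit 0x80049d7124e625928963830a51a2295f4068), (.inv (nat_lit 7))⟩))))
 (.nd (nat_lit 18) (.nd (nat_lit 16) (.lf ⟨nat_lit 0, nat_lit 1, nat_lit 1, (nat_lit 0x8005c137c4e40c13d730a73a17409c2713f2), one, (nat_lit 0x8002383ed76953c4c154c17c1e551907356d), (.prod (unp (nat_lit 4) (nat_lit 0xe3703)))⟩)
 (.nd (nat_lit 17) (.lf ⟨nat_lit 0, nat_lit 1, nat_lit 1, (nat_lit 0x8001c11975410e42ab49d56c39f6137692cf), one, (nat_lit 0x8006381a43b959d6a856c3643ac0a55ef54d), (.prod [nat_lit 15, nat_lit 15])⟩)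
 (.lf ⟨nat_lit 0, nat_lit 1, nat_lit 1, (nat_lit 0x8007e97b33e32d82594005125bb229585068), one, (nat_lit 0x80045e7ef51711e0c17e917c5e709c5f43f2), (.inv (nat_lit 9))⟩)))
 (.nd (nat_lit 19) (.lf ⟨nat_lit 0, nat_lit 1, nat_lit 1, (nat_lit 0x80063819725b4c415236429539f2f00735f5), one, (nat_lit 0x8001c12ae3d72f965b56c3640a64cb27854d), (.prod (unp (nat_lit 5) (nat_lit 0x446803)))⟩)
 (.nd (nat_lit 20) (.lf ⟨nat_lit 0, nat_lit 1, nat_lit 1, (nat_lit 0x80040020023a0633b90207e900873e4c17d8), one, (nat_lit 0x80040019766407302e0207e939f499766001), (.prod [nat_lit 15, nat_lit 18])⟩)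
 (.lf ⟨nat_lit 0, nat_lit 1, nat_lit 1, (nat_lit 0x80023837c0c440202e4f373a1740bc1a80e8), one, (nat_lit 0x8005c10890632ab45c54c68528161308056d), (.prod [nat_lit 16, nat_lit 18])⟩))))))
 (.nd (nat_lit 32) (.nd (nat_lit 26) (.nd (nat_lit 23) (.nd (nat_lit 22) (.lf ⟨nat_lit 0, nat_lit 1, nat_lit 1, (nat_lit 0x8003f920076664b2787d97e900845a66456d), one, (nat_lit 0x8003f97124022a809302001051a73e2f9001), (.prod [nat_lit 18, nat_lit 15])⟩)
 (.lf ⟨nat_lit 0, nat_lit 1, nat_lit 1, (nat_lit 0x80023837c06959d5ef4f30c31742296fc3e2), one, (nat_lit 0x8005c17b324b27815e54c17c5bb6032a856d), (.prod [nat_lit 21, nat_lit 15])⟩))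
 (.nd (nat_lit 24) (.lf ⟨nat_lit 0, nat_lit 1, nat_lit 1, (nat_lit 0x8000201b45551a80d93643f93bc5b769c168), one, (nat_lit 0x8003971b46c50391d273a7d93bc4586781ab), (.inv (nat_lit 12))⟩)
 (.nd (nat_lit 25) (.lf ⟨nat_lit 0, nat_lit 1, nat_lit 1, (nat_lit 0x8005c137c44915e1ef30a0c31745f0525701), one, (nat_lit 0x80023832e5415ef1c354c6851262f025b56d), (.inv (nat_lit 18))⟩)
 (.lf ⟨nat_lit 0, nat_lit 1, nat_lit 1, (nat_lit 0x8002b51971693904777e95c139f73e0983e2), one, (nat_lit 0x8006853ed3d77474cf56c30a1e505853c54d), (.prod (unp (nat_lit 5) (nat_lit 0xc5ced04)))⟩))))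
 (.nd (nat_lit 29) (.nd (nat_lit 27) (.lf ⟨nat_lit 0, nat_lit 1, nat_lit 1, (nat_lit 0x8004f337c28a6af0ae2387d917445a5ce068), one, (nat_lit 0x80073a22e0912594c154c4e302662028956d), (.prod [nat_lit 25, nat_lit 25])⟩)
 (.nd (nat_lit 28) (.lf ⟨nat_lit 0, nat_lit 1, nat_lit 1, (nat_lit 0x80073a54740510024946e23874f0bc5f43d1), one, (nat_lit 0x8004f359e0801d23e349d6857964580631ab), (.prod [nat_lit 3, nat_lit 7])⟩)
 (.lf ⟨nat_lit 0, nat_lit 1, nat_lit 1, (nat_lit 0x8006852ae52b2892d823845e0a6229019068), one, (nat_lit 0x8002b522e7000470e40c32eb02661369f2cf), (.prod [nat_lit 7, nat_lit 3])⟩)))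
 (.nd (nat_lit 30) (.lf ⟨nat_lit 0, nat_lit 1, nat_lit 1, (nat_lit 0x8004e33ef2592c80802953971e700412d001), one, (nat_lit 0x80049d7124e625928963830a51a2295f4068), (.prod [nat_lit 7, nat_lit 7])⟩)
 (.nd (nat_lit 31) (.lf ⟨nat_lit 0, nat_lit 1, nat_lit 1, (nat_lit 0x8002b55476dc4e60e92eb73a74f0587b0046), one, (nat_lit 0x80068572b2c82ab04745e5c15236133392cf), (.prod [nat_lit 27, nat_lit 3])⟩)
 (.lf ⟨nat_lit 0, nat_lit 1, nat_lit 1, (nat_lit 0x8003971b46c50391d273a7d93bc4586781ab), one, (nat_lit 0x8000201b45551a80d93643f93bc5b769c168), (.prod [nat_lit 28, nat_lit 3])⟩)))))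
 (.nd (nat_lit 37) (.nd (nat_lit 34) (.nd (nat_lit 33) (.lf ⟨nat_lit 0, nat_lit 1, nat_lit 1, (nat_lit 0x8007e97b33e32d82594005125bb229585068), one, (nat_lit 0x80045e7ef51711e0c17e917c5e709c5f43f2), (.prod [nat_lit 29, nat_lit 3])⟩)
 (.lf ⟨nat_lit 0, nat_lit 1, nat_lit 1, (nat_lit 0x80001022e63b0d937945e54c0265b76a6168), one, (nat_lit 0x8003a72ae1ed6732f43f956c0a662043c5a9), (.prod [nat_lit 31, nat_lit 7])⟩))
 (.nd (nat_lit 35) (.lf ⟨nat_lit 0, nat_lit 1, nat_lit 1, (nat_lit 0x80049d7124e625928963830a51a2295f4068), one, (nat_lit 0x8004e33ef2592c80802953971e700412d001), (.inv (nat_lit 5))⟩)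
 (.nd (nat_lit 36) (.lf ⟨nat_lit 0, nat_lit 1, nat_lit 1, (nat_lit 0x8006381a43b959d6a856c3643ac0a55ef54d), one, (nat_lit 0x8001c11975410e42ab49d56c39f6137692cf), (.prod (unp (nat_lit 6) (nat_lit 0x221c503)))⟩)
 (.lf ⟨nat_lit 0, nat_lit 1, nat_lit 1, (nat_lit 0x8002383ed76953c4c154c17c1e551907356d), one, (nat_lit 0x8005c137c4e40c13d730a73a17409c2713f2), (.prod [nat_lit 35, nat_lit 35])⟩))))
 (.nd (nat_lit 40) (.nd (nat_lit 38) (.lf ⟨nat_lit 0, nat_lit 1, nat_lit 1, (nat_lit 0x80073a2476aa27a4255c146e04f603227391), one, (nat_lit 0x8004f31d743a24914117c49d3df0bc26c3d1), (.inv (nat_lit 30))⟩)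
 (.nd (nat_lit 39) (.lf ⟨nat_lit 0, nat_lit 1, nat_lit 1, (nat_lit 0x80017c32e4fd5bc11e56c4f31265995ef54d), one, (nat_lit 0x80054c1977a24c46e20105c139f4991aa0e8), (.prod (unp (nat_lit 6) (nat_lit 0x251dc03)))⟩)
 (.lf ⟨nat_lit 0, nat_lit 1, nat_lit 1, (nat_lit 0x8003977ef6b60a10930200c35e7519023001), one, (nat_lit 0x8000202003e32ce40940049d00860324c068), (.prod [nat_lit 36, nat_lit 38])⟩)))
 (.nd (nat_lit 41) (.lf ⟨nat_lit 0, nat_lit 1, nat_lit 1, (nat_lit 0x80001019754151d63b54c3a739f59907356d), one, (nat_lit 0x8003a737c60759d1ed56c4001745195ce54d), (.prod [nat_lit 38, nat_lit 35])⟩)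
 (.nd (nat_lit 42) (.lf ⟨nat_lit 0, nat_lit 1, nat_lit 1, (nat_lit 0x8003a737c60759d1ed56c4001745195ce54d), one, (nat_lit 0x80001019754151d63b54c3a739f59907356d), (.prod [nat_lit 39, nat_lit 38])⟩)
 (.lf ⟨nat_lit 0, nat_lit 1, nat_lit 1, (nat_lit 0x80046e7b30473d711e4e34005bb09c4773f2), one, (nat_lit 0x8007d932e4c452b0b84f346e1266607b03e2), (.inv (nat_lit 33))⟩)))))))

noncomputable def T2_43 : Tr :=
  (.nd (nat_lit 65) (.nd (nat_lit 54) (.nd (nat_lit 48) (.nd (nat_lit 45) (.nd (nat_lit 44) (.lf ⟨nat_lit 0, nat_lit 1, nat_lit 1, (nat_lit 0x8003a737c60759d1ed56c4001745195ce54d), one, (nat_lit 0x80001019754151d63b54c3a739f59907356d), (.inv (nat_lit 40))⟩)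
 (.lf ⟨nat_lit 0, nat_lit 1, nat_lit 1, (nat_lit 0x80073a22e0912594c154c4e302662028956d), one, (nat_lit 0x8004f337c28a6af0ae2387d917445a5ce068), (.prod (unp (nat_lit 6) (nat_lit 0xaea0e004)))⟩))
 (.nd (nat_lit 46) (.lf ⟨nat_lit 0, nat_lit 1, nat_lit 1, (nat_lit 0x8006853ed3d77474cf56c30a1e505853c54d), one, (nat_lit 0x8002b51971693904777e95c139f73e0983e2), (.prod [nat_lit 44, nat_lit 44])⟩)
 (.nd (nat_lit 47) (.lf ⟨nat_lit 1, nat_lit 1, nat_lit 0, (nat_lit 0x8002597120681c12ab1800476b6229023098), (nat_lit 0x8002271a452550523a7d91e74e35f154129a), one, (.wt (nat_lit 2) (nat_lit 0) one (.sp .nil) [] [])⟩)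
 (.lf ⟨nat_lit 0, nat_lit 1, nat_lit 1, (nat_lit 0x8002597120681c12ab1800476b6229023098), one, (nat_lit 0x8002271a452550523a7d91e74e35f154129a), (.we (nat_lit 0) (nat_lit 1) (nat_lit 0x8002597120681c12ab1800476b6229023098) (.st (nat_lit 46) [] [] (.sp .nil)))⟩))))
 (.nd (nat_lit 51) (.nd (nat_lit 49) (.lf ⟨nat_lit 0, nat_lit 1, nat_lit 1, (nat_lit 0x80011e7ef3f20103790911a85ef09c3b90b8), one, (nat_lit 0x80069f2ae40223a2ce1c15bb7e95f129a6af), (.prod [nat_lit 47, nat_lit 14])⟩)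
 (.nd (nat_lit 50) (.lf ⟨nat_lit 0, nat_lit 1, nat_lit 1, (nat_lit 0x80033932e3f52a765b04f26c12e45a69c617), one, (nat_lit 0x8004c637c73a2893f224b55563b5bf23a525), (.prod [nat_lit 20, nat_lit 48])⟩)
 (.lf ⟨nat_lit 0, nat_lit 1, nat_lit 1, (nat_lit 0x80040020023a0633b90207e900873e4c17d8), one, (nat_lit 0x80040019766407302e0207e939f499766001), (.inv (nat_lit 19))⟩)))
 (.nd (nat_lit 52) (.lf ⟨nat_lit 0, nat_lit 1, nat_lit 1, (nat_lit 0x80051d3ed2b93d125b2a86af1ed4cb5f4517), one, (nat_lit 0x8006aa7b32893f54c45410336075991e56dc), (.prod (unp (nat_lit 6) (nat_lit 0x32c0f03)))⟩)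
 (.nd (nat_lit 53) (.lf ⟨nat_lit 0, nat_lit 1, nat_lit 1, (nat_lit 0x8005e73ef6b042a7693913391ef09c493782), one, (nat_lit 0x8001a92080985f453c6382d83bc2f02cf5a5), (.prod [nat_lit 25, nat_lit 51])⟩)
 (.lf ⟨nat_lit 0, nat_lit 1, nat_lit 1, (nat_lit 0x80007322e42524c1ab60779602e5f06fc11e), one, (nat_lit 0x80010008951a39f7473793e313d45849d0e4), (.prod [nat_lit 26, nat_lit 51])⟩)))))
 (.nd (nat_lit 59) (.nd (nat_lit 56) (.nd (nat_lit 55) (.lf ⟨nat_lit 0, nat_lit 1, nat_lit 1, (nat_lit 0x80015e7b305213a0c46710806245b712d259), one, (nat_lit 0x80039a7ef0020c15554d06175415b7026457), (.prod [nat_lit 51, nat_lit 25])⟩)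
 (.lf ⟨nat_lit 0, nat_lit 1, nat_lit 1, (nat_lit 0x80079672b29a65b1a854d2ab6bc2f079e143), one, (nat_lit 0x8005542085a80e42892eb28a0a66031a926c), (.prod [nat_lit 52, nat_lit 25])⟩))
 (.nd (nat_lit 57) (.lf ⟨nat_lit 0, nat_lit 1, nat_lit 1, (nat_lit 0x8000ae7b31263ac04013d1a945e05808026c), one, (nat_lit 0x8004e61b45c13f92cf26c6b60235f04251d2), (.prod [nat_lit 52, nat_lit 51])⟩)
 (.nd (nat_lit 58) (.lf ⟨nat_lit 0, nat_lit 1, nat_lit 1, (nat_lit 0x8006bf1976694902ce2d800827a22965b4c4), one, (nat_lit 0x80028932e3f225b5f44570732b945a02e7e9), (.prod [nat_lit 53, nat_lit 51])⟩)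
 (.lf ⟨nat_lit 0, nat_lit 1, nat_lit 1, (nat_lit 0x8004f337c28a6af0ae2387d917445a5ce068), one, (nat_lit 0x80073a22e0912594c154c4e302662028956d), (.inv (nat_lit 25))⟩))))
 (.nd (nat_lit 62) (.nd (nat_lit 60) (.lf ⟨nat_lit 0, nat_lit 1, nat_lit 1, (nat_lit 0x80067119728a6176bf1e50464d073e238069), one, (nat_lit 0x8000fd2ae00802e1687a224937962025545c), (.prod (unp (nat_lit 6) (nat_lit 0x3acf603)))⟩)
 (.nd (nat_lit 61) (.lf ⟨nat_lit 0, nat_lit 1, nat_lit 1, (nat_lit 0x8001aa1b43a75ce0ae5a94e40104cb04f409), one, (nat_lit 0x8001d23ef1ed1ab3bc78238a4fd66051d2b9), (.inv (nat_lit 57))⟩)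
 (.lf ⟨nat_lit 0, nat_lit 1, nat_lit 1, (nat_lit 0x80024b22e0c345e54d0d965b5055f01ef1d2), one, (nat_lit 0x8004c171228150351d3d70105555f16693b9), (.prod (unp (nat_lit 6) (nat_lit 0x3c67703)))⟩)))
 (.nd (nat_lit 63) (.lf ⟨nat_lit 0, nat_lit 1, nat_lit 1, (nat_lit 0x8001a91a42f915e1c345779e3ac5f027805c), one, (nat_lit 0x8005e72476dc6fc3b91802491a80043bc046), (.prod [nat_lit 61, nat_lit 59])⟩)
 (.nd (nat_lit 64) (.lf ⟨nat_lit 0, nat_lit 1, nat_lit 1, (nat_lit 0x8001c12464255a50735e72eb7015f025b517), one, (nat_lit 0x8006383ef4053a70460264e34fd62023a51d), (.prod [nat_lit 62, nat_lit 59])⟩)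
 (.lf ⟨nat_lit 0, nat_lit 1, nat_lit 1, (nat_lit 0x80063b20812e79e1a81c30e43bc09c2eb664), one, (nat_lit 0x8005f41d74000c45a513a3ac3f945a0a113d), (.inv (nat_lit 53))⟩))))))
 (.nd (nat_lit 76) (.nd (nat_lit 70) (.nd (nat_lit 67) (.nd (nat_lit 66) (.lf ⟨nat_lit 0, nat_lit 1, nat_lit 1, (nat_lit 0x8001a824629a3b42a74d023a56d61345c1d2), one, (nat_lit 0x80049372b37949073a3bc3a44c65f1477278), (.prod (unp (nat_lit 7) (nat_lit 0x100cb803)))⟩)
 (.lf ⟨nat_lit 0, nat_lit 1, nat_lit 1, (nat_lit 0x8004e459e4c154103376923a2b573e0935b3), one, (nat_lit 0x8005ef1d750556c45c43c2d86dc5f11ed11e), (.inv (nat_lit 63))⟩))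
 (.nd (nat_lit 68) (.lf ⟨nat_lit 0, nat_lit 1, nat_lit 1, (nat_lit 0x8001a92470522ab0335ce0ae56c599400259), one, (nat_lit 0x8005e71b40c30c15f44576b631a5f10264d0), (.prod (unp (nat_lit 7) (nat_lit 0x10a0bb03)))⟩)
 (.nd (nat_lit 69) (.lf ⟨nat_lit 0, nat_lit 1, nat_lit 1, (nat_lit 0x80001019754151d63b54c3a739f59907356d), one, (nat_lit 0x8003a737c60759d1ed56c4001745195ce54d), (.inv (nat_lit 41))⟩)
 (.lf ⟨nat_lit 0, nat_lit 1, nat_lit 1, (nat_lit 0x8000931b41683a72f43d768f0230bc1d2069), one, (nat_lit 0x8005a822e6696aa6af73a0a63f95f165b4c4), (.prod (unp (nat_lit 7) (nat_lit 0x11072f03)))⟩))))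
 (.nd (nat_lit 73) (.nd (nat_lit 71) (.lf ⟨nat_lit 0, nat_lit 1, nat_lit 1, (nat_lit 0x8004e632e5415851a93903ac2b92f025902e), one, (nat_lit 0x8000ae37c1262811c364b6712ab60339726c), (.prod [nat_lit 44, nat_lit 69])⟩)
 (.nd (nat_lit 72) (.lf ⟨nat_lit 0, nat_lit 1, nat_lit 1, (nat_lit 0x8002552ae6073bc0e404712d33945843c3f9), one, (nat_lit 0x80022d70b0c124b3f51ed7006dc6205f5523), (.prod [nat_lit 45, nat_lit 69])⟩)
 (.lf ⟨nat_lit 0, nat_lit 1, nat_lit 1, (nat_lit 0x80015e54713a46e3391006af2a85f00634c6), one, (nat_lit 0x80039a1a44057a239045e50330a5f142a6a8), (.prod [nat_lit 69, nat_lit 44])⟩)))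
 (.nd (nat_lit 74) (.lf ⟨nat_lit 0, nat_lit 1, nat_lit 1, (nat_lit 0x80049372b0681ab5036073a426c660766169), one, (nat_lit 0x8001a854712e3b42813d123a4e309c0e905c), (.prod [nat_lit 69, nat_lit 69])⟩)
 (.nd (nat_lit 75) (.lf ⟨nat_lit 0, nat_lit 1, nat_lit 1, (nat_lit 0x80004737c6076bf2cf4053ac4935197471c3), one, (nat_lit 0x8004771971265bb12d3f32a833922917c4c4), (.prod [nat_lit 70, nat_lit 44])⟩)
 (.lf ⟨nat_lit 0, nat_lit 1, nat_lit 1, (nat_lit 0x8003792463662891525f40337015bf58529a), one, (nat_lit 0x8001c337c2f90404f304f2712d85195255b3), (.prod [nat_lit 70, nat_lit 69])⟩)))))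
 (.nd (nat_lit 81) (.nd (nat_lit 78) (.nd (nat_lit 77) (.lf ⟨nat_lit 0, nat_lit 1, nat_lit 1, (nat_lit 0x8001411b44d074f5f45056b665b73e0930c3), one, (nat_lit 0x8004021d76697006243f55053795b71ab1e7), (.prod [nat_lit 71, nat_lit 44])⟩)
 (.lf ⟨nat_lit 0, nat_lit 1, nat_lit 1, (nat_lit 0x80043c2ae39123865b0913e351d09c66950b), one, (nat_lit 0x80043a2470c145c0803643df54c5f127126c), (.inv (nat_lit 75))⟩))
 (.nd (nat_lit 79) (.lf ⟨nat_lit 0, nat_lit 1, nat_lit 1, (nat_lit 0x8000c437c7470ae0b83bc0730935f17a227a), one, (nat_lit 0x80027808912e3b454d7004cf7a2229002638), (.prod (unp (nat_lit 7) (nat_lit 0x13564903)))⟩)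
 (.nd (nat_lit 80) (.lf ⟨nat_lit 0, nat_lit 1, nat_lit 1, (nat_lit 0x8002813ef56c5f446e5a538a25b4992cf638), one, (nat_lit 0x8003f23ed6b079617c5a86bc1c3519701782), (.inv (nat_lit 74))⟩)
 (.lf ⟨nat_lit 0, nat_lit 1, nat_lit 1, (nat_lit 0x8005c12085a50190012382d828162039a098), one, (nat_lit 0x8002387ef0523f502e04e4e62a800467131a), (.prod (unp (nat_lit 7) (nat_lit 0x13e2ca03)))⟩))))
 (.nd (nat_lit 84) (.nd (nat_lit 82) (.lf ⟨nat_lit 0, nat_lit 1, nat_lit 1, (nat_lit 0x8006383ed74f51a2783f53e31c30043d73f2), one, (nat_lit 0x8001c12474c10e43f258562404f6136713d7), (.prod [nat_lit 78, nat_lit 80])⟩)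
 (.nd (nat_lit 83) (.lf ⟨nat_lit 0, nat_lit 1, nat_lit 1, (nat_lit 0x80051a0890206bc2383f32495ce4cb55449d), one, (nat_lit 0x8007d80894c15e72eb39a1ef12d0bc56d664), (.inv (nat_lit 72))⟩)
 (.lf ⟨nat_lit 0, nat_lit 1, nat_lit 1, (nat_lit 0x8006383ed74f51a2783f53e31c30043d73f2), one, (nat_lit 0x8001c12474c10e43f258562404f6136713d7), (.inv (nat_lit 81))⟩)))
 (.nd (nat_lit 85) (.lf ⟨nat_lit 0, nat_lit 1, nat_lit 1, (nat_lit 0x8005e71b40c30c15f44576b631a5f10264d0), one, (nat_lit 0x8001a92470522ab0335ce0ae56c599400259), (.prod (unp (nat_lit 7) (nat_lit 0xa74a2cc04)))⟩)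
 (.nd (nat_lit 86) (.lf ⟨nat_lit 1, nat_lit 1, nat_lit 0, one, one, one, (.wt (nat_lit 0) (nat_lit 0) one (.sp .nil) [] [])⟩)
 (.lf ⟨nat_lit 1, nat_lit 1, nat_lit 1, (nat_lit 0x8005a91522272ae0020a13e33b92f0168063), (nat_lit 0x8000d954c5b30ae3642ab1b40205f12711e7), (nat_lit 0x8001744c131a7301c11ed5ce0c466020854d), (.wt (nat_lit 3) (nat_lit 0) (nat_lit 0x8004c637c73a2893f224b55563b5bf23a525) (.st (nat_lit 85) [nat_lit 49] [] (.sp .nil)) (unp (nat_lit 7) (nat_lit 0x72cddfc305)) [])⟩)))))))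

noncomputable def T2 : Tr :=
  (.nd (nat_lit 43) T2_0
 T2_43)

noncomputable def q2_1_22 : Net :=
  mkNet (nat_lit 6) (nat_lit 23) (nat_lit 0x1441540206000020200001c00007800006804382008189144155)

noncomputable def q2_1_28 : Net :=
  mkNet (nat_lit 6) (nat_lit 23) (nat_lit 0x4000002240140400000208000710000c61c140898890855104)

noncomputable def q2_1_30 : Net :=
  mkNet (nat_lit 6) (nat_lit 23) (nat_lit 0x150412000400000000002900007200002c10101410880015040)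

noncomputable def q2_1_32 : Net :=
  mkNet (nat_lit 6) (nat_lit 23) (nat_lit 0x2240440410000002c80007d0001c208281c88810944150)

noncomputable def q2_1_34 : Net :=
  mkNet (nat_lit 6) (nat_lit 23) (nat_lit 0x1454000660040c00000001000007a0000040c100099011115410)

noncomputable def q2_1_36 : Net :=
  mkNet (nat_lit 6) (nat_lit 23) (nat_lit 0x41450060044000c200002100004e00002808182400898010454)

noncomputable def q2_1_38 : Net :=
  mkNet (nat_lit 6) (nat_lit 23) (nat_lit 0x1000002026000800200002480004b00000010202499918810055)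

noncomputable def q2_1_39 : Net :=
  mkNet (nat_lit 6) (nat_lit 23) (nat_lit 0x505042464200808200003080006900012010180089901951515)

noncomputable def q2_1_40 : Net :=
  mkNet (nat_lit 6) (nat_lit 23) (nat_lit 0x1510140222241030200003480007b00004414280810899810115)

noncomputable def q2_1_41 : Net :=
  mkNet (nat_lit 6) (nat_lit 23) (nat_lit 0x440000204040c28200000200001e00010e00383019001915001)

noncomputable def q2_1_42 : Net :=
  mkNet (nat_lit 6) (nat_lit 23) (nat_lit 0x100400264044140c000000300007600008604001c98199801505)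

noncomputable def q2_1_43 : Net :=
  mkNet (nat_lit 6) (nat_lit 23) (nat_lit 0x115100220020080000000300000640001ec08103090089910401)

noncomputable def q2_1_44 : Net :=
  mkNet (nat_lit 6) (nat_lit 23) (nat_lit 0x1441000206000034200000700001e000112000c1010001114504)

noncomputable def q2_1_45 : Net :=
  mkNet (nat_lit 6) (nat_lit 23) (nat_lit 0x1511440002201c0820000180000780000de18381000101100501)

noncomputable def q2_1_46 : Net :=
  mkNet (nat_lit 6) (nat_lit 23) (nat_lit 0x1001040040000000000000c80001f00012600000411101100104)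

noncomputable def q2_1_47 : Net :=
  mkNet (nat_lit 6) (nat_lit 23) (nat_lit 0x100200400c0c000001c00003c0000b204182010111800010)

noncomputable def q2_1_48 : Net :=
  mkNet (nat_lit 6) (nat_lit 23) (nat_lit 0x1500040400000018000000000001e00008400082408101150104)

noncomputable def q2_1_49 : Net :=
  mkNet (nat_lit 6) (nat_lit 23) (nat_lit 0x440440020640800000001000002c00000800301819890005401)

noncomputable def q2_1 : List Net :=
  [Net.nil, Net.nil, Net.nil, Net.nil, Net.nil, Net.nil, Net.nil, Net.nil, Net.nil, Net.nil, Net.nil, Net.nil, Net.nil, Net.nil, Net.nil, Net.nil, Net.nil, Net.nil, Net.nil, Net.nil, Net.nil, Net.nil, q2_1_22, rv q2_1_22, Net.nil, Net.nil, Net.nil, Net.nil, q2_1_28, rv q2_1_28, q2_1_30, rv q2_1_30, q2_1_32, rv q2_1_32, q2_1_34, rv q2_1_34, q2_1_36, rv q2_1_36, q2_1_38, q2_1_39, q2_1_40, q2_1_41, q2_1_42, q2_1_43, q2_1_44, q2_1_45, q2_1_46, q2_1_47, q2_1_48, q2_1_49]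

noncomputable def Qs2 : List (ℕ × ℕ × List Net) :=
  [(nat_lit 23, nat_lit 6, q2_1)]

noncomputable def ls2 : List Ld :=
  [⟨[(nat_lit 67, (unp (nat_lit 6) (nat_lit 0x2ec3003))), (nat_lit 61, (unp (nat_lit 6) (nat_lit 0x31beebec05))), (nat_lit 59, (unp (nat_lit 6) (nat_lit 0xc71c30b2bb2c08))), (nat_lit 51, (unp (nat_lit 6) (nat_lit 0xc71c2eaaaa6908))), (nat_lit 15, (unp (nat_lit 6) (nat_lit 0xc6bb6ba69a6a9e60a))), (nat_lit 7, [nat_lit 35])], [⟨nat_lit 0, (unp (nat_lit 3) (nat_lit 0x14803)), (nat_lit 0x50c31047c20c40c51040c20840430c5100), nat_lit 22⟩, ⟨nat_lit 1, [nat_lit 0, nat_lit 4], (nat_lit 0x51430c47c51061810841841431821c701f), nat_lit 21⟩, ⟨nat_lit 2, [nat_lit 1, nat_lit 3], (nat_lit 0x31061447c51c30850c40c41421440407df), nat_lit 20⟩, ⟨nat_lit 3, (unp (nat_lit 2) (nat_lit 0x2403)), (nat_lit 0x30df0c37df0810c409f0c208108301f7df), nat_lit 16⟩, ⟨nat_lit 4, [nat_lit 0], (nat_lit 0x1f7df05f7df7df7c27df7df7df7c07df7df),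 nat_lit 3⟩], [[nat_lit 33]], (nat_lit 0xa4885031c53903090912d319604d5443c0)⟩]

noncomputable def lk2 : List (List ℕ) :=
  [[]]

noncomputable def d2_0 : Nd :=
  ⟨nat_lit 1, nat_lit 23, [(nat_lit 84, (unp (nat_lit 6) (nat_lit 0x2ec3003))), (nat_lit 80, (unp (nat_lit 6) (nat_lit 0xbebb6b04))), (nat_lit 78, (unp (nat_lit 6) (nat_lit 0x2ec30b2c05))), (nat_lit 69, (unp (nat_lit 6) (nat_lit 0x30c2bb6caa907))), (nat_lit 35, (unp (nat_lit 6) (nat_lit 0x2ec30b2a9a89e709))), (nat_lit 3, [nat_lit 34])], [⟨nat_lit 0, (unp (nat_lit 3) (nat_lit 0x14803)), (nat_lit 0x51021067c1103145102143103084185100), nat_lit 22⟩, ⟨nat_lit 1, [nat_lit 0, nat_lit 4], (nat_lit 0x51441047c30c518204510414218318701f), nat_lit 21⟩, ⟨nat_lit 2, [nat_lit 1, nat_lit 3], (nat_lit 0x51461067c40831430c50451070861007df), nat_lit 20⟩, ⟨nat_lit 3, (unp (nat_lit 2) (nat_lit 0x2403)), (nat_lit 0x109f0c37df0c20830df0c208404301f7df), nat_lit 16⟩,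 ⟨nat_lit 4, [nat_lit 0], (nat_lit 0x1f7df05f7df7df7c27df7df7df7c07df7df), nat_lit 3⟩],
  [⟨(unp (nat_lit 3) (nat_lit 0x14803)), (nat_lit 0x31020820831401040c10450820430c40c0), [(nat_lit 85, nat_lit 0, []), (nat_lit 86, nat_lit 14, [nat_lit 43])]⟩]⟩

noncomputable def ds2 : List Nd :=
  [d2_0]

noncomputable def ks2 : List ℕ :=
  [nat_lit 1]

def kc2 : List (ℕ × ℕ) := [(0, 1), (1, 23)]

theorem Rn3 : Nat.beq R3.length 39 = true := by decide +kernel

theorem Nn3 : Nat.beq N3.length 12 = true := by decide +kernel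

theorem A2_p : actP 6 23 n2 50 = true := by decide +kernel

theorem A2_l_0 : rng (actL 6 23 n2 dom2 (2 * 19) us2) (nat_lit 0) (nat_lit 50) = true := by decide +kernel

theorem A2_r_0 : rng (fun i => relN 6 23 n2 (2 * 19) (nthD ([], nat_lit 0) R2 i)) (nat_lit 0) (nat_lit 27) = true := by decide +kernel

theorem hr2 : relsOk mul one lc2 dom2 nodes2 1 (2 * 19) R3 sb2 2 rs2 = true := by decide +kernel

theorem hc2_0 : rng (chk mul one wf T2 lc2 (mapR (fun e => e.2.2) rs2) 1) (nat_lit 0) (nat_lit 87) = true := by decide +kernel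

theorem AQ2_1_p : actP 6 23 q2_1 50 = true := by decide +kernel

theorem AQ2_1_l_0 : rng (actL 6 23 q2_1 dom2 (2 * 19) us2) (nat_lit 0) (nat_lit 50) = true := by decide +kernel

theorem AQ2_1_r_0 : rng (fun i => relN 6 23 q2_1 (2 * 19) (nthD ([], nat_lit 0) R2 i)) (nat_lit 0) (nat_lit 27) = true := by decide +kernel

theorem la2 : ldA mul one T2 87 lc2 23 6 n2 ls2 1 = true := by decide +kernel

theorem lb2 : ldB 10200960 Qs2 ls2 1 = true := by decide +kernel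

theorem na2_0 : rng (fun i => ndA mul one T2 87 lc2 23 6 n2 10200960 (nthD ⟨nat_lit 0, nat_lit 0, [], [], []⟩ ds2 i)) (nat_lit 0) (nat_lit 1) = true := by decide +kernel

theorem nb2_0 : rng (fun i => ndB mul one T2 87 lc2 ks2 Qs2 1 (nthD ⟨nat_lit 0, nat_lit 0, [], [], []⟩ ds2 i)) (nat_lit 0) (nat_lit 1) = true := by decide +kernel

theorem dn2 : Nat.beq ds2.length 1 = true := by decide +kernel

theorem hk2 : ks2 = ds2.map Nd.k := by decide +kernel

theorem hkc2 : kc2 = (0, 1) :: ds2.map fun d => (d.k, d.c) := by decide +kernel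

theorem lo2 : linkOk mul one T2 87 ks2 lk2 1 = true := by decide +kernel

theorem do2 : domOk dom2 [0, 1, 2, 3, 4, 5, 6, 7, 10, 11, 14, 15, 16, 17, 18] nodes2 1 R3 sb2 2 = true := by decide +kernel

theorem A2_l : ∀ i < 50, (actL 6 23 n2 dom2 (2 * 19) us2) i = true :=
  (rng_add rng_zero A2_l_0)

theorem A2_r : ∀ i < 27, (fun i => relN 6 23 n2 (2 * 19) (nthD ([], nat_lit 0) R2 i)) i = true :=
  (rng_add rng_zero A2_r_0)

theorem hc2 : ∀ i < 87, (chk mul one wf T2 lc2 (mapR (fun e => e.2.2) rs2) 1) i = true :=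
  (rng_add rng_zero hc2_0)

theorem AQ2_1_l : ∀ i < 50, (actL 6 23 q2_1 dom2 (2 * 19) us2) i = true :=
  (rng_add rng_zero AQ2_1_l_0)

theorem AQ2_1_r : ∀ i < 27, (fun i => relN 6 23 q2_1 (2 * 19) (nthD ([], nat_lit 0) R2 i)) i = true :=
  (rng_add rng_zero AQ2_1_r_0)

theorem na2 : ∀ i < 1, (fun i => ndA mul one T2 87 lc2 23 6 n2 10200960 (nthD ⟨nat_lit 0, nat_lit 0, [], [], []⟩ ds2 i)) i = true :=
  (rng_add rng_zero na2_0)

theorem nb2 : ∀ i < 1, (fun i => ndB mul one T2 87 lc2 ks2 Qs2 1 (nthD ⟨nat_lit 0, nat_lit 0, [], [], []⟩ ds2 i)) i = true :=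
  (rng_add rng_zero nb2_0)

section
universe u v
variable {R : Type v} {ι : Type} [CommRing R] [Fintype ι] [DecidableEq ι] (V : VCod R ι 12 12 app wfT) (h2 : V.mat one = 1)

theorem A2 : Act.{0} (((S V h2).sub (mdl (g V h2) dom2)).gen lc2) 23 6 n2 :=
  act_of_up (L2 V h2) (U2 V h2) A2_p A2_l (by decide) (allR Rn2 A2_r)

theorem AQ2_1 : Act.{0} (((S V h2).sub (mdl (g V h2) dom2)).gen lc2) 23 6 q2_1 :=
  act_of_up (L2 V h2) (U2 V h2) AQ2_1_p AQ2_1_l (by decide) (allR Rn2 AQ2_1_r)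

theorem C2 : Cert.{u} ((S V h2).sub (mdl (g V h2) dom2)) T2 87 (mgen (g V h2) dom2) dom2 [0, 1, 2, 3, 4, 5, 6, 7, 10, 11, 14, 15, 16, 17, 18] nodes2 1 (R2 ++ N3) kc2 :=
  have := fin2 V h2
  cert_of (L2 V h2) (card2 V h2).le (A2 V h2) (Qs := Qs2) (List.forall_mem_cons.2 ⟨AQ2_1 V h2, List.forall_mem_nil _⟩) hr2 hc2 la2 lb2 hk2 (allR dn2 na2) (allR dn2 nb2) lo2 do2 hkc2

end

def dom3 : List ℕ := [0, 1, 2, 3, 4, 5, 6, 7, 10, 11, 14, 15, 16, 17, 18]

noncomputable def us3 : List (List ℕ) :=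
  [(unp (nat_lit 6) (nat_lit 0x1c088605)), (unp (nat_lit 6) (nat_lit 0x57c112305)), (unp (nat_lit 6) (nat_lit 0x279a603)), (unp (nat_lit 6) (nat_lit 0x9e89e89e706)), (unp (nat_lit 6) (nat_lit 0x9a79e89e706)), (unp (nat_lit 6) (nat_lit 0xa6aaaaa6a06)), (unp (nat_lit 6) (nat_lit 0xaaaa6bae906)), (unp (nat_lit 6) (nat_lit 0x2ba6a03)), (unp (nat_lit 6) (nat_lit 0x2db6c03)), (unp (nat_lit 6) (nat_lit 0x2cb2cb6d05)), (unp (nat_lit 6) (nat_lit 0x2ebee03)), (unp (nat_lit 6) (nat_lit 0xbafc2ebf0c2f08)), (unp (nat_lit 6) (nat_lit 0xbefbaec2f06)), (unp (nat_lit 6) (nat_lit 0x30baec2fbef07)), (unp (nat_lit 6) (nat_lit 0xcf2cf304))]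

noncomputable def lc3 : List ℕ :=
  [nthD one bc (nat_lit 0),
  nthD one bc (nat_lit 1),
  nthD one bc (nat_lit 2),
  nthD one bc (nat_lit 3),
  nthD one bc (nat_lit 4),
  nthD one bc (nat_lit 5),
  nthD one bc (nat_lit 6),
  nthD one bc (nat_lit 7),
  nthD one bc (nat_lit 8),
  nthD one bc (nat_lit 9),
  nthD one bc (nat_lit 10),
  nthD one bc (nat_lit 11),
  nthD one bc (nat_lit 12),
  nthD one bc (nat_lit 13),
  nthD one bc (nat_lit 14),
  nthD one bc (nat_lit 15),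
  one,
  one,
  one,
  one,
  nthD one bc (nat_lit 20),
  nthD one bc (nat_lit 21),
  nthD one bc (nat_lit 22),
  nthD one bc (nat_lit 23),
  one,
  one,
  one,
  one,
  nthD one bc (nat_lit 28),
  nthD one bc (nat_lit 29),
  nthD one bc (nat_lit 30),
  nthD one bc (nat_lit 31),
  nthD one bc (nat_lit 32),
  nthD one bc (nat_lit 33),
  nthD one bc (nat_lit 34),
  nthD one bc (nat_lit 35),
  nthD one bc (nat_lit 36),
  nthD one bc (nat_lit 37),
  (nat_lit 0x80049372b4ff0a12b900125b5237b02ab289),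
  (nat_lit 0x8006783e320017c76916823830a3bc27a782),
  (nat_lit 0x8006784572471a82f06dc2496e23bc2b92cf),
  (nat_lit 0x80054151220819756d05224928c0695a545c),
  (nat_lit 0x8005e752b0697691803f56171ef27a04e6a6),
  (nat_lit 0x80065b3df66943c2896e238a5034c4603246),
  (nat_lit 0x8005c14cb4ff03920829524b63b0400803f2),
  (nat_lit 0x8005a937c45c27866042568f2470d95541ed),
  (nat_lit 0x8005416693b40237b36dc2490521a85bc73e),
  (nat_lit 0x80067802e7b337c4f354c24b3f92276bc1ab),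
  (nat_lit 0x8005a909331a1431260200731a80a1068397),
  (nat_lit 0x8004003ed2f47013b44776b60c30262380e9),
  (nat_lit 0x8005e72472b96853f94773e25f41ef3bc45a),
  (nat_lit 0x8005a82082f451d3b447761339f23a0691a9),
  (nat_lit 0x80065b22e0e87011a847703359923a3bc5b3)]

noncomputable def v3_0 : VL :=
  ⟨(nat_lit 1706), [[nat_lit 0], [nat_lit 2], [nat_lit 4], [nat_lit 6], [nat_lit 8], [nat_lit 10], [nat_lit 12], [nat_lit 14], [nat_lit 20], [nat_lit 22], [nat_lit 28], [nat_lit 30], [nat_lit 32], [nat_lit 34], [nat_lit 36]], nat_lit 4, [(nat_lit 0xd0602700c400c23000f0d0804f00b0706e00f080603c00b0401b00e04a00c0a060403900d0c02700f0e0d0b0a03500f0d400c300412000e0c0702f00f0e0d0b0a09e00e0d0a08060504d00f07040201b00d0b02a00b02900e0a0901800e0d060302700f0d0b0a0908060403500f0d0b0905400f0908070402300a0705030121ff), (nat_lit 0xe0d0c05030201c00f0d0c002b00260300d0b1b00f0b0a00590500f402a00f0e005d0c0b0a080700e024030200b1900f006d0b00ca0902018000af0e004c0a0900d803027000a090801f009e009d00ac007b00ca0807002600615000e09e004c0b0a002900d800d0c70062400f00ae005d0c00e0a090605b0040301a007900e0ff),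 (nat_lit 0xd0b0a080706040301f00f0e0d0604030201e0026)], nat_lit 9, nat_lit 276⟩

noncomputable def v3_1 : VL :=
  ⟨(nat_lit 1704), [(unp (nat_lit 6) (nat_lit 0x5889a69e6aebaacb2db2cc30bb3c72d3416)), (unp (nat_lit 6) (nat_lit 0x1289e79ebaa9b2cb6cb70bafc7112))], nat_lit 2, [(nat_lit 0x18026609800286800a6660000a660299808026664f)], nat_lit 6, nat_lit 44⟩

noncomputable def v3_2 : VL :=
  ⟨(nat_lit 585), [(unp (nat_lit 6) (nat_lit 0x160279a79aaa6cc30bb3c72d3411)), (unp (nat_lit 6) (nat_lit 0xa027a279edb2dbefcb10d))], nat_lit 2, [(nat_lit 0x18600998018080a66623)], nat_lit 5, nat_lit 21⟩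

noncomputable def v3_3 : VL :=
  ⟨(nat_lit 2800), [(unp (nat_lit 6) (nat_lit 0x72aae9b2db2fbb3cf40c)), (unp (nat_lit 6) (nat_lit 0x160279a79aaa6cb2db2dc2ecb111))], nat_lit 2, [(nat_lit 0x20219806601800a19523)], nat_lit 5, nat_lit 20⟩

noncomputable def v3_4 : VL :=
  ⟨(nat_lit 446), [(unp (nat_lit 6) (nat_lit 0x1aaaeab2cb2d08)), (unp (nat_lit 6) (nat_lit 0x239e79e7a6ab2db6ebf3c71d3411)), (unp (nat_lit 6) (nat_lit 0x1daebaacb6cbb3cb10b))], nat_lit 2, [(nat_lit 0x2c318270321c321600b0c609c0c70c5802c31827031c655b)], nat_lit 6, nat_lit 48⟩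

noncomputable def vl3 : List VL :=
  [v3_0, v3_1, v3_2, v3_3, v3_4]

theorem lco3 : lcOk mul one bc lc3 dom3 (2 * 19) us3 53 = true := by decide +kernel

theorem rc3_0 : rng (fun i => relC mul one bc (2 * 19) (nthD ([], nat_lit 0) N3 i)) (nat_lit 0) (nat_lit 12) = true := by decide +kernel

theorem sm2 : Nat.beq ((kc2.map Prod.snd).sum * 10200960) 244823040 = true := by decide +kernel

theorem vc3 : vchainOk (app 12 1) (wfT 12 1) mul one lc3 [] vl3 = true := by decide +kernel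

theorem vf3 : band (allL (fun i => memL i dom3) dom99) (VCod.fixD (app 12 1) (wfT 12 1) one bc dom99 vl3) = true := by decide +kernel

theorem vp3 : (vl3.map VL.d).prod * 1 = 244823040 := by decide +kernel

theorem rd3 : allL (fun r => allL (fun l => memL (Nat.shiftRight l (nat_lit 1)) dom3) r.1) (R2 ++ N3) = true := by decide +kernel

theorem rc3 : ∀ i < 12, (fun i => relC mul one bc (2 * 19) (nthD ([], nat_lit 0) N3 i)) i = true :=
  (rng_add rng_zero rc3_0)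

section
universe u v
variable {R : Type v} {ι : Type} [CommRing R] [Fintype ι] [DecidableEq ι] (V : VCod R ι 12 12 app wfT) (h2 : V.mat one = 1)

theorem L3 : Lc ((S V h2).sub (mdl (g V h2) dom3)) (mgen (g V h2) dom3) lc3 dom3 (2 * 19) us3 53 :=
  lc_of (S V h2) (h0 V h2) bco lco3

theorem rel3 : Rels R3 (g V h2) := (rel2 V h2).append ((S V h2).rels (h0 V h2) bco (allR Nn3 rc3))

theorem le3 : Finite (mdl (g V h2) dom3) ∧ Nat.card (mdl (g V h2) dom3) ≤ 244823040 :=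
  have := fin2 V h2
  step_le (C2 V h2) (U2 V h2) (rel3 V h2) (card2 V h2) sm2

theorem fin3 : Finite (mdl (g V h2) dom3) := (le3 V h2).1

theorem card3 : Nat.card (mdl (g V h2) dom3) = 244823040 := by
  have : Finite (mdl ((V.sem h1 h2).bg bc) dom3) := fin3 V h2
  have h := V.le_card_mdl h1 h2 (h0 V h2) (L3 V h2).ok vc3 vf3
  exact le_antisymm (le3 V h2).2 (le_trans (vp3.symm.trans (congrArg (HMul.hMul (vl3.map VL.d).prod) (card99 V h2).symm)).le h)

theorem U3 : UP.{0} (mgen (g V h2) dom3) dom3 R3 :=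
  have := fin2 V h2
  step_up (C2 V h2) (U2 V h2) (rel3 V h2) (card2 V h2) sm2 (card3 V h2) rd3

end

noncomputable def ra : List (List ℕ × ℕ) :=
  [([nat_lit 0], nat_lit 2),
  ([nat_lit 2], nat_lit 2),
  ((unp (nat_lit 2) (nat_lit 0x999cd0a)), nat_lit 1),
  ([nat_lit 4], nat_lit 2),
  ((unp (nat_lit 3) (nat_lit 0x34c04)), nat_lit 1),
  ((unp (nat_lit 3) (nat_lit 0x238eb06)), nat_lit 1),
  ((unp (nat_lit 3) (nat_lit 0x11970b2e96590f)), nat_lit 1),
  ([nat_lit 6], nat_lit 2),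
  ((unp (nat_lit 3) (nat_lit 0x3c604)), nat_lit 1),
  ((unp (nat_lit 3) (nat_lit 0xbe604)), nat_lit 1),
  ((unp (nat_lit 3) (nat_lit 0x674b2f3a597d9acb15)), nat_lit 1),
  ((unp (nat_lit 3) (nat_lit 0x67abeeb09)), nat_lit 1),
  ((unp (nat_lit 3) (nat_lit 0x332f52cbe6b2cd12)), nat_lit 1),
  ([nat_lit 8], nat_lit 2),
  ((unp (nat_lit 4) (nat_lit 0x392804)), nat_lit 1),
  ((unp (nat_lit 4) (nat_lit 0x3153139403180c)), nat_lit 1),
  ((unp (nat_lit 4) (nat_lit 0x5731357902620213731814)), nat_lit 1),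
  ((unp (nat_lit 4) (nat_lit 0x81819106)), nat_lit 1),
  ([nat_lit 10], nat_lit 2),
  ((unp (nat_lit 4) (nat_lit 0x31731353b0202402a11)), nat_lit 1),
  ((unp (nat_lit 4) (nat_lit 0x7b6a04)), nat_lit 1),
  ((unp (nat_lit 4) (nat_lit 0x31357313b242a0d)), nat_lit 1),
  ((unp (nat_lit 4) (nat_lit 0xa9a9b906)), nat_lit 1),
  ([nat_lit 12], nat_lit 2),
  ((unp (nat_lit 4) (nat_lit 0x97b1b37da0a20208c11)), nat_lit 1),
  ((unp (nat_lit 4) (nat_lit 0x7b37bda2ac0a)), nat_lit 1),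
  ((unp (nat_lit 4) (nat_lit 0x353b1b35d6262c0e)), nat_lit 1),
  ((unp (nat_lit 4) (nat_lit 0xcbcbdb06)), nat_lit 1),
  ([nat_lit 14], nat_lit 2),
  ((unp (nat_lit 4) (nat_lit 0xb1bd359df820a02a2e12)), nat_lit 1),
  ((unp (nat_lit 4) (nat_lit 0x1531b9f86020a0e0f)), nat_lit 1),
  ((unp (nat_lit 4) (nat_lit 0xededfd06)), nat_lit 1),
  ((unp (nat_lit 5) (nat_lit 0x620944021845208e6095511)), nat_lit 1),
  ((unp (nat_lit 5) (nat_lit 0x45200a00942731480384c5201715)), nat_lit 1)]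

theorem ra_n : Nat.beq ra.length 34 = true := by decide +kernel

theorem ra_c_0 : rng (fun i => relC mul one bc (2 * 19) (nthD ([], nat_lit 0) ra i)) (nat_lit 0) (nat_lit 34) = true := by decide +kernel

theorem ra_d : allL (fun r => allL (fun l => memL (Nat.shiftRight l (nat_lit 1)) dom3) r.1) ra = true := by decide +kernel

theorem ra_c : ∀ i < 34, (fun i => relC mul one bc (2 * 19) (nthD ([], nat_lit 0) ra i)) i = true :=
  (rng_add rng_zero ra_c_0)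

section
universe v
variable {R : Type v} {ι : Type} [CommRing R] [Fintype ι] [DecidableEq ι] (V : VCod R ι 12 12 app wfT) (h2 : V.mat one = 1)

theorem ra_r : Rels ra (g V h2) := (S V h2).rels (h0 V h2) bco (allR ra_n ra_c)

theorem ra_m : Rels ra (mgen (g V h2) dom3) := (ra_r V h2).mgen ra_d

end

noncomputable def qbN : List (List ℕ × ℕ) :=
  [([nat_lit 24], nat_lit 2),
  ((unp (nat_lit 5) (nat_lit 0xb52d4b52f4bd2d4b62f5bd6d5b56f5bd6f91c)), nat_lit 1),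
  ((unp (nat_lit 5) (nat_lit 0xa62b904)), nat_lit 1),
  ((unp (nat_lit 5) (nat_lit 0x297a5a97a5b17adab7adab612)), nat_lit 3),
  ((unp (nat_lit 5) (nat_lit 0x5ad4b52d4b52d4b52d6a5a96a62b7adeb7bd6f5bd6f5bd6f5bdf16a5a96a5ad4b52d4b5a96a5a963f)), nat_lit 2),
  ((unp (nat_lit 5) (nat_lit 0x4ada17a438021c06291310)), nat_lit 1),
  ((unp (nat_lit 5) (nat_lit 0x441485220a5b0a)), nat_lit 1)]

noncomputable def qbQ : List (List ℕ × ℕ) :=
  [([nat_lit 18], nat_lit 2),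
  ((unp (nat_lit 5) (nat_lit 0x481204)), nat_lit 1),
  ((unp (nat_lit 5) (nat_lit 0x2489204)), nat_lit 1),
  ((unp (nat_lit 5) (nat_lit 0x348d204)), nat_lit 1),
  ((unp (nat_lit 5) (nat_lit 0x5495204)), nat_lit 1),
  ((unp (nat_lit 5) (nat_lit 0x749d204)), nat_lit 1),
  ((unp (nat_lit 5) (nat_lit 0x118521185208)), nat_lit 1),
  ((unp (nat_lit 5) (nat_lit 0x4c00a42030520a)), nat_lit 1),
  ((unp (nat_lit 5) (nat_lit 0x10442988222482218a4111212)), nat_lit 1),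
  ((unp (nat_lit 5) (nat_lit 0x10a6184e429802190652248519062018a438466291222)), nat_lit 1),
  ((unp (nat_lit 5) (nat_lit 0x4104a73142221520c)), nat_lit 3),
  ((unp (nat_lit 5) (nat_lit 0x41840411444314e2218a41244520405204c521cc22904132483010a1018a021cc5208238)), nat_lit 2),
  ([nat_lit 26], nat_lit 2),
  ((unp (nat_lit 5) (nat_lit 0x681a04)), nat_lit 1),
  ((unp (nat_lit 5) (nat_lit 0x1685a04)), nat_lit 1),
  ((unp (nat_lit 5) (nat_lit 0x2689a04)), nat_lit 1),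
  ((unp (nat_lit 5) (nat_lit 0x368da04)), nat_lit 1),
  ((unp (nat_lit 5) (nat_lit 0x5695a04)), nat_lit 1),
  ((unp (nat_lit 5) (nat_lit 0x6699a04)), nat_lit 1),
  ((unp (nat_lit 5) (nat_lit 0x769da04)), nat_lit 1),
  ((unp (nat_lit 5) (nat_lit 0x4298e3208a600c83291a428c83018a220ce6291a20)), nat_lit 1)]

noncomputable def qbrs : List (ℕ × ℕ × List (ℕ × ℕ)) :=
  [(nat_lit 39, nat_lit 0, [(nat_lit 1, (nat_lit 0x800400200100080040020010008004002001)), (nat_lit 1, (nat_lit 0x800400200100080040020010008004002001))]),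
  (nat_lit 40, nat_lit 15, [(nat_lit 1, (nat_lit 0x8004771c351279e49d0402cf7691a86af31a)), (nat_lit 1, (nat_lit 0x8004cf2a73d70470204fd1ab7694097b3603))]),
  (nat_lit 41, nat_lit 3, [(nat_lit 1, (nat_lit 0x8004000bc07323a5053973a754d547541174)), (nat_lit 1, (nat_lit 0x8004000bc07323a5053973a754d547541174))]),
  (nat_lit 42, nat_lit 46, [(nat_lit 1, (nat_lit 0x80067879e7695992ab32e51d1ed3f311e3e2)), (nat_lit 1, (nat_lit 0x80067879e7695992ab32e51d1ed3f311e3e2)), (nat_lit 1, (nat_lit 0x80067879e7695992ab32e51d1ed3f311e3e2))]),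
  (nat_lit 43, nat_lit 106, [(nat_lit 1, (nat_lit 0x8000334cf72b5230fd39a0021d25ce3d1449)), (nat_lit 1, (nat_lit 0x80040230a22d5f443c5f11ef7e90637663b9)), (nat_lit 1, (nat_lit 0x8000334cf72b5230fd39a0021d25ce3d1449)), (nat_lit 1, (nat_lit 0x80040230a22d5f443c5f11ef7e90637663b9))]),
  (nat_lit 46, nat_lit 24, [(nat_lit 1, (nat_lit 0x800400200100080040020010008004002001)), (nat_lit 1, (nat_lit 0x80049079617c3b40012ae68f02645c6dc11e)), (nat_lit 2, (nat_lit 0x8002295251745231a825930a02e0a12f0040))]),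
  (nat_lit 47, nat_lit 25, [(nat_lit 1, (nat_lit 0x8001a87124cb5f102350307303959d002541)), (nat_lit 1, (nat_lit 0x80049079617c3b40012ae68f02645c6dc11e)), (nat_lit 3, (nat_lit 0x8007690bc40552340023a3e20a55b37b0023))]),
  (nat_lit 48, nat_lit 25, [(nat_lit 1, (nat_lit 0x8001e722e79e3d733954c3e25c10a100269f)), (nat_lit 1, (nat_lit 0x80049079617c3b40012ae68f02645c6dc11e)), (nat_lit 4, (nat_lit 0x80043c50b2a85a84c41ab07302e00446e339))]),
  (nat_lit 49, nat_lit 25, [(nat_lit 1, (nat_lit 0x8001ef7ef0a61264090bc4e35c109800246e)), (nat_lit 1, (nat_lit 0x80049079617c3b40012ae68f02645c6dc11e)), (nat_lit 5, (nat_lit 0x8006fc5030685994fd6aa28a5e75f469f409))]),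
  (nat_lit 50, nat_lit 25, [(nat_lit 1, (nat_lit 0x8000235475235bf23842564b76951d11e13b)), (nat_lit 1, (nat_lit 0x80049079617c3b40012ae68f02645c6dc11e)), (nat_lit 6, (nat_lit 0x8007305030681003d076661374f0a10ae238))]),
  (nat_lit 51, nat_lit 25, [(nat_lit 1, (nat_lit 0x8006bc0bc3bc74f2387ef28a5995b327a554)), (nat_lit 1, (nat_lit 0x80049079617c3b40012ae68f02645c6dc11e)), (nat_lit 7, (nat_lit 0x80079e2081525c16850c34e35bf5f40ae238))]),
  (nat_lit 52, nat_lit 27, [(nat_lit 1, (nat_lit 0x80064b2001260a622d24c45802e023249001)), (nat_lit 1, (nat_lit 0x80049079617c3b40012ae68f02645c6dc11e)), (nat_lit 8, (nat_lit 0x80006350353c7693e245a1410082eb69f22d))]),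
  (nat_lit 53, nat_lit 28, [(nat_lit 1, (nat_lit 0x80028a2005a90e86856aa25b0470046af026)), (nat_lit 1, (nat_lit 0x80049079617c3b40012ae68f02645c6dc11e)), (nat_lit 9, (nat_lit 0x8004cb1ab7d97003ac6bf14104666409c685))]),
  (nat_lit 54, nat_lit 32, [(nat_lit 1, (nat_lit 0x8000c31b44903795f54c46132c82894e6026)), (nat_lit 1, (nat_lit 0x80049079617c3b40012ae68f02645c6dc11e)), (nat_lit 10, (nat_lit 0x80042a1ab04f56c4771ef30a5f168529a2a7))]),
  (nat_lit 55, nat_lit 40, [(nat_lit 1, (nat_lit 0x8000806b00980045033d72c828a5a9069002)), (nat_lit 1, (nat_lit 0x80049079617c3b40012ae68f02645c6dc11e)), (nat_lit 11, (nat_lit 0x8002ae2380332b91aa3f25e74c42a77e9019))]),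
  (nat_lit 56, nat_lit 61, [(nat_lit 1, (nat_lit 0x80067879e7695992ab32e51d1ed3f311e3e2)), (nat_lit 1, (nat_lit 0x80067879e7695992ab32e51d1ed3f311e3e2)), (nat_lit 1, (nat_lit 0x80049079617c3b40012ae68f02645c6dc11e)), (nat_lit 12, (nat_lit 0x8006bf22e0020c303322700402e55569f2ab))]),
  (nat_lit 57, nat_lit 144, [(nat_lit 1, (nat_lit 0x8000334cf72b5230fd39a0021d25ce3d1449)), (nat_lit 1, (nat_lit 0x80040230a22d5f443c5f11ef7e90637663b9)), (nat_lit 1, (nat_lit 0x8000334cf72b5230fd39a0021d25ce3d1449)), (nat_lit 1, (nat_lit 0x80012d3f927a1ab6710fd1690260bc1a47e9)), (nat_lit 13, (nat_lit 0x8005547820ae08043a69f5e724c1d70a11a8))]),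
  (nat_lit 58, nat_lit 93, [(nat_lit 1, (nat_lit 0x80049d1971c138a3d754d5bc39f5a80c309c)), (nat_lit 1, (nat_lit 0x80012622e4090403a40bc58559d65b0c3554)), (nat_lit 1, (nat_lit 0x8002712002b933938a0193905b304e673603)), (nat_lit 1, (nat_lit 0x80049d1971c138a3d754d5bc39f5a80c309c)), (nat_lit 1, (nat_lit 0x80012622e4090403a40bc58559d65b0c3554)), (nat_lit 1, (nat_lit 0x80049079617c3b40012ae68f02645c6dc11e)), (nat_lit 14, (nat_lit 0x8001a969c2f40a142a1aa37939752313a38a))]),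
  (nat_lit 59, nat_lit 94, [(nat_lit 1, (nat_lit 0x80049d1971c138a3d754d5bc39f5a80c309c)), (nat_lit 1, (nat_lit 0x80012622e4090403a40bc58559d65b0c3554)), (nat_lit 1, (nat_lit 0x80042a72b7015f10690b807303939f673541)), (nat_lit 1, (nat_lit 0x80049d1971c138a3d754d5bc39f5a80c309c)), (nat_lit 1, (nat_lit 0x80012622e4090403a40bc58559d65b0c3554)), (nat_lit 1, (nat_lit 0x80049079617c3b40012ae68f02645c6dc11e)), (nat_lit 15, (nat_lit 0x8002eb54d43c0a127124966056d008278069))]),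
  (nat_lit 60, nat_lit 94, [(nat_lit 1, (nat_lit 0x80049d1971c138a3d754d5bc39f5a80c309c)), (nat_lit 1, (nat_lit 0x80012622e4090403a40bc58559d65b0c3554)), (nat_lit 1, (nat_lit 0x80012622e4090403a40bc58559d65b0c3554)), (nat_lit 1, (nat_lit 0x80049d1971c138a3d754d5bc39f5a80c309c)), (nat_lit 1, (nat_lit 0x80012622e4090403a40bc58559d65b0c3554)), (nat_lit 1, (nat_lit 0x80049079617c3b40012ae68f02645c6dc11e)), (nat_lit 16, (nat_lit 0x80025b69c4cf0041684c63793b95a84f33a4))]),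
  (nat_lit 61, nat_lit 94, [(nat_lit 1, (nat_lit 0x80049d1971c138a3d754d5bc39f5a80c309c)), (nat_lit 1, (nat_lit 0x80012622e4090403a40bc58559d65b0c3554)), (nat_lit 1, (nat_lit 0x80022d1971ef3a40806bf660678523673555)), (nat_lit 1, (nat_lit 0x80049d1971c138a3d754d5bc39f5a80c309c)), (nat_lit 1, (nat_lit 0x80012622e4090403a40bc58559d65b0c3554)), (nat_lit 1, (nat_lit 0x80049079617c3b40012ae68f02645c6dc11e)), (nat_lit 17, (nat_lit 0x80040550b49365b28c45a07339704e26c080))]),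
  (nat_lit 62, nat_lit 94, [(nat_lit 1, (nat_lit 0x80049d1971c138a3d754d5bc39f5a80c309c)), (nat_lit 1, (nat_lit 0x80012622e4090403a40bc58559d65b0c3554)), (nat_lit 1, (nat_lit 0x80079e7ef51d49d1c154d2ab67851a67326c)), (nat_lit 1, (nat_lit 0x80049d1971c138a3d754d5bc39f5a80c309c)), (nat_lit 1, (nat_lit 0x80012622e4090403a40bc58559d65b0c3554)), (nat_lit 1, (nat_lit 0x80049079617c3b40012ae68f02645c6dc11e)), (nat_lit 18, (nat_lit 0x8006b60b86203d12b50912f905c3bc5551c1))]),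
  (nat_lit 63, nat_lit 94, [(nat_lit 1, (nat_lit 0x80049d1971c138a3d754d5bc39f5a80c309c)), (nat_lit 1, (nat_lit 0x80012622e4090403a40bc58559d65b0c3554)), (nat_lit 1, (nat_lit 0x80006937c0a15f543a4256382eb0a62a74f3)), (nat_lit 1, (nat_lit 0x80049d1971c138a3d754d5bc39f5a80c309c)), (nat_lit 1, (nat_lit 0x80012622e4090403a40bc58559d65b0c3554)), (nat_lit 1, (nat_lit 0x80049079617c3b40012ae68f02645c6dc11e)), (nat_lit 19, (nat_lit 0x8001410b86202b939a7663914cf5230ae43a))]),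
  (nat_lit 64, nat_lit 94, [(nat_lit 1, (nat_lit 0x80049d1971c138a3d754d5bc39f5a80c309c)), (nat_lit 1, (nat_lit 0x80012622e4090403a40bc58559d65b0c3554)), (nat_lit 1, (nat_lit 0x8003bc72b0042f438a1ab3906bc28c5034c1)), (nat_lit 1, (nat_lit 0x80049d1971c138a3d754d5bc39f5a80c309c)), (nat_lit 1, (nat_lit 0x80012622e4090403a40bc58559d65b0c3554)), (nat_lit 1, (nat_lit 0x80049079617c3b40012ae68f02645c6dc11e)), (nat_lit 20, (nat_lit 0x8004fd45e3393d15e754c49009879e46e38a))]),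
  (nat_lit 65, nat_lit 94, [(nat_lit 1, (nat_lit 0x80049d1971c138a3d754d5bc39f5a80c309c)), (nat_lit 1, (nat_lit 0x80012622e4090403a40bc58559d65b0c3554)), (nat_lit 1, (nat_lit 0x80053c54d5f44cf43a7ef2f93d10081c309c)), (nat_lit 1, (nat_lit 0x80049d1971c138a3d754d5bc39f5a80c309c)), (nat_lit 1, (nat_lit 0x80012622e4090403a40bc58559d65b0c3554)), (nat_lit 1, (nat_lit 0x80049079617c3b40012ae68f02645c6dc11e)), (nat_lit 21, (nat_lit 0x8001ef7b34d06785050c32ab5f53bc0ae43a))]),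
  (nat_lit 66, nat_lit 108, [(nat_lit 1, (nat_lit 0x80049d1971c138a3d754d5bc39f5a80c309c)), (nat_lit 1, (nat_lit 0x80012622e4090403a40bc58559d65b0c3554)), (nat_lit 1, (nat_lit 0x8000801ef3a77662956b63911ed04f59d4f3)), (nat_lit 1, (nat_lit 0x80049d1971c138a3d754d5bc39f5a80c309c)), (nat_lit 1, (nat_lit 0x80012622e4090403a40bc58559d65b0c3554)), (nat_lit 1, (nat_lit 0x80049079617c3b40012ae68f02645c6dc11e)), (nat_lit 22, (nat_lit 0x80024712d45a4ff39a5f563828952313b295))])]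

noncomputable def qbT_0 : Tr :=
  (.nd (nat_lit 18) (.nd (nat_lit 9) (.nd (nat_lit 4) (.nd (nat_lit 2) (.nd (nat_lit 1) (.lf ⟨nat_lit 0, nat_lit 0, nat_lit 0, one, one, one, .triv⟩)
 (.lf ⟨nat_lit 0, nat_lit 0, nat_lit 0, one, one, one, .triv⟩))
 (.nd (nat_lit 3) (.lf ⟨nat_lit 0, nat_lit 0, nat_lit 0, one, one, one, .triv⟩)
 (.lf ⟨nat_lit 0, nat_lit 0, nat_lit 0, one, one, one, .triv⟩)))
 (.nd (nat_lit 6) (.nd (nat_lit 5) (.lf ⟨nat_lit 0, nat_lit 0, nat_lit 0, one, one, one, .triv⟩)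
 (.lf ⟨nat_lit 0, nat_lit 0, nat_lit 0, one, one, one, .triv⟩))
 (.nd (nat_lit 7) (.lf ⟨nat_lit 0, nat_lit 0, nat_lit 0, one, one, one, .triv⟩)
 (.nd (nat_lit 8) (.lf ⟨nat_lit 0, nat_lit 0, nat_lit 0, one, one, one, .triv⟩)
 (.lf ⟨nat_lit 0, nat_lit 0, nat_lit 0, one, one, one, .triv⟩)))))
 (.nd (nat_lit 13) (.nd (nat_lit 11) (.nd (nat_lit 10) (.lf ⟨nat_lit 0, nat_lit 0, nat_lit 0, one, one, one, .triv⟩)
 (.lf ⟨nat_lit 0, nat_lit 0, nat_lit 0, one, one, one, .triv⟩))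
 (.nd (nat_lit 12) (.lf ⟨nat_lit 0, nat_lit 0, nat_lit 0, one, one, one, .triv⟩)
 (.lf ⟨nat_lit 0, nat_lit 0, nat_lit 0, one, one, one, .triv⟩)))
 (.nd (nat_lit 15) (.nd (nat_lit 14) (.lf ⟨nat_lit 0, nat_lit 0, nat_lit 0, one, one, one, .triv⟩)
 (.lf ⟨nat_lit 0, nat_lit 0, nat_lit 0, one, one, one, .triv⟩))
 (.nd (nat_lit 16) (.lf ⟨nat_lit 0, nat_lit 0, nat_lit 0, one, one, one, .triv⟩)
 (.nd (nat_lit 17) (.lf ⟨nat_lit 0, nat_lit 0, nat_lit 0, one, one, one, .triv⟩)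
 (.lf ⟨nat_lit 0, nat_lit 0, nat_lit 0, one, one, one, .triv⟩))))))
 (.nd (nat_lit 27) (.nd (nat_lit 22) (.nd (nat_lit 20) (.nd (nat_lit 19) (.lf ⟨nat_lit 0, nat_lit 0, nat_lit 0, one, one, one, .triv⟩)
 (.lf ⟨nat_lit 0, nat_lit 0, nat_lit 0, one, one, one, .triv⟩))
 (.nd (nat_lit 21) (.lf ⟨nat_lit 0, nat_lit 0, nat_lit 0, one, one, one, .triv⟩)
 (.lf ⟨nat_lit 0, nat_lit 0, nat_lit 0, one, one, one, .triv⟩)))
 (.nd (nat_lit 24) (.nd (nat_lit 23) (.lf ⟨nat_lit 0, nat_lit 0, nat_lit 0, one, one, one, .triv⟩)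
 (.lf ⟨nat_lit 1, nat_lit 1, nat_lit 0, (nat_lit 0x8004771c351279e49d0402cf7691a86af31a), (nat_lit 0x8004771c351279e49d0402cf7691a86af31a), one, (.wt (nat_lit 1) (nat_lit 0) one (.sp .nil) [] [])⟩))
 (.nd (nat_lit 25) (.lf ⟨nat_lit 0, nat_lit 1, nat_lit 1, (nat_lit 0x8004771c351279e49d0402cf7691a86af31a), one, (nat_lit 0x8004771c351279e49d0402cf7691a86af31a), (.we (nat_lit 0) (nat_lit 1) (nat_lit 0x8004771c351279e49d0402cf7691a86af31a) (.st (nat_lit 23) [] [] (.sp .nil)))⟩)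
 (.nd (nat_lit 26) (.lf ⟨nat_lit 0, nat_lit 1, nat_lit 1, (nat_lit 0x8006783a45055994fd49d1b40085a511e7d8), one, (nat_lit 0x8006783a45055994fd49d1b40085a511e7d8), (.prod [nat_lit 24, nat_lit 24])⟩)
 (.lf ⟨nat_lit 0, nat_lit 1, nat_lit 1, (nat_lit 0x8006783a45055994fd49d1b40085a511e7d8), one, (nat_lit 0x8006783a45055994fd49d1b40085a511e7d8), (.prod [nat_lit 24, nat_lit 24])⟩)))))
 (.nd (nat_lit 31) (.nd (nat_lit 29) (.nd (nat_lit 28) (.lf ⟨nat_lit 1, nat_lit 1, nat_lit 0, (nat_lit 0x8004000bc07323a5053973a754d547541174), (nat_lit 0x8004000bc07323a5053973a754d547541174), one, (.wt (nat_lit 2) (nat_lit 0) one (.sp .nil) [] [])⟩)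
 (.lf ⟨nat_lit 0, nat_lit 1, nat_lit 1, (nat_lit 0x8004000bc07323a5053973a754d547541174), one, (nat_lit 0x8004000bc07323a5053973a754d547541174), (.we (nat_lit 0) (nat_lit 1) (nat_lit 0x8004000bc07323a5053973a754d547541174) (.st (nat_lit 27) [] [] (.sp .nil)))⟩))
 (.nd (nat_lit 30) (.lf ⟨nat_lit 0, nat_lit 1, nat_lit 1, (nat_lit 0x8000473792950194e35053bc66449312e364), one, (nat_lit 0x8000473792950194e35053bc66449312e364), (.prod [nat_lit 24, nat_lit 28])⟩)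
 (.lf ⟨nat_lit 0, nat_lit 1, nat_lit 1, (nat_lit 0x8004773d03a728a3d759d7120231e56e22a8), one, (nat_lit 0x8004773d03a728a3d759d7120231e56e22a8), (.prod [nat_lit 28, nat_lit 24])⟩)))
 (.nd (nat_lit 33) (.nd (nat_lit 32) (.lf ⟨nat_lit 0, nat_lit 1, nat_lit 1, (nat_lit 0x8000806b06206bc2813d77010c149353c1a4), one, (nat_lit 0x8000806b06206bc2813d77010c149353c1a4), (.prod [nat_lit 29, nat_lit 24])⟩)
 (.lf ⟨nat_lit 0, nat_lit 1, nat_lit 1, (nat_lit 0x80067851d71279b1001ef4c65f54e3058174), one, (nat_lit 0x80067851d71279b1001ef4c65f54e3058174), (.prod [nat_lit 30, nat_lit 24])⟩))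
 (.nd (nat_lit 34) (.lf ⟨nat_lit 0, nat_lit 1, nat_lit 1, (nat_lit 0x80004745701028a5254902297a20e855545c), one, (nat_lit 0x80004745701028a5254902297a20e855545c), (.prod [nat_lit 30, nat_lit 28])⟩)
 (.nd (nat_lit 35) (.lf ⟨nat_lit 0, nat_lit 1, nat_lit 1, (nat_lit 0x80079e0a55f46645471003bc01949352b364), one, (nat_lit 0x80079e0a55f46645471003bc01949352b364), (.prod [nat_lit 31, nat_lit 24])⟩)
 (.lf ⟨nat_lit 0, nat_lit 1, nat_lit 1, (nat_lit 0x80023a6b672b6bc3f25255bb64b1a8449499), one, (nat_lit 0x80023a6b672b6bc3f25255bb64b1a8449499), (.prod [nat_lit 31, nat_lit 28])⟩)))))))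

noncomputable def qbT_36 : Tr :=
  (.nd (nat_lit 54) (.nd (nat_lit 45) (.nd (nat_lit 40) (.nd (nat_lit 38) (.nd (nat_lit 37) (.lf ⟨nat_lit 0, nat_lit 1, nat_lit 1, (nat_lit 0x8004cf6714c672b51252507325b28113b2a8), one, (nat_lit 0x8004cf6714c672b51252507325b28113b2a8), (.prod [nat_lit 32, nat_lit 24])⟩)
 (.lf ⟨nat_lit 0, nat_lit 1, nat_lit 1, (nat_lit 0x8004c46aa22942a0730e433974f49d3ef001), one, (nat_lit 0x8004c46aa22942a0730e433974f49d3ef001), (.prod [nat_lit 32, nat_lit 28])⟩))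
 (.nd (nat_lit 39) (.lf ⟨nat_lit 0, nat_lit 1, nat_lit 1, (nat_lit 0x8000806382cf79b3971265f01d742a5854e4), one, (nat_lit 0x8000806382cf79b3971265f01d742a5854e4), (.prod [nat_lit 33, nat_lit 24])⟩)
 (.lf ⟨nat_lit 0, nat_lit 1, nat_lit 1, (nat_lit 0x80059956c1410c11e55127016bc4933f91a4), one, (nat_lit 0x80059956c1410c11e55127016bc4933f91a4), (.prod [nat_lit 34, nat_lit 24])⟩)))
 (.nd (nat_lit 42) (.nd (nat_lit 41) (.lf ⟨nat_lit 0, nat_lit 1, nat_lit 1, (nat_lit 0x80001959e63b7690040732cf79e1a869c31a), one, (nat_lit 0x80001959e63b7690040732cf79e1a869c31a), (.prod [nat_lit 34, nat_lit 28])⟩)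
 (.lf ⟨nat_lit 0, nat_lit 1, nat_lit 1, (nat_lit 0x80028a7a223a6643f23976a83f55a5499555), one, (nat_lit 0x80028a7a223a6643f23976a83f55a5499555), (.prod [nat_lit 35, nat_lit 24])⟩))
 (.nd (nat_lit 43) (.lf ⟨nat_lit 0, nat_lit 1, nat_lit 1, (nat_lit 0x8007000fd3396202953d71007663f213b45c), one, (nat_lit 0x8007000fd3396202953d71007663f213b45c), (.prod [nat_lit 36, nat_lit 28])⟩)
 (.nd (nat_lit 44) (.lf ⟨nat_lit 0, nat_lit 1, nat_lit 1, (nat_lit 0x8006dc3ac5f05f13a72eb22d74f4fd4e631a), one, (nat_lit 0x8006dc3ac5f05f13a72eb22d74f4fd4e631a), (.prod [nat_lit 37, nat_lit 24])⟩)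
 (.lf ⟨nat_lit 0, nat_lit 1, nat_lit 1, (nat_lit 0x8001d72eb40264b0e82955bb6bc1a83f9499), one, (nat_lit 0x8001d72eb40264b0e82955bb6bc1a83f9499), (.prod [nat_lit 39, nat_lit 28])⟩)))))
 (.nd (nat_lit 49) (.nd (nat_lit 47) (.nd (nat_lit 46) (.lf ⟨nat_lit 0, nat_lit 1, nat_lit 1, (nat_lit 0x80079b1d728a0c13f259d5037ef409555585), one, (nat_lit 0x80079b1d728a0c13f259d5037ef409555585), (.prod [nat_lit 41, nat_lit 24])⟩)
 (.lf ⟨nat_lit 0, nat_lit 1, nat_lit 1, (nat_lit 0x80028a02308076928102005c3f31ed1a46e2), one, (nat_lit 0x80028a02308076928102005c3f31ed1a46e2), (.prod [nat_lit 41, nat_lit 28])⟩))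
 (.nd (nat_lit 48) (.lf ⟨nat_lit 0, nat_lit 1, nat_lit 1, (nat_lit 0x8000a645722d5f462010051237c3f25414e4), one, (nat_lit 0x8000a645722d5f462010051237c3f25414e4), (.prod [nat_lit 42, nat_lit 24])⟩)
 (.lf ⟨nat_lit 0, nat_lit 1, nat_lit 1, (nat_lit 0x80042a59928a64b2814900464580396e227a), one, (nat_lit 0x80042a59928a64b2814900464580396e227a), (.prod [nat_lit 45, nat_lit 28])⟩)))
 (.nd (nat_lit 51) (.nd (nat_lit 50) (.lf ⟨nat_lit 0, nat_lit 1, nat_lit 1, (nat_lit 0x8001ab3d025563b72b0732955f02810025ef), one, (nat_lit 0x8001ab3d025563b72b0732955f02810025ef), (.prod [nat_lit 47, nat_lit 28])⟩)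
 (.lf ⟨nat_lit 0, nat_lit 1, nat_lit 1, (nat_lit 0x8007000fd3396202953d71007663f213b45c), one, (nat_lit 0x8007000fd3396202953d71007663f213b45c), (.inv (nat_lit 33))⟩))
 (.nd (nat_lit 52) (.lf ⟨nat_lit 0, nat_lit 1, nat_lit 1, (nat_lit 0x80064b2ae43c5123d14c64581d26076af449), one, (nat_lit 0x80064b2ae43c5123d14c64581d26076af449), (.prod (unp (nat_lit 6) (nat_lit 0x3262603)))⟩)
 (.nd (nat_lit 53) (.lf ⟨nat_lit 0, nat_lit 1, nat_lit 1, (nat_lit 0x8007ef6136fc3d71a93a73394cb6bf7b3555), one, (nat_lit 0x8007ef6136fc3d71a93a73394cb6bf7b3555), (.prod [nat_lit 51, nat_lit 25])⟩)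
 (.lf ⟨nat_lit 0, nat_lit 1, nat_lit 1, (nat_lit 0x8006783a45055994fd49d1b40085a511e7d8), one, (nat_lit 0x8006783a45055994fd49d1b40085a511e7d8), (.inv (nat_lit 25))⟩))))))
 (.nd (nat_lit 63) (.nd (nat_lit 58) (.nd (nat_lit 56) (.nd (nat_lit 55) (.lf ⟨nat_lit 0, nat_lit 1, nat_lit 1, (nat_lit 0x8004006202f906322e02030a4cb28900228c), one, (nat_lit 0x8004006202f906322e02030a4cb28900228c), (.prod (unp (nat_lit 6) (nat_lit 0x35cd903)))⟩)
 (.lf ⟨nat_lit 0, nat_lit 1, nat_lit 1, (nat_lit 0x8000a15174907000e409324679e38a45e180), one, (nat_lit 0x8000a15174907000e409324679e38a45e180), (.inv (nat_lit 43))⟩))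
 (.nd (nat_lit 57) (.lf ⟨nat_lit 0, nat_lit 1, nat_lit 1, (nat_lit 0x8004022f40463f20932ae7a27696204e628c), one, (nat_lit 0x8004022f40463f20932ae7a27696204e628c), (.prod (unp (nat_lit 6) (nat_lit 0x3772603)))⟩)
 (.lf ⟨nat_lit 0, nat_lit 1, nat_lit 1, (nat_lit 0x8004005ce0e85f11aa3970987691b424b51a), one, (nat_lit 0x8004005ce0e85f11aa3970987691b424b51a), (.prod [nat_lit 25, nat_lit 56])⟩)))
 (.nd (nat_lit 60) (.nd (nat_lit 59) (.lf ⟨nat_lit 0, nat_lit 1, nat_lit 1, (nat_lit 0x8007666070477004fd5a545a0636bc089174), one, (nat_lit 0x8007666070477004fd5a545a0636bc089174), (.prod [nat_lit 51, nat_lit 56])⟩)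
 (.lf ⟨nat_lit 0, nat_lit 1, nat_lit 1, (nat_lit 0x8006786aa5f10e85171ef4257690101973df), one, (nat_lit 0x8006786aa5f10e85171ef4257690101973df), (.prod [nat_lit 57, nat_lit 25])⟩))
 (.nd (nat_lit 61) (.lf ⟨nat_lit 0, nat_lit 1, nat_lit 1, (nat_lit 0x80064b2ae43c5123d14c64581d26076af449), one, (nat_lit 0x80064b2ae43c5123d14c64581d26076af449), (.inv (nat_lit 51))⟩)
 (.nd (nat_lit 62) (.lf ⟨nat_lit 0, nat_lit 1, nat_lit 1, (nat_lit 0x80005c13d00874f5251416133f272b6247d9), one, (nat_lit 0x80005c13d00874f5251416133f272b6247d9), (.prod (unp (nat_lit 6) (nat_lit 0x3ce3403)))⟩)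
 (.lf ⟨nat_lit 0, nat_lit 1, nat_lit 1, (nat_lit 0x8007ef45a3f21681e72f468f22922770b13b), one, (nat_lit 0x8007ef45a3f21681e72f468f22922770b13b), (.prod [nat_lit 61, nat_lit 61])⟩)))))
 (.nd (nat_lit 68) (.nd (nat_lit 65) (.nd (nat_lit 64) (.lf ⟨nat_lit 0, nat_lit 1, nat_lit 1, (nat_lit 0x8006781ed5bc43c0935ce68f04760769c796), one, (nat_lit 0x8006781ed5bc43c0935ce68f04760769c796), (.prod [nat_lit 62, nat_lit 54])⟩)
 (.lf ⟨nat_lit 0, nat_lit 1, nat_lit 1, (nat_lit 0x8007666bc22979e5f532e30a4576aa366555), one, (nat_lit 0x8007666bc22979e5f532e30a4576aa366555), (.prod [nat_lit 62, nat_lit 61])⟩))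
 (.nd (nat_lit 66) (.lf ⟨nat_lit 0, nat_lit 1, nat_lit 1, (nat_lit 0x8000e40234903d70a10c330a3f37b74e413a), one, (nat_lit 0x8000e40234903d70a10c330a3f37b74e413a), (.prod [nat_lit 63, nat_lit 61])⟩)
 (.nd (nat_lit 67) (.lf ⟨nat_lit 0, nat_lit 1, nat_lit 1, (nat_lit 0x80005c72b0475f079b2b90105236aa45c7d8), one, (nat_lit 0x80005c72b0475f079b2b90105236aa45c7d8), (.prod [nat_lit 64, nat_lit 54])⟩)
 (.lf ⟨nat_lit 0, nat_lit 1, nat_lit 1, (nat_lit 0x8000e449d4906fc4ff6203a410025b78204f), one, (nat_lit 0x8000e449d4906fc4ff6203a410025b78204f), (.inv (nat_lit 61))⟩))))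
 (.nd (nat_lit 70) (.nd (nat_lit 69) (.lf ⟨nat_lit 0, nat_lit 1, nat_lit 1, (nat_lit 0x8007ef4c442a73068550b28a45745a7b3001), one, (nat_lit 0x8007ef4c442a73068550b28a45745a7b3001), (.prod (unp (nat_lit 7) (nat_lit 0x10db3d03)))⟩)
 (.lf ⟨nat_lit 0, nat_lit 1, nat_lit 1, (nat_lit 0x8007ef6206a643c67150b30a5bf7a27b33f9), one, (nat_lit 0x8007ef6206a643c67150b30a5bf7a27b33f9), (.prod [nat_lit 54, nat_lit 68])⟩))
 (.nd (nat_lit 71) (.lf ⟨nat_lit 0, nat_lit 1, nat_lit 1, (nat_lit 0x8006784c40e93f32460bc28a5231ed11e28c), one, (nat_lit 0x8006784c40e93f32460bc28a5231ed11e28c), (.prod [nat_lit 68, nat_lit 54])⟩)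
 (.nd (nat_lit 72) (.lf ⟨nat_lit 0, nat_lit 1, nat_lit 1, (nat_lit 0x8006782000e81681a80bc01017c09811e3f9), one, (nat_lit 0x8006782000e81681a80bc01017c09811e3f9), (.prod [nat_lit 69, nat_lit 54])⟩)
 (.lf ⟨nat_lit 0, nat_lit 1, nat_lit 1, (nat_lit 0x8006782891d20524fd2596130462f4197796), one, (nat_lit 0x8006782891d20524fd2596130462f4197796), (.inv (nat_lit 63))⟩)))))))

noncomputable def qbT_73 : Tr :=
  (.nd (nat_lit 91) (.nd (nat_lit 82) (.nd (nat_lit 77) (.nd (nat_lit 75) (.nd (nat_lit 74) (.lf ⟨nat_lit 0, nat_lit 1, nat_lit 1, (nat_lit 0x8007ef0c30636602ce50b68f1001417b351a), one, (nat_lit 0x8007ef0c30636602ce50b68f1001417b351a), (.prod (unp (nat_lit 7) (nat_lit 0x121ec003)))⟩)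
 (.lf ⟨nat_lit 0, nat_lit 1, nat_lit 1, (nat_lit 0x8007ef2273f356c23a50b6130e82b97b36e2), one, (nat_lit 0x8007ef2273f356c23a50b6130e82b97b36e2), (.prod [nat_lit 54, nat_lit 73])⟩))
 (.nd (nat_lit 76) (.lf ⟨nat_lit 0, nat_lit 1, nat_lit 1, (nat_lit 0x8007ef6206a643c67150b30a5bf7a27b33f9), one, (nat_lit 0x8007ef6206a643c67150b30a5bf7a27b33f9), (.inv (nat_lit 70))⟩)
 (.lf ⟨nat_lit 0, nat_lit 1, nat_lit 1, (nat_lit 0x80005c62017c4571ab6bf30a6603a77b304f), one, (nat_lit 0x80005c62017c4571ab6bf30a6603a77b304f), (.prod (unp (nat_lit 7) (nat_lit 0x12e4c403)))⟩)))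
 (.nd (nat_lit 79) (.nd (nat_lit 78) (.lf ⟨nat_lit 0, nat_lit 1, nat_lit 1, (nat_lit 0x8007660c30a56a62085a568f1681ef11e390), one, (nat_lit 0x8007660c30a56a62085a568f1681ef11e390), (.prod [nat_lit 76, nat_lit 76])⟩)
 (.lf ⟨nat_lit 0, nat_lit 1, nat_lit 1, (nat_lit 0x8005bf05254c2951415053d72d83f2058624), one, (nat_lit 0x8005bf05254c2951415053d72d83f2058624), (.inv (nat_lit 35))⟩))
 (.nd (nat_lit 80) (.lf ⟨nat_lit 0, nat_lit 1, nat_lit 1, (nat_lit 0x8005a83bc2895ce23a0e80a525b2b513b7b3), one, (nat_lit 0x8005a83bc2895ce23a0e80a525b2b513b7b3), (.prod (unp (nat_lit 7) (nat_lit 0x138c2c03)))⟩)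
 (.nd (nat_lit 81) (.lf ⟨nat_lit 0, nat_lit 1, nat_lit 1, (nat_lit 0x8006386a62277a254c79e5bf25b7013f9197), one, (nat_lit 0x8006386a62277a254c79e5bf25b7013f9197), (.prod [nat_lit 25, nat_lit 79])⟩)
 (.lf ⟨nat_lit 0, nat_lit 1, nat_lit 1, (nat_lit 0x8000fd74f50b6bf1d71d256c4e322955427a), one, (nat_lit 0x8000fd74f50b6bf1d71d256c4e322955427a), (.prod [nat_lit 51, nat_lit 79])⟩)))))
 (.nd (nat_lit 86) (.nd (nat_lit 84) (.nd (nat_lit 83) (.lf ⟨nat_lit 0, nat_lit 1, nat_lit 1, (nat_lit 0x8005e703914325924702e49068f5f17960b8), one, (nat_lit 0x8005e703914325924702e49068f5f17960b8), (.prod [nat_lit 52, nat_lit 79])⟩)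
 (.lf ⟨nat_lit 0, nat_lit 1, nat_lit 1, (nat_lit 0x8004936b01b47b73e374f0803a76fc13a69c), one, (nat_lit 0x8004936b01b47b73e374f0803a76fc13a69c), (.prod [nat_lit 56, nat_lit 79])⟩))
 (.nd (nat_lit 85) (.lf ⟨nat_lit 0, nat_lit 1, nat_lit 1, (nat_lit 0x8005a810054772b4cf0637303a75bf5554e4), one, (nat_lit 0x8005a810054772b4cf0637303a75bf5554e4), (.prod [nat_lit 57, nat_lit 79])⟩)
 (.lf ⟨nat_lit 0, nat_lit 1, nat_lit 1, (nat_lit 0x8005c122960749d54c70145745a37902624b), one, (nat_lit 0x8005c122960749d54c70145745a37902624b), (.prod [nat_lit 58, nat_lit 79])⟩)))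
 (.nd (nat_lit 88) (.nd (nat_lit 87) (.lf ⟨nat_lit 0, nat_lit 1, nat_lit 1, (nat_lit 0x80063805272b5473b93f30463a70a53df002), one, (nat_lit 0x80063805272b5473b93f30463a70a53df002), (.prod [nat_lit 59, nat_lit 79])⟩)
 (.lf ⟨nat_lit 0, nat_lit 1, nat_lit 1, (nat_lit 0x8000473792950194e35053bc66449312e364), one, (nat_lit 0x8000473792950194e35053bc66449312e364), (.prod [nat_lit 24, nat_lit 28])⟩))
 (.nd (nat_lit 89) (.lf ⟨nat_lit 0, nat_lit 1, nat_lit 1, (nat_lit 0x8004773d03a728a3d759d7120231e56e22a8), one, (nat_lit 0x8004773d03a728a3d759d7120231e56e22a8), (.prod [nat_lit 28, nat_lit 24])⟩)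
 (.nd (nat_lit 90) (.lf ⟨nat_lit 0, nat_lit 1, nat_lit 1, (nat_lit 0x8000806b06206bc2813d77010c149353c1a4), one, (nat_lit 0x8000806b06206bc2813d77010c149353c1a4), (.prod [nat_lit 87, nat_lit 24])⟩)
 (.lf ⟨nat_lit 0, nat_lit 1, nat_lit 1, (nat_lit 0x80067851d71279b1001ef4c65f54e3058174), one, (nat_lit 0x80067851d71279b1001ef4c65f54e3058174), (.prod [nat_lit 88, nat_lit 24])⟩))))))
 (.nd (nat_lit 100) (.nd (nat_lit 95) (.nd (nat_lit 93) (.nd (nat_lit 92) (.lf ⟨nat_lit 0, nat_lit 1, nat_lit 1, (nat_lit 0x80004745701028a5254902297a20e855545c), one, (nat_lit 0x80004745701028a5254902297a20e855545c), (.prod [nat_lit 88, nat_lit 28])⟩)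
 (.lf ⟨nat_lit 0, nat_lit 1, nat_lit 1, (nat_lit 0x80079e0a55f46645471003bc01949352b364), one, (nat_lit 0x80079e0a55f46645471003bc01949352b364), (.prod [nat_lit 89, nat_lit 24])⟩))
 (.nd (nat_lit 94) (.lf ⟨nat_lit 0, nat_lit 1, nat_lit 1, (nat_lit 0x80023a6b672b6bc3f25255bb64b1a8449499), one, (nat_lit 0x80023a6b672b6bc3f25255bb64b1a8449499), (.prod [nat_lit 89, nat_lit 28])⟩)
 (.lf ⟨nat_lit 0, nat_lit 1, nat_lit 1, (nat_lit 0x8004cf6714c672b51252507325b28113b2a8), one, (nat_lit 0x8004cf6714c672b51252507325b28113b2a8), (.prod [nat_lit 90, nat_lit 24])⟩)))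
 (.nd (nat_lit 97) (.nd (nat_lit 96) (.lf ⟨nat_lit 0, nat_lit 1, nat_lit 1, (nat_lit 0x8004c46aa22942a0730e433974f49d3ef001), one, (nat_lit 0x8004c46aa22942a0730e433974f49d3ef001), (.prod [nat_lit 90, nat_lit 28])⟩)
 (.lf ⟨nat_lit 0, nat_lit 1, nat_lit 1, (nat_lit 0x8000806382cf79b3971265f01d742a5854e4), one, (nat_lit 0x8000806382cf79b3971265f01d742a5854e4), (.prod [nat_lit 91, nat_lit 24])⟩))
 (.nd (nat_lit 98) (.lf ⟨nat_lit 0, nat_lit 1, nat_lit 1, (nat_lit 0x80059956c1410c11e55127016bc4933f91a4), one, (nat_lit 0x80059956c1410c11e55127016bc4933f91a4), (.prod [nat_lit 92, nat_lit 24])⟩)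
 (.nd (nat_lit 99) (.lf ⟨nat_lit 0, nat_lit 1, nat_lit 1, (nat_lit 0x80028a7a223a6643f23976a83f55a5499555), one, (nat_lit 0x80028a7a223a6643f23976a83f55a5499555), (.prod [nat_lit 93, nat_lit 24])⟩)
 (.lf ⟨nat_lit 0, nat_lit 1, nat_lit 1, (nat_lit 0x8007000fd3396202953d71007663f213b45c), one, (nat_lit 0x8007000fd3396202953d71007663f213b45c), (.prod [nat_lit 94, nat_lit 28])⟩)))))
 (.nd (nat_lit 104) (.nd (nat_lit 102) (.nd (nat_lit 101) (.lf ⟨nat_lit 0, nat_lit 1, nat_lit 1, (nat_lit 0x8006dc3ac5f05f13a72eb22d74f4fd4e631a), one, (nat_lit 0x8006dc3ac5f05f13a72eb22d74f4fd4e631a), (.prod [nat_lit 95, nat_lit 24])⟩)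
 (.lf ⟨nat_lit 0, nat_lit 1, nat_lit 1, (nat_lit 0x8001d72eb40264b0e82955bb6bc1a83f9499), one, (nat_lit 0x8001d72eb40264b0e82955bb6bc1a83f9499), (.prod [nat_lit 97, nat_lit 28])⟩))
 (.nd (nat_lit 103) (.lf ⟨nat_lit 0, nat_lit 1, nat_lit 1, (nat_lit 0x80079b1d728a0c13f259d5037ef409555585), one, (nat_lit 0x80079b1d728a0c13f259d5037ef409555585), (.prod [nat_lit 98, nat_lit 24])⟩)
 (.lf ⟨nat_lit 0, nat_lit 1, nat_lit 1, (nat_lit 0x8000a645722d5f462010051237c3f25414e4), one, (nat_lit 0x8000a645722d5f462010051237c3f25414e4), (.prod [nat_lit 99, nat_lit 24])⟩)))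
 (.nd (nat_lit 106) (.nd (nat_lit 105) (.lf ⟨nat_lit 0, nat_lit 1, nat_lit 1, (nat_lit 0x80042a59928a64b2814900464580396e227a), one, (nat_lit 0x80042a59928a64b2814900464580396e227a), (.prod [nat_lit 102, nat_lit 28])⟩)
 (.lf ⟨nat_lit 0, nat_lit 1, nat_lit 1, (nat_lit 0x8007000fd3396202953d71007663f213b45c), one, (nat_lit 0x8007000fd3396202953d71007663f213b45c), (.inv (nat_lit 91))⟩))
 (.nd (nat_lit 107) (.lf ⟨nat_lit 0, nat_lit 1, nat_lit 1, (nat_lit 0x80064b2ae43c5123d14c64581d26076af449), one, (nat_lit 0x80064b2ae43c5123d14c64581d26076af449), (.prod (unp (nat_lit 7) (nat_lit 0x1a4c6003)))⟩)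
 (.nd (nat_lit 108) (.lf ⟨nat_lit 0, nat_lit 1, nat_lit 1, (nat_lit 0x8007ef6136fc3d71a93a73394cb6bf7b3555), one, (nat_lit 0x8007ef6136fc3d71a93a73394cb6bf7b3555), (.prod [nat_lit 106, nat_lit 26])⟩)
 (.lf ⟨nat_lit 0, nat_lit 1, nat_lit 1, (nat_lit 0x8006783a45055994fd49d1b40085a511e7d8), one, (nat_lit 0x8006783a45055994fd49d1b40085a511e7d8), (.inv (nat_lit 26))⟩)))))))

noncomputable def qbT_109 : Tr :=
  (.nd (nat_lit 127) (.nd (nat_lit 118) (.nd (nat_lit 113) (.nd (nat_lit 111) (.nd (nat_lit 110) (.lf ⟨nat_lit 0, nat_lit 1, nat_lit 1, (nat_lit 0x8004006202f906322e02030a4cb28900228c), one, (nat_lit 0x8004006202f906322e02030a4cb28900228c), (.prod (unp (nat_lit 7) (nat_lit 0x1b351a03)))⟩)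
 (.lf ⟨nat_lit 0, nat_lit 1, nat_lit 1, (nat_lit 0x8000a15174907000e409324679e38a45e180), one, (nat_lit 0x8000a15174907000e409324679e38a45e180), (.inv (nat_lit 100))⟩))
 (.nd (nat_lit 112) (.lf ⟨nat_lit 0, nat_lit 1, nat_lit 1, (nat_lit 0x8004022f40463f20932ae7a27696204e628c), one, (nat_lit 0x8004022f40463f20932ae7a27696204e628c), (.prod (unp (nat_lit 7) (nat_lit 0x1b8e6003)))⟩)
 (.lf ⟨nat_lit 0, nat_lit 1, nat_lit 1, (nat_lit 0x8004005ce0e85f11aa3970987691b424b51a), one, (nat_lit 0x8004005ce0e85f11aa3970987691b424b51a), (.prod [nat_lit 26, nat_lit 111])⟩)))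
 (.nd (nat_lit 115) (.nd (nat_lit 114) (.lf ⟨nat_lit 0, nat_lit 1, nat_lit 1, (nat_lit 0x8007666070477004fd5a545a0636bc089174), one, (nat_lit 0x8007666070477004fd5a545a0636bc089174), (.prod [nat_lit 106, nat_lit 111])⟩)
 (.lf ⟨nat_lit 0, nat_lit 1, nat_lit 1, (nat_lit 0x8006786aa5f10e85171ef4257690101973df), one, (nat_lit 0x8006786aa5f10e85171ef4257690101973df), (.prod [nat_lit 112, nat_lit 26])⟩))
 (.nd (nat_lit 116) (.lf ⟨nat_lit 0, nat_lit 1, nat_lit 1, (nat_lit 0x80064b2ae43c5123d14c64581d26076af449), one, (nat_lit 0x80064b2ae43c5123d14c64581d26076af449), (.inv (nat_lit 106))⟩)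
 (.nd (nat_lit 117) (.lf ⟨nat_lit 0, nat_lit 1, nat_lit 1, (nat_lit 0x80005c13d00874f5251416133f272b6247d9), one, (nat_lit 0x80005c13d00874f5251416133f272b6247d9), (.prod (unp (nat_lit 7) (nat_lit 0x1cf7eb03)))⟩)
 (.lf ⟨nat_lit 0, nat_lit 1, nat_lit 1, (nat_lit 0x8007ef45a3f21681e72f468f22922770b13b), one, (nat_lit 0x8007ef45a3f21681e72f468f22922770b13b), (.prod [nat_lit 116, nat_lit 116])⟩)))))
 (.nd (nat_lit 122) (.nd (nat_lit 120) (.nd (nat_lit 119) (.lf ⟨nat_lit 0, nat_lit 1, nat_lit 1, (nat_lit 0x8006781ed5bc43c0935ce68f04760769c796), one, (nat_lit 0x8006781ed5bc43c0935ce68f04760769c796), (.prod [nat_lit 117, nat_lit 109])⟩)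
 (.lf ⟨nat_lit 0, nat_lit 1, nat_lit 1, (nat_lit 0x8007666bc22979e5f532e30a4576aa366555), one, (nat_lit 0x8007666bc22979e5f532e30a4576aa366555), (.prod [nat_lit 117, nat_lit 116])⟩))
 (.nd (nat_lit 121) (.lf ⟨nat_lit 0, nat_lit 1, nat_lit 1, (nat_lit 0x8000e40234903d70a10c330a3f37b74e413a), one, (nat_lit 0x8000e40234903d70a10c330a3f37b74e413a), (.prod [nat_lit 118, nat_lit 116])⟩)
 (.lf ⟨nat_lit 0, nat_lit 1, nat_lit 1, (nat_lit 0x80005c72b0475f079b2b90105236aa45c7d8), one, (nat_lit 0x80005c72b0475f079b2b90105236aa45c7d8), (.prod [nat_lit 119, nat_lit 109])⟩)))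
 (.nd (nat_lit 124) (.nd (nat_lit 123) (.lf ⟨nat_lit 0, nat_lit 1, nat_lit 1, (nat_lit 0x8000e449d4906fc4ff6203a410025b78204f), one, (nat_lit 0x8000e449d4906fc4ff6203a410025b78204f), (.inv (nat_lit 116))⟩)
 (.lf ⟨nat_lit 0, nat_lit 1, nat_lit 1, (nat_lit 0x8007ef4c442a73068550b28a45745a7b3001), one, (nat_lit 0x8007ef4c442a73068550b28a45745a7b3001), (.prod (unp (nat_lit 7) (nat_lit 0x1eb6f403)))⟩))
 (.nd (nat_lit 125) (.lf ⟨nat_lit 0, nat_lit 1, nat_lit 1, (nat_lit 0x8007ef6206a643c67150b30a5bf7a27b33f9), one, (nat_lit 0x8007ef6206a643c67150b30a5bf7a27b33f9), (.prod [nat_lit 109, nat_lit 123])⟩)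
 (.nd (nat_lit 126) (.lf ⟨nat_lit 0, nat_lit 1, nat_lit 1, (nat_lit 0x8006784c40e93f32460bc28a5231ed11e28c), one, (nat_lit 0x8006784c40e93f32460bc28a5231ed11e28c), (.prod [nat_lit 123, nat_lit 109])⟩)
 (.lf ⟨nat_lit 0, nat_lit 1, nat_lit 1, (nat_lit 0x8006782000e81681a80bc01017c09811e3f9), one, (nat_lit 0x8006782000e81681a80bc01017c09811e3f9), (.prod [nat_lit 124, nat_lit 109])⟩))))))
 (.nd (nat_lit 136) (.nd (nat_lit 131) (.nd (nat_lit 129) (.nd (nat_lit 128) (.lf ⟨nat_lit 0, nat_lit 1, nat_lit 1, (nat_lit 0x8006782891d20524fd2596130462f4197796), one, (nat_lit 0x8006782891d20524fd2596130462f4197796), (.inv (nat_lit 118))⟩)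
 (.lf ⟨nat_lit 0, nat_lit 1, nat_lit 1, (nat_lit 0x8007ef0c30636602ce50b68f1001417b351a), one, (nat_lit 0x8007ef0c30636602ce50b68f1001417b351a), (.prod (unp (nat_lit 7) (nat_lit 0x1ffa7703)))⟩))
 (.nd (nat_lit 130) (.lf ⟨nat_lit 0, nat_lit 1, nat_lit 1, (nat_lit 0x8007ef6206a643c67150b30a5bf7a27b33f9), one, (nat_lit 0x8007ef6206a643c67150b30a5bf7a27b33f9), (.inv (nat_lit 125))⟩)
 (.lf ⟨nat_lit 0, nat_lit 1, nat_lit 1, (nat_lit 0x80005c62017c4571ab6bf30a6603a77b304f), one, (nat_lit 0x80005c62017c4571ab6bf30a6603a77b304f), (.prod (unp (nat_lit 8) (nat_lit 0x81807b03)))⟩)))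
 (.nd (nat_lit 133) (.nd (nat_lit 132) (.lf ⟨nat_lit 0, nat_lit 1, nat_lit 1, (nat_lit 0x8007660c30a56a62085a568f1681ef11e390), one, (nat_lit 0x8007660c30a56a62085a568f1681ef11e390), (.prod [nat_lit 130, nat_lit 130])⟩)
 (.lf ⟨nat_lit 0, nat_lit 1, nat_lit 1, (nat_lit 0x8005bf05254c2951415053d72d83f2058624), one, (nat_lit 0x8005bf05254c2951415053d72d83f2058624), (.inv (nat_lit 93))⟩))
 (.nd (nat_lit 134) (.lf ⟨nat_lit 0, nat_lit 1, nat_lit 1, (nat_lit 0x8005a83bc2895ce23a0e80a525b2b513b7b3), one, (nat_lit 0x8005a83bc2895ce23a0e80a525b2b513b7b3), (.prod (unp (nat_lit 8) (nat_lit 0x84186503)))⟩)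
 (.nd (nat_lit 135) (.lf ⟨nat_lit 0, nat_lit 1, nat_lit 1, (nat_lit 0x8005e703914325924702e49068f5f17960b8), one, (nat_lit 0x8005e703914325924702e49068f5f17960b8), (.prod [nat_lit 107, nat_lit 133])⟩)
 (.lf ⟨nat_lit 0, nat_lit 1, nat_lit 1, (nat_lit 0x8004936b01b47b73e374f0803a76fc13a69c), one, (nat_lit 0x8004936b01b47b73e374f0803a76fc13a69c), (.prod [nat_lit 111, nat_lit 133])⟩)))))
 (.nd (nat_lit 141) (.nd (nat_lit 138) (.nd (nat_lit 137) (.lf ⟨nat_lit 0, nat_lit 1, nat_lit 1, (nat_lit 0x8005a810054772b4cf0637303a75bf5554e4), one, (nat_lit 0x8005a810054772b4cf0637303a75bf5554e4), (.prod [nat_lit 112, nat_lit 133])⟩)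
 (.lf ⟨nat_lit 0, nat_lit 1, nat_lit 1, (nat_lit 0x8005c122960749d54c70145745a37902624b), one, (nat_lit 0x8005c122960749d54c70145745a37902624b), (.prod [nat_lit 113, nat_lit 133])⟩))
 (.nd (nat_lit 139) (.lf ⟨nat_lit 0, nat_lit 1, nat_lit 1, (nat_lit 0x80063805272b5473b93f30463a70a53df002), one, (nat_lit 0x80063805272b5473b93f30463a70a53df002), (.prod [nat_lit 114, nat_lit 133])⟩)
 (.nd (nat_lit 140) (.lf ⟨nat_lit 1, nat_lit 1, nat_lit 0, one, one, one, (.wt (nat_lit 0) (nat_lit 0) one (.sp .nil) [] [])⟩)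
 (.lf ⟨nat_lit 1, nat_lit 1, nat_lit 1, (nat_lit 0x8000737010e90804c12954cf3d10081a47a2), (nat_lit 0x8003ac4cb33969c6386b056c2f022e04e002), (nat_lit 0x8006781e528a49d6fc5a55471c34fd05842a), (.wt (nat_lit 3) (nat_lit 0) (nat_lit 0x8001d20a52a751740049056d0193bc0ae197) (.st (nat_lit 139) (unp (nat_lit 7) (nat_lit 0x189f0224c05)) [] (.sp .nil)) (unp (nat_lit 7) (nat_lit 0x18770a2cc05)) [])⟩))))
 (.nd (nat_lit 143) (.nd (nat_lit 142) (.lf ⟨nat_lit 0, nat_lit 0, nat_lit 2, (nat_lit 0x80049079617c3b40012ae68f02645c6dc11e), one, (nat_lit 0x80049079617c3b40012ae68f02645c6dc11e), (.we (nat_lit 5) (nat_lit 0) one (.sp (.st (nat_lit 139) [] [] (.sp .nil))))⟩)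
 (.lf ⟨nat_lit 0, nat_lit 0, nat_lit 3, (nat_lit 0x8000402290c136656c22e3e25195b36dc4f3), one, (nat_lit 0x8000402290c136656c22e3e25195b36dc4f3), (.we (nat_lit 6) (nat_lit 0) one (.sp (.st (nat_lit 139) (unp (nat_lit 7) (nat_lit 0x7694d03)) [] (.sp .nil))))⟩))
 (.nd (nat_lit 144) (.lf ⟨nat_lit 0, nat_lit 0, nat_lit 4, (nat_lit 0x8003f979e5e704e3f319712d7470046dc585), one, (nat_lit 0x8003f979e5e704e3f319712d7470046dc585), (.we (nat_lit 7) (nat_lit 0) one (.sp (.st (nat_lit 139) (unp (nat_lit 7) (nat_lit 0x2f9ef64cd05)) [] (.sp .nil))))⟩)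
 (.nd (nat_lit 145) (.lf ⟨nat_lit 0, nat_lit 0, nat_lit 5, (nat_lit 0x8003df0d939a1525a83ef24974751d6dc499), one, (nat_lit 0x8003df0d939a1525a83ef24974751d6dc499), (.we (nat_lit 8) (nat_lit 0) one (.sp (.st (nat_lit 139) (unp (nat_lit 7) (nat_lit 0x21a6fa24d05)) [] (.sp .nil))))⟩)
 (.lf ⟨nat_lit 0, nat_lit 0, nat_lit 6, (nat_lit 0x80056c6730801c139137c4e31ed6075552b9), one, (nat_lit 0x80056c6730801c139137c4e31ed6075552b9), (.we (nat_lit 9) (nat_lit 0) one (.sp (.st (nat_lit 139) (unp (nat_lit 7) (nat_lit 0x30a6f62cd05)) [] (.sp .nil))))⟩)))))))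

noncomputable def qbT_146 : Tr :=
  (.nd (nat_lit 164) (.nd (nat_lit 155) (.nd (nat_lit 150) (.nd (nat_lit 148) (.nd (nat_lit 147) (.lf ⟨nat_lit 0, nat_lit 0, nat_lit 7, (nat_lit 0x8000e93ef5051c33910d92d81ef5bb54c73e), one, (nat_lit 0x8000e93ef5051c33910d92d81ef5bb54c73e), (.we (nat_lit 10) (nat_lit 0) one (.sp (.st (nat_lit 139) (unp (nat_lit 7) (nat_lit 0x2568fe24d05)) [] (.sp .nil))))⟩)
 (.lf ⟨nat_lit 0, nat_lit 0, nat_lit 8, (nat_lit 0x8004e379615239a05c3ed23800856c6af11e), one, (nat_lit 0x8004e379615239a05c3ed23800856c6af11e), (.we (nat_lit 11) (nat_lit 0) one (.sp (.st (nat_lit 139) (unp (nat_lit 7) (nat_lit 0x67062cd04)) [] (.sp .nil))))⟩))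
 (.nd (nat_lit 149) (.lf ⟨nat_lit 0, nat_lit 0, nat_lit 9, (nat_lit 0x8002d87965ce13d5f04e66fc39f45c1a402e), one, (nat_lit 0x8002d87965ce13d5f04e66fc39f45c1a402e), (.we (nat_lit 12) (nat_lit 0) one (.sp (.st (nat_lit 139) (unp (nat_lit 7) (nat_lit 0x5ce204904)) [] (.sp .nil))))⟩)
 (.lf ⟨nat_lit 0, nat_lit 0, nat_lit 10, (nat_lit 0x8004772b51ab3f273a37924b40551a70b02e), one, (nat_lit 0x8004772b51ab3f273a37924b40551a70b02e), (.we (nat_lit 13) (nat_lit 0) one (.sp (.st (nat_lit 139) (unp (nat_lit 7) (nat_lit 0x2e66fdb4d05)) [] (.sp .nil))))⟩)))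
 (.nd (nat_lit 152) (.nd (nat_lit 151) (.lf ⟨nat_lit 0, nat_lit 0, nat_lit 11, (nat_lit 0x8003b449351d45c22e04e4052d85ce3976dc), one, (nat_lit 0x8003b449351d45c22e04e4052d85ce3976dc), (.we (nat_lit 14) (nat_lit 0) one (.sp (.st (nat_lit 139) (unp (nat_lit 7) (nat_lit 0x1f72fe4cd05)) [] (.sp .nil))))⟩)
 (.lf ⟨nat_lit 0, nat_lit 0, nat_lit 12, (nat_lit 0x8006692080ae52b39140227851a01010073a), one, (nat_lit 0x8006692080ae52b39140227851a01010073a), (.we (nat_lit 15) (nat_lit 0) one (.sp (.st (nat_lit 140) (unp (nat_lit 7) (nat_lit 0x18770a2cc05)) [] (.st (nat_lit 139) (unp (nat_lit 7) (nat_lit 0x189f0224c05)) [] (.sp .nil)))))⟩))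
 (.nd (nat_lit 153) (.lf ⟨nat_lit 1, nat_lit 1, nat_lit 152, (nat_lit 0x8001ed3ef1d208049054d12d4585bb5ef56c), one, one, (.df [nat_lit 0])⟩)
 (.nd (nat_lit 154) (.lf ⟨nat_lit 0, nat_lit 152, nat_lit 152, (nat_lit 0x8000d916954d5256785233793e34cb74745c), one, (nat_lit 0x8001a82eb2ae5a52555f52a72b93ac7d95b7), (.cmp (nat_lit 152) (nat_lit 152) (unp (nat_lit 7) (nat_lit 0x4159eb604)) (unp (nat_lit 8) (nat_lit 0x1c86748004)))⟩)
 (.lf ⟨nat_lit 0, nat_lit 152, nat_lit 152, (nat_lit 0x80079b1a90980202713ac3b914137c5552f0), one, (nat_lit 0x80004703947754d4025bf3797121003b4033), (.prod [nat_lit 153, nat_lit 153])⟩)))))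
 (.nd (nat_lit 159) (.nd (nat_lit 157) (.nd (nat_lit 156) (.lf ⟨nat_lit 0, nat_lit 152, nat_lit 152, (nat_lit 0x8002592f45bf52351730a0e476932e00246e), one, (nat_lit 0x80039705c56d5f167128a24c4932ae11e53c), (.prod [nat_lit 154, nat_lit 153])⟩)
 (.lf ⟨nat_lit 0, nat_lit 152, nat_lit 152, (nat_lit 0x8003d70a52d83ac13d0802b50191687473ed), one, (nat_lit 0x8006851e70046133f322e1ab4c44776c5541), (.prod [nat_lit 155, nat_lit 153])⟩))
 (.nd (nat_lit 158) (.lf ⟨nat_lit 0, nat_lit 152, nat_lit 152, (nat_lit 0x8003d00912ae30a0635252814c65f555512e), one, (nat_lit 0x8000fd1693ac38a2891d22295f456d2a84e4), (.prod [nat_lit 156, nat_lit 153])⟩)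
 (.lf ⟨nat_lit 0, nat_lit 152, nat_lit 152, (nat_lit 0x8002081c16382715a53d009102e79b1a4603), one, (nat_lit 0x80030a2004096735055ce05c71225b51904f), (.cmp (nat_lit 152) (nat_lit 152) (unp (nat_lit 7) (nat_lit 0x4d3e14a04)) (unp (nat_lit 8) (nat_lit 0x626f766d8205)))⟩)))
 (.nd (nat_lit 161) (.nd (nat_lit 160) (.lf ⟨nat_lit 0, nat_lit 152, nat_lit 152, (nat_lit 0x80016866002367850304773045a255068089), one, (nat_lit 0x8000a66fc1ed6aa54d3f36b06bc0fd1743ef), (.prod [nat_lit 153, nat_lit 158])⟩)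
 (.lf ⟨nat_lit 0, nat_lit 152, nat_lit 152, (nat_lit 0x8000981b42ce3d01261ed0e459e6a809c554), one, (nat_lit 0x8002082cf4907006134fd1c30464097b30c4), (.prod [nat_lit 154, nat_lit 158])⟩))
 (.nd (nat_lit 162) (.lf ⟨nat_lit 0, nat_lit 152, nat_lit 152, (nat_lit 0x8002d82cf51204749d67339f5a92381a426c), one, (nat_lit 0x80072b0102ce1a81d267824c0731ed4057d8), (.prod [nat_lit 155, nat_lit 158])⟩)
 (.nd (nat_lit 163) (.lf ⟨nat_lit 0, nat_lit 152, nat_lit 152, (nat_lit 0x8000800396aa1ed4cf2711696bc06306824b), one, (nat_lit 0x80056d5bc25b4005bb79e5f0227490068249), (.prod [nat_lit 156, nat_lit 158])⟩)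
 (.lf ⟨nat_lit 0, nat_lit 152, nat_lit 152, (nat_lit 0x8000bc4e36716731d26785b33e313d09c3f9), one, (nat_lit 0x8003e239f0fd27132e23a0933bc2ce6af7e9), (.prod [nat_lit 157, nat_lit 158])⟩))))))
 (.nd (nat_lit 173) (.nd (nat_lit 168) (.nd (nat_lit 166) (.nd (nat_lit 165) (.lf ⟨nat_lit 0, nat_lit 152, nat_lit 152, (nat_lit 0x80028a24c40951750540020054c2591802ab), one, (nat_lit 0x8005252eb6a642a51d23a1e74932ce6af12e), (.prod [nat_lit 158, nat_lit 153])⟩)
 (.lf ⟨nat_lit 0, nat_lit 152, nat_lit 152, (nat_lit 0x8005f52eb63827168f1a82a717c4ff0b829a), one, (nat_lit 0x8004252f44096735f12891b40a140040513b), (.prod [nat_lit 159, nat_lit 153])⟩))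
 (.nd (nat_lit 167) (.lf ⟨nat_lit 0, nat_lit 152, nat_lit 152, (nat_lit 0x8002ae6071aa1a85f128964b22d4d018051a), one, (nat_lit 0x8004cf2a73d70470204fd1ab7694097b3603), (.prod [nat_lit 161, nat_lit 153])⟩)
 (.lf ⟨nat_lit 0, nat_lit 152, nat_lit 152, (nat_lit 0x8006aa60750559915e28a50b3bc2ae002001), one, (nat_lit 0x80028905c1260a623a68f24c5c17b711e13b), (.prod [nat_lit 161, nat_lit 158])⟩)))
 (.nd (nat_lit 170) (.nd (nat_lit 169) (.lf ⟨nat_lit 0, nat_lit 152, nat_lit 152, (nat_lit 0x80023a3d142549d5a82081c16202d84497e9), one, (nat_lit 0x8000d96fc5f54cf2595995bc0731262a8197), (.prod [nat_lit 164, nat_lit 158])⟩)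
 (.lf ⟨nat_lit 0, nat_lit 152, nat_lit 152, (nat_lit 0x80079b1a90980202713ac3b914137c5552f0), one, (nat_lit 0x80004703947754d4025bf3797121003b4033), (.inv (nat_lit 156))⟩))
 (.nd (nat_lit 171) (.lf ⟨nat_lit 0, nat_lit 152, nat_lit 152, (nat_lit 0x80067850b1260a667172b60702e61311e46e), one, (nat_lit 0x80025b24c50559940932e05c74f30a002554), (.prod (unp (nat_lit 8) (nat_lit 0xa99e9f03)))⟩)
 (.nd (nat_lit 172) (.lf ⟨nat_lit 0, nat_lit 152, nat_lit 152, (nat_lit 0x8003d70a52d83ac13d0802b50191687473ed), one, (nat_lit 0x8006851e70046133f322e1ab4c44776c5541), (.inv (nat_lit 154))⟩)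
 (.lf ⟨nat_lit 0, nat_lit 152, nat_lit 152, (nat_lit 0x8004025b31680e879b68f6bf17c7b70027b0), one, (nat_lit 0x8001ef05c59950568530a24c5e732e0027d8), (.prod (unp (nat_lit 8) (nat_lit 0xab9ea003)))⟩)))))
 (.nd (nat_lit 177) (.nd (nat_lit 175) (.nd (nat_lit 174) (.lf ⟨nat_lit 0, nat_lit 152, nat_lit 152, (nat_lit 0x8007663a40521d21aa0981b40460bc11e3df), one, (nat_lit 0x8006a80100801003d00042003bc020002391), (.prod [nat_lit 170, nat_lit 172])⟩)
 (.lf ⟨nat_lit 0, nat_lit 152, nat_lit 152, (nat_lit 0x80056d5bc25b4005bb79e5f0227490068249), one, (nat_lit 0x8000800396aa1ed4cf2711696bc06306824b), (.inv (nat_lit 162))⟩))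
 (.nd (nat_lit 176) (.lf ⟨nat_lit 0, nat_lit 152, nat_lit 152, (nat_lit 0x8004022004574cb51742501004651d00251a), one, (nat_lit 0x8001ef7ef0a61264090bc4e35c109800246e), (.prod (unp (nat_lit 8) (nat_lit 0xae99a403)))⟩)
 (.lf ⟨nat_lit 0, nat_lit 152, nat_lit 152, (nat_lit 0x80061350b68579b1d225b5476dc40209c069), one, (nat_lit 0x80054d1e742a6a649d2ce2eb5e723a6af0ae), (.inv (nat_lit 160))⟩)))
 (.nd (nat_lit 179) (.nd (nat_lit 178) (.lf ⟨nat_lit 0, nat_lit 152, nat_lit 152, (nat_lit 0x8007663a40521d21aa0981b40460bc11e3df), one, (nat_lit 0x8006a80100801003d00042003bc020002391), (.inv (nat_lit 173))⟩)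
 (.lf ⟨nat_lit 0, nat_lit 152, nat_lit 152, (nat_lit 0x8006782000e81681a80bc01017c09811e3f9), one, (nat_lit 0x80025b5474cb4573d05a564b70149d0023df), (.prod (unp (nat_lit 8) (nat_lit 0xb1b099a504)))⟩))
 (.nd (nat_lit 180) (.lf ⟨nat_lit 0, nat_lit 152, nat_lit 152, (nat_lit 0x8007662005bf5234ff5a501002e49d11e6e2), one, (nat_lit 0x8006a81b456d5f16854253a42c851d0027b0), (.prod [nat_lit 175, nat_lit 178])⟩)
 (.nd (nat_lit 181) (.lf ⟨nat_lit 0, nat_lit 152, nat_lit 152, (nat_lit 0x80032e6bf6735170804d05b36dc400499554), one, (nat_lit 0x8005033f53f342a30a6851a917c23a70b26c), (.cmp (nat_lit 152) (nat_lit 152) (unp (nat_lit 7) (nat_lit 0x4959ecc04)) (unp (nat_lit 8) (nat_lit 0x678a747e04)))⟩)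
 (.lf ⟨nat_lit 0, nat_lit 152, nat_lit 152, (nat_lit 0x80030a0e46736714cb5ce1b454c3971803f9), one, (nat_lit 0x8004771c351279e49d0402cf7691a86af31a), (.inv (nat_lit 166))⟩)))))))

noncomputable def qbT_182 : Tr :=
  (.nd (nat_lit 200) (.nd (nat_lit 191) (.nd (nat_lit 186) (.nd (nat_lit 184) (.nd (nat_lit 183) (.lf ⟨nat_lit 0, nat_lit 152, nat_lit 152, (nat_lit 0x8004025b31680e879b68f6bf17c7b70027b0), one, (nat_lit 0x8001ef05c59950568530a24c5e732e0027d8), (.inv (nat_lit 172))⟩)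
 (.lf ⟨nat_lit 0, nat_lit 152, nat_lit 152, (nat_lit 0x8004002f40524571aa7b73a474f5a536653c), one, (nat_lit 0x8000235b356d1682ce2ae4e302e0bc27a51a), (.prod (unp (nat_lit 8) (nat_lit 0xb6b5b403)))⟩))
 (.nd (nat_lit 185) (.lf ⟨nat_lit 0, nat_lit 152, nat_lit 152, (nat_lit 0x8004006bf1685f179b51d4e33bc72b2782ab), one, (nat_lit 0x8005ce50b0a65234fd49d64b0467b73643f9), (.prod [nat_lit 183, nat_lit 183])⟩)
 (.lf ⟨nat_lit 1, nat_lit 152, nat_lit 1, one, (nat_lit 0x8001ed3ef1d208049054d12d4585bb5ef56c), one, (.wt (nat_lit 0) (nat_lit 0) (nat_lit 0x8001ed3ef1d208049054d12d4585bb5ef56c) (.st (nat_lit 152) [] [] .nil) [] [])⟩)))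
 (.nd (nat_lit 188) (.nd (nat_lit 187) (.lf ⟨nat_lit 1, nat_lit 152, nat_lit 1, (nat_lit 0x8001267b76784d03f96bf68f4585b31742ce), (nat_lit 0x8007015bb0200c440912d3ef0a102e13a180), (nat_lit 0x8006731b476667813a4254c47b73a47d9255), (.wt (nat_lit 3) (nat_lit 2) (nat_lit 0x8004576716bf65b79b0731ab45c74f13b5b7) (.st (nat_lit 140) (unp (nat_lit 7) (nat_lit 0x927c203)) (unp (nat_lit 8) (nat_lit 0x671a787c8305)) (.st (nat_lit 152) (unp (nat_lit 7) (nat_lit 0x613df4a04)) (unp (nat_lit 8) (nat_lit 0x1c71787d8205)) .nil)) (unp (nat_lit 7) (nat_lit 0x145f4403)) [])⟩)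
 (.lf ⟨nat_lit 0, nat_lit 152, nat_lit 152, (nat_lit 0x80010068f1ef40046e1b45a57a22f4026040), one, (nat_lit 0x8005f130a4021ed51a54702033960713a15e), (.we (nat_lit 0) (nat_lit 0) (nat_lit 0x8001267b76784d03f96bf68f4585b31742ce) (.st (nat_lit 186) [] [] (.st (nat_lit 152) (unp (nat_lit 7) (nat_lit 0x2aab0224c05)) (unp (nat_lit 8) (nat_lit 0x5d86777b8305)) .nil)))⟩))
 (.nd (nat_lit 189) (.lf ⟨nat_lit 0, nat_lit 152, nat_lit 152, (nat_lit 0x8001d256c40225922e49043c6bc79e1744e4), one, (nat_lit 0x8005f116913d7662083d70390c10d906869c), (.inv (nat_lit 159))⟩)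
 (.nd (nat_lit 190) (.lf ⟨nat_lit 0, nat_lit 152, nat_lit 152, (nat_lit 0x8004022554571d273a16906370122927a22e), one, (nat_lit 0x8004d00fd59910045c0e93d75e72b527a37c), (.prod [nat_lit 187, nat_lit 188])⟩)
 (.lf ⟨nat_lit 0, nat_lit 152, nat_lit 152, (nat_lit 0x8006780d95050804e42f93f374f0a527a2d8), one, (nat_lit 0x8006780d95050804e42f93f374f0a527a2d8), (.prod [nat_lit 172, nat_lit 189])⟩)))))
 (.nd (nat_lit 195) (.nd (nat_lit 193) (.nd (nat_lit 192) (.lf ⟨nat_lit 0, nat_lit 152, nat_lit 152, (nat_lit 0x80002001023823a16839705c6b65ce09c796), one, (nat_lit 0x8003ac2cf5a863872b6711c33f26856af2f0), (.inv (nat_lit 164))⟩)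
 (.lf ⟨nat_lit 0, nat_lit 152, nat_lit 152, (nat_lit 0x80064b0233df04f5a56716aa3f279b1a4599), one, (nat_lit 0x8000894e31695f01c10ae05c6b669f364796), (.prod (unp (nat_lit 8) (nat_lit 0xbfbd9903)))⟩))
 (.nd (nat_lit 194) (.lf ⟨nat_lit 0, nat_lit 152, nat_lit 152, (nat_lit 0x8000e425b39100168f4095ce3bc4ff0b8052), one, (nat_lit 0x80073a50b0e956c1a96691b40190583646e2), (.prod [nat_lit 170, nat_lit 192])⟩)
 (.lf ⟨nat_lit 0, nat_lit 152, nat_lit 152, (nat_lit 0x80005c2592ab13b7b75174d039a4fd0b80e8), one, (nat_lit 0x80078205c5f01691e769f4e30a10ae3647b0), (.prod [nat_lit 173, nat_lit 192])⟩)))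
 (.nd (nat_lit 197) (.nd (nat_lit 196) (.lf ⟨nat_lit 0, nat_lit 152, nat_lit 152, (nat_lit 0x8007ef12e6e213b73a6607e902e03970b39f), one, (nat_lit 0x8004e437c56c16913d5bf38a7120e8002490), (.prod [nat_lit 189, nat_lit 192])⟩)
 (.lf ⟨nat_lit 0, nat_lit 152, nat_lit 152, (nat_lit 0x8000e452b79604f24b3792f004643c70b091), one, (nat_lit 0x8003ef54d0e95f02891005bb019457002638), (.prod [nat_lit 190, nat_lit 192])⟩))
 (.nd (nat_lit 198) (.lf ⟨nat_lit 0, nat_lit 152, nat_lit 152, (nat_lit 0x80005c4d079604f28a4ff28963b2387b30e8), one, (nat_lit 0x8001972f40e95f03f50c46bf66412e27a53c), (.inv (nat_lit 194))⟩)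
 (.nd (nat_lit 199) (.lf ⟨nat_lit 0, nat_lit 152, nat_lit 152, (nat_lit 0x8004006bf1685f179b51d4e33bc72b2782ab), one, (nat_lit 0x8005ce50b0a65234fd49d64b0467b73643f9), (.inv (nat_lit 183))⟩)
 (.lf ⟨nat_lit 0, nat_lit 152, nat_lit 152, (nat_lit 0x8004c16070933f56604e63a43bc197405554), one, (nat_lit 0x8002cf4cf31a29a04002038a63b7b73640fd), (.prod (unp (nat_lit 8) (nat_lit 0xc6c5bdc004)))⟩))))))
 (.nd (nat_lit 209) (.nd (nat_lit 204) (.nd (nat_lit 202) (.nd (nat_lit 201) (.lf ⟨nat_lit 1, nat_lit 152, nat_lit 152, (nat_lit 0x8004cf67339a0807ef50b1a828c613624168), (nat_lit 0x8001c30a14cb17c0c13391d728c13d4e65e7), (nat_lit 0x8000bc2002cf1ab56c6782f437c25b5193f9), (.wt (nat_lit 3) (nat_lit 2) (nat_lit 0x8005e74cb3b93d16a83790473f56a64c10b8) (.st (nat_lit 185) (unp (nat_lit 7) (nat_lit 0xbdecd03)) [] (.st (nat_lit 152) (unp (nat_lit 7) (nat_lit 0x189f0224d05)) (unp (nat_lit 8) (nat_lit 0x588a7e8204)) .nil))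 (unp (nat_lit 7) (nat_lit 0x2268fe3cc05)) [])⟩)
 (.lf ⟨nat_lit 1, nat_lit 1, nat_lit 201, (nat_lit 0x8003d71d25051c111e4257d80a66032005f4), one, one, (.df [nat_lit 23])⟩))
 (.nd (nat_lit 203) (.lf ⟨nat_lit 0, nat_lit 201, nat_lit 201, (nat_lit 0x8005a979e13d5ce0936fc1261ed5990016af), one, (nat_lit 0x8001416aa2f906359e05c6bc63b0bc24b53c), (.cmp (nat_lit 201) (nat_lit 201) (unp (nat_lit 7) (nat_lit 0x1460c403)) (unp (nat_lit 8) (nat_lit 0x5987767e8305)))⟩)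
 (.lf ⟨nat_lit 0, nat_lit 201, nat_lit 201, (nat_lit 0x8000e439743c5bc2464c425904773e6af3df), one, (nat_lit 0x80025b3a46b02b51ab5a57ef0470042783df), (.prod [nat_lit 202, nat_lit 202])⟩)))
 (.nd (nat_lit 206) (.nd (nat_lit 205) (.lf ⟨nat_lit 0, nat_lit 201, nat_lit 201, (nat_lit 0x8001ef7ef1690e93d10bc6070fd68f3663f9), one, (nat_lit 0x80013d3a45f00e92eb0207ef79e49d36453c), (.cmp (nat_lit 201) (nat_lit 201) (unp (nat_lit 7) (nat_lit 0x4359ec604)) (unp (nat_lit 8) (nat_lit 0x6888796d8205)))⟩)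
 (.lf ⟨nat_lit 0, nat_lit 201, nat_lit 201, (nat_lit 0x80025b2b95e75bf2465a528943c4e345c3f9), one, (nat_lit 0x8006bf7b70080a60917a264b2296a869c53c), (.cmp (nat_lit 201) (nat_lit 201) (unp (nat_lit 7) (nat_lit 0xb9b4c03)) (unp (nat_lit 8) (nat_lit 0x6887757d04)))⟩))
 (.nd (nat_lit 207) (.lf ⟨nat_lit 0, nat_lit 201, nat_lit 201, (nat_lit 0x8000c10235c15991d724c3a43f322700204e), one, (nat_lit 0x80005c6137690801ab7a21b45f01ef6243df), (.prod [nat_lit 204, nat_lit 205])⟩)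
 (.nd (nat_lit 208) (.lf ⟨nat_lit 0, nat_lit 201, nat_lit 201, (nat_lit 0x8000c10235c15991d724c3a43f322700204e), one, (nat_lit 0x80005c6137690801ab7a21b45f01ef6243df), (.inv (nat_lit 206))⟩)
 (.lf ⟨nat_lit 0, nat_lit 201, nat_lit 201, (nat_lit 0x8005a979e0c31434776fc6a62895f006845c), one, (nat_lit 0x8004c43970522c82080e41433d700424b001), (.prod (unp (nat_lit 8) (nat_lit 0xcfcacd03)))⟩)))))
 (.nd (nat_lit 214) (.nd (nat_lit 211) (.nd (nat_lit 210) (.lf ⟨nat_lit 0, nat_lit 201, nat_lit 201, (nat_lit 0x80063817c28a30a67156d39a5b35bf6c5782), one, (nat_lit 0x8001411ed43c0fd3e36bf6bc0460043ef3df), (.prod [nat_lit 203, nat_lit 208])⟩)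
 (.lf ⟨nat_lit 0, nat_lit 201, nat_lit 201, (nat_lit 0x8000d93797a22892460525bf30a6a67d927a), one, (nat_lit 0x8001ed4c46dc07339a32e3394fd0045ef6e2), (.cmp (nat_lit 201) (nat_lit 201) (unp (nat_lit 7) (nat_lit 0x2a70f64cc05)) (unp (nat_lit 8) (nat_lit 0x5d88747c8305)))⟩))
 (.nd (nat_lit 212) (.lf ⟨nat_lit 0, nat_lit 201, nat_lit 201, (nat_lit 0x8002b55f15ce13d1d74930a645a02e7d9033), one, (nat_lit 0x80045a51d15e0732715476bc4cf1ef60353c), (.prod [nat_lit 206, nat_lit 210])⟩)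
 (.nd (nat_lit 213) (.lf ⟨nat_lit 1, nat_lit 201, nat_lit 1, one, (nat_lit 0x8003d71d25051c111e4257d80a66032005f4), one, (.wt (nat_lit 0) (nat_lit 0) (nat_lit 0x8003d71d25051c111e4257d80a66032005f4) (.st (nat_lit 201) [] [] .nil) [] [])⟩)
 (.lf ⟨nat_lit 1, nat_lit 201, nat_lit 152, (nat_lit 0x8005a90235125bc1a470073e25b6b054d45e), (nat_lit 0x80004632e6243b90a51416aa1d72b53b46af), (nat_lit 0x8004000bc07323a5053973a754d547541174), (.wt (nat_lit 3) (nat_lit 2) (nat_lit 0x8000bc13d5bb1e770172b2b915e1ed5196e2) (.st (nat_lit 185) (unp (nat_lit 7) (nat_lit 0x1ea7024cc05)) [] (.st (nat_lit 201) [nat_lit 62] [nat_lit 28] .nil)) [nat_lit 61, nat_lit 52] [])⟩))))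
 (.nd (nat_lit 216) (.nd (nat_lit 215) (.lf ⟨nat_lit 1, nat_lit 152, nat_lit 201, (nat_lit 0x80067822e13b4cb0c35bb6b639a1ef69c7d8), (nat_lit 0x8002d87ef1e71e558551700432e54d17c4f3), (nat_lit 0x8006136a80fd5bc39f0983a763b6bf249068), (.wt (nat_lit 0) (nat_lit 0) (nat_lit 0x8005a90235125bc1a470073e25b6b054d45e) (.st (nat_lit 213) (unp (nat_lit 7) (nat_lit 0x54ce14504)) [nat_lit 209, nat_lit 211] .nil) (unp (nat_lit 7) (nat_lit 0x40ce14c04)) [])⟩)
 (.lf ⟨nat_lit 1, nat_lit 201, nat_lit 152, (nat_lit 0x8004f35a94ff45a06917c040766208010295), (nat_lit 0x80025b69c18073013a4c66176852ce3b4490), (nat_lit 0x80004f0e843a3a40230c41522ae66070045e), (.wt (nat_lit 4) (nat_lit 2) (nat_lit 0x8006a83a76854ff0470041b45170e426c068) (.st (nat_lit 185) (unp (nat_lit 7) (nat_lit 0x71c4a03)) [] (.st (nat_lit 140) (unp (nat_lit 7) (nat_lit 0x44f64cd04)) [nat_lit 28] (.st (nat_lit 201) (unp (nat_lit 7) (nat_lit 0x89eca03)) (unp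 (nat_lit 8) (nat_lit 0x5f888203)) .nil))) (unp (nat_lit 7) (nat_lit 0x8a8cc03)) [])⟩))
 (.nd (nat_lit 217) (.lf ⟨nat_lit 0, nat_lit 201, nat_lit 201, (nat_lit 0x8000330917a252329571205c1431003976a8), one, (nat_lit 0x8000395a85996206af1ab31a7004497125b3), (.we (nat_lit 0) (nat_lit 0) (nat_lit 0x8004f35a94ff45a06917c040766208010295) (.st (nat_lit 215) [] [] (.st (nat_lit 214) (unp (nat_lit 7) (nat_lit 0x4351fca04)) [nat_lit 195, nat_lit 163] .nil)))⟩)
 (.nd (nat_lit 218) (.lf ⟨nat_lit 0, nat_lit 0, nat_lit 13, (nat_lit 0x8003e349d7300802f052b6dc29a4ff2ce5a9), one, (nat_lit 0x8003e349d7300802f052b6dc29a4ff2ce5a9), (.we (nat_lit 16) (nat_lit 0) one (.sp (.st (nat_lit 201) (unp (nat_lit 7) (nat_lit 0x24330a2cc05)) (unp (nat_lit 8) (nat_lit 0x6189757e8205)) (.st (nat_lit 212) (unp (nat_lit 7) (nat_lit 0x315a4cd04)) [nat_lit 216] (.st (nat_lit 139) (unp (nat_lit 7) (nat_lit 0x31ad0234c05)) [] (.sp .nil))))))⟩)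
 (.lf ⟨nat_lit 1, nat_lit 152, nat_lit 218, (nat_lit 0x8006bc2715a530a66409174f5ef1a81973f2), one, one, (.df (unp (nat_lit 6) (nat_lit 0x2458403)))⟩)))))))

noncomputable def qbT_219 : Tr :=
  (.nd (nat_lit 237) (.nd (nat_lit 228) (.nd (nat_lit 223) (.nd (nat_lit 221) (.nd (nat_lit 220) (.lf ⟨nat_lit 0, nat_lit 218, nat_lit 218, (nat_lit 0x8004c45b36386602460c35a517c02324b026), one, (nat_lit 0x8006aa7ef4570521a851d6bf5e761327a53c), (.cmp (nat_lit 218) (nat_lit 218) (unp (nat_lit 7) (nat_lit 0x2e72f63cc05)) [nat_lit 183, nat_lit 167])⟩)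
 (.lf ⟨nat_lit 0, nat_lit 218, nat_lit 218, (nat_lit 0x8000c139756d3f259d64b45a0472ae4e42ab), one, (nat_lit 0x8003975470e856d4ff28a60774f0bc2782ab), (.prod [nat_lit 219, nat_lit 219])⟩))
 (.nd (nat_lit 222) (.lf ⟨nat_lit 0, nat_lit 218, nat_lit 218, (nat_lit 0x80015e1e509868f27122e1a945a4776c529a), one, (nat_lit 0x8000107b713b0696a80a649d1d756d65b409), (.cmp (nat_lit 218) (nat_lit 218) (unp (nat_lit 7) (nat_lit 0x5745fc904)) (unp (nat_lit 8) (nat_lit 0xa8aab8b3c705)))⟩)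
 (.lf ⟨nat_lit 0, nat_lit 218, nat_lit 218, (nat_lit 0x8001d70917660e41260a138a14367139109c), one, (nat_lit 0x8000e461351a46e02350551d0731682a81aa), (.prod [nat_lit 219, nat_lit 221])⟩)))
 (.nd (nat_lit 225) (.nd (nat_lit 224) (.lf ⟨nat_lit 0, nat_lit 218, nat_lit 218, (nat_lit 0x80066467332e0c14572cf0192593ac3f9541), one, (nat_lit 0x8005470bc7b07964020520986dc0e84f34fd), (.prod [nat_lit 220, nat_lit 221])⟩)
 (.lf ⟨nat_lit 0, nat_lit 218, nat_lit 218, (nat_lit 0x8005a80a537c2462895232f90190802a845c), one, (nat_lit 0x80049d5f16853d06bf3f94574587966175ce), (.prod [nat_lit 221, nat_lit 221])⟩))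
 (.nd (nat_lit 226) (.lf ⟨nat_lit 0, nat_lit 218, nat_lit 218, (nat_lit 0x8005e75bc2ce2a700463b56d6b63d74c170b), one, (nat_lit 0x80030a16823a4ff2f404f5050c16e26af678), (.prod [nat_lit 222, nat_lit 221])⟩)
 (.nd (nat_lit 227) (.lf ⟨nat_lit 0, nat_lit 218, nat_lit 218, (nat_lit 0x8003d143a05c4001692a74ff30a47739109c), one, (nat_lit 0x8002000046e27964d056d30a5f41003b423a), (.prod [nat_lit 223, nat_lit 219])⟩)
 (.lf ⟨nat_lit 0, nat_lit 218, nat_lit 218, (nat_lit 0x8004935125bb6642ae1697694fd5f10c412d), one, (nat_lit 0x8000bc0e82ce15e64b46e5231417b00b8259), (.prod [nat_lit 223, nat_lit 221])⟩)))))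
 (.nd (nat_lit 232) (.nd (nat_lit 230) (.nd (nat_lit 229) (.lf ⟨nat_lit 0, nat_lit 218, nat_lit 218, (nat_lit 0x80013d24c0a61261aa7b705c76968f11e2ab), one, (nat_lit 0x8004577d86aa4d051d1a851a3f215e40550b), (.prod [nat_lit 224, nat_lit 221])⟩)
 (.lf ⟨nat_lit 0, nat_lit 218, nat_lit 218, (nat_lit 0x80073e4e33f356c47733932e70140273a026), one, (nat_lit 0x8001006e240040202004004f2c879b1804e3), (.prod [nat_lit 225, nat_lit 221])⟩))
 (.nd (nat_lit 231) (.lf ⟨nat_lit 0, nat_lit 218, nat_lit 218, (nat_lit 0x8006b00463f515e60756c2553e20804c170b), one, (nat_lit 0x8007b756d79b15e24c7961006bc13b7b3400), (.prod [nat_lit 226, nat_lit 221])⟩)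
 (.lf ⟨nat_lit 0, nat_lit 218, nat_lit 218, (nat_lit 0x8002276aa4cb4933ac6076bc490425089001), one, (nat_lit 0x8000e87b03971ef28a4ff3df39a2ce58505c), (.prod [nat_lit 227, nat_lit 221])⟩)))
 (.nd (nat_lit 234) (.nd (nat_lit 233) (.lf ⟨nat_lit 0, nat_lit 218, nat_lit 218, (nat_lit 0x8001a83b96130046a65033f56bc2467d9541), one, (nat_lit 0x80051a5170e424c50502323a22d1ef1742ae), (.prod [nat_lit 228, nat_lit 221])⟩)
 (.lf ⟨nat_lit 0, nat_lit 218, nat_lit 218, (nat_lit 0x80054c3d125b1b408043a5bb2b979b13b09c), one, (nat_lit 0x80013b79b01064b0a66a80400a11ed152425), (.prod [nat_lit 229, nat_lit 221])⟩))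
 (.nd (nat_lit 235) (.lf ⟨nat_lit 0, nat_lit 218, nat_lit 218, (nat_lit 0x8005b30c30e95a80931b44d016868f73a026), one, (nat_lit 0x8005f17961ed1ef5a515e13b74f68509c010), (.prod [nat_lit 230, nat_lit 221])⟩)
 (.nd (nat_lit 236) (.lf ⟨nat_lit 0, nat_lit 218, nat_lit 218, (nat_lit 0x8003e36855a52275f109359e67859d04f29a), one, (nat_lit 0x8007b02ce5471b40524022385f439702668f), (.prod [nat_lit 231, nat_lit 221])⟩)
 (.lf ⟨nat_lit 0, nat_lit 218, nat_lit 218, (nat_lit 0x8000632b554d4776a85990e959e1263b412d), one, (nat_lit 0x80023a28930a5a504f2f44007a21b46c5599), (.prod [nat_lit 232, nat_lit 221])⟩))))))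
 (.nd (nat_lit 246) (.nd (nat_lit 241) (.nd (nat_lit 239) (.nd (nat_lit 238) (.lf ⟨nat_lit 0, nat_lit 218, nat_lit 218, (nat_lit 0x8001e522e14151d6602952eb7ef79b04f29a), one, (nat_lit 0x80055415e6bf24c1261ed1a807367813a098), (.prod [nat_lit 233, nat_lit 219])⟩)
 (.lf ⟨nat_lit 0, nat_lit 218, nat_lit 218, (nat_lit 0x8003f20d938a3e342537900851745760345c), one, (nat_lit 0x8002ce3970bc00446e64b25b6bc547390126), (.prod [nat_lit 235, nat_lit 221])⟩))
 (.nd (nat_lit 240) (.lf ⟨nat_lit 0, nat_lit 218, nat_lit 218, (nat_lit 0x8000632b554d4776a85990e959e1263b412d), one, (nat_lit 0x80023a28930a5a504f2f44007a21b46c5599), (.inv (nat_lit 221))⟩)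
 (.lf ⟨nat_lit 0, nat_lit 218, nat_lit 218, (nat_lit 0x80064b51d7015f13b90c16bf0e92892492ab), one, (nat_lit 0x8006a82004cb05279b68f05c02e5a5278391), (.prod (unp (nat_lit 8) (nat_lit 0xefdbdd03)))⟩)))
 (.nd (nat_lit 243) (.nd (nat_lit 242) (.lf ⟨nat_lit 0, nat_lit 218, nat_lit 218, (nat_lit 0x8000e473e6fc3d73d14e325b4cb2ae4e6026), one, (nat_lit 0x80025b2000a65bf1aa09824c17c28a366554), (.prod [nat_lit 240, nat_lit 240])⟩)
 (.lf ⟨nat_lit 0, nat_lit 218, nat_lit 218, (nat_lit 0x8000935f51432ae0a53e328105c0406e229a), one, (nat_lit 0x80004f5173a464b1682594fd2954d002672b), (.inv (nat_lit 225))⟩))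
 (.nd (nat_lit 244) (.lf ⟨nat_lit 0, nat_lit 218, nat_lit 218, (nat_lit 0x80064b51d7015f13b90c16bf0e92892492ab), one, (nat_lit 0x8006a82004cb05279b68f05c02e5a5278391), (.inv (nat_lit 241))⟩)
 (.nd (nat_lit 245) (.lf ⟨nat_lit 0, nat_lit 218, nat_lit 218, (nat_lit 0x8000e42ae7695992cf0c30107303974e451a), one, (nat_lit 0x8004006075991002ce0205472c830a278796), (.prod (unp (nat_lit 8) (nat_lit 0xf3f2dbe004)))⟩)
 (.lf ⟨nat_lit 0, nat_lit 218, nat_lit 218, (nat_lit 0x80064b6200395122a724c2595bf51d24b13a), one, (nat_lit 0x8001ef6070e85f14ff72b64b39a42536604f), (.prod [nat_lit 240, nat_lit 244])⟩)))))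
 (.nd (nat_lit 251) (.nd (nat_lit 248) (.nd (nat_lit 247) (.lf ⟨nat_lit 0, nat_lit 218, nat_lit 218, (nat_lit 0x8004027b750502e0a16a80105f02274e6449), one, (nat_lit 0x8004004e30805996730205b370132e3662ab), (.prod [nat_lit 244, nat_lit 244])⟩)
 (.lf ⟨nat_lit 0, nat_lit 218, nat_lit 218, (nat_lit 0x8006643e373e45a79e7121a968f4773f929a), one, (nat_lit 0x8002f43ef13b0016032812491d73b92a8039), (.cmp (nat_lit 218) (nat_lit 218) (unp (nat_lit 7) (nat_lit 0x2267023cd05)) (unp (nat_lit 8) (nat_lit 0xa8bdb8c704)))⟩))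
 (.nd (nat_lit 249) (.lf ⟨nat_lit 0, nat_lit 218, nat_lit 218, (nat_lit 0x8000e86b01c31aa6a80635bf22d4930ae782), one, (nat_lit 0x8003d076642549d51a3a46aa2271b43904cb), (.inv (nat_lit 223))⟩)
 (.nd (nat_lit 250) (.lf ⟨nat_lit 0, nat_lit 218, nat_lit 218, (nat_lit 0x8000e473e6fc3d73d14e325b4cb2ae4e6026), one, (nat_lit 0x80025b2000a65bf1aa09824c17c28a366554), (.inv (nat_lit 240))⟩)
 (.lf ⟨nat_lit 0, nat_lit 218, nat_lit 218, (nat_lit 0x8000e42ae7695992cf0c30107303974e451a), one, (nat_lit 0x8004006075991002ce0205472c830a278796), (.inv (nat_lit 246))⟩))))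
 (.nd (nat_lit 253) (.nd (nat_lit 252) (.lf ⟨nat_lit 0, nat_lit 218, nat_lit 218, (nat_lit 0x8004026205230085f442530a0a513d00213a), one, (nat_lit 0x8001ef25550559945e379271701169278503), (.prod (unp (nat_lit 8) (nat_lit 0xfaf9f8f704)))⟩)
 (.lf ⟨nat_lit 0, nat_lit 218, nat_lit 218, (nat_lit 0x80040060743c0a52cf0203a442a2ae0022ab), one, (nat_lit 0x8006a80100801003d00042003bc020002391), (.prod [nat_lit 251, nat_lit 251])⟩))
 (.nd (nat_lit 254) (.lf ⟨nat_lit 0, nat_lit 218, nat_lit 218, (nat_lit 0x8004022272b542a37c425613080397002390), one, (nat_lit 0x80025b2715995054e61692555a93792785bb), (.prod [nat_lit 252, nat_lit 251])⟩)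
 (.nd (nat_lit 255) (.lf ⟨nat_lit 0, nat_lit 218, nat_lit 218, (nat_lit 0x8004027b750502e0a16a80105f02274e6449), one, (nat_lit 0x8004004e30805996730205b370132e3662ab), (.inv (nat_lit 244))⟩)
 (.lf ⟨nat_lit 0, nat_lit 218, nat_lit 218, (nat_lit 0x80040260756c0e939f4253a40637b70027b0), one, (nat_lit 0x8006a8047100080249229063046039278208), (.prod (unp (nat_lit 8) (nat_lit 0xfefbf603)))⟩)))))))

noncomputable def qbT_256 : Tr :=
  (.nd (nat_lit 274) (.nd (nat_lit 265) (.nd (nat_lit 260) (.nd (nat_lit 258) (.nd (nat_lit 257) (.lf ⟨nat_lit 0, nat_lit 218, nat_lit 218, (nat_lit 0x8004002271680460a10206130e9023002026), one, (nat_lit 0x80025b24c50559940932e05c74f30a002554), (.prod [nat_lit 253, nat_lit 255])⟩)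
 (.lf ⟨nat_lit 0, nat_lit 218, nat_lit 218, (nat_lit 0x8005992710733ac6a80e82c840956c5b7364), one, (nat_lit 0x8004fd5ce09868f3df0e43973a71b45555f1), (.inv (nat_lit 222))⟩))
 (.nd (nat_lit 259) (.lf ⟨nat_lit 0, nat_lit 218, nat_lit 218, (nat_lit 0x8007660bc2f906338a4d02004cb14173a04e), one, (nat_lit 0x80009359d5410c46857b754d39a28a366700), (.prod (unp (nat_lit 9) (nat_lit 0x405f6dd03)))⟩)
 (.lf ⟨nat_lit 0, nat_lit 218, nat_lit 218, (nat_lit 0x8007ef25b56d0e80733a73973bc45a7b37b0), one, (nat_lit 0x8001e759d12e0ae23a0bc2d85c172b278255), (.prod [nat_lit 240, nat_lit 258])⟩)))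
 (.nd (nat_lit 262) (.nd (nat_lit 261) (.lf ⟨nat_lit 0, nat_lit 218, nat_lit 218, (nat_lit 0x8007ef30a2550a523a6bc5b31d225b0897d8), one, (nat_lit 0x8001c13e226c66915e0044775a92ae0023f3), (.prod [nat_lit 245, nat_lit 258])⟩)
 (.lf ⟨nat_lit 0, nat_lit 218, nat_lit 218, (nat_lit 0x8001ed7ef67122d1695a502322e7a25b72ab), one, (nat_lit 0x8001a93d069f26c5bb79e79b62063813a425), (.cmp (nat_lit 218) (nat_lit 218) (unp (nat_lit 7) (nat_lit 0x2cab064cc05)) (unp (nat_lit 8) (nat_lit 0x9faab8b2c705)))⟩))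
 (.nd (nat_lit 263) (.lf ⟨nat_lit 0, nat_lit 218, nat_lit 218, (nat_lit 0x80012651224722e0234577014fd3794c1364), one, (nat_lit 0x80061345715e79b5b30691266bc7d86af25b), (.inv (nat_lit 237))⟩)
 (.nd (nat_lit 264) (.lf ⟨nat_lit 0, nat_lit 218, nat_lit 218, (nat_lit 0x8000fd0084255a51aa5053f22004cb6c5033), one, (nat_lit 0x80024b6071690e93d126c7ef22d5b70023f9), (.prod [nat_lit 261, nat_lit 262])⟩)
 (.lf ⟨nat_lit 0, nat_lit 218, nat_lit 218, (nat_lit 0x8005a91d24e361354c43c39a33979e39145e), one, (nat_lit 0x8004e46070a543c3f50c43a45f47e9278391), (.prod [nat_lit 240, nat_lit 263])⟩)))))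
 (.nd (nat_lit 269) (.nd (nat_lit 267) (.nd (nat_lit 266) (.lf ⟨nat_lit 0, nat_lit 218, nat_lit 218, (nat_lit 0x8005e76a668f30a1ab6b00471b4660174782), one, (nat_lit 0x80067104749d51d1ab2f00fd3e369f278477), (.prod [nat_lit 259, nat_lit 263])⟩)
 (.lf ⟨nat_lit 0, nat_lit 218, nat_lit 218, (nat_lit 0x8005e70e86a845823a56c17c51d6a679612d), one, (nat_lit 0x8001a86380204252cf5b725507331a00222e), (.prod [nat_lit 260, nat_lit 263])⟩))
 (.nd (nat_lit 268) (.lf ⟨nat_lit 1, nat_lit 218, nat_lit 152, one, (nat_lit 0x8006bc2715a530a66409174f5ef1a81973f2), one, (.wt (nat_lit 0) (nat_lit 0) (nat_lit 0x8006bc2715a530a66409174f5ef1a81973f2) (.st (nat_lit 218) [] [] .nil) [] [])⟩)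
 (.lf ⟨nat_lit 1, nat_lit 218, nat_lit 152, (nat_lit 0x8000737010e90804c12954cf3d10081a47a2), (nat_lit 0x8001c15a943a59e6bc2f40083916bf002169), (nat_lit 0x8000bc2002cf1ab56c6782f437c25b5193f9), (.wt (nat_lit 3) (nat_lit 2) (nat_lit 0x8003396bf52356c2cf0913a465b67162443c) (.st (nat_lit 200) (unp (nat_lit 7) (nat_lit 0x317509b4c05)) [] (.st (nat_lit 218) (unp (nat_lit 7) (nat_lit 0x67064cc04)) [] .nil)) (unp (nat_lit 7) (nat_lit 0x22a30a24c05)) [])⟩)))
 (.nd (nat_lit 271) (.nd (nat_lit 270) (.lf ⟨nat_lit 0, nat_lit 218, nat_lit 218, (nat_lit 0x80050b4936a60397d81410c305c74f6af15e), one, (nat_lit 0x8000bc2002cf1ab56c6782f437c25b5193f9), (.we (nat_lit 0) (nat_lit 0) (nat_lit 0x8000737010e90804c12954cf3d10081a47a2) (.st (nat_lit 268) [] [] (.st (nat_lit 218) (unp (nat_lit 7) (nat_lit 0x3168fa4cc05)) [] .nil)))⟩)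
 (.lf ⟨nat_lit 0, nat_lit 218, nat_lit 218, (nat_lit 0x8003390e40471692d873e0985a96a8197026), one, (nat_lit 0x8001d27b05ce4d00bc23a00102e4fd18064b), (.inv (nat_lit 234))⟩))
 (.nd (nat_lit 272) (.lf ⟨nat_lit 0, nat_lit 218, nat_lit 218, (nat_lit 0x80005c0102f96605255473393f31ed73a7d8), one, (nat_lit 0x8001c14775b712e68530a5bb63b72b3663f3), (.inv (nat_lit 258))⟩)
 (.nd (nat_lit 273) (.lf ⟨nat_lit 0, nat_lit 218, nat_lit 218, (nat_lit 0x80040059963b17c5554250100040e8002281), one, (nat_lit 0x8004fd79e08059973a0c449079629a2783e2), (.prod (unp (nat_lit 9) (nat_lit 0x43e1d0d03)))⟩)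
 (.lf ⟨nat_lit 0, nat_lit 218, nat_lit 218, (nat_lit 0x8004002271680460a10206130e9023002026), one, (nat_lit 0x80025b24c50559940932e05c74f30a002554), (.inv (nat_lit 256))⟩))))))
 (.nd (nat_lit 283) (.nd (nat_lit 278) (.nd (nat_lit 276) (.nd (nat_lit 275) (.lf ⟨nat_lit 0, nat_lit 218, nat_lit 218, (nat_lit 0x8004023d72b902322e24c30a17c0a50022ce), one, (nat_lit 0x80023871210050567830a54c5540043663bc), (.prod (unp (nat_lit 9) (nat_lit 0x44620fb03)))⟩)
 (.lf ⟨nat_lit 0, nat_lit 218, nat_lit 218, (nat_lit 0x80015e1e509868f27122e1a945a4776c529a), one, (nat_lit 0x8000107b713b0696a80a649d1d756d65b409), (.inv (nat_lit 236))⟩))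
 (.nd (nat_lit 277) (.lf ⟨nat_lit 0, nat_lit 218, nat_lit 218, (nat_lit 0x80065b46e49d5f55175856606b60263b4278), one, (nat_lit 0x8004e437c43c16902339159d72b7960025b7), (.prod (unp (nat_lit 9) (nat_lit 0x44e20dd03)))⟩)
 (.lf ⟨nat_lit 0, nat_lit 218, nat_lit 218, (nat_lit 0x8000587b072b7125f47e93d738a04e60327a), one, (nat_lit 0x8003ef5bb5f02296aa2ab52549d55436652b), (.prod [nat_lit 245, nat_lit 276])⟩)))
 (.nd (nat_lit 280) (.nd (nat_lit 279) (.lf ⟨nat_lit 0, nat_lit 218, nat_lit 218, (nat_lit 0x8005c142a5ce2892eb0395f125b0a63f970b), one, (nat_lit 0x8003ef54d0e95f02891005bb019457002638), (.inv (nat_lit 266))⟩)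
 (.lf ⟨nat_lit 0, nat_lit 218, nat_lit 218, (nat_lit 0x8004022272b542a37c425613080397002390), one, (nat_lit 0x80025b2715995054e61692555a93792785bb), (.inv (nat_lit 251))⟩))
 (.nd (nat_lit 281) (.lf ⟨nat_lit 0, nat_lit 218, nat_lit 218, (nat_lit 0x80040220003968537942561720813d00213a), one, (nat_lit 0x8004582ae39a02e23a2f428a0e80e427804f), (.prod (unp (nat_lit 9) (nat_lit 0x1177f45a290205)))⟩)
 (.nd (nat_lit 282) (.lf ⟨nat_lit 0, nat_lit 218, nat_lit 218, (nat_lit 0x80040279b70024715202061713d3d10025bf), one, (nat_lit 0x8006715bc02e5c17822f06fc55429a0023ac), (.prod [nat_lit 272, nat_lit 280])⟩)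
 (.lf ⟨nat_lit 0, nat_lit 218, nat_lit 218, (nat_lit 0x8004023d72b902322e24c30a17c0a50022ce), one, (nat_lit 0x80023871210050567830a54c5540043663bc), (.inv (nat_lit 274))⟩)))))
 (.nd (nat_lit 288) (.nd (nat_lit 285) (.nd (nat_lit 284) (.lf ⟨nat_lit 0, nat_lit 218, nat_lit 218, (nat_lit 0x8004021d74f36a65b302038a3903d10025bf), one, (nat_lit 0x8004005470697b073e019607701073002126), (.prod (unp (nat_lit 9) (nat_lit 0x46a311203)))⟩)
 (.lf ⟨nat_lit 0, nat_lit 0, nat_lit 14, (nat_lit 0x8002a879613b3f33a47b73d15bb2a70e44c4), one, (nat_lit 0x8002a879613b3f33a47b73d15bb2a70e44c4), (.we (nat_lit 17) (nat_lit 0) one (.sp (.st (nat_lit 152) (unp (nat_lit 7) (nat_lit 0x2ba6f63cd05)) (unp (nat_lit 8) (nat_lit 0x5c6a78808305)) (.st (nat_lit 218) (unp (nat_lit 7) (nat_lit 0x919c703)) [] (.st (nat_lit 267) (unp (nat_lit 7) (nat_lit 0x1dab064cd05)) (unp (nat_lit 9) (nat_lit 0x1cf0a7a466251b06)) (.st (nat_lit 185) (unp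 (nat_lit 7) (nat_lit 0x613dfca04)) [] (.st (nat_lit 139) (unp (nat_lit 7) (nat_lit 0xb29be03)) [] (.sp .nil))))))))⟩))
 (.nd (nat_lit 286) (.lf ⟨nat_lit 0, nat_lit 0, nat_lit 15, (nat_lit 0x80027a2291692ce24b20826c00431a4e6046), one, (nat_lit 0x80027a2291692ce24b20826c00431a4e6046), (.we (nat_lit 18) (nat_lit 0) one (.sp (.st (nat_lit 152) (unp (nat_lit 7) (nat_lit 0x2ba6f63cd05)) (unp (nat_lit 8) (nat_lit 0x5c6a78808305)) (.st (nat_lit 218) (unp (nat_lit 7) (nat_lit 0x919c703)) [] (.st (nat_lit 267) (unp (nat_lit 7) (nat_lit 0x38d254d04)) (unp (nat_lit 9) (nat_lit 0xee84bda311b05)) (.st (nat_lit 185) (unp (nat_lit 7) (nat_lit 0x51520ca04)) (unp (nat_lit 8) (nat_lit 0xa6c4b8afc705)) (.st (nat_lit 139) (unp (nat_lit 7) (nat_lit 0x54d224d04)) [] (.sp .nil))))))))⟩)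
 (.nd (nat_lit 287) (.lf ⟨nat_lit 0, nat_lit 0, nat_lit 16, (nat_lit 0x80005c7d93df3ac3b472b1a97000800e4620), one, (nat_lit 0x80005c7d93df3ac3b472b1a97000800e4620), (.we (nat_lit 19) (nat_lit 0) one (.sp (.st (nat_lit 152) (unp (nat_lit 7) (nat_lit 0x2ba6f63cd05)) (unp (nat_lit 8) (nat_lit 0x5c6a78808305)) (.st (nat_lit 218) (unp (nat_lit 7) (nat_lit 0x919c703)) [] (.st (nat_lit 267) (unp (nat_lit 7) (nat_lit 0x4acdf4d04)) (unp (nat_lit 9) (nat_lit 0x1cf0a7a466251b06)) (.st (nat_lit 185) (unp (nat_lit 7) (nat_lit 0x159f4d03)) (unp (nat_lit 8) (nat_lit 0xa6c4b8afc705)) (.st (nat_lit 139) (unp (nat_lit 7) (nat_lit 0xa68c103)) [] (.sp .nil))))))))⟩)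
 (.lf ⟨nat_lit 0, nat_lit 0, nat_lit 17, (nat_lit 0x80015279e5a80013ac3ef31a5b326c47773e), one, (nat_lit 0x80015279e5a80013ac3ef31a5b326c47773e), (.we (nat_lit 20) (nat_lit 0) one (.sp (.st (nat_lit 152) (unp (nat_lit 7) (nat_lit 0x2ba6f63cd05)) (unp (nat_lit 8) (nat_lit 0x5c6a78808305)) (.st (nat_lit 218) (unp (nat_lit 7) (nat_lit 0x919c703)) [] (.st (nat_lit 267) (unp (nat_lit 7) (nat_lit 0x2c770224d05)) (unp (nat_lit 9) (nat_lit 0xed8abf2251b05)) (.st (nat_lit 185) (unp (nat_lit 7) (nat_lit 0x46edf4404)) (unp (nat_lit 8) (nat_lit 0xa7c1b8c704)) (.st (nat_lit 139) (unp (nat_lit 7) (nat_lit 0x31330634d05)) [] (.sp .nil))))))))⟩))))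
 (.nd (nat_lit 290) (.nd (nat_lit 289) (.lf ⟨nat_lit 0, nat_lit 0, nat_lit 18, (nat_lit 0x80004e0d93f313b38a1970582f412e54d143), one, (nat_lit 0x80004e0d93f313b38a1970582f412e54d143), (.we (nat_lit 21) (nat_lit 0) one (.sp (.st (nat_lit 152) (unp (nat_lit 7) (nat_lit 0x2ba6f63cd05)) (unp (nat_lit 8) (nat_lit 0x5c6a78808305)) (.st (nat_lit 218) (unp (nat_lit 7) (nat_lit 0x919c703)) [] (.st (nat_lit 267) (unp (nat_lit 7) (nat_lit 0x61d4403)) (unp (nat_lit 9) (nat_lit 0x1cf0a7a466251b06)) (.st (nat_lit 185) (unp (nat_lit 7) (nat_lit 0x4af654c04)) [] (.st (nat_lit 139) (unp (nat_lit 7) (nat_lit 0x593e24c04)) [] (.sp .nil))))))))⟩)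
 (.lf ⟨nat_lit 0, nat_lit 0, nat_lit 19, (nat_lit 0x8000c467337923838a7b73d145e12e0fd4f3), one, (nat_lit 0x8000c467337923838a7b73d145e12e0fd4f3), (.we (nat_lit 22) (nat_lit 0) one (.sp (.st (nat_lit 152) (unp (nat_lit 7) (nat_lit 0x2ba6f63cd05)) (unp (nat_lit 8) (nat_lit 0x5c6a78808305)) (.st (nat_lit 218) (unp (nat_lit 7) (nat_lit 0x919c703)) [] (.st (nat_lit 267) (unp (nat_lit 7) (nat_lit 0x40ee24c04)) (unp (nat_lit 9) (nat_lit 0xe6843da211b05)) (.st (nat_lit 185) (unp (nat_lit 7) (nat_lit 0x4549f4c04)) [nat_lit 194, nat_lit 153] (.st (nat_lit 139) (unp (nat_lit 7) (nat_lit 0x1facfe34d05)) [] (.sp .nil))))))))⟩))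
 (.nd (nat_lit 291) (.lf ⟨nat_lit 0, nat_lit 0, nat_lit 20, (nat_lit 0x8006782292ce16938a50370166017c7ef585), one, (nat_lit 0x8006782292ce16938a50370166017c7ef585), (.we (nat_lit 23) (nat_lit 0) one (.sp (.st (nat_lit 152) (unp (nat_lit 7) (nat_lit 0x2ba6f63cd05)) (unp (nat_lit 8) (nat_lit 0x5c6a78808305)) (.st (nat_lit 218) (unp (nat_lit 7) (nat_lit 0x919c703)) [] (.st (nat_lit 267) (unp (nat_lit 7) (nat_lit 0x1daafe34d05)) (unp (nat_lit 9) (nat_lit 0x1cf0a7a466251b06)) (.st (nat_lit 185) (unp (nat_lit 7) (nat_lit 0x5d424cd04)) [nat_lit 189, nat_lit 159] (.st (nat_lit 139) (unp (nat_lit 7) (nat_lit 0x5349f4c04)) [] (.sp .nil))))))))⟩)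
 (.nd (nat_lit 292) (.lf ⟨nat_lit 0, nat_lit 0, nat_lit 21, (nat_lit 0x8005413ef6fc23a38a4095f145c2890e4174), one, (nat_lit 0x8005413ef6fc23a38a4095f145c2890e4174), (.we (nat_lit 24) (nat_lit 0) one (.sp (.st (nat_lit 152) (unp (nat_lit 7) (nat_lit 0x2ba6f63cd05)) (unp (nat_lit 8) (nat_lit 0x5c6a78808305)) (.st (nat_lit 218) (unp (nat_lit 7) (nat_lit 0x919c703)) [] (.st (nat_lit 267) (unp (nat_lit 7) (nat_lit 0x2032f654d05)) (unp (nat_lit 9) (nat_lit 0xe6843da211b05)) (.st (nat_lit 185) (unp (nat_lit 7) (nat_lit 0x454214d04)) [nat_lit 194, nat_lit 153] (.st (nat_lit 139) (unp (nat_lit 7) (nat_lit 0x21a4f654d05)) [] (.sp .nil))))))))⟩)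
 (.lf ⟨nat_lit 0, nat_lit 0, nat_lit 22, (nat_lit 0x80042a5e72ab4906b65f11975bb4257b04c4), one, (nat_lit 0x80042a5e72ab4906b65f11975bb4257b04c4), (.we (nat_lit 25) (nat_lit 0) one (.sp (.st (nat_lit 152) (unp (nat_lit 7) (nat_lit 0x2ba6f63cd05)) (unp (nat_lit 8) (nat_lit 0x5c6a78808305)) (.st (nat_lit 218) (unp (nat_lit 7) (nat_lit 0x919c703)) [] (.st (nat_lit 267) (unp (nat_lit 7) (nat_lit 0x62d214504)) (unp (nat_lit 9) (nat_lit 0x1cf0a7a466251b06)) (.st (nat_lit 185) (unp (nat_lit 7) (nat_lit 0x31aafdb4d05)) (unp (nat_lit 8) (nat_lit 0x9aacb7b2c705)) (.st (nat_lit 139) (unp (nat_lit 7) (nat_lit 0xc1dc603)) [] (.sp .nil))))))))⟩)))))))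

noncomputable def qbT : Tr :=
  (.nd (nat_lit 146) (.nd (nat_lit 73) (.nd (nat_lit 36) qbT_0
 qbT_36)
 (.nd (nat_lit 109) qbT_73
 qbT_109))
 (.nd (nat_lit 219) (.nd (nat_lit 182) qbT_146
 qbT_182)
 (.nd (nat_lit 256) qbT_219
 qbT_256)))

theorem qbhr : relsOk mul one lc3 dom3 [24, 81, 83, 85, 87, 89, 91, 93, 95, 97, 99, 101, 103, 105, 107, 109, 111, 113, 115, 117, 119, 121] 22 (2 * 19) ((R3 ++ qbN) ++ qd 40 qbQ) [(26, 45, 0), (27, 45, 0), (18, 44, 0), (19, 44, 0), (25, 39, 0)] 3 qbrs = true := by decide +kernel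

theorem qbhc_0 : rng (chk mul one wf qbT lc3 (mapR (fun e => e.2.2) qbrs) 22) (nat_lit 0) (nat_lit 293) = true := by decide +kernel

theorem qbhq : qOk qbT 293 22 40 [24, 81, 83, 85, 87, 89, 91, 93, 95, 97, 99, 101, 103, 105, 107, 109, 111, 113, 115, 117, 119, 121] [141, 142, 143, 144, 145, 146, 147, 148, 149, 150, 151, 217, 284, 285, 286, 287, 288, 289, 290, 291, 292] qbQ.length = true := by decide +kernel

theorem qbhl : allL (fun r => allL (fun l => Nat.blt l (2 * 40)) r.1) ((R3 ++ qbN) ++ qbQ) = true := by decide +kernel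

theorem qbhc : ∀ i < 293, (chk mul one wf qbT lc3 (mapR (fun e => e.2.2) qbrs) 22) i = true :=
  (rng_add rng_zero qbhc_0)

section
universe u v
variable {R : Type v} {ι : Type} [CommRing R] [Fintype ι] [DecidableEq ι] (V : VCod R ι 12 12 app wfT) (h2 : V.mat one = 1)

include V h2 in
theorem qb {G : Type u} [Group G] {g1 : ℕ → G} (hR : Rels (R3 ++ qbN) g1) : Rels qbQ g1 :=
  hR.qry (L3 V h2) (U3 V h2) qbhr qbhc qbhq qbhl

end

end H15.M24P
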