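import Cfsg.Agent.H15.J4
import Cfsg.Agent.H15.J4Ba
import Cfsg.Agent.H15.J4MAb
import Cfsg.Agent.H15.M24PAa
import Cfsg.Agent.H13.M24
import Cfsg.Prelude.Def_Spor_J4

/-! The fourth Janko group: the presented group is the model (namespace H15.J4). -/

set_option maxRecDepth 100000

namespace H15.J4
open H13 Cfsg Cfsg.Spor J4W

section
variable {G : Type*} [Group G] {g : ℕ → G}

theorem of_expd {ws : List (List ℕ)} {R : List (List ℕ × ℕ)} (h : Rels (mapR (fun r => (expd ws r.1, r.2)) R) g) :
    Rels R (subG g ws) := fun r hr => by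
  rw [← evalW_expd]; exact h (expd ws r.1, r.2) (mapR_eq _ R ▸ List.mem_map_of_mem hr)

theorem eq_of_rel {i : ℕ} {u : List ℕ} (h : Rels [((2 * i + 1) :: u, 1)] g) : g i = evalW (sg g) u := by
  have := h _ (List.mem_singleton_self _)
  rwa [pow_one, evalW_cons, sg_odd, inv_mul_eq_one] at this

theorem word_mem {K : Subgroup G} {dom u : List ℕ} (h : ∀ i ∈ dom, g i ∈ K) (hu : inDom 80 dom u = true) :
    evalW (sg g) u ∈ K := evalW_mem fun l hl => sg_mem (h _ (by
  have := (band_eq_true.1 (allL_iff.1 hu l hl)).2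
  rwa [memL_iff, show Nat.shiftRight l 1 = l / 2 from Nat.shiftRight_one l] at this))

/-- the coding of vectors of length 12 for the tower of the Mathieu group -/
noncomputable def VP : VCod (ZMod 2) (Fin 12) 12 12 M24P.app M24P.wfT := vcodB (Equiv.refl _) (by decide)

theorem hP : VP.mat M24P.one = 1 := VP.mat_one Nat.cast_zero Nat.cast_one (by decide +kernel)

theorem top7 (h : Rels (Rl.take 7) g) : Rels (mapR Prod.fst J4W.A7 ++ (M24P.R3 ++ M24P.ra)) (subG g ws) := by
  have a := h.subst A7_ok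
  have a' : Rels (mapR Prod.fst J4W.A7 ++ List.replicate 5 ([], 0)) _ :=
    a.append fun r hr => by rw [List.eq_of_mem_replicate hr]; exact pow_zero _
  have b := a'.append (a'.tz B7_ok)
  have c := b.append (b.der D_ok)
  have k : Rels [(M24A.kcz, 1)] _ :=
    List.forall_mem_singleton.2 ((pow_one _).trans (M24A.kc M24A.V11 M24A.h11 (c.sub (by decide +kernel))))
  have d := c.append k
  have e := d.append (M24P.qa VP hP (d.sub (by decide +kernel)))
  have f : Rels M24P.R3 _ := e.sub (by decide +kernel)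
  exact a.append (f.append ((M24P.U3 VP hP).rels (M24P.ra_m VP hP) (m2 := 38) (by decide +kernel) f))

theorem top (h : Rels Rl g) : Rels R10 (subG g ws) ∧ ∀ j < 3, g j = subG (subG g ws) wb j := by
  have a := (top7 (h.sub (by decide +kernel))).append (h.subst A_ok)
  have b := a.append (M24P.qb VP hP (a.sub (by decide +kernel)))
  have c := b.append (qc V12 h12 (b.sub (by decide +kernel)))
  have d := c.append (qe V12 h12 (c.sub (by decide +kernel)))
  refine ⟨d.sub (by decide +kernel), fun j hj => ?_⟩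
  have e : Rels [((2 * (10 + j) + 1) :: nthW wb j, 1)] _ := a.sub (by revert j; decide +kernel)
  rw [subG, ← eq_of_rel e, subG, show nthW ws (10 + j) = [2 * j] by clear e; revert j; decide +kernel]
  simp [sg_even]

end

/-- the generators of the presentation -/
def gs : List J4.Gen := [.x, .y, .t]

theorem hgs : ∀ x, x ∈ gs := by intro x; cases x <;> decide

theorem relP : Rels Rl (genL gs : ℕ → Spor.J4) := rels_known hgs rfl rfl (by decide +kernel)

/-- the images of the generators in the model -/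
noncomputable def xm : ℕ → M := subG gm wb

theorem relM : Rels Rl xm := of_expd (J4M.pr_m V h2)

theorem ev_M {u : List ℕ} (h : inDom 20 (List.range 10) u = true) : evalW ((J4M.SM V h2).gen J4M.bc) u = evalW (sg gm) u :=
  (J4M.LM V h2).evalW_base h

theorem xm_ne : xm 0 ≠ 1 := fun h => by
  have := ord_of (J4M.sinj V h2) (J4M.bc_ok V h2) Nat.prime_two (u := nthW wb 0) (k := 1) (by decide +kernel)
  rw [pow_one, ev_M (by decide +kernel)] at this
  exact absurd ((orderOf_eq_one_iff.2 h).symm.trans this) (by decide)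

theorem ex_e : ∃ e : M ≃* Spor.J4, (∀ i < 10, e (gm i) = subG (genL gs) ws i) ∧ ∀ j < 3, e (xm j) = genL gs j := by
  obtain ⟨θ, hθ⟩ := UM _ _ (top relP).1
  have a : ∀ j < 3, θ (xm j) = genL gs j := fun j hj => by
    rw [(top relP).2 j hj]
    exact map_base hθ (m2 := 20) (by revert j; decide +kernel)
  have I := inv_sg (g := xm) (m := 3) fun i hi => by
    rw [xm, subG, nthW_eq, List.getD_eq_default _ _ (le_trans (by decide +kernel) hi)]; rfl
  let φ := presHom (edges := J4.edges) (extra := J4.extra) (ix := fun x => 2 * gs.idxOf x) I hgs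
    fun r hr => (Rels.flat.1 relM).known I (allL_iff.1 (by decide +kernel) r hr)
  have := simple_M
  refine ⟨MulEquiv.ofBijective θ ⟨(MonoidHom.ker_eq_bot_iff _).1 ((θ.normal_ker.eq_bot_or_eq_top).resolve_right fun c => ?_),
    MonoidHom.range_eq_top.1 (top_unique ?_)⟩, fun i hi => hθ i (List.mem_range.2 hi), a⟩
  · have b : θ (xm 0) = 1 := MonoidHom.mem_ker.1 (c ▸ Subgroup.mem_top _)
    have d : φ (PresentedGroup.of .x) = xm 0 := (presHom_of _).trans (sg_even _ _)
    rw [a 0 (by decide)] at b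
    exact xm_ne (d.symm.trans ((congrArg φ b).trans (map_one φ)))
  · rw [← PresentedGroup.closure_range_of, Subgroup.closure_le]
    rintro _ ⟨x, rfl⟩
    exact ⟨_, (a _ (List.idxOf_lt_length_of_mem (hgs x))).trans (genL_idx hgs x)⟩

/-- the model is the presented group -/
noncomputable def e : M ≃* Spor.J4 := ex_e.choose

theorem he1 : ∀ i < 10, e (gm i) = subG (genL gs) ws i := ex_e.choose_spec.1

theorem he2 : ∀ j < 3, e (xm j) = genL gs j := ex_e.choose_spec.2

theorem card_J4 : Nat.card Spor.J4 = 86775571046077562880 := (Nat.card_congr e.symm.toEquiv).trans card_M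

theorem simple_J4 : IsSimpleGroup Spor.J4 :=
  have := simple_M
  e.symm.isSimpleGroup

theorem mult_J4 : HasCyclicSchurMultiplier Spor.J4 1 :=
  have : Finite Spor.J4 := Finite.of_equiv _ e.toEquiv
  have : Finite (J4M.M V h2) := fin_le.1
  have k : ∀ {a}, ¬ a ∣ 86775571046077562880 → ¬ a ∣ Nat.card (J4M.M V h2) := fun h c => h (card_M ▸ c)
  hasTrivial_of_list card_J4 [2, 3, 11] [5, 7, 23, 29, 31, 37, 43] (by
    simp only [List.forall_mem_cons]
    exact ⟨(J4M.m2 V h2 (k (by decide))).congr e.symm, (J4M.m3 V h2 (k (by decide))).congr e.symm,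
      (J4M.m11 V h2 (k (by decide))).congr e.symm, by simp⟩) 21 (by decide)

theorem gm_eq {i : ℕ} (h : i < 10) : gm i = subG xm ws i := e.injective (by
  rw [he1 i h]
  exact (map_base (ψ := e.toMonoidHom) (dom := List.range 3) (fun j hj => he2 j (List.mem_range.1 hj))
    (m2 := 6) (by revert i; decide +kernel)).symm)

theorem mdl_xy : mdl xm [0, 1] = mdl gm dom8 := by
  refine le_antisymm ((Subgroup.closure_le _).2 ?_) ((Subgroup.closure_le _).2 ?_)
  · rintro _ ⟨i, hi : i ∈ [0, 1], rfl⟩
    exact word_mem (fun _ => mem_mdl _) (by revert i; decide +kernel)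
  · rintro _ ⟨i, hi : i ∈ dom8, rfl⟩
    have : i < 10 ∧ inDom 80 [0, 1] (nthW ws i) = true := by revert i; decide +kernel
    rw [gm_eq this.1]
    exact word_mem (fun _ => mem_mdl _) this.2

/-- the third generator of the subgroup of index 173067389 -/
def s0 : List ℕ := [2, 1, 2, 1, 3, 1, 3, 1, 3, 1, 3, 4, 2, 0, 2, 0, 2, 0, 2, 0, 3, 0]

/-- the same in the generators of the model -/
def sH : List ℕ := [10, 12, 16, 12, 10, 2, 6, 0, 8, 10, 12, 4, 14, 8, 10, 12, 16, 12, 10, 8, 14, 4, 12, 10, 8, 0, 6, 2]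

theorem s0_eq : evalW (sg xm) s0 ^ 3 = evalW (sg gm) sH ∧
    gm 8 = evalW (sg gm) sH * evalW (sg gm) [14, 6] * evalW (sg gm) sH * (evalW (sg gm) [14, 6])⁻¹ := by
  have a : Rels [(expd wb (pw s0 3) ++ invW sH, 1)] gm := (J4M.ps_m V h2).sub (by decide +kernel)
  have b : Rels [((2 * 8 + 1) :: (sH ++ [14, 6] ++ sH ++ invW [14, 6]), 1)] gm := (J4M.ps_m V h2).sub (by decide +kernel)
  have := a _ (List.mem_singleton_self _)
  rw [pow_one, evalW_append, evalW_invW, mul_inv_eq_one, evalW_expd, evalW_pw] at this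
  exact ⟨this, by rw [eq_of_rel b]; simp only [evalW_append, evalW_invW]⟩

theorem closure_s0 : Subgroup.closure {xm 0, xm 1, evalW (sg xm) s0 ^ 3} = mdl gm dom9 := by
  have a : ∀ i ∈ dom8, gm i ∈ Subgroup.closure {xm 0, xm 1, evalW (sg xm) s0 ^ 3} := fun i hi =>
    (mdl_xy.ge.trans (Subgroup.closure_mono (by
      rintro _ ⟨i, hi : i ∈ [0, 1], rfl⟩
      rcases List.mem_pair.1 hi with rfl | rfl
      exacts [.inl rfl, .inr (.inl rfl)]))) (mem_mdl _ hi)
  refine le_antisymm ((Subgroup.closure_le _).2 ?_) ((Subgroup.closure_le _).2 ?_)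
  · rintro _ (rfl | rfl | rfl)
    · exact word_mem (fun _ => mem_mdl _) (by decide +kernel)
    · exact word_mem (fun _ => mem_mdl _) (by decide +kernel)
    · rw [s0_eq.1]; exact word_mem (fun _ => mem_mdl _) (by decide +kernel)
  · rintro _ ⟨i, hi : i ∈ dom9, rfl⟩
    by_cases c : i = 8
    · have s : evalW (sg gm) sH ∈ Subgroup.closure {xm 0, xm 1, evalW (sg xm) s0 ^ 3} :=
        Subgroup.subset_closure (.inr (.inr s0_eq.1.symm))
      have n := word_mem a (u := [14, 6]) (by decide +kernel)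
      rw [c, s0_eq.2]
      exact mul_mem (mul_mem (mul_mem s n) s) (inv_mem n)
    · exact a i (by revert i; decide +kernel)

theorem index_N : ((Subgroup.closure ({J4.x, J4.y, (J4.y * ((J4.y * J4.x) ^ 4 * J4.y⁻¹ * J4.x)⁻¹ * J4.t *
    ((J4.y * J4.x) ^ 4 * J4.y⁻¹ * J4.x)) ^ 3} : Set (FreeGroup J4.Gen))).map
      (PresentedGroup.mk (coxRelators J4.edges ∪ {r | r ∈ J4.extra}))).index = 173067389 := by
  rw [← prim.1, range_eq hψ, ← closure_s0, ← Subgroup.index_map_equiv _ e, MonoidHom.map_closure, MonoidHom.map_closure]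
  congr 2
  have a := map_base (ψ := e.toMonoidHom) (dom := List.range 3) (fun j hj => he2 j (List.mem_range.1 hj))
    (m2 := 6) (u := s0) (by decide +kernel)
  simp only [Set.image_insert_eq, Set.image_singleton, MonoidHom.coe_coe, map_pow]
  rw [he2 0 (by decide), he2 1 (by decide), show e (evalW (sg xm) s0) = _ from a]
  congr 3

end H15.J4
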