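import Cfsg.Agent.H15.Vx
import Cfsg.Prelude.Def_Sporadic

/-! A group of shape `2 ^ 13 . 3 . M22 . 2` from its action on 77 points (namespace H15). -/

namespace H15
open H13 MulAction Subgroup

theorem PcL.vx {G : Type*} [Group G] [Finite G] {mul : ℕ → ℕ → ℕ} {one : ℕ} {wf : ℕ → Bool} {S : Sem G mul one wf} (I : SInj S)
    {cs ns : List ℕ} (o : ∀ c ∈ cs, S.ok c) (p : PcL (cs.map S.val)) {V : Subgroup G} (hV : clL (cs.map S.val) = V)
    (hc : ∀ a ∈ V, ∀ b ∈ V, a * b = b * a) {a b n : ℕ} {x : G} (ha : S.ok a ∧ S.val a = x) (hb : S.ok b ∧ S.val b = x⁻¹)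
    (h : ∀ i < 4, (force a fun w => force b fun wi => forceM (fun v => force (mul v wi) (mul w)) cs fun L =>
      H15.cnt4 mul one (cmA mul L) cs ns i) = true) (e : ns.length = 4 ∧ ns.sum = n) : {v | v ∈ V ∧ x⁻¹ * v * x ∈ V}.ncard ≤ n := by
  subst hV
  simp only [force_eq, forceM_eq] at h
  refine p.cnt4 o (fun c hc' p => (cmA_iff I (List.forall_mem_map.2 fun v hv => S.ok_mul ha.1 (S.ok_mul (o v hv) hb.1)) hc').2
    (List.forall_mem_map.2 (List.forall_mem_map.2 fun v hv => ?_))) h e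
  rw [S.val_mul ha.1 (S.ok_mul (o v hv) hb.1), S.val_mul (o v hv) hb.1, ha.2, hb.2, ← mul_left_inj x, ← mul_right_inj x⁻¹]
  simpa [mul_assoc] using hc _ p _ (mem_clL (List.mem_map_of_mem hv))

theorem struct22 {C α : Type*} [Group C] [Finite C] [MulAction C α] {P : Pts α} {Q : Subgroup C} {s : ℕ → C}
    (nq : ∀ l < 4, s l ∈ normalizer (Q : Set C)) (hP : P.n = 77) (cQ : Nat.card Q = 8192) (hC : Nat.card C ≤ 21799895040) (o : ∀ i < 2, s i ^ 11 = 1)
    (o3 : orderOf (s 3) = 3) (r0 : ∀ i < 2, s i * s 3 * (s i)⁻¹ * (s 3)⁻¹ ∈ Q) (r2 : s 2 * s 3 * (s 2)⁻¹ * s 3 ∈ Q)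
    (fx : ∀ g, g ∈ Q ∨ g = s 3 → ∀ i < P.n, g • P.pt i = P.pt i) {w E1 E2 k : ℕ} (hw : 0 < w) (hn : P.n ≤ 2 ^ (w - 1))
    {nC nM : List Net} {sC sM u0 u1 : List (List ℕ)} {chC chM : List Lvl}
    (a1 : ∀ l < 3, NetRep P w (s l) (nth nC l)) (a2 : H13.slpOk w P.n nC 3 sC = true) (a3 : chainOk w P.n nC [] chC = true)
    (a4 : chainProd chC = 887040 ∧ ∀ b ∈ chainBase [] chC, b < 77)
    (b1 : ∀ l < 2, NetRep P w (s l) (nth nM l)) (b2 : H13.slpOk w P.n nM 2 sM = true) (b3 : chainOk w P.n nM [] chM = true)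
    (b4 : chainProd chM = 443520 ∧ ∀ b ∈ chainBase [] chM, b < 77) (c1 : transOk w P.n nM u0 E1 0 = true)
    (c2 : fixOk w P.n nM u1 [nthN [0, 15, 1] 0] = true) (c3 : labOk w P.n nM u1 E2 k [0, 15, 1] = true)
    (c4 : cntOk w P.n E2 k [1, 16, 60] = true) (c5 : primOk P.n [1, 16, 60] = true) :
    Nat.card C = 21799895040 ∧ Q.Normal ∧ (∃ N M : Subgroup C, N.Normal ∧ Q ≤ N ∧ N ≤ M ∧ Nat.card N = 3 * 2 ^ 13 ∧ M.index = 2 ∧
      ∃ (_ : (N.subgroupOf M).Normal), Cfsg.IsM22 (M ⧸ N.subgroupOf M)) ∧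
    ((∀ x ∈ centralizer (Q : Set C), x * (s 3)⁻¹ ∉ Q) → s 0 ∉ centralizer (Q : Set C) → centralizer (Q : Set C) ≤ Q) := by
  classical
  have S1 := sys_slp (gen := fun l => if l < 3 then s l else 1) hw hn (fun l h => by simpa [h] using a1 l h)
    (fun l h => if_neg (by omega)) a2
  have ch : ∀ K : Subgroup C, (∀ l < 3, s l ∈ K) → 887040 * Nat.card ↥(K ⊓ fixL C P (chainBase [] chC)) ≤ Nat.card K :=
    fun K h => by simpa [a4.1] using S1.chain_le (chainIn_of_gen (H := K) (slp_mem (fun l => by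
      split_ifs with c
      exacts [h l c, one_mem _]) _ _) _) a3
  have lo : ∀ K : Subgroup C, Q ≤ K → s 3 ∈ K → 24576 ≤ Nat.card K := fun K a b => Nat.le_of_dvd Nat.card_pos
    ((show Nat.Coprime 3 8192 by decide).mul_dvd_of_dvd_of_dvd (o3 ▸ K.orderOf_dvd_natCard b) (cQ ▸ card_dvd_of_le a))
  have fq : ∀ bs, (∀ b ∈ bs, b < 77) → ∀ g, g ∈ Q ∨ g = s 3 → g ∈ fixL C P bs := fun bs h g c b hb => fx g c b (hP ▸ h b hb)
  have qn : Q.Normal := normalizer_eq_top_iff.1 (eq_top_of_le_card _ (by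
    have := ch _ fun l hl => nq l (by omega)
    have := lo (normalizer (Q : Set C) ⊓ fixL C P (chainBase [] chC)) (le_inf le_normalizer fun x h => fq _ a4.2 x (.inl h))
      ⟨nq 3 (by decide), fq _ a4.2 _ (.inr rfl)⟩
    omega))
  let f := QuotientGroup.mk' Q
  have hf : ∀ x, f x = 1 ↔ x ∈ Q := QuotientGroup.eq_one_iff
  let N := (zpowers (f (s 3))).comap f
  have n1 : Q ≤ N := fun x hx => by simp [N, (hf x).2 hx]
  have n3 : s 3 ∈ N := mem_zpowers _
  have r1 : f (s 3) ≠ 1 := fun h => absurd (o3 ▸ cQ ▸ Q.orderOf_dvd_natCard ((hf _).1 h)) (by decide)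
  have r3 : orderOf (f (s 3)) = 3 := orderOf_eq_prime (orderOf_dvd_iff_pow_eq_one.1 ((orderOf_map_dvd f _).trans o3.dvd)) r1
  have n4 : ∀ bs, (∀ b ∈ bs, b < 77) → N ≤ fixL C P bs := fun bs h x ⟨k, e⟩ => by
    simpa using mul_mem (fq bs h _ (.inl ((hf (x * (s 3 ^ k)⁻¹)).1 (by simp [← e])))) (zpow_mem (fq bs h _ (.inr rfl)) k)
  have n5 := lo N n1 n3
  have t := ch ⊤ fun _ _ => trivial
  rw [top_inf_eq, card_top] at t
  have n6 : N = fixL C P (chainBase [] chC) := eq_of_le_of_card_ge (n4 _ a4.2) (by omega)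
  have n7 : Nat.card N = 24576 := by rw [← n6] at t; omega
  have cC : Nat.card C = 21799895040 := by rw [← n6] at t; omega
  have cj : ∀ {g x : C}, g * s 3 * g⁻¹ * x ∈ Q → f g * f (s 3) * (f g)⁻¹ = (f x)⁻¹ := fun h =>
    eq_inv_of_mul_eq_one_left (by simpa using (hf _).2 h)
  have nn : N.Normal := by
    let K := (normalizer (zpowers (f (s 3)) : Set (C ⧸ Q))).comap f
    have := ch K fun l hl => mem_normalizer_fintype (by
      rintro _ ⟨k, rfl⟩
      rw [← conj_zpow]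
      by_cases c : l < 2
      · rw [cj (r0 l c)]; simp
      · rw [show l = 2 by omega, cj r2]; simp)
    rw [← n6, inf_eq_right.2 (comap_mono le_normalizer), n7] at this
    have : (zpowers (f (s 3))).Normal := normalizer_eq_top_iff.1 (comap_injective (QuotientGroup.mk'_surjective Q)
      ((eq_top_of_le_card K (by omega)).trans (comap_top _).symm))
    infer_instance
  let M := (centralizer {f (s 3)}).comap f
  have m0 : ∀ {g}, g * s 3 * g⁻¹ * (s 3)⁻¹ ∈ Q → g ∈ M := fun h =>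
    mem_centralizer_singleton_iff.2 (mul_inv_eq_iff_eq_mul.1 (by simpa using cj h))
  have m1 : N ≤ M := comap_mono (zpowers_le_of_mem (mem_centralizer_singleton_iff.2 rfl))
  have m2 : M.index ≠ 1 := fun h => by
    have := cj r2
    rw [mem_centralizer_singleton_iff.1 ((index_eq_one.1 h).ge (mem_top (s 2))), mul_inv_cancel_right,
      eq_inv_iff_mul_eq_one, ← sq, ← orderOf_dvd_iff_pow_eq_one, r3] at this
    exact absurd this (by decide)
  let g : ℕ → M := fun l => if h : l < 2 then ⟨s l, m0 (r0 l h)⟩ else 1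
  have g1 : ∀ l < 2, NetRep P w (g l) (nth nM l) := fun l h => by simp only [g, dif_pos h]; exact b1 l h
  have S2 := sys_slp (gen := g) hw hn g1 (fun l h => dif_neg (by omega)) b2
  have cN : Nat.card (N.subgroupOf M) = 24576 := (Nat.card_congr (subgroupOfEquivOfLe m1).toEquiv).trans n7
  let K := closure (g '' {0, 1}) ⊔ N.subgroupOf M
  have k1 := S2.chain_le (chainIn_of_gen (H := K) (slp_mem (fun l => by
    by_cases c : l < 2
    · exact mem_sup_left (subset_closure ⟨l, by simp; omega, rfl⟩)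
    · simp only [g, dif_neg c, one_mem]) _ _) _) b3
  have k2 := card_le_of_le (show N.subgroupOf M ≤ K ⊓ fixL M P (chainBase [] chM) from
    le_inf le_sup_right fun x hx => n4 _ b4.2 hx)
  rw [b4.1, fixL_nil, inf_top_eq] at k1
  have k3 := K.card_le_card_group
  have k4 := M.index_mul_card
  have m3 : M.index = 2 := by
    have : M.index < 3 := lt_of_mul_lt_mul_right (a := Nat.card M) (by omega) (Nat.zero_le _)
    have := M.index_ne_zero_of_finite
    omega
  rw [m3] at k4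
  have k5 : K = ⊤ := eq_top_of_le_card K (by omega)
  have ix : (N.subgroupOf M).index = 443520 := by have := (N.subgroupOf M).index_mul_card; rw [cN] at this; omega
  have ho := S2.orbit_top_eq_set c1 (y := nthN [0, 15, 1] 0) (fun x => by
    obtain ⟨σ, e⟩ : x ∈ repSubgroup M P := (show K ≤ repSubgroup M P from sup_le ((closure_le _).2 (by
      rintro _ ⟨l, rfl | rfl, rfl⟩ <;> exact (g1 _ (by decide)).imp fun _ h => h.1)) fun y hy =>
        ⟨id, fun i hi => ⟨hi, n4 [i] (by simpa [hP] using hi) hy i (by simp)⟩⟩) (k5.ge trivial)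
    exact fun _ => e.smul_mem_set) (by rw [hP]; decide)
  have co := S2.isCoatom_stabilizer ho (fun u hu => S2.fix_of_ok c2 hu (by simp)) c3 c4 rfl c5
  have le : N.subgroupOf M ≤ stabilizer M (P.pt (nthN [0, 15, 1] 0)) := fun x hx => n4 [0] (by simp) hx 0 (by simp)
  have ri := relIndex_mul_index le
  rw [ix, index_stabilizer, ho, P.ncard_set, hP] at ri
  have sq := simple_quot co (N := N.subgroupOf M) ((normal_le_normalCore.2 le).antisymm' fun x hx => n6.ge fun b hb => by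
      obtain ⟨y, e⟩ := ho.ge (P.pt_mem (hP ▸ a4.2 b hb))
      have := mem_stabilizer_iff.1 (hx y⁻¹)
      rw [inv_inv, mul_smul, mul_smul, inv_smul_eq_iff] at this
      exact e ▸ this) (p := 11) (by rw [show relIndex _ _ = 5760 by omega]; decide) k5 (by
    rintro _ ⟨l, rfl | rfl, rfl⟩ <;> exact Subtype.ext (o _ (by decide)))
  refine ⟨cC, qn, ⟨N, M, nn, n1, m1, n7, m3, inferInstance, sq, ix⟩, fun h1 h2 => ?_⟩
  have d1 : ∀ x ∈ centralizer (Q : Set C), x ∈ N → x ∈ Q := fun x hx hN => by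
    obtain ⟨k, a, b⟩ := Finset.mem_image.1 (mem_zpowers_iff_mem_range_orderOf.1 hN)
    rw [r3, Finset.mem_range] at a
    interval_cases k
    · exact (hf x).1 (b.symm.trans (pow_zero _))
    · exact (h1 x hx ((hf _).1 (by simp [← b]))).elim
    · refine (h1 _ (mul_mem hx hx) ((hf _).1 ?_)).elim
      rw [map_mul, map_mul, map_inv, ← b, ← pow_orderOf_eq_one (f (s 3)), r3]; group
  have d2 : centralizer (Q : Set C) ≤ M := fun u hu => m0 (d1 _ (by
    simpa [mul_assoc] using mul_mem hu (normal_centralizer.conj_mem _ (inv_mem hu) (s 3)))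
    (mul_mem (nn.conj_mem _ n3 u) (inv_mem n3)))
  rcases sq.eq_bot_or_eq_top_of_normal _ (((normal_centralizer (H := Q)).subgroupOf M).map _
    (QuotientGroup.mk'_surjective (N.subgroupOf M))) with e | e
  · exact fun x hx => d1 x hx ((QuotientGroup.eq_one_iff (N := N.subgroupOf M) ⟨x, d2 hx⟩).1 (mem_bot.1 (e.le ⟨_, hx, rfl⟩)))
  obtain ⟨d, e1, e2⟩ := e.ge (mem_top (QuotientGroup.mk' _ (g 0)))
  have := N.orderOf_dvd_natCard ((QuotientGroup.eq (a := d) (b := g 0)).1 e2)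
  refine (h2 ((QuotientGroup.eq_one_iff _).1 (orderOf_eq_one_iff.1 (Nat.eq_one_of_dvd_coprimes
    (show Nat.Coprime 11 24576 by decide) (orderOf_dvd_of_pow_eq_one ?_) (.trans ?_ (n7 ▸ this)))))).elim
  · rw [← QuotientGroup.mk_pow, o 0 (by decide), QuotientGroup.mk_one]
  · refine (congrArg orderOf ?_).dvd.trans (orderOf_map_dvd (QuotientGroup.mk' (centralizer (Q : Set C))) _)
    simp [(QuotientGroup.eq_one_iff (N := centralizer (Q : Set C)) (d : C)).2 e1, g]

end H15
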