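import Cfsg.Agent.H15.J4CAf
import Cfsg.Agent.H15.J4P
import Cfsg.Agent.H15.Vy

/-! The fourth Janko group: the centraliser of a 2-central involution (namespace H15.J4). -/

set_option maxRecDepth 100000

namespace H15.J4
open H13 Cfsg Subgroup J4C MulAction
open scoped commutatorElement

/-- the coding of the subgroup -/
noncomputable abbrev S9 : Sem H mul one wf := (S V12 h12).sub _

theorem I9 : SInj S9 := SInj.sub (fun _ _ => V12.sem_inj h1 h12) _

/-- the coding of its image -/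
noncomputable def SH : Sem M mul one wf := S9.map ψ

theorem IH : SInj SH := fun a b x y e => I9 a b x y (ψ_inj e)

/-- the coding of the model -/
noncomputable def SG : Sem M J4M.mul J4M.one J4M.wf := J4M.SM V h2

theorem IG : SInj SG := J4M.sinj V h2

/-- values of words -/
noncomputable abbrev ev : List ℕ → M := evalW (sg gm)

theorem vH' {u : List ℕ} (h : inDom 20 dom9 u = true) : SH.ok (pH u) ∧ SH.val (pH u) = ev u :=
  have := S9.prodW_spec (L9 V12 h12).ok u
  ⟨this.1, (congrArg ψ (this.2.trans ((L9 V12 h12).evalW_base h))).trans (map_base hψ h)⟩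

theorem vM' {u : List ℕ} (h : inDom 20 (List.range 10) u = true) : SG.ok (pM u) ∧ SG.val (pM u) = ev u :=
  have := SG.prodW_spec (J4M.bc_ok V h2) u
  ⟨this.1, this.2.trans (ev_M h)⟩

theorem of_lH {ws : List (List ℕ)} {cs : List ℕ} (h : lH ws cs = true) : (∀ c ∈ cs, SH.ok c) ∧ cs.map SH.val = ws.map ev := by
  obtain ⟨a, b⟩ := band_eq_true.1 h
  rw [← eqL_iff.1 b, mapR_eq, List.forall_mem_map, List.map_map]
  exact ⟨fun u hu => (vH' (allL_iff.1 a u hu)).1, List.map_congr_left fun u hu => (vH' (allL_iff.1 a u hu)).2⟩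

theorem of_lM {ws : List (List ℕ)} {cs : List ℕ} (h : lM ws cs = true) : (∀ c ∈ cs, SG.ok c) ∧ cs.map SG.val = ws.map ev := by
  obtain ⟨a, b⟩ := band_eq_true.1 h
  rw [← eqL_iff.1 b, mapR_eq, List.forall_mem_map, List.map_map]
  exact ⟨fun u hu => (vM' (allL_iff.1 a u hu)).1, List.map_congr_left fun u hu => (vM' (allL_iff.1 a u hu)).2⟩

theorem le_cl {cs : List ℕ} (h0 : ∀ c ∈ cs, SH.ok c) {lv : List VL}
    (h : vchainOk (app 12 1) (wfT 12 1) mul one cs [] lv = true) : (lv.map VL.d).prod ≤ Nat.card (clL (cs.map SH.val)) := by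
  have := V12.le_card (S := S9) (V12.sub_smul h1 h12 _) h0 (H := (clL (cs.map SH.val)).comap ψ) (fun _ _ _ _ =>
    evalW_mem fun l _ => nthD_prop (p := fun c => SH.val c ∈ clL (cs.map SH.val)) (SH.val_one ▸ one_mem _)
      (fun c hc => mem_clL (List.mem_map_of_mem hc)) l) h
  rw [← card_map_of_injective ψ_inj] at this
  exact this.trans (card_le_of_le (map_comap_le _ _))

/-- the elementary abelian subgroup of order `2 ^ 11` -/
noncomputable def E : Subgroup M := clL (vH.map SH.val)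

theorem E_eq : clL (vM.map SG.val) = E := congrArg clL ((of_lM vM_ok).2.trans (of_lH vH_ok).2.symm)

theorem pcE : PcL (vH.map SH.val) := pcL_of (of_lH vH_ok).1 vpc_ok

theorem card_E : Nat.card E = 2048 :=
  (pcE.card_le (of_lH vH_ok).1).antisymm (vv_d.ge.trans (le_cl (of_lH vH_ok).1 vv_ok))

theorem gH {i : ℕ} (h : i < 9) : SH.ok (nthD one lc9 (2 * i)) ∧ SH.val (nthD one lc9 (2 * i)) = gm i := by
  have := vH' (u := [2 * i]) (by revert i; decide +kernel)
  rw [show pH [2 * i] = nthD one lc9 (2 * i) by clear this; revert i; decide +kernel] at this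
  simpa [sg_even] using this

theorem nE : ψ.range ≤ normalizer (E : Set M) := by
  rw [range_eq hψ]
  refine (closure_le _).2 ?_
  rintro _ ⟨i, hi : i ∈ dom9, rfl⟩
  have : i < 9 := by revert i; decide
  exact (gH this).2 ▸ nrm_of (of_lH vH_ok).1 (gH this).1 (allLt_iff.1 vn_ok i this)

theorem cE : ∀ a ∈ E, ∀ b ∈ E, a * b = b * a := fun a ha b hb => mem_centralizer_singleton_iff.1 (clL_le (K := centralizer {b})
  (List.forall_mem_map.2 fun c hc => mem_centralizer_singleton_iff.2 (mem_centralizer_singleton_iff.1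
    (clL_le (K := centralizer {SH.val c}) (fun x hx => mem_centralizer_singleton_iff.2 ((cmA_iff IH (of_lH vH_ok).1
      ((of_lH vH_ok).1 c hc)).1 (by revert c; decide +kernel) x hx).symm) hb)).symm) ha)

theorem vx_of {W ns : List ℕ} {n : ℕ} (h : ∀ i < 4, vxOk W ns i = true) (e : ns.length = 4 ∧ ns.sum = n) {x : M} {U : List ℕ}
    (hx : x = ev U) (hW : U = W ∧ inDom 20 (List.range 10) W = true ∧ inDom 20 (List.range 10) (invW W) = true) :
    {v | v ∈ E ∧ x⁻¹ * v * x ∈ E}.ncard ≤ n := by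
  obtain ⟨rfl, a, b⟩ := hW
  exact PcL.vx IG (of_lM vM_ok).1 ((congrArg PcL ((of_lM vM_ok).2.trans (of_lH vH_ok).2.symm)).ge pcE) E_eq cE
    (hx ▸ vM' a) (hx ▸ evalW_invW gm U ▸ vM' b) h e

/-- the involution -/
noncomputable def z : M := ev zw

theorem z_eq : ψ (S9.val (pH zw)) = z := (vH' zb_ok.1).2

theorem z_mem : z ∈ E := by
  have := prodW_clL (of_lH vH_ok).1 zb
  rwa [← zb_ok.2, (vH' zb_ok.1).2] at this

theorem cz : Nat.card (centralizer ({S9.val (pH zw)} : Set H)) ≤ 283115520 :=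
  card_cent_le I9 (lc := pH zw :: lc9) (t := 0) (List.forall_mem_cons.2 ⟨(vH' zb_ok.1).1, (L9 V12 h12).ok⟩) zc_ok
    ((card9 V12 h12).trans (by norm_num))

theorem zH : SH.ok (nthD one qH 12) ∧ SH.val (nthD one qH 12) = z :=
  (show pH zw = nthD one qH 12 by decide +kernel) ▸ vH' zb_ok.1

theorem z_ord : orderOf z = 2 := by
  have := ord_of IH (of_lH qH_ok).1 Nat.prime_two (u := [12]) (k := 1) (by decide +kernel)
  rwa [pow_one, evalW_cons, evalW_nil, mul_one, Sem.gen, zH.2] at this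

theorem xv : (XV ψ.range E z).ncard ≤ 77 := by
  have K := ((C9 V12 h12) M gm ψ rel hψ).2
  rw [show mdl gm [0, 1, 2, 3, 4, 5, 6, 7, 8, 9] = ⊤ from gm_top] at K
  have a : Wd SH T9 (xs gm nodes9) 1 1 = ev [18] := by rw [Wd, if_pos le_rfl]; exact (mul_one _).symm
  have s : ∀ {i j k u U U'}, inDom 20 dom9 u = true ∧ 1 < i ∧ j < i ∧ k < i ∧ (T9.look i).j = j ∧ (T9.look i).k = k ∧
      (T9.look i).t = pH u → Wd SH T9 (xs gm nodes9) 1 j = ev U → Wd SH T9 (xs gm nodes9) 1 k = ev U' →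
      Wd SH T9 (xs gm nodes9) 1 i = ev (U ++ u ++ U') := fun h b c => by
    rw [Wd_step h.2, b, c, (vH' h.1).2, ev, evalW_append, evalW_append]
  have := K.cntX ψ_inj nE (m := S9.val (pH zw)) (fun h => by simpa [← z_eq, h] using z_ord) (z_eq ▸ z_mem)
    (ns := [7, 1, 0, 0, 0, 0]) (.cons (vx_of vx0 xn0_s a (by decide +kernel)) (.cons (vx_of vx1 xn1_s (s st709 a a)
      (by decide +kernel)) (.cons (vx_of vx2 xn2_s (s st897 a a) (by decide +kernel)) (.cons (vx_of vx3 xn3_s (s st1029 a a)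
      (by decide +kernel)) (.cons (vx_of vx4 xn4_s (s st1073 a (s st709 a a)) (by decide +kernel))
      (.cons (vx_of vx5 xn5_s (s st1145 a (s st897 a a)) (by decide +kernel)) .nil)))))) (card9 V12 h12) cz
  rwa [z_eq] at this

theorem czH : Nat.card ↥(centralizer {z} ⊓ ψ.range) ≤ 283115520 := by
  refine le_trans (card_le_of_le ?_) ((card_map_of_injective ψ_inj).le.trans cz)
  rintro _ ⟨a, x, rfl⟩
  refine ⟨x, mem_centralizer_singleton_iff.2 (ψ_inj ?_), rfl⟩
  rw [map_mul, map_mul, z_eq]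
  exact mem_centralizer_singleton_iff.1 a

theorem cz_le : Nat.card (centralizer ({z} : Set M)) ≤ 21799895040 :=
  (orbit_XV (H := ψ.range) z_mem).2 ▸ Nat.mul_le_mul ((Set.ncard_le_ncard (orbit_XV z_mem).1).trans xv) czH

/-- the extraspecial group -/
noncomputable def Q : Subgroup M := clL (qH.map SH.val)

theorem Q_eq : clL (qM.map SG.val) = Q := congrArg clL ((of_lM qM_ok).2.trans (of_lH qH_ok).2.symm)

theorem card_Q : Nat.card Q = 8192 :=
  ((pcL_of (of_lH qH_ok).1 qpc_ok).card_le (of_lH qH_ok).1).antisymm (qv_d.ge.trans (le_cl (of_lH qH_ok).1 qv_ok))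

theorem gM_o (i : ℕ) : SG.ok (nthD J4M.one gM i) := nthD_prop SG.ok_one (of_lM gM_ok).1 i

theorem exQ : H04.AES 2 Q z ∧ ∀ x ∈ Q, (∀ q ∈ Q, q * x = x * q) ∨ ⁅SG.gen gM 3, x⁆ ∈ zpowers z → x ∈ zpowers z := by
  have r := of_lH rH_ok
  have := ex_of IH (of_lH qH_ok).1 (pcL_of (of_lH qH_ok).1 qpc_ok) zH.1 (r.1 _ (List.mem_singleton_self _)) (zH.2 ▸ z_ord)
    (mem_clL (List.mem_map_of_mem (by decide +kernel))) qz_ok qx qn_s
  rwa [zH.2, (List.cons.inj r.2).1, ← (vM' (by decide +kernel)).2, show pM (nthW gw 3) = nthD J4M.one gM 3 by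
    decide +kernel] at this

noncomputable instance : MulAction M (Fin 112 → ZMod 2) := inferInstanceAs (MulAction (J4M.M V h2) _)

theorem smulG {c : ℕ} (h : SG.ok c) (v : Fin 112 → ZMod 2) : SG.val c • v = (V.mat c).mulVec v := V.sub_smul J4M.h1 h2 _ c h v

/-- generators of the centraliser -/
noncomputable def sz (i : ℕ) : centralizer ({z} : Set M) := ⟨SG.gen gM i, nthD_prop
  (p := fun c => SG.val c ∈ centralizer {z}) (SG.val_one ▸ one_mem _) (fun c hc => mem_centralizer_singleton_iff.2 (by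
    have := vM' (u := zw) (by decide +kernel)
    rw [show pM zw = nthD J4M.one qM 12 by decide +kernel] at this
    exact (show _ = z from this.2) ▸ ((cmA_iff IG (of_lM gM_ok).1 this.1).1 gz_ok _ (List.mem_map_of_mem hc)).symm)) i⟩

theorem Q_le : Q ≤ centralizer {z} := fun x hx => mem_centralizer_singleton_iff.2 (exQ.1.cent x hx)

theorem pq (u : List ℕ) : SG.ok (prodW J4M.mul J4M.one qM u) ∧ SG.val (prodW J4M.mul J4M.one qM u) ∈ Q :=
  ⟨(SG.prodW_spec (of_lM qM_ok).1 u).1, Q_eq ▸ prodW_clL (of_lM qM_ok).1 u⟩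

theorem og {i p : ℕ} (hp : p.Prime) (h : ordOk J4M.mul J4M.one gM [i] 1 p = true) : orderOf (SG.gen gM i) = p := by
  simpa using ord_of IG (of_lM gM_ok).1 hp h

theorem o3 : orderOf (SG.gen gM 3) = 3 := og Nat.prime_three (band_eq_true.1 (band_eq_true.1 go_ok).2).2

theorem r01 {i : ℕ} (hi : i < 2) : SG.gen gM i * SG.gen gM 3 * (SG.gen gM i)⁻¹ * (SG.gen gM 3)⁻¹ ∈ Q := by
  have a := allLt_iff.1 gr_ok i hi
  have o : SG.ok gM_3 := gM_o 3
  rw [force_eq, force_eq] at a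
  have b := (IG.bq (gM_o i) o (SG.ok_mul (pq (nthW gr i)).1 o) (gM_o i)).1 a
  rw [SG.val_mul (pq _).1 o] at b
  rw [Sem.gen, show SG.gen gM 3 = SG.val gM_3 from rfl, b, mul_inv_cancel_right, mul_inv_cancel_right]
  exact (pq _).2

theorem r2 : SG.gen gM 2 * SG.gen gM 3 * (SG.gen gM 2)⁻¹ * SG.gen gM 3 ∈ Q := by
  have a := gj_ok
  have o : SG.ok gM_3 := gM_o 3
  have o' : SG.ok gM_2 := gM_o 2
  rw [force_eq, force_eq, force_eq] at a
  have b := (IG.bq o' o (SG.ok_mul (SG.ok_mul (pq (nthW gr 2)).1 o) o) o').1 a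
  rw [SG.val_mul (SG.ok_mul (pq _).1 o) o, SG.val_mul (pq _).1 o] at b
  have c : SG.val gM_3 ^ 3 = 1 := orderOf_dvd_iff_pow_eq_one.1 o3.dvd
  rw [show SG.gen gM 2 = SG.val gM_2 from rfl, show SG.gen gM 3 = SG.val gM_3 from rfl, b, mul_inv_cancel_right, mul_assoc,
    mul_assoc, ← pow_three, c, mul_one]
  exact (pq _).2

/-- the 77 points -/
noncomputable def P77 : Pts (Fin 112 → ZMod 2) := V.pts tb_wf tb_inc

theorem fx {c : ℕ} (hc : c ∈ gM_3 :: qM) (o : SG.ok c) : SG.val c ∈ fixL M P77 (List.range 77) := fun i hi =>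
  (smulG o _).trans ((V.vec_app' (SG.wf_of_ok o) tb_wf (List.mem_range.1 hi)).symm.trans
    (congrArg (fun t => V.vec (get 113 t i)) (Nat.eq_of_beq_eq_true (allL_iff.1 tb_fix c hc))))

theorem nr {l : ℕ} {N : Net} (h : VCod.vecOk J4M.app 113 77 tb (nthD J4M.one gM l) N = true) : NetRep P77 113 (sz l) N :=
  V.netRep tb_wf tb_inc (SG.wf_of_ok (gM_o l)) (smulG (gM_o l)) h

theorem st22 : Nat.card (centralizer ({z} : Set M)) = 21799895040 ∧ (Q.subgroupOf (centralizer {z})).Normal ∧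
    (∃ N M' : Subgroup (centralizer ({z} : Set M)), N.Normal ∧ Q.subgroupOf _ ≤ N ∧ N ≤ M' ∧ Nat.card N = 3 * 2 ^ 13 ∧
      M'.index = 2 ∧ ∃ (_ : (N.subgroupOf M').Normal), IsM22 (M' ⧸ N.subgroupOf M')) ∧
    ((∀ x ∈ centralizer (Q.subgroupOf (centralizer {z}) : Set (centralizer {z})), x * (sz 3)⁻¹ ∉ Q.subgroupOf _) →
      sz 0 ∉ centralizer (Q.subgroupOf (centralizer {z}) : Set (centralizer {z})) →
      centralizer (Q.subgroupOf (centralizer {z}) : Set (centralizer {z})) ≤ Q.subgroupOf _) := by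
  have a : ∀ l < 4, sz l ∈ normalizer (Q.subgroupOf (centralizer {z}) : Set (centralizer {z})) := fun l hl =>
    le_normalizer_comap _ (Q_eq ▸ nrm_of (of_lM qM_ok).1 (gM_o l) (allLt_iff.1 gn_ok l hl))
  have b : ∀ i < 2, sz i ^ 11 = 1 := fun i hi => Subtype.ext (orderOf_dvd_iff_pow_eq_one.1 (og (i := i) (by norm_num) (by
    interval_cases i; exacts [(band_eq_true.1 go_ok).1, (band_eq_true.1 (band_eq_true.1 go_ok).2).1])).dvd)
  have c : ∀ g : centralizer {z}, g ∈ Q.subgroupOf _ ∨ g = sz 3 → ∀ i < P77.n, g • P77.pt i = P77.pt i := fun g hg i hi =>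
    (show (g : M) ∈ fixL M P77 _ from hg.elim (fun h => clL_le (List.forall_mem_map.2 fun c hc =>
      fx (List.mem_cons_of_mem _ hc) ((of_lM qM_ok).1 c hc)) (Q_eq.ge h)) (· ▸ fx List.mem_cons_self (gM_o 3))) i
      (List.mem_range.2 hi)
  have n : P77.n = 77 := rfl
  exact struct22 a n ((Nat.card_congr (subgroupOfEquivOfLe Q_le).toEquiv).trans card_Q) cz_le b
    ((orderOf_coe _).symm.trans o3) (fun _ => r01) r2 c (w := 113) (by decide) (by decide)
    (fun l hl => nr (allLt_iff.1 nC_ok l hl)) (n ▸ sC_ok) (n ▸ chC_ok) chC_d (fun l hl => nr (allLt_iff.1 nM_ok l hl))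
    (n ▸ sM_ok) (n ▸ chM_ok) chM_d (n ▸ tE_ok) (n ▸ u1_ok) (n ▸ lE_ok) (n ▸ lE_c) (n ▸ lE_p)

theorem nQ : ¬ Q ≤ zpowers z := fun h => by
  have := card_le_of_le h
  rw [card_Q, Nat.card_zpowers, z_ord] at this
  omega

theorem s0476 : ∃ (G : Type) (_ : Group G) (_ : Finite G), IsJ4 G ∧ ∃ z : G, orderOf z = 2 ∧
    ∃ (Q N M : Subgroup (centralizer ({z} : Set G))), Q.Normal ∧ N.Normal ∧ Q ≤ N ∧ N ≤ M ∧ Nat.card Q = 2 ^ 13 ∧
      IsExtraspecial 2 Q ∧ Nat.card N = 3 * 2 ^ 13 ∧ M.index = 2 ∧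
      ∃ (_ : (N.subgroupOf M).Normal), IsM22 (M ⧸ N.subgroupOf M) :=
  let ⟨_, a, ⟨N, M', b, c, d, e⟩, _⟩ := st22
  ⟨M, inferInstance, inferInstance, ⟨simple_M, card_M⟩, z, z_ord, _, N, M', a, b, c, d,
    (Nat.card_congr (subgroupOfEquivOfLe Q_le).toEquiv).trans card_Q,
    extra_of exQ.1 Q_le (fun x hx h => exQ.2 x hx (.inl h)) nQ, e⟩

end H15.J4
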