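import Cfsg.Agent.H15.J4CAa

/-! The fourth Janko group: the centraliser of an involution. Data. -/

set_option maxRecDepth 100000
set_option Elab.async false

namespace H15.J4C
open H13

/-- elements of `V` commuting with a conjugate -/
noncomputable def vxOk (W ns : List ℕ) (i : ℕ) : Bool :=
  force (pM W) fun w => force (pM (invW W)) fun wi => forceM (fun v => force (J4M.mul v wi) (J4M.mul w)) vM fun L =>
    cnt4 J4M.mul J4M.one (cmA J4M.mul L) vM ns i

noncomputable def W0 : List ℕ :=
  [nat_lit 18]

noncomputable def xn0 : List ℕ :=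
  (unp (nat_lit 2) (nat_lit 0xaa04))

noncomputable def W1 : List ℕ :=
  (unp (nat_lit 5) (nat_lit 0x121110a2204a13148038085010a131c442990629047304a4015229))

noncomputable def xn1 : List ℕ :=
  (unp (nat_lit 2) (nat_lit 516))

noncomputable def W2 : List ℕ :=
  (unp (nat_lit 5) (nat_lit 0x48823200a23142411920f))

noncomputable def xn2 : List ℕ :=
  (unp (nat_lit 1) (nat_lit 260))

noncomputable def W3 : List ℕ :=
  (unp (nat_lit 5) (nat_lit 0x491203))

noncomputable def xn3 : List ℕ :=
  (unp (nat_lit 1) (nat_lit 260))

noncomputable def W4 : List ℕ :=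
  (unp (nat_lit 5) (nat_lit 0x4844428881284c5200e021404284c7110a6418a411cc12900549122b))

noncomputable def xn4 : List ℕ :=
  (unp (nat_lit 1) (nat_lit 260))

noncomputable def W5 : List ℕ :=
  (unp (nat_lit 5) (nat_lit 0x12208c80288c509046491211))

noncomputable def xn5 : List ℕ :=
  (unp (nat_lit 1) (nat_lit 260))

end H15.J4C
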