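import Cfsg.Agent.H15.J4CAb

/-! The fourth Janko group: the centraliser of an involution. Checks. -/

set_option maxRecDepth 100000
set_option Elab.async false

namespace H15.J4C
open H13

theorem vx0_0 : rng (vxOk W0 xn0) (nat_lit 0) (nat_lit 1) = true := by decide +kernel

theorem vx0_1 : rng (vxOk W0 xn0) (nat_lit 1) (nat_lit 1) = true := by decide +kernel

theorem vx0_2 : rng (vxOk W0 xn0) (nat_lit 2) (nat_lit 1) = true := by decide +kernel

theorem vx0_3 : rng (vxOk W0 xn0) (nat_lit 3) (nat_lit 1) = true := by decide +kernel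

theorem xn0_s : xn0.length = 4 ∧ xn0.sum = 8 := by decide +kernel

theorem vx1_0 : rng (vxOk W1 xn1) (nat_lit 0) (nat_lit 1) = true := by decide +kernel

theorem vx1_1 : rng (vxOk W1 xn1) (nat_lit 1) (nat_lit 1) = true := by decide +kernel

theorem vx1_2 : rng (vxOk W1 xn1) (nat_lit 2) (nat_lit 1) = true := by decide +kernel

theorem vx1_3 : rng (vxOk W1 xn1) (nat_lit 3) (nat_lit 1) = true := by decide +kernel

theorem xn1_s : xn1.length = 4 ∧ xn1.sum = 2 := by decide +kernel

end H15.J4C
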