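import Cfsg.Agent.H15.J4CAb

/-! The fourth Janko group: the centraliser of an involution. Checks. -/

set_option maxRecDepth 100000
set_option Elab.async false

namespace H15.J4C
open H13

theorem vx4_0 : rng (vxOk W4 xn4) (nat_lit 0) (nat_lit 1) = true := by decide +kernel

theorem vx4_1 : rng (vxOk W4 xn4) (nat_lit 1) (nat_lit 1) = true := by decide +kernel

theorem vx4_2 : rng (vxOk W4 xn4) (nat_lit 2) (nat_lit 1) = true := by decide +kernel

theorem vx4_3 : rng (vxOk W4 xn4) (nat_lit 3) (nat_lit 1) = true := by decide +kernel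

theorem xn4_s : xn4.length = 4 ∧ xn4.sum = 1 := by decide +kernel

theorem vx5_0 : rng (vxOk W5 xn5) (nat_lit 0) (nat_lit 1) = true := by decide +kernel

theorem vx5_1 : rng (vxOk W5 xn5) (nat_lit 1) (nat_lit 1) = true := by decide +kernel

theorem vx5_2 : rng (vxOk W5 xn5) (nat_lit 2) (nat_lit 1) = true := by decide +kernel

theorem vx5_3 : rng (vxOk W5 xn5) (nat_lit 3) (nat_lit 1) = true := by decide +kernel

theorem xn5_s : xn5.length = 4 ∧ xn5.sum = 1 := by decide +kernel

end H15.J4C
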