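import Cfsg.Agent.H15.J4CAc
import Cfsg.Agent.H15.J4CAd
import Cfsg.Agent.H15.J4CAe

/-! The fourth Janko group: the centraliser of an involution. -/

set_option maxRecDepth 100000
set_option Elab.async false

namespace H15.J4C
open H13

theorem vx0 : ∀ i < 4, (vxOk W0 xn0) i = true :=
  (rng_add (rng_add (rng_add (rng_add rng_zero vx0_0) vx0_1) vx0_2) vx0_3)

theorem vx1 : ∀ i < 4, (vxOk W1 xn1) i = true :=
  (rng_add (rng_add (rng_add (rng_add rng_zero vx1_0) vx1_1) vx1_2) vx1_3)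

theorem vx2 : ∀ i < 4, (vxOk W2 xn2) i = true :=
  (rng_add (rng_add (rng_add (rng_add rng_zero vx2_0) vx2_1) vx2_2) vx2_3)

theorem vx3 : ∀ i < 4, (vxOk W3 xn3) i = true :=
  (rng_add (rng_add (rng_add (rng_add rng_zero vx3_0) vx3_1) vx3_2) vx3_3)

theorem vx4 : ∀ i < 4, (vxOk W4 xn4) i = true :=
  (rng_add (rng_add (rng_add (rng_add rng_zero vx4_0) vx4_1) vx4_2) vx4_3)

theorem vx5 : ∀ i < 4, (vxOk W5 xn5) i = true :=
  (rng_add (rng_add (rng_add (rng_add rng_zero vx5_0) vx5_1) vx5_2) vx5_3)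

end H15.J4C
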