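import Cfsg.Agent.H15.J4P
import Cfsg.Agent.H14.MSimple

/-! The fourth Janko group: the first two generators generate the Mathieu group (namespace H15.J4). -/

set_option maxRecDepth 100000

namespace H15.J4
open H13 Cfsg Cfsg.Spor J4W

/-- two generators of the Mathieu group -/
noncomputable def gX (i : ℕ) : Cfsg.M24 := evalW g24 (nthW [[1], [15, 17]] i)

/-- the same with inverses -/
def lw : List (List ℕ) := [[1], [1], [15, 17], [15, 17, 15, 17]]

theorem ev24 {u v : List ℕ} (h : Nat.beq (tabW 6 24 nets24 v) (tabW 6 24 nets24 u) = true) : evalW g24 u = evalW g24 v :=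
  sys24.evalW_eq (faith24 ⊤) (fun _ => trivial) h

theorem sgX (l : ℕ) : sg gX l = evalW g24 (nthW lw l) := by
  by_cases h : l < 4
  · interval_cases l
    · rfl
    · exact inv_eq_of_mul_eq_one_right ((evalW_append _ _ _).symm.trans (ev24 (v := []) (by decide +kernel)))
    · rfl
    · exact inv_eq_of_mul_eq_one_right ((evalW_append _ _ _).symm.trans (ev24 (v := []) (by decide +kernel)))
  · have : gX (l / 2) = 1 := by
      rw [gX, nthW_eq, List.getD_eq_default _ _ (by simp; omega)]; rfl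
    rw [nthW_eq, List.getD_eq_default _ _ (by simp [lw]; omega), sg, this]; simp

theorem evX (u : List ℕ) : evalW (sg gX) u = evalW g24 (u.flatMap (nthW lw)) := by
  induction u with
  | nil => rfl
  | cons l u ih => rw [evalW_cons, List.flatMap_cons, evalW_append, ih, sgX]

theorem relX : Rels (Rl.take 7) gX := fun r hr => by
  rw [← evalW_pw, evX]
  exact ev24 (v := []) (by revert r; decide +kernel)

theorem top_X {K : Subgroup Cfsg.M24} (h : ∀ i ∈ [0, 1], gX i ∈ K) : K = ⊤ := by
  have k : ∀ {i u}, i < 3 → inDom 80 [0, 1] u = true →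
      Nat.beq (tabW 6 24 nets24 (u.flatMap (nthW lw))) (tabW 6 24 nets24 [i]) = true → g0 i ∈ K := fun hi a b => by
    have := ev24 b
    rw [← evX, evalW_cons, evalW_nil, mul_one, g24_of_lt hi] at this
    exact this ▸ word_mem h a
  exact eq_top_of_g0
    (k (u := [2, 0, 2, 0, 3, 0, 3, 0, 3, 0, 3, 0, 3, 0, 2, 0, 2, 0, 2, 0, 3, 0, 2, 0, 2, 0, 2, 0, 2, 0, 3, 0, 3, 0, 2, 0, 2,
      0, 3, 0, 2, 0, 3, 0, 3, 0, 2]) (by decide) (by decide +kernel) (by decide +kernel))
    (k (u := [0]) (by decide) (by decide +kernel) (by decide +kernel))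
    (k (u := [2, 0, 2, 0, 3, 0, 3, 0, 3, 0, 3, 0, 2, 0, 3, 0, 3, 0, 3, 0, 2, 0, 2, 0, 2, 0, 2, 0, 3, 0, 3, 0, 3, 0, 3, 0, 2,
      0, 2, 0, 2, 0, 2, 0, 2, 0, 2, 0, 2]) (by decide) (by decide +kernel) (by decide +kernel))

/-- the complement is the Mathieu group -/
theorem iso8 : Nonempty (mdl (g V12 h12) dom8 ≃* Cfsg.M24) := by
  have a := top7 relX
  obtain ⟨θ, hθ⟩ := U8 V12 h12 _ _ (a.sub (by decide +kernel))
  have s : θ.range = ⊤ := top_X fun i hi => by
    have e : Rels [((2 * (10 + i) + 1) :: nthW wb i, 1)] _ := a.sub (by revert i; decide +kernel)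
    have := eq_of_rel e
    rw [subG, show nthW ws (10 + i) = [2 * i] by clear e this; revert i; decide +kernel, evalW_cons, evalW_nil, mul_one,
      sg_even] at this
    rw [this, range_eq hθ]
    exact word_mem (fun _ => mem_mdl _) (by clear e this; revert i; decide +kernel)
  have := fin8 V12 h12
  exact ⟨MulEquiv.ofBijective θ ((MonoidHom.range_eq_top.1 s).bijective_of_nat_card_le (by rw [card8, card_M24]))⟩

theorem iso_xy : Nonempty (((Subgroup.closure ({J4.x, J4.y} : Set (FreeGroup J4.Gen))).map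
    (PresentedGroup.mk (coxRelators J4.edges ∪ {r | r ∈ J4.extra}))) ≃* Cfsg.M24) := by
  obtain ⟨i⟩ := iso8
  obtain ⟨θ, hθ⟩ := U8 V12 h12 _ _ (rel.sub (by decide +kernel))
  have := H14.simple_M24
  have := i.isSimpleGroup
  have r : θ.range = mdl xm [0, 1] := (range_eq hθ).trans mdl_xy.symm
  have j : Function.Injective θ := (MonoidHom.ker_eq_bot_iff _).1 (θ.normal_ker.eq_bot_or_eq_top.resolve_right fun c => by
    obtain ⟨y, hy⟩ : xm 0 ∈ θ.range := r ▸ mem_mdl _ (by decide)
    exact xm_ne (hy.symm.trans (MonoidHom.mem_ker.1 (c ▸ Subgroup.mem_top _))))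
  have q : (Subgroup.closure ({J4.x, J4.y} : Set (FreeGroup J4.Gen))).map
      (PresentedGroup.mk (coxRelators J4.edges ∪ {r | r ∈ J4.extra})) = θ.range.map (e : M →* Spor.J4) := by
    rw [r, mdl, MonoidHom.map_closure, MonoidHom.map_closure,
      show xm '' {i | i ∈ [0, 1]} = {xm 0, xm 1} by
        rw [show {i | i ∈ [0, 1]} = ({0, 1} : Set ℕ) by ext; simp, Set.image_pair]]
    simp only [Set.image_insert_eq, Set.image_singleton, MonoidHom.coe_coe]
    rw [he2 0 (by decide), he2 1 (by decide)]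
    rfl
  exact ⟨(MulEquiv.subgroupCongr q).trans ((e.subgroupMap _).symm.trans ((MonoidHom.ofInjective j).symm.trans i))⟩

end H15.J4
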