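import Cfsg.Agent.H15.J4OAa
import Cfsg.Agent.H15.J4X
import Cfsg.Agent.S2064

/-! The fourth Janko group: every automorphism is inner (namespace H15.J4). -/

set_option maxRecDepth 100000

namespace H15.J4
open H13 Cfsg Subgroup J4C J4O J4W MulAction
open scoped Pointwise commutatorElement

theorem eqM_iff {u v u' v' : List ℕ} (a : inDom 20 (List.range 10) (u ++ v) = true ∧ inDom 20 (List.range 10) (u' ++ v') = true) :
    eqM (u ++ v) (u' ++ v') = true ↔ ev u * ev v = ev u' * ev v' := by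
  rw [eqM, band_eq_true, band_eq_true, IG.beq (vM' a.1).1 (vM' a.2).1, (vM' a.1).2, (vM' a.2).2, ev, evalW_append, evalW_append]
  exact and_iff_right a

theorem eq_M {u v u' v' : List ℕ} (h : eqM (u ++ v) (u' ++ v') = true) : ev u * ev v = ev u' * ev v' :=
  (eqM_iff (band_eq_true.1 (band_eq_true.1 h).1)).1 h

theorem oV : ∀ c ∈ vH, SH.ok c := (of_lH vH_ok).1

theorem oS : ∀ c ∈ J4O.sH, SH.ok c := (of_lH sH_ok).1

theorem clH {cs : List ℕ} : clL (cs.map SH.val) ≤ ψ.range := clL_le (List.forall_mem_map.2 fun _ _ => ⟨_, rfl⟩)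

theorem evH {u : List ℕ} (h : inDom 80 dom9 u = true) : ev u ∈ ψ.range := range_eq hψ ▸ word_mem (fun _ => mem_mdl _) h

theorem o11 : orderOf (ev e11) = 11 := by
  have o := ord_of IH (L9 V12 h12).ok (by norm_num) e11_o
  rwa [pow_one, show evalW _ e11 = _ from (SH.prodW_spec (L9 V12 h12).ok e11).2.symm.trans
    (vH' (u := e11) (by decide +kernel)).2] at o

/-- a Sylow subgroup of the complement -/
noncomputable def S0 : Subgroup M := clL (J4O.sH.map SH.val)

theorem card_S : Nat.card ↥(S0 ⊔ E) = 2 ^ 21 := by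
  have o : ∀ c ∈ J4O.sH ++ vH, SH.ok c := List.forall_mem_append.2 ⟨oS, oV⟩
  rw [show S0 ⊔ E = clL ((J4O.sH ++ vH).map SH.val) by
    rw [List.map_append, S0, E, clL, clL, clL, ← Subgroup.closure_union]; simp only [List.mem_append, Set.ofPred_or]]
  exact ((pcL_of o spc_ok).card_le o).antisymm (sv_d.ge.trans (le_cl o sv_ok))

theorem nE_eq : normalizer (E : Set M) = ψ.range := by
  by_contra h
  have := card_E
  rcases simple_M.eq_bot_or_eq_top_of_normal _ (normalizer_eq_top_iff.1 ((simple_of_kill prim range_dvd (by norm_num)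
    (J4M.kl_m V h2) J4M.kl_ok gm_top).1.2 _ (nE.lt_of_ne' h))) with e | e <;> rw [e] at this
  · simp at this
  · rw [card_top, card_M] at this; omega

theorem EH : E ≤ ψ.range := clH

theorem QH : Q ≤ ψ.range := clH

attribute [local irreducible] mul J4M.mul pH pM cmA SH SG ψ gm vH J4O.sH qH qM vM gM zh bh aH yH vs cH gI prodW

theorem uniqE {A : Subgroup M} (hA : A ≤ S0 ⊔ E) (hn : S0 ⊔ E ≤ normalizer (A : Set M)) (cA : ∀ a ∈ A, ∀ b ∈ A, a * b = b * a)
    (e : Nat.card A = 2048) : A = E := by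
  have p : PcL (J4O.sH.map SH.val) := pcL_of oS s0pc_ok
  have oz := oS _ zh_ok.1
  have ob : SH.ok bh := bh_ok.1 ▸ (SH.prodW_spec oS bu).1
  have c := eqL_iff.1 cH_ok
  rw [mapR_eq] at c
  have oc : ∀ c ∈ cH, SH.ok c := c ▸ List.forall_mem_map.2 fun v h => SH.ok_mul (SH.ok_mul oz (oV v h)) (SH.ok_mul oz (oV v h))
  have vc : cH.map SH.val = (vH.map SH.val).map fun v => SH.val zh * v * (SH.val zh * v) := by
    rw [← c, List.map_map, List.map_map]
    exact List.map_congr_left fun v h =>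
      (SH.val_mul (SH.ok_mul oz (oV v h)) (SH.ok_mul oz (oV v h))).trans (by rw [SH.val_mul oz (oV v h)]; rfl)
  refine uniqV (clH.trans nE) cE ((IsPGroup.of_card card_S).to_le le_sup_left) hA hn cA e card_E (b := SH.val bh)
    (List.forall_mem_map.2 fun v h => ⟨mem_clL (List.mem_map_of_mem h), ?_⟩)
    (fun x hx h => Cnt.two IH (fun _ hP => p.cnt1 oS hP c1) oz (mem_clL (List.mem_map_of_mem zh_ok.1)) zh_ok.2 hx
      fun c o e => (cmA_iff IH oS o).2 fun a ha => e ▸ h a (mem_clL ha))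
    (vc ▸ Cnt.cm IH oc fun _ hP => p.cnt1 oS hP c2) ⟨bh_ok.1 ▸ prodW_clL oS bu, vc ▸ (cmA_iff IH oc ob).1 bh_ok.2⟩
    (Cnt.cm IH (L := [zh]) (List.forall_mem_singleton.2 oz) (pcE.cntK oV c3 c3_s))
    ((Cnt.cm IH (L := [zh, bh]) (List.forall_mem_cons.2 ⟨oz, List.forall_mem_singleton.2 ob⟩) (pcE.cntK oV c4 c4_s)).trans
      (by decide))
  rw [← SH.val_mul (oV v h) (oV v h), Nat.eq_of_beq_eq_true (allL_iff.1 vsq v h), SH.val_one]

theorem st1 (α : MulAut M) : ∃ g : M, ∀ x, (MulAut.conj g * α) x ∈ E ↔ x ∈ E := by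
  let P := (IsPGroup.of_card card_S).toSylow (by
    have := (S0 ⊔ E).index_mul_card
    rw [card_S, card_M] at this
    omega)
  obtain ⟨g, e⟩ := exists_smul_eq M (α • P) P
  have hS : (S0 ⊔ E).map (MulAut.conj g * α).toMonoidHom = S0 ⊔ E :=
    (map_map _ (MulAut.conj g).toMonoidHom α.toMonoidHom).symm.trans (congrArg Sylow.toSubgroup e)
  refine ⟨g, fun x => ?_⟩
  generalize MulAut.conj g * α = β at hS
  have := uniqE ((map_mono le_sup_right).trans hS.le)
    (hS.ge.trans ((map_mono ((sup_le clH clH).trans nE)).trans (le_normalizer_map _))) (by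
      rintro _ ⟨a, ha, rfl⟩ _ ⟨b, hb, rfl⟩
      rw [← map_mul, cE a ha b hb, map_mul]) ((card_map_of_injective β.injective).trans card_E)
  exact (SetLike.ext_iff.1 this _).symm.trans (mem_map_iff_mem β.injective)

theorem d_eq : SH.val (pH [16]) = gm 8 := (vH' (by decide +kernel)).2.trans (mul_one _)

theorem d_mem : gm 8 ∈ E := d_eq ▸ mem_clL (List.mem_map_of_mem d_ok.1)

theorem H_le {K : Subgroup M} (h : mdl gm dom8 ≤ K) (h8 : gm 8 ∈ K) : ψ.range ≤ K := by
  rw [range_eq hψ]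
  refine (closure_le _).2 ?_
  rintro _ ⟨i, hi : i ∈ dom9, rfl⟩
  by_cases c : i = 8
  exacts [c ▸ h8, h (mem_mdl _ (by revert i; decide))]

theorem s89 : ∀ i ∈ dom8, i ∈ dom9 := by decide

/-- the complement -/
noncomputable def ι : mdl (g V12 h12) dom8 →* M := ψ.comp (inclusion (closure_mono (Set.image_mono s89)))

theorem ι_r : ι.range = mdl gm dom8 := range_eq fun i hi => by
  rw [← hψ i (s89 i hi), ι, MonoidHom.comp_apply]
  exact congrArg _ (Subtype.ext ((coe_mgen (g V12 h12) hi).trans (coe_mgen (g V12 h12) (s89 i hi)).symm))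

theorem st3 {α : MulAut M} (h : ∀ x, α x ∈ E ↔ x ∈ E) : ∃ k ∈ ψ.range, ∀ x ∈ ψ.range, (MulAut.conj k * α) x * x⁻¹ ∈ E := by
  have := fin8 V12 h12
  have a : Nat.card ψ.range = Nat.card E * Nat.card (mdl (g V12 h12) dom8) := by
    rw [card_E, card8, ← Nat.card_congr (MonoidHom.ofInjective ψ_inj).toEquiv, card9]
  have b : ∀ x, α x ∈ ψ.range ↔ x ∈ ψ.range := fun x => by
    rw [← nE_eq, mem_normalizer_iff, mem_normalizer_iff, α.surjective.forall]
    simp only [← map_inv, ← map_mul, h]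
  have c : Nat.card (Out (mdl (g V12 h12) dom8)) = 1 := iso8.elim fun e => (H14.card_Out_congr e).trans Agent.S2064.result
  exact aut_mod EH nE (ι := ι) (fun _ => ⟨inclusion _ _, rfl⟩) (H_le (ι_r.ge.trans le_sup_left) (mem_sup_right d_mem)) a c h b

theorem st4 {β : MulAut M} (h : ∀ x ∈ ψ.range, β x * x⁻¹ ∈ E) : ∀ v ∈ E, β v = v := by
  have f : ∀ x ∈ ψ.range, ∀ v ∈ E, β x * v * (β x)⁻¹ = x * v * x⁻¹ := fun x hx v hv => by
    calc _ = β x * x⁻¹ * (x * v * x⁻¹) * (β x * x⁻¹)⁻¹ := by group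
      _ = _ := by rw [cE _ (h x hx) _ ((mem_normalizer_iff.1 (nE hx) v).1 hv), mul_inv_cancel_right]
  have od := oV _ d_ok.1
  have o := (of_lH gI_ok).1
  have m : β (gm 8) ∈ E := inv_mul_cancel_right (β (gm 8)) (gm 8) ▸ mul_mem (h _ (EH d_mem)) d_mem
  have k : ∀ a ∈ gI.map SH.val, β (gm 8) * a = a * β (gm 8) := fun a ha => by
    have := congrArg β ((cmA_iff IH o od).1 d_ok.2.2.1 a ha)
    rw [d_eq, map_mul, map_mul] at this
    rw [eq_comm, ← mul_inv_eq_iff_eq_mul, ← f a (clH (mem_clL ha)) _ m, ← this, mul_inv_cancel_right]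
  have e : β (gm 8) = gm 8 := ((Cnt.two IH (pcE.cntK oV c5 c5_s) od (d_eq ▸ d_mem) d_ok.2 m fun c oc e =>
    (cmA_iff IH o oc).2 (e ▸ k)).resolve_left fun c =>
    d_ok.2.2.2 (IH _ _ od SH.ok_one (by rw [d_eq, SH.val_one, β.map_eq_one_iff.1 c]))).trans d_eq
  refine fun v hv => clL_le (K := β.toMonoidHom.eqLocus (MonoidHom.id M)) ?_ ((congrArg clL (of_lH vH_ok).2).le hv)
  rw [vw, mapR_eq, List.forall_mem_map, List.forall_mem_map]
  intro u hu
  show β _ = ev _
  rw [apd_eq, ev, evalW_append, evalW_cons, evalW_invW, show sg gm (nat_lit 16) = gm 8 from rfl, map_mul, map_mul, map_inv, e,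
    ← mul_assoc, ← mul_assoc, f _ (evH (by revert u; decide +kernel)) _ d_mem]

theorem cj {G : Type*} [Group G] {g x z d u : G} (e : g * z * g⁻¹ = d) (a : x * z = z * x) (r : u * d = d * u) :
    (g * x)⁻¹ * u * (g * x) * z = z * ((g * x)⁻¹ * u * (g * x)) := by
  have s : (g * x)⁻¹ * d * (g * x) = z := by
    rw [← e, mul_assoc, inv_mul_eq_iff_eq_mul, mul_assoc g x, a]; group
  calc _ = (g * x)⁻¹ * (u * d) * (g * x) := by rw [← s]; group
    _ = _ := by rw [r, ← s]; group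

theorem not_conj : ¬ IsConj z (gm 8) := fun h => by
  obtain ⟨g, e⟩ := isConj_iff.1 h
  have a := orbit_XV (H := ψ.range) z_mem
  have b := a.2
  have c := czH
  have d := (Set.ncard_le_ncard a.1).trans xv
  rw [st22.1] at b
  have n : Nat.card ↥(centralizer {z} ⊓ ψ.range) = 283115520 := c.antisymm (by nlinarith)
  obtain ⟨x, k⟩ := (Set.eq_of_subset_of_ncard_le a.1 (xv.trans (by rw [n] at b; omega))).ge
    (show ((g⁻¹ : M) : M ⧸ ψ.range) ∈ XV ψ.range E z from ⟨_, rfl, by rw [inv_inv, e]; exact d_mem⟩)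
  have k : g * x ∈ ψ.range := by simpa using inv_mem (QuotientGroup.eq.1 k)
  have r : ev e11 * gm 8 = gm 8 * ev e11 := by simpa [sg] using eq_M e11_c
  have := (centralizer {z} ⊓ ψ.range).orderOf_dvd_natCard (x := (g * x)⁻¹ * ev e11 * (g * x))
    ⟨mem_centralizer_singleton_iff.2 (cj e (mem_centralizer_singleton_iff.1 x.2) r),
      ψ.range.mul_mem (mul_mem (inv_mem k) (evH (by decide +kernel))) k⟩
  rw [n, show (g * x)⁻¹ * ev e11 * (g * x) = MulAut.conj (g * x)⁻¹ (ev e11) by simp [mul_assoc], MulEquiv.orderOf_eq, o11] at this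
  exact absurd this (by decide)

theorem ay : (SH.ok aH ∧ SH.ok yH) ∧ SH.val aH = xm 0 * xm 1 ∧ SH.val yH = xm 1 := by
  have := of_lH ay_ok
  simp only [List.forall_mem_cons, List.map, List.cons.injEq, ev, evalW_append] at this
  exact ⟨⟨this.1.1, this.1.2.1⟩, this.2.1, this.2.2.1⟩

theorem rl_iff {c : ℕ} (o : SH.ok c) {u : M} (e : SH.val c * xm 1 = u) :
    rlP c = true ↔ u * u * u = 1 ∧ xm 0 * xm 1 * (u * u) * (xm 0 * xm 1 * (u * u)) = 1 := by
  have a := SH.ok_mul o ay.1.2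
  have b := SH.ok_mul a a
  have d := SH.ok_mul ay.1.1 b
  rw [rlP, force_eq, force_eq, force_eq, band_eq_true, IH.beq (SH.ok_mul b a) SH.ok_one, IH.beq (SH.ok_mul d d) SH.ok_one,
    SH.val_mul d d, SH.val_mul b a, SH.val_mul ay.1.1 b, SH.val_mul a a, SH.val_mul o ay.1.2, ay.2.1, ay.2.2, e, SH.val_one]

theorem xm_mem {i : ℕ} (h : i < 2) : xm i ∈ ψ.range := evH (by revert i; decide +kernel)

theorem st5 {β : MulAut M} (h : ∀ x ∈ ψ.range, β x * x⁻¹ ∈ E) (ha : β (xm 0 * xm 1) = xm 0 * xm 1) :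
    ∀ x ∈ ψ.range, β x = x := by
  have r := (rl_iff SH.ok_one (by rw [SH.val_one, one_mul])).1 vs_ok.2.1
  have os : SH.ok vs := vs_ok.1 ▸ (SH.prodW_spec oV vsu).1
  have x0 : xm 0 = xm 0 * xm 1 * (xm 1 * xm 1) := by rw [mul_assoc, ← mul_assoc (xm 1), r.1, mul_one]
  rcases Cnt.two IH (pcE.cntK oV c7 c7_s) os (vs_ok.1 ▸ prodW_clL oV vsu) vs_ok.2 (h _ (xm_mem one_lt_two)) fun c o e =>
    (rl_iff o (u := β (xm 1)) (by rw [e, inv_mul_cancel_right])).2 (by
      rw [← ha]; simp only [← map_mul, r, map_one, and_self]) with e | e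
  · rw [mul_inv_eq_one] at e
    refine H_le (K := β.toMonoidHom.eqLocus (MonoidHom.id M)) (mdl_xy.ge.trans ((closure_le _).2 ?_)) (st4 h _ d_mem)
    rintro _ ⟨i, hi : i ∈ [0, 1], rfl⟩
    rcases List.mem_pair.1 hi with rfl | rfl
    exacts [mul_right_cancel (((congrArg _ e.symm).trans (map_mul β _ _).symm).trans ha), e]
  have a := SH.ok_mul os ay.1.2
  have k := (List.cons.inj (of_lH kw_ok).2).1
  rw [SH.val_mul ay.1.1 (SH.ok_mul a a), SH.val_mul a a, SH.val_mul os ay.1.2, ay.2.1, ay.2.2, ← e, inv_mul_cancel_right, ← ha,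
    ← map_mul, ← map_mul, ← x0] at k
  have b := congrArg β (eq_M Ud_ok)
  rw [map_mul, map_mul, show ev [16] = gm 8 from mul_one _, st4 h _ d_mem, show β (ev _) = _ from k] at b
  exact (not_conj ((isConj_iff.2 ⟨_, mul_inv_eq_iff_eq_mul.2 (eq_M Uz_ok)⟩).trans
    (isConj_iff.2 ⟨_, mul_inv_eq_iff_eq_mul.2 b⟩).symm)).elim

theorem cen_sub {G : Type*} [Group G] {Q C : Subgroup G} (h : Q ≤ C) {x : C} :
    x ∈ centralizer (Q.subgroupOf C : Set C) ↔ ∀ q ∈ Q, q * x = x * q :=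
  ⟨fun a q hq => congrArg Subtype.val (a ⟨q, h hq⟩ hq), fun a q hq => Subtype.ext (a q hq)⟩

theorem cq {G : Type*} [Group G] {Q : Subgroup G} {z u : G} (A : H04.AES 2 Q z) (hQ : Q ≤ centralizer {z})
    {r s : centralizer {z}} (h1 : ∀ x ∈ Q, (∀ q ∈ Q, q * x = x * q) ∨ ⁅(r : G), x⁆ ∈ zpowers z → x ∈ zpowers z)
    (n : ¬ Q ≤ zpowers z) (hs : ¬ ∀ q ∈ Q, q * s = s * q)
    (k : (∀ x ∈ centralizer (Q.subgroupOf (centralizer {z}) : Set (centralizer {z})), x * r⁻¹ ∉ Q.subgroupOf _) →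
      s ∉ centralizer (Q.subgroupOf (centralizer {z}) : Set (centralizer {z})) →
      centralizer (Q.subgroupOf (centralizer {z}) : Set (centralizer {z})) ≤ Q.subgroupOf _)
    (h : ∀ q ∈ Q, q * u = u * q) : u ∈ zpowers z := by
  refine h1 u (k (fun x hx c => n fun q hq => h1 q hq (.inr ?_)) (fun c => hs ((cen_sub hQ).1 c))
    (x := ⟨u, mem_centralizer_singleton_iff.2 (h z A.mem).symm⟩) ((cen_sub hQ).2 h)) (.inl h)
  convert A.comm ((x : G) * (r : G)⁻¹)⁻¹ (Q.inv_mem c) q hq using 1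
  rw [commutatorElement_def, commutatorElement_def, inv_inv, mul_inv_rev, inv_inv, mul_assoc _ q (_ * _), ← mul_assoc q,
    (cen_sub hQ).1 hx q hq]
  group

theorem cenQ {u : M} : (∀ q ∈ Q, q * u = u * q) → u ∈ zpowers z :=
  cq exQ.1 Q_le (r := sz 3) (s := sz 0) exQ.2 nQ (fun c => Bool.eq_false_iff.1 s0q
    ((cmA_iff IG (of_lM qM_ok).1 (gM_o 0)).2 fun a ha => (c a (Q_eq.le (mem_clL ha))).symm)) st22.2.2.2

theorem st6 {β : MulAut M} (h : ∀ x ∈ ψ.range, β x = x) : β = 1 := by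
  have t : gm 9 ∈ centralizer {z} := mem_centralizer_singleton_iff.2 (by simpa [sg, z] using eq_M tz)
  have e : β (gm 9) = gm 9 := by
    rcases (mem_two z_ord).1 (cenQ (u := (gm 9)⁻¹ * β (gm 9)) fun q hq => by
      have := h (gm 9 * q * (gm 9)⁻¹) (QH (st22.2.1.conj_mem ⟨q, Q_le hq⟩ hq ⟨_, t⟩))
      rw [map_mul, map_mul, map_inv, h q (QH hq)] at this
      calc q * ((gm 9)⁻¹ * β (gm 9)) = (gm 9)⁻¹ * (gm 9 * q * (gm 9)⁻¹) * β (gm 9) := by group
        _ = _ := by rw [← this]; group) with e | e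
    · exact (inv_mul_eq_one.1 e).symm
    have a : gm 9 * ev hw = ev hw * gm 9 := by simpa [sg] using eq_M th
    have b := congrArg β a
    rw [map_mul, map_mul, h _ (evH (by decide +kernel)), inv_mul_eq_iff_eq_mul.1 e, ← mul_assoc, ← a, mul_assoc, mul_assoc,
      mul_right_inj] at b
    exact (Bool.eq_false_iff.1 hz ((eqM_iff (by decide +kernel)).2 b)).elim
  refine MulEquiv.ext fun x => (closure_le (β.toMonoidHom.eqLocus (MonoidHom.id M))).2 ?_ (gm_top.ge (mem_top x))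
  rintro _ ⟨i, hi : i ∈ List.range 10, rfl⟩
  by_cases c : i = 9
  exacts [c ▸ e, h _ (range_eq hψ ▸ mem_mdl _ (by revert i; decide))]

theorem out_M : Nat.card (Out M) = 1 := H14.card_Out_eq_one fun α => by
  obtain ⟨g, a⟩ := st1 α
  obtain ⟨k, -, b⟩ := st3 a
  have m := mul_mem (xm_mem zero_lt_two) (xm_mem one_lt_two)
  obtain ⟨w, c, d⟩ := fpf_surj (nE m) (ay.2.1 ▸ Cnt.cm IH (L := [aH]) (List.forall_mem_singleton.2 ay.1.1)
    (pcE.cntK oV c6 c6_s)) (b _ m)
  refine ⟨w * (k * g), st6 (st5 (fun x hx => ?_) ?_)⟩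
  · simpa [mul_assoc] using mul_mem (mul_mem c (b x hx)) ((mem_normalizer_iff.1 (nE hx) _).1 (inv_mem c))
  · simpa [mul_assoc] using d

theorem out_J4 : Nat.card (Out Spor.J4) = 1 := (H14.card_Out_congr e).symm.trans out_M

end H15.J4
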