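import Cfsg.Agent.H15.Vy
import Cfsg.Agent.H08.Util
import Cfsg.Agent.H14.Rigid

/-! Automorphisms of a group with a large elementary abelian subgroup (namespace H15). -/

namespace H15
open H13 MulAction Subgroup

variable {G : Type*} [Group G] [Finite G] {mul : ℕ → ℕ → ℕ} {one : ℕ} {wf : ℕ → Bool} {S : Sem G mul one wf}

/-- at most `n` products have the property `P` -/
def Cnt (S : Sem G mul one wf) (cs : List ℕ) (P : ℕ → Bool) (n : ℕ) : Prop := ∀ p : G → Prop,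
  (∀ c, S.ok c → p (S.val c) → P c = true) → {y | y ∈ clL (cs.map S.val) ∧ p y}.ncard ≤ n

theorem Cnt.two (I : SInj S) {cs : List ℕ} {P : ℕ → Bool} (hc : Cnt S cs P 2) {b : ℕ} (ob : S.ok b)
    (mb : S.val b ∈ clL (cs.map S.val)) (h1 : P one = true ∧ P b = true ∧ b ≠ one) {x : G} (hx : x ∈ clL (cs.map S.val))
    (hp : ∀ c, S.ok c → S.val c = x → P c = true) : x = 1 ∨ x = S.val b :=
  S.val_one ▸ two_of_le (hc (fun y => ∀ c, S.ok c → S.val c = y → P c = true) fun c o p => p c o rfl)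
    ⟨S.val_one ▸ one_mem _, fun c o e => I c _ o S.ok_one e ▸ h1.1⟩ ⟨mb, fun c o e => I c _ o ob e ▸ h1.2.1⟩
    (fun e => h1.2.2 (I _ _ S.ok_one ob e).symm) ⟨hx, hp⟩

omit [Finite G] in
theorem Cnt.cm (I : SInj S) {cs L : List ℕ} (hL : ∀ c ∈ L, S.ok c) {n : ℕ} (hc : Cnt S cs (cmA mul L) n) :
    {y | y ∈ clL (cs.map S.val) ∧ ∀ a ∈ L.map S.val, y * a = a * y}.ncard ≤ n :=
  hc _ fun _ o p => (cmA_iff I hL o).2 p

/-- all ordered products -/
noncomputable def pk (mul : ℕ → ℕ → ℕ) (one : ℕ) (cs : List ℕ) : List ℕ :=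
  List.rec [one] (fun a _ ih => prods mul [one, a] ih) cs

omit [Finite G] in
theorem Cvr.pk {K : Set G} {a : List ℕ} {Ls : List (List ℕ)} (C : Cvr S K (a.map (fun c => [one, c]) ++ Ls)) :
    Cvr S K (pk mul one a :: Ls) := by
  induction a generalizing K with
  | nil => exact ⟨K, C, fun x hx => ⟨one, List.mem_singleton_self _, S.ok_one, by simpa [S.val_one] using hx⟩⟩
  | cons a r ih => exact C.elim fun K' c => Cvr.merge ⟨K', ih c.1, c.2⟩

/-- the count below one of the products of the first `k` members -/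
noncomputable def cntK (mul : ℕ → ℕ → ℕ) (one : ℕ) (P : ℕ → Bool) (cs : List ℕ) (k : ℕ) (ns : List ℕ) (i : ℕ) : Bool :=
  cntAt mul one P (pk mul one (cs.take k) :: mapR (fun c => [one, c]) (cs.drop k)) ns i

theorem PcL.cntK {cs ns : List ℕ} (h0 : ∀ c ∈ cs, S.ok c) (h : PcL (cs.map S.val)) {P : ℕ → Bool} {k m n : ℕ}
    (hc : ∀ i < m, cntK mul one P cs k ns i = true) (e : (pk mul one (cs.take k)).length = m ∧ ns.length = m ∧ ns.sum = n) :
    Cnt S cs P n := fun _ hP =>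
  (Cvr.pk (by rw [mapR_eq, ← List.map_append, List.take_append_drop, ← mapR_eq]; exact h.cvr h0)).cnt' hP hc e

omit [Finite G] in
theorem mem_sup_norm {K V : Subgroup G} (h : K ≤ normalizer (V : Set G)) {x : G} (hx : x ∈ K ⊔ V) : ∃ k ∈ K, k⁻¹ * x ∈ V := by
  obtain ⟨k, a, v, b, rfl⟩ := (coe_mul_of_left_le_normalizer_right K V h).le hx
  exact ⟨k, a, by simpa using b⟩

theorem uniqV {S0 V A : Subgroup G} (hV : S0 ≤ normalizer (V : Set G)) (cV : ∀ a ∈ V, ∀ b ∈ V, a * b = b * a)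
    (hp : IsPGroup 2 S0) (hA : A ≤ S0 ⊔ V) (hn : S0 ⊔ V ≤ normalizer (A : Set G)) (cA : ∀ a ∈ A, ∀ b ∈ A, a * b = b * a)
    (e1 : Nat.card A = 2048) (e2 : Nat.card V = 2048) {y b : G} {L : List G} (hL : ∀ v ∈ L, v ∈ V ∧ v * v = 1)
    (c1 : ∀ x ∈ S0, (∀ s ∈ S0, x * s = s * x) → x = 1 ∨ x = y)
    (c2 : {x | x ∈ S0 ∧ ∀ a ∈ L.map fun v => y * v * (y * v), x * a = a * x}.ncard ≤ 16)
    (hb : b ∈ S0 ∧ ∀ a ∈ L.map fun v => y * v * (y * v), b * a = a * b)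
    (c3 : {v | v ∈ V ∧ ∀ a ∈ [y], v * a = a * v}.ncard ≤ 128) (c4 : {v | v ∈ V ∧ ∀ a ∈ [y, b], v * a = a * v}.ncard ≤ 64) :
    A = V := by
  have nV : S0 ⊔ V ≤ normalizer (V : Set G) := sup_le hV le_normalizer
  have d : ∀ x ∈ S0 ⊓ (A ⊔ V), ∃ a ∈ A, a⁻¹ * x ∈ V := fun x hx => mem_sup_norm (hA.trans nV) hx.2
  have k : ∀ x ∈ S0 ⊓ (A ⊔ V), ∀ v ∈ A ⊓ V, v * x = x * v := fun x hx v hv => by
    obtain ⟨a, a1, a2⟩ := d x hx
    rw [← mul_inv_cancel_left a x, ← mul_assoc, cA v hv.1 a a1, mul_assoc, cV v hv.2 _ a2, ← mul_assoc]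
  have n : Nat.card A ≤ Nat.card ↥(S0 ⊓ (A ⊔ V)) * Nat.card ↥(A ⊓ V) := by
    choose! s s1 s2 using fun a (h : a ∈ A) => mem_sup_norm hV (hA h)
    have m : ∀ a ∈ A, s a ∈ S0 ⊓ (A ⊔ V) := fun a h =>
      ⟨s1 a h, by simpa using mul_mem (mem_sup_left h : a ∈ A ⊔ V) (inv_mem (mem_sup_right (s2 a h)))⟩
    choose! t t1 t2 using d
    rw [← Nat.card_prod]
    refine Nat.card_le_card_of_injective (fun a => (⟨s a, m a a.2⟩, ⟨(t (s a))⁻¹ * a, A.mul_mem (A.inv_mem (t1 _ (m a a.2))) a.2,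
      by simpa [mul_assoc] using mul_mem (t2 _ (m a a.2)) (s2 a a.2)⟩)) fun a a' e => ?_
    have b : (t (s a))⁻¹ * a = (t (s a'))⁻¹ * a' := congrArg (·.2.1) e
    rw [show s a = s a' from congrArg (·.1.1) e, mul_right_inj] at b
    exact Subtype.ext b
  by_cases c : S0 ⊓ (A ⊔ V) = ⊥
  · have := card_le_of_le (inf_le_left : A ⊓ V ≤ A)
    rw [c, card_bot, one_mul] at n
    exact eq_of_le_of_card_ge (inf_eq_left.1 (eq_of_le_of_card_ge inf_le_left n)) (by omega)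
  obtain ⟨x, x1, x2, x3, x4⟩ := H08.exists_central_invol hp (fun g hg => mem_normalizer_fintype fun n hn' =>
    sup_le (c := (A ⊔ V).comap (MulAut.conj g).toMonoidHom)
      (fun a h => (le_sup_left : A ≤ A ⊔ V) ((mem_normalizer_iff.1 (hn (mem_sup_left hg)) a).1 h))
      (fun a h => (le_sup_right : V ≤ A ⊔ V) ((mem_normalizer_iff.1 (hV hg) a).1 h)) hn') c
  obtain rfl := (c1 x x1 fun s h => (x4 s h).symm).resolve_left fun e => by simp [e] at x3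
  obtain ⟨a, a1, a2⟩ := d x ⟨x1, x2⟩
  have f : (S0 ⊓ (A ⊔ V) : Subgroup G).carrier ⊆ {g | g ∈ S0 ∧ ∀ a ∈ L.map fun v => x * v * (x * v), g * a = a * g} :=
    fun g hg => ⟨hg.1, List.forall_mem_map.2 fun v hv => (k g hg _ (by
      have : x * v * (x * v) = a * v * a⁻¹ * v⁻¹ := by
        have e : x = x⁻¹ := eq_inv_of_mul_eq_one_left (by rw [← sq, ← x3, pow_orderOf_eq_one])
        rw [← eq_inv_of_mul_eq_one_left (hL v hv).2, ← mul_assoc, mul_left_inj]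
        nth_rw 2 [e]
        rw [← mul_inv_cancel_left a x, mul_assoc a, cV _ a2 v (hL v hv).1]; group
      rw [this]
      exact ⟨by simpa [mul_assoc] using mul_mem a1 ((mem_normalizer_iff.1 (hn (mem_sup_right (hL v hv).1)) _).1 (inv_mem a1)),
        V.mul_mem ((mem_normalizer_iff.1 (nV (hA a1)) _).1 (hL v hv).1) (V.inv_mem (hL v hv).1)⟩)).symm⟩
  have g1 : Nat.card ↥(A ⊓ V) ≤ 128 := le_trans (Set.ncard_le_ncard (show (A ⊓ V : Subgroup G).carrier ⊆ {v | v ∈ V ∧ ∀ a ∈ [x], v * a = a * v} from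
    fun v hv => ⟨hv.2, List.forall_mem_singleton.2 (k x ⟨x1, x2⟩ v hv)⟩)) c3
  by_cases c : b ∈ S0 ⊓ (A ⊔ V)
  · have := Nat.mul_le_mul ((Set.ncard_le_ncard f).trans c2) (le_trans (Set.ncard_le_ncard (show (A ⊓ V : Subgroup G).carrier ⊆
      {v | v ∈ V ∧ ∀ a ∈ [x, b], v * a = a * v} from fun v hv => ⟨hv.2, by simpa using ⟨k x ⟨x1, x2⟩ v hv, k b c v hv⟩⟩)) c4)
    exact absurd (n.trans this) (by omega)
  · have := Nat.mul_le_mul (Nat.le_of_lt_succ ((Set.ncard_lt_ncard ⟨f, fun h => c (h hb)⟩).trans_le c2)) g1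
    exact absurd (n.trans this) (by omega)

theorem aut_mod {K : Type*} [Group K] [Finite K] {H V : Subgroup G} (hV : V ≤ H) (hn : H ≤ normalizer (V : Set G)) {ι : K →* G}
    (hK : ∀ k, ι k ∈ H) (hs : H ≤ ι.range ⊔ V) (hc : Nat.card H = Nat.card V * Nat.card K) (ho : Nat.card (Cfsg.Out K) = 1)
    {α : MulAut G} (a1 : ∀ x, α x ∈ V ↔ x ∈ V) (a2 : ∀ x, α x ∈ H ↔ x ∈ H) :
    ∃ k ∈ H, ∀ h ∈ H, (MulAut.conj k * α) h * h⁻¹ ∈ V := by
  have : (V.subgroupOf H).Normal := normal_subgroupOf_of_le_normalizer hn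
  let φ := (QuotientGroup.mk' (V.subgroupOf H)).comp (ι.codRestrict H hK)
  have b : Function.Bijective φ := Function.Surjective.bijective_of_nat_card_le (fun q => by
    obtain ⟨h, rfl⟩ := QuotientGroup.mk_surjective q
    obtain ⟨_, ⟨k, rfl⟩, e⟩ := mem_sup_norm (K := ι.range) (fun _ ⟨k, e⟩ => hn (e ▸ hK k)) (hs h.2)
    exact ⟨k, QuotientGroup.eq.2 e⟩) (by
    have := (V.subgroupOf H).card_mul_index
    rw [Nat.card_congr (subgroupOfEquivOfLe hV).toEquiv, hc] at this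
    exact (Nat.eq_of_mul_eq_mul_left Nat.card_pos this).ge)
  let β : H ≃* H := { α.toEquiv.subtypeEquiv fun x => (a2 x).symm with map_mul' := fun x y => Subtype.ext (map_mul α _ _) }
  rw [H14.card_Out_congr (MulEquiv.ofBijective φ b)] at ho
  obtain ⟨q, e⟩ := (index_eq_one.1 ho).ge (mem_top (QuotientGroup.congr _ _ β (Subgroup.ext fun x =>
    mem_map_equiv.trans ((a1 _).symm.trans (by simp [β, mem_subgroupOf])))))
  obtain ⟨k, rfl⟩ := QuotientGroup.mk_surjective q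
  refine ⟨k⁻¹, inv_mem k.2, fun h hh => ?_⟩
  have := QuotientGroup.eq_iff_div_mem.1 (show ((β ⟨h, hh⟩ : H) : H ⧸ V.subgroupOf H) = (k * ⟨h, hh⟩ * k⁻¹ : H) from
    (MulEquiv.congr_fun e (⟨h, hh⟩ : H)).symm)
  simpa [mul_assoc, β, div_eq_mul_inv] using (mem_normalizer_iff.1 (hn (inv_mem k.2)) _).1 this

theorem fpf_surj {V : Subgroup G} {a v : G} (ha : a ∈ normalizer (V : Set G))
    (c : {v | v ∈ V ∧ ∀ x ∈ [a], v * x = x * v}.ncard ≤ 1) (hv : v ∈ V) : ∃ w ∈ V, w * (v * a) * w⁻¹ = a := by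
  obtain ⟨w, e⟩ := Finite.surjective_of_injective (f := fun w : V => (⟨(w : G)⁻¹ * (a * w * a⁻¹), mul_mem (inv_mem w.2)
    ((mem_normalizer_iff.1 ha _).1 w.2)⟩ : V)) (fun w u e => Subtype.ext (mul_inv_eq_one.1 (Set.ncard_le_one_iff_subsingleton.1 c
      ⟨mul_mem w.2 (inv_mem u.2), List.forall_mem_singleton.2 (by
        have : (w : G)⁻¹ * (a * w * a⁻¹) = (u : G)⁻¹ * (a * u * a⁻¹) := congrArg Subtype.val e
        calc (w : G) * (u : G)⁻¹ * a = w * ((u : G)⁻¹ * (a * u * a⁻¹)) * a * (u : G)⁻¹ := by group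
          _ = _ := by rw [← this]; group)⟩ ⟨one_mem _, by simp⟩))) ⟨v, hv⟩
  exact ⟨w, w.2, by rw [← show _ = v from congrArg Subtype.val e]; group⟩

end H15
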