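import Cfsg.Agent.H15.J4C
import Cfsg.Agent.H15.Vz

/-! The fourth Janko group: automorphisms. -/

set_option maxRecDepth 100000
set_option Elab.async false

namespace H15.J4O
open H13

open J4C

noncomputable def sw : List (List ℕ) :=
  [(unp (nat_lit 4) (nat_lit 0x8a268ca086eca80e)), (unp (nat_lit 4) (nat_lit 0x848a8620809)), [nat_lit 0, nat_lit 4], (unp (nat_lit 4) (nat_lit 0xc2ae24c07)), (unp (nat_lit 4) (nat_lit 0x4a403)), (unp (nat_lit 4) (nat_lit 0x82648a086ca84eca4846215)), [nat_lit 14], [nat_lit 10], [nat_lit 6], (unp (nat_lit 4) (nat_lit 0x2a6e205))]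

noncomputable def sH : List ℕ :=
  [(nat_lit 0x8007960016c54903a418027a3f30041e722e),
  (nat_lit 0x8005e732e2a75ce0bc0e945e29a0331e7554),
  (nat_lit 0x8001267b76784d03f96bf68f4585b31742ce),
  (nat_lit 0x80013d6855f14cb5b37961a86bc3f94f328a),
  (nat_lit 0x80027832e2892275a84ff0106695f54c4660),
  (nat_lit 0x80045849d28922755456c42a1267ef00269c),
  (nat_lit 0x8005e77b012e7475f04772491c16243bc391),
  (nat_lit 0x80065b22e28917c3d025524b1c30043bc391),
  (nat_lit 0x8000e822e2891ef6604e62d87696245855a8),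
  (nat_lit 0x8001a97b02890ae5f0039607026033002638)]

noncomputable def cH : List ℕ :=
  [(nat_lit 0x800400200100080040020010008004002001),
  (nat_lit 0xd87400200100080040020010008004002001),
  (nat_lit 0xd87400200100080040020010008004002001),
  (nat_lit 0x837400200100080040020010008004002001),
  (nat_lit 0xd9e400200100080040020010008004002001),
  (nat_lit 0xd9e400200100080040020010008004002001),
  (nat_lit 0x837400200100080040020010008004002001),
  (nat_lit 0xe39400200100080040020010008004002001),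
  (nat_lit 0xd9e400200100080040020010008004002001),
  (nat_lit 0xd9e400200100080040020010008004002001),
  (nat_lit 0xd9e400200100080040020010008004002001)]

noncomputable def gI : List ℕ :=
  [(nat_lit 0x8001ed3ef1d208049054d12d4585bb5ef56c),
  (nat_lit 0x8006782001c32a70930bc01004726c2b904e),
  (nat_lit 0x8004cb2086aa4d03797823e200845c4993f3),
  (nat_lit 0x8000e822e2891ef6604e62d87696245855a8),
  (nat_lit 0x80068522e12e74709354c01059928127a56d),
  (nat_lit 0x80065b22e28917c3d025524b1c30043bc391),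
  (nat_lit 0x8005e77b012e7475f04772491c16243bc391)]

noncomputable def s0pc : List (List ℕ × List (List ℕ)) :=
  [([nat_lit 6], [[nat_lit 0], (unp (nat_lit 3) (nat_lit 0x1d103)), (unp (nat_lit 4) (nat_lit 0x87203)), (unp (nat_lit 3) (nat_lit 0x1e303)), [nat_lit 4, nat_lit 8], (unp (nat_lit 4) (nat_lit 0x86503)), [nat_lit 6], [nat_lit 7, nat_lit 8], [nat_lit 8]]),
  ([nat_lit 5], [(unp (nat_lit 3) (nat_lit 0xd5004)), (unp (nat_lit 3) (nat_lit 0xf9904)), [nat_lit 2, nat_lit 6], [nat_lit 3, nat_lit 7], [nat_lit 4, nat_lit 5], [nat_lit 5], [nat_lit 6], [nat_lit 7]]),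
  ([], [[nat_lit 0], [nat_lit 1, nat_lit 5], [nat_lit 2], [nat_lit 3], [nat_lit 4, nat_lit 5], [nat_lit 5], [nat_lit 6]]),
  ([], [[nat_lit 0, nat_lit 5], [nat_lit 1], (unp (nat_lit 3) (nat_lit 0x16203)), [nat_lit 3, nat_lit 5], [nat_lit 4], [nat_lit 5]]),
  ([], [[nat_lit 0], [nat_lit 1, nat_lit 3], [nat_lit 2], [nat_lit 3], [nat_lit 4]]),
  ([], [[nat_lit 0, nat_lit 3], [nat_lit 1], [nat_lit 2], [nat_lit 3]]),
  ([], [[nat_lit 0], [nat_lit 1], [nat_lit 2]]),
  ([], [[nat_lit 0], [nat_lit 1]]),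
  ([], [[nat_lit 0]]),
  ([], [])]

noncomputable def spc : List (List ℕ × List (List ℕ)) :=
  [([nat_lit 6], [[nat_lit 0], (unp (nat_lit 3) (nat_lit 0x1d103)), (unp (nat_lit 4) (nat_lit 0x87203)), (unp (nat_lit 3) (nat_lit 0x1e303)), [nat_lit 4, nat_lit 8], (unp (nat_lit 4) (nat_lit 0x86503)), [nat_lit 6], [nat_lit 7, nat_lit 8], [nat_lit 8], [nat_lit 12, nat_lit 15], (unp (nat_lit 5) (nat_lit 0x4e307b9a907)), [nat_lit 12, nat_lit 16], [nat_lit 12], (unp (nat_lit 5) (nat_lit 0x4d8903)), (unp (nat_lit 5) (nat_lit 0x2727316a06)), [nat_lit 9, nat_lit 12], [nat_lit 10, nat_lit 12], [nat_lit 12, nat_lit 14], (unp (nat_lit 5) (nat_lit 0x2517b96a06)), [nat_lit 15, nat_lit 18]]),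
  ([nat_lit 5], [(unp (nat_lit 3) (nat_lit 0xd5004)), (unp (nat_lit 3) (nat_lit 0xf9904)), [nat_lit 2, nat_lit 6], [nat_lit 3, nat_lit 7], [nat_lit 4, nat_lit 5], [nat_lit 5], [nat_lit 6], [nat_lit 7], [nat_lit 8], (unp (nat_lit 4) (nat_lit 0xfdcba906)), (unp (nat_lit 5) (nat_lit 0x2507ad4906)), [nat_lit 11], [nat_lit 8, nat_lit 18], (unp (nat_lit 5) (nat_lit 0x128b54905)), [nat_lit 14], (unp (nat_lit 5) (nat_lit 0x4a3062d2807)), [nat_lit 13], (unp (nat_lit 5) (nat_lit 0x460e6ad4907)), [nat_lit 8, nat_lit 17]]),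
  ([], [[nat_lit 0], [nat_lit 1, nat_lit 5], [nat_lit 2], [nat_lit 3], [nat_lit 4, nat_lit 5], [nat_lit 5], [nat_lit 6], [nat_lit 7], [nat_lit 8], [nat_lit 9], [nat_lit 14], [nat_lit 12], [nat_lit 11], (unp (nat_lit 5) (nat_lit 0x8bdcd62d4708)), [nat_lit 10], [nat_lit 7, nat_lit 17], (unp (nat_lit 5) (nat_lit 0x41ed6292807)), [nat_lit 7, nat_lit 15]]),
  ([], [[nat_lit 0, nat_lit 5], [nat_lit 1], (unp (nat_lit 3) (nat_lit 0x16203)), [nat_lit 3, nat_lit 5], [nat_lit 4], [nat_lit 5], [nat_lit 7, nat_lit 8], [nat_lit 7], [nat_lit 6, nat_lit 7], (unp (nat_lit 5) (nat_lit 0x107358b524e609)), (unp (nat_lit 5) (nat_lit 0x83d6804)), (unp (nat_lit 4) (nat_lit 0xfcba97607)), [nat_lit 7, nat_lit 13], [nat_lit 7, nat_lit 12], [nat_lit 7, nat_lit 15], [nat_lit 7, nat_lit 14], (unp (nat_lit 4) (nat_lit 0xfecb9706))]),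
  ([], [[nat_lit 0], [nat_lit 1, nat_lit 3], [nat_lit 2], [nat_lit 3], [nat_lit 4], [nat_lit 5], [nat_lit 7], [nat_lit 6], (unp (nat_lit 4) (nat_lit 0xedca96507)), [nat_lit 13], [nat_lit 10], (unp (nat_lit 4) (nat_lit 0xfecb87507)), (unp (nat_lit 4) (nat_lit 0xfed986507)), [nat_lit 9], (unp (nat_lit 4) (nat_lit 0xfea7605)), [nat_lit 15]]),
  ([], [[nat_lit 0, nat_lit 3], [nat_lit 1], [nat_lit 2], [nat_lit 3], (unp (nat_lit 4) (nat_lit 0xec9865407)), (unp (nat_lit 4) (nat_lit 0xca87605)), (unp (nat_lit 4) (nat_lit 0xea97605)), (unp (nat_lit 4) (nat_lit 0xd8765406)), (unp (nat_lit 4) (nat_lit 0xeba504)), (unp (nat_lit 4) (nat_lit 0xeba98506)), (unp (nat_lit 4) (nat_lit 0xedca9406)), (unp (nat_lit 4) (nat_lit 0xdcba7406)), (unp (nat_lit 4) (nat_lit 0xecba8506)), (unp (nat_lit 4) (nat_lit 0xedba8506)), (unp (nat_lit 4) (nat_lit 0xecba9606))]),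
  ([], [[nat_lit 0], [nat_lit 1], [nat_lit 2], [nat_lit 3], [nat_lit 3, nat_lit 4], [nat_lit 3, nat_lit 5], [nat_lit 3, nat_lit 6], [nat_lit 13], [nat_lit 3, nat_lit 11], [nat_lit 3, nat_lit 9], [nat_lit 3, nat_lit 10], [nat_lit 3, nat_lit 8], (unp (nat_lit 4) (nat_lit 0xcb98654308)), [nat_lit 7]]),
  ([], [[nat_lit 0], [nat_lit 1], [nat_lit 2], [nat_lit 4], [nat_lit 3], [nat_lit 5], [nat_lit 11], (unp (nat_lit 4) (nat_lit 0xb8765206)), [nat_lit 8], (unp (nat_lit 4) (nat_lit 0xca98765208)), (unp (nat_lit 4) (nat_lit 0xcb74305)), [nat_lit 6], (unp (nat_lit 4) (nat_lit 0xba87543208))]),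
  ([], [[nat_lit 0], [nat_lit 1], [nat_lit 2], [nat_lit 3], [nat_lit 7], [nat_lit 9], [nat_lit 1, nat_lit 11], [nat_lit 4], (unp (nat_lit 4) (nat_lit 0xb987654108)), [nat_lit 5], (unp (nat_lit 4) (nat_lit 0xba63205)), [nat_lit 1, nat_lit 6]]),
  ([], [[nat_lit 0], [nat_lit 0, nat_lit 2], [nat_lit 0, nat_lit 1], [nat_lit 0, nat_lit 6], [nat_lit 0, nat_lit 4], [nat_lit 0, nat_lit 5], [nat_lit 0, nat_lit 3], (unp (nat_lit 4) (nat_lit 0xa87654307)), [nat_lit 0, nat_lit 8], [nat_lit 0, nat_lit 9], [nat_lit 0, nat_lit 10]]),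
  ([], [[nat_lit 0], [nat_lit 1], [nat_lit 2], [nat_lit 3], [nat_lit 4], [nat_lit 5], [nat_lit 6], [nat_lit 7], [nat_lit 8], [nat_lit 9]]),
  ([], [[nat_lit 0], [nat_lit 1], [nat_lit 2], [nat_lit 3], [nat_lit 4], [nat_lit 5], [nat_lit 6], [nat_lit 7], [nat_lit 8]]),
  ([], [[nat_lit 0], [nat_lit 1], [nat_lit 2], [nat_lit 3], [nat_lit 4], [nat_lit 5], [nat_lit 6], [nat_lit 7]]),
  ([], [[nat_lit 0], [nat_lit 1], [nat_lit 2], [nat_lit 3], [nat_lit 4], [nat_lit 5], [nat_lit 6]]),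
  ([], [[nat_lit 0], [nat_lit 1], [nat_lit 2], [nat_lit 3], [nat_lit 4], [nat_lit 5]]),
  ([], [[nat_lit 0], [nat_lit 1], [nat_lit 2], [nat_lit 3], [nat_lit 4]]),
  ([], [[nat_lit 0], [nat_lit 1], [nat_lit 2], [nat_lit 3]]),
  ([], [[nat_lit 0], [nat_lit 1], [nat_lit 2]]),
  ([], [[nat_lit 0], [nat_lit 1]]),
  ([], [[nat_lit 0]]),
  ([], [])]

noncomputable def sv0 : List VL :=
  [⟨(nat_lit 2048), [[nat_lit 20], [nat_lit 19], [nat_lit 18], [nat_lit 17], [nat_lit 16], [nat_lit 15], [nat_lit 14], [nat_lit 13], [nat_lit 12], [nat_lit 11], [nat_lit 10]], nat_lit 4, [(nat_lit 0xba00b00ba900b00ba00b00ba9800b00ba00b00ba900b00ba00b00ba98700b00ba00b00ba900b00ba00b00ba9800b00ba00b00ba900b00ba00b00ba987600b00ba00b00ba900b00ba00b00ba9800b00ba00b00ba900b00ba00b00ba98700b00ba00b00ba900b00ba00b00ba9800b00ba00b00ba900b00ba00b00ba987654321ff), (nat_lit 0xba00b00ba900b00ba00b00ba9800b00ba00b00ba900b00ba00b00ba98700b00ba00b00ba900b00ba00b00ba9800b00ba00b00ba900b00ba00b00ba987600b00ba00b00ba900b00ba00b00ba9800b00ba00b00ba900b00ba00b00ba98700b00ba00b00ba900b00ba00b00ba9800b00ba00b00ba900b00ba00b00ba9876500b0ff),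 (nat_lit 0xba00b00ba900b00ba00b00ba9800b00ba00b00ba900b00ba00b00ba98700b00ba00b00ba900b00ba00b00ba9800b00ba00b00ba900b00ba00b00ba987600b00ba00b00ba900b00ba00b00ba9800b00ba00b00ba900b00ba00b00ba98700b00ba00b00ba900b00ba00b00ba9800b00ba00b00ba900b00ba00b00ba98765400b0ff), (nat_lit 0xba00b00ba900b00ba00b00ba9800b00ba00b00ba900b00ba00b00ba98700b00ba00b00ba900b00ba00b00ba9800b00ba00b00ba900b00ba00b00ba987600b00ba00b00ba900b00ba00b00ba9800b00ba00b00ba900b00ba00b00ba98700b00ba00b00ba900b00ba00b00ba9800b00ba00b00ba900b00ba00b00ba9876500b00ff), (nat_lit 0xb00ba900b00ba00b00ba9800b00ba00b00ba900b00ba00b00ba98700b00ba00b00ba900b00ba00b00ba9800b00ba00b00ba900b00ba00b00ba987600b00ba00b00ba900b00ba00b00ba9800b00ba00b00ba900b00ba00b00ba98700b00ba00b00ba900b00ba00b00ba9800b00ba00b00ba900b00ba00b00ba987654300b00ff), (nat_lit 0xb00ba900b00ba00b00ba9800b00ba00b00ba900b00ba00b00ba98700b00ba00b00ba900b00ba00b00ba9800b00ba00b00ba900b00ba00b00ba987600b00ba00b00ba900b00ba00b00ba9800b00ba00b00ba900b00ba00b00ba98700b00ba00b00ba900b00ba00b00ba9800b00ba00b00ba900b00ba00b00ba9876500b00baff),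 (nat_lit 0xb00ba900b00ba00b00ba9800b00ba00b00ba900b00ba00b00ba98700b00ba00b00ba900b00ba00b00ba9800b00ba00b00ba900b00ba00b00ba987600b00ba00b00ba900b00ba00b00ba9800b00ba00b00ba900b00ba00b00ba98700b00ba00b00ba900b00ba00b00ba9800b00ba00b00ba900b00ba00b00ba98765400b00baff), (nat_lit 0xb00ba900b00ba00b00ba9800b00ba00b00ba900b00ba00b00ba98700b00ba00b00ba900b00ba00b00ba9800b00ba00b00ba900b00ba00b00ba987600b00ba00b00ba900b00ba00b00ba9800b00ba00b00ba900b00ba00b00ba98700b00ba00b00ba900b00ba00b00ba9800b00ba00b00ba900b00ba00b00ba9876500b00ba0ff), (nat_lit 0xba900b00ba00b00ba9800b00ba00b00ba900b00ba00b00ba98700b00ba00b00ba900b00ba00b00ba9800b00ba00b00ba900b00ba00b00ba987600b00ba00b00ba900b00ba00b00ba9800b00ba00b00ba900b00ba00b00ba98700b00ba00b00ba900b00ba00b00ba9800b00ba00b00ba900b00ba00b00ba9876543200b00ba0ff), (nat_lit 0xba900b00ba00b00ba9800b00ba00b00ba900b00ba00b00ba98700b00ba00b00ba900b00ba00b00ba9800b00ba00b00ba900b00ba00b00ba987600b00ba00b00ba900b00ba00b00ba9800b00ba00b00ba900b00ba00b00ba98700b00ba00b00ba900b00ba00b00ba9800b00ba00b00ba900b00ba00b00ba9876500b00ba00b0ff),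 (nat_lit 0xba900b00ba00b00ba9800b00ba00b00ba900b00ba00b00ba98700b00ba00b00ba900b00ba00b00ba9800b00ba00b00ba900b00ba00b00ba987600b00ba00b00ba900b00ba00b00ba9800b00ba00b00ba900b00ba00b00ba98700b00ba00b00ba900b00ba00b00ba9800b00ba00b00ba900b00ba00b00ba98765400b00ba00b0ff), (nat_lit 0xba900b00ba00b00ba9800b00ba00b00ba900b00ba00b00ba98700b00ba00b00ba900b00ba00b00ba9800b00ba00b00ba900b00ba00b00ba987600b00ba00b00ba900b00ba00b00ba9800b00ba00b00ba900b00ba00b00ba98700b00ba00b00ba900b00ba00b00ba9800b00ba00b00ba900b00ba00b00ba9876500b00ba00b00ff), (nat_lit 0x900b00ba00b00ba9800b00ba00b00ba900b00ba00b00ba98700b00ba00b00ba900b00ba00b00ba9800b00ba00b00ba900b00ba00b00ba987600b00ba00b00ba900b00ba00b00ba9800b00ba00b00ba900b00ba00b00ba98700b00ba00b00ba900b00ba00b00ba9800b00ba00b00ba900b00ba00b00ba987654300b00ba00b00ff), (nat_lit 0x900b00ba00b00ba9800b00ba00b00ba900b00ba00b00ba98700b00ba00b00ba900b00ba00b00ba9800b00ba00b00ba900b00ba00b00ba987600b00ba00b00ba900b00ba00b00ba9800b00ba00b00ba900b00ba00b00ba98700b00ba00b00ba900b00ba00b00ba9800b00ba00b00ba900b00ba00b00ba9876500b00ba00b00baff),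 (nat_lit 0xb00ba00b00ba9800b00ba00b00ba900b00ba00b00ba98700b00ba00b00ba900b00ba00b00ba9800b00ba00b00ba900b00ba00b00ba987600b00ba00b00ba900b00ba00b00ba9800b00ba00b00ba900b00ba00b00ba98700b00ba00b00ba900b00ba00b00ba9800b00ba00b00ba900b00ba00b00ba98765400b00ba00b00baff), (nat_lit 0xb00ba00b00ba9800b00ba00b00ba900b00ba00b00ba98700b00ba00b00ba900b00ba00b00ba9800b00ba00b00ba900b00ba00b00ba987600b00ba00b00ba900b00ba00b00ba9800b00ba00b00ba900b00ba00b00ba98700b00ba00b00ba900b00ba00b00ba9800b00ba00b00ba900b00ba00b00ba9876500b00ba00b00ba9ff), (nat_lit 0xb00ba00b00ba90d)], nat_lit 11, nat_lit 2048⟩]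

noncomputable def sv1 : List VL :=
  [⟨(nat_lit 1415), [[nat_lit 1]], nat_lit 1, [(nat_lit 257)], nat_lit 1, nat_lit 2⟩,
  ⟨(nat_lit 55), [[nat_lit 4], [nat_lit 2]], nat_lit 2, [(nat_lit 0x20905)], nat_lit 2, nat_lit 4⟩,
  ⟨(nat_lit 2), [[nat_lit 8], [nat_lit 7]], nat_lit 2, [(nat_lit 0x20905)], nat_lit 2, nat_lit 4⟩,
  ⟨(nat_lit 145), [[nat_lit 6, nat_lit 7]], nat_lit 1, [(nat_lit 257)], nat_lit 1, nat_lit 2⟩,
  ⟨(nat_lit 1), [[nat_lit 9], [nat_lit 5], (unp (nat_lit 3) (nat_lit 0x1e303))], nat_lit 2, [(nat_lit 0x30e0c390d)], nat_lit 3, nat_lit 8⟩,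
  ⟨(nat_lit 4), [(unp (nat_lit 3) (nat_lit 0x58c805))], nat_lit 1, [(nat_lit 257)], nat_lit 1, nat_lit 2⟩]

noncomputable def zh : ℕ :=
  (nat_lit 0x8001a97b02890ae5f0039607026033002638)

noncomputable def bh : ℕ :=
  (nat_lit 0x8000e822e2891ef6604e62d87696245855a8)

noncomputable def bu : List ℕ :=
  [nat_lit 8]

noncomputable def aH : ℕ :=
  (nat_lit 0x8002595413d76dc4c40330d95a92081aa3f5)

noncomputable def yH : ℕ :=
  (nat_lit 0x80022700252502e6784050a11e75f11d23f3)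

noncomputable def vs : ℕ :=
  (nat_lit 0xa8c400200100080040020010008004002001)

noncomputable def vsu : List ℕ :=
  [nat_lit 2]

noncomputable def Ud : List ℕ :=
  (unp (nat_lit 5) (nat_lit 0x18a4380c51106928085098e2214c83148239825200a401c04298250904520829208c12886429906290642))

noncomputable def Uz : List ℕ :=
  (unp (nat_lit 5) (nat_lit 0x26110454802021441190c0390a6418a4380c1d))

noncomputable def kw : List ℕ :=
  (unp (nat_lit 5) (nat_lit 0x18825100861148239826418a13))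

noncomputable def e11 : List ℕ :=
  (unp (nat_lit 4) (nat_lit 0xa84204))

noncomputable def hw : List ℕ :=
  (unp (nat_lit 3) (nat_lit 0xb203))

/-- two relations -/
noncomputable def rlP (v : ℕ) : Bool := force (J4.mul v yH) fun c => force (J4.mul c c) fun e =>
  band (Nat.beq (J4.mul e c) J4.one) (force (J4.mul aH e) fun k => Nat.beq (J4.mul k k) J4.one)

/-- an equation between words in dimension 112 -/
noncomputable def eqM (u v : List ℕ) : Bool :=
  band (band (inDom 20 (List.range 10) u) (inDom 20 (List.range 10) v)) (Nat.beq (pM u) (pM v))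

noncomputable def nc3 : List ℕ :=
  (unp (nat_lit 4) (nat_lit 0x8888000000008888888800000000888820))

noncomputable def nc4 : List ℕ :=
  (unp (nat_lit 2) (nat_lit 0xaa0000aaaa0000aa20))

noncomputable def nc5 : List ℕ :=
  (unp (nat_lit 1) (nat_lit 0x1000120))

noncomputable def nc6 : List ℕ :=
  (unp (nat_lit 1) (nat_lit 288))

noncomputable def nc7 : List ℕ :=
  (unp (nat_lit 1) (nat_lit 0x1120))

theorem sH_ok : lH sw sH = true := by decide +kernel

theorem s0pc_ok : pcC J4.mul J4.one sH s0pc = true := by decide +kernel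

theorem spc_ok : pcC J4.mul J4.one (sH ++ vH) spc = true := by decide +kernel

theorem sv_ok : vchainOk (J4.app 12 1) (J4.wfT 12 1) J4.mul J4.one (sH ++ vH) [] (sv0 ++ sv1) = true := by decide +kernel

theorem sv_d : ((sv0 ++ sv1).map VL.d).prod = 2 ^ 21 := by decide +kernel

theorem zh_ok : zh ∈ sH ∧ cmA J4.mul sH J4.one = true ∧ cmA J4.mul sH zh = true ∧ zh ≠ J4.one := by decide +kernel

theorem c1 : cnt1 J4.mul J4.one (cmA J4.mul sH) sH 2 = true := by decide +kernel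

theorem cH_ok : eqL (mapR (fun v => J4.mul (J4.mul zh v) (J4.mul zh v)) vH) cH = true := by decide +kernel

theorem c2 : cnt1 J4.mul J4.one (cmA J4.mul cH) sH 16 = true := by decide +kernel

theorem bh_ok : bh = prodW J4.mul J4.one sH bu ∧ cmA J4.mul cH bh = true := by decide +kernel

theorem vsq : allL (fun v => Nat.beq (J4.mul v v) J4.one) vH = true := by decide +kernel

theorem gI_ok : lH [[0], [2], [4], [6], [8], [10], [14]] gI = true := by decide +kernel

theorem d_ok : pH [16] ∈ vH ∧ cmA J4.mul gI J4.one = true ∧ cmA J4.mul gI (pH [16]) = true ∧ pH [16] ≠ J4.one := by decide +kernel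

theorem ay_ok : lH [nthW J4W.wb 0 ++ nthW J4W.wb 1, nthW J4W.wb 1] [aH, yH] = true := by decide +kernel

theorem vs_ok : vs = prodW J4.mul J4.one vH vsu ∧ rlP J4.one = true ∧ rlP vs = true ∧ vs ≠ J4.one := by decide +kernel

theorem kw_ok : lH [kw] [J4.mul aH (J4.mul (J4.mul vs yH) (J4.mul vs yH))] = true := by decide +kernel

theorem Ud_ok : eqM (Ud ++ [16]) (nthW J4W.wb 0 ++ Ud) = true := by decide +kernel

theorem Uz_ok : eqM (Uz ++ zw) (kw ++ Uz) = true := by decide +kernel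

theorem e11_o : ordOk J4.mul J4.one J4.lc9 e11 1 11 = true := by decide +kernel

theorem e11_c : eqM (e11 ++ [16]) ([16] ++ e11) = true := by decide +kernel

theorem tz : eqM ([18] ++ zw) (zw ++ [18]) = true := by decide +kernel

theorem th : eqM ([18] ++ hw) (hw ++ [18]) = true := by decide +kernel

theorem hz : eqM (zw ++ hw) (hw ++ zw) = false := by decide +kernel

theorem s0q : cmA J4M.mul qM (nthD J4M.one gM 0) = false := by decide +kernel

theorem c3_s : (pk J4.mul J4.one (vH.take 5)).length = 32 ∧ nc3.length = 32 ∧ nc3.sum = 128 := by decide +kernel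

theorem c4_s : (pk J4.mul J4.one (vH.take 5)).length = 32 ∧ nc4.length = 32 ∧ nc4.sum = 32 := by decide +kernel

theorem c5_s : (pk J4.mul J4.one (vH.take 5)).length = 32 ∧ nc5.length = 32 ∧ nc5.sum = 2 := by decide +kernel

theorem c6_s : (pk J4.mul J4.one (vH.take 5)).length = 32 ∧ nc6.length = 32 ∧ nc6.sum = 1 := by decide +kernel

theorem c7_s : (pk J4.mul J4.one (vH.take 5)).length = 32 ∧ nc7.length = 32 ∧ nc7.sum = 2 := by decide +kernel

theorem c3_0 : rng (cntK J4.mul J4.one (cmA J4.mul [zh]) vH 5 nc3) (nat_lit 0) (nat_lit 1) = true := by decide +kernel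

theorem c3_1 : rng (cntK J4.mul J4.one (cmA J4.mul [zh]) vH 5 nc3) (nat_lit 1) (nat_lit 1) = true := by decide +kernel

theorem c3_2 : rng (cntK J4.mul J4.one (cmA J4.mul [zh]) vH 5 nc3) (nat_lit 2) (nat_lit 1) = true := by decide +kernel

theorem c3_3 : rng (cntK J4.mul J4.one (cmA J4.mul [zh]) vH 5 nc3) (nat_lit 3) (nat_lit 1) = true := by decide +kernel

theorem c3_4 : rng (cntK J4.mul J4.one (cmA J4.mul [zh]) vH 5 nc3) (nat_lit 4) (nat_lit 1) = true := by decide +kernel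

theorem c3_5 : rng (cntK J4.mul J4.one (cmA J4.mul [zh]) vH 5 nc3) (nat_lit 5) (nat_lit 1) = true := by decide +kernel

theorem c3_6 : rng (cntK J4.mul J4.one (cmA J4.mul [zh]) vH 5 nc3) (nat_lit 6) (nat_lit 1) = true := by decide +kernel

theorem c3_7 : rng (cntK J4.mul J4.one (cmA J4.mul [zh]) vH 5 nc3) (nat_lit 7) (nat_lit 1) = true := by decide +kernel

theorem c3_8 : rng (cntK J4.mul J4.one (cmA J4.mul [zh]) vH 5 nc3) (nat_lit 8) (nat_lit 1) = true := by decide +kernel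

theorem c3_9 : rng (cntK J4.mul J4.one (cmA J4.mul [zh]) vH 5 nc3) (nat_lit 9) (nat_lit 1) = true := by decide +kernel

theorem c3_10 : rng (cntK J4.mul J4.one (cmA J4.mul [zh]) vH 5 nc3) (nat_lit 10) (nat_lit 1) = true := by decide +kernel

theorem c3_11 : rng (cntK J4.mul J4.one (cmA J4.mul [zh]) vH 5 nc3) (nat_lit 11) (nat_lit 1) = true := by decide +kernel

theorem c3_12 : rng (cntK J4.mul J4.one (cmA J4.mul [zh]) vH 5 nc3) (nat_lit 12) (nat_lit 1) = true := by decide +kernel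

theorem c3_13 : rng (cntK J4.mul J4.one (cmA J4.mul [zh]) vH 5 nc3) (nat_lit 13) (nat_lit 1) = true := by decide +kernel

theorem c3_14 : rng (cntK J4.mul J4.one (cmA J4.mul [zh]) vH 5 nc3) (nat_lit 14) (nat_lit 1) = true := by decide +kernel

theorem c3_15 : rng (cntK J4.mul J4.one (cmA J4.mul [zh]) vH 5 nc3) (nat_lit 15) (nat_lit 1) = true := by decide +kernel

theorem c3_16 : rng (cntK J4.mul J4.one (cmA J4.mul [zh]) vH 5 nc3) (nat_lit 16) (nat_lit 1) = true := by decide +kernel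

theorem c3_17 : rng (cntK J4.mul J4.one (cmA J4.mul [zh]) vH 5 nc3) (nat_lit 17) (nat_lit 1) = true := by decide +kernel

theorem c3_18 : rng (cntK J4.mul J4.one (cmA J4.mul [zh]) vH 5 nc3) (nat_lit 18) (nat_lit 1) = true := by decide +kernel

theorem c3_19 : rng (cntK J4.mul J4.one (cmA J4.mul [zh]) vH 5 nc3) (nat_lit 19) (nat_lit 1) = true := by decide +kernel

theorem c3_20 : rng (cntK J4.mul J4.one (cmA J4.mul [zh]) vH 5 nc3) (nat_lit 20) (nat_lit 1) = true := by decide +kernel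

theorem c3_21 : rng (cntK J4.mul J4.one (cmA J4.mul [zh]) vH 5 nc3) (nat_lit 21) (nat_lit 1) = true := by decide +kernel

theorem c3_22 : rng (cntK J4.mul J4.one (cmA J4.mul [zh]) vH 5 nc3) (nat_lit 22) (nat_lit 1) = true := by decide +kernel

theorem c3_23 : rng (cntK J4.mul J4.one (cmA J4.mul [zh]) vH 5 nc3) (nat_lit 23) (nat_lit 1) = true := by decide +kernel

theorem c3_24 : rng (cntK J4.mul J4.one (cmA J4.mul [zh]) vH 5 nc3) (nat_lit 24) (nat_lit 1) = true := by decide +kernel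

theorem c3_25 : rng (cntK J4.mul J4.one (cmA J4.mul [zh]) vH 5 nc3) (nat_lit 25) (nat_lit 1) = true := by decide +kernel

theorem c3_26 : rng (cntK J4.mul J4.one (cmA J4.mul [zh]) vH 5 nc3) (nat_lit 26) (nat_lit 1) = true := by decide +kernel

theorem c3_27 : rng (cntK J4.mul J4.one (cmA J4.mul [zh]) vH 5 nc3) (nat_lit 27) (nat_lit 1) = true := by decide +kernel

theorem c3_28 : rng (cntK J4.mul J4.one (cmA J4.mul [zh]) vH 5 nc3) (nat_lit 28) (nat_lit 1) = true := by decide +kernel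

theorem c3_29 : rng (cntK J4.mul J4.one (cmA J4.mul [zh]) vH 5 nc3) (nat_lit 29) (nat_lit 1) = true := by decide +kernel

theorem c3_30 : rng (cntK J4.mul J4.one (cmA J4.mul [zh]) vH 5 nc3) (nat_lit 30) (nat_lit 1) = true := by decide +kernel

theorem c3_31 : rng (cntK J4.mul J4.one (cmA J4.mul [zh]) vH 5 nc3) (nat_lit 31) (nat_lit 1) = true := by decide +kernel

theorem c4_0 : rng (cntK J4.mul J4.one (cmA J4.mul [zh, bh]) vH 5 nc4) (nat_lit 0) (nat_lit 1) = true := by decide +kernel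

theorem c4_1 : rng (cntK J4.mul J4.one (cmA J4.mul [zh, bh]) vH 5 nc4) (nat_lit 1) (nat_lit 1) = true := by decide +kernel

theorem c4_2 : rng (cntK J4.mul J4.one (cmA J4.mul [zh, bh]) vH 5 nc4) (nat_lit 2) (nat_lit 1) = true := by decide +kernel

theorem c4_3 : rng (cntK J4.mul J4.one (cmA J4.mul [zh, bh]) vH 5 nc4) (nat_lit 3) (nat_lit 1) = true := by decide +kernel

theorem c4_4 : rng (cntK J4.mul J4.one (cmA J4.mul [zh, bh]) vH 5 nc4) (nat_lit 4) (nat_lit 1) = true := by decide +kernel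

theorem c4_5 : rng (cntK J4.mul J4.one (cmA J4.mul [zh, bh]) vH 5 nc4) (nat_lit 5) (nat_lit 1) = true := by decide +kernel

theorem c4_6 : rng (cntK J4.mul J4.one (cmA J4.mul [zh, bh]) vH 5 nc4) (nat_lit 6) (nat_lit 1) = true := by decide +kernel

theorem c4_7 : rng (cntK J4.mul J4.one (cmA J4.mul [zh, bh]) vH 5 nc4) (nat_lit 7) (nat_lit 1) = true := by decide +kernel

theorem c4_8 : rng (cntK J4.mul J4.one (cmA J4.mul [zh, bh]) vH 5 nc4) (nat_lit 8) (nat_lit 1) = true := by decide +kernel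

theorem c4_9 : rng (cntK J4.mul J4.one (cmA J4.mul [zh, bh]) vH 5 nc4) (nat_lit 9) (nat_lit 1) = true := by decide +kernel

theorem c4_10 : rng (cntK J4.mul J4.one (cmA J4.mul [zh, bh]) vH 5 nc4) (nat_lit 10) (nat_lit 1) = true := by decide +kernel

theorem c4_11 : rng (cntK J4.mul J4.one (cmA J4.mul [zh, bh]) vH 5 nc4) (nat_lit 11) (nat_lit 1) = true := by decide +kernel

theorem c4_12 : rng (cntK J4.mul J4.one (cmA J4.mul [zh, bh]) vH 5 nc4) (nat_lit 12) (nat_lit 1) = true := by decide +kernel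

theorem c4_13 : rng (cntK J4.mul J4.one (cmA J4.mul [zh, bh]) vH 5 nc4) (nat_lit 13) (nat_lit 1) = true := by decide +kernel

theorem c4_14 : rng (cntK J4.mul J4.one (cmA J4.mul [zh, bh]) vH 5 nc4) (nat_lit 14) (nat_lit 1) = true := by decide +kernel

theorem c4_15 : rng (cntK J4.mul J4.one (cmA J4.mul [zh, bh]) vH 5 nc4) (nat_lit 15) (nat_lit 1) = true := by decide +kernel

theorem c4_16 : rng (cntK J4.mul J4.one (cmA J4.mul [zh, bh]) vH 5 nc4) (nat_lit 16) (nat_lit 1) = true := by decide +kernel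

theorem c4_17 : rng (cntK J4.mul J4.one (cmA J4.mul [zh, bh]) vH 5 nc4) (nat_lit 17) (nat_lit 1) = true := by decide +kernel

theorem c4_18 : rng (cntK J4.mul J4.one (cmA J4.mul [zh, bh]) vH 5 nc4) (nat_lit 18) (nat_lit 1) = true := by decide +kernel

theorem c4_19 : rng (cntK J4.mul J4.one (cmA J4.mul [zh, bh]) vH 5 nc4) (nat_lit 19) (nat_lit 1) = true := by decide +kernel

theorem c4_20 : rng (cntK J4.mul J4.one (cmA J4.mul [zh, bh]) vH 5 nc4) (nat_lit 20) (nat_lit 1) = true := by decide +kernel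

theorem c4_21 : rng (cntK J4.mul J4.one (cmA J4.mul [zh, bh]) vH 5 nc4) (nat_lit 21) (nat_lit 1) = true := by decide +kernel

theorem c4_22 : rng (cntK J4.mul J4.one (cmA J4.mul [zh, bh]) vH 5 nc4) (nat_lit 22) (nat_lit 1) = true := by decide +kernel

theorem c4_23 : rng (cntK J4.mul J4.one (cmA J4.mul [zh, bh]) vH 5 nc4) (nat_lit 23) (nat_lit 1) = true := by decide +kernel

theorem c4_24 : rng (cntK J4.mul J4.one (cmA J4.mul [zh, bh]) vH 5 nc4) (nat_lit 24) (nat_lit 1) = true := by decide +kernel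

theorem c4_25 : rng (cntK J4.mul J4.one (cmA J4.mul [zh, bh]) vH 5 nc4) (nat_lit 25) (nat_lit 1) = true := by decide +kernel

theorem c4_26 : rng (cntK J4.mul J4.one (cmA J4.mul [zh, bh]) vH 5 nc4) (nat_lit 26) (nat_lit 1) = true := by decide +kernel

theorem c4_27 : rng (cntK J4.mul J4.one (cmA J4.mul [zh, bh]) vH 5 nc4) (nat_lit 27) (nat_lit 1) = true := by decide +kernel

theorem c4_28 : rng (cntK J4.mul J4.one (cmA J4.mul [zh, bh]) vH 5 nc4) (nat_lit 28) (nat_lit 1) = true := by decide +kernel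

theorem c4_29 : rng (cntK J4.mul J4.one (cmA J4.mul [zh, bh]) vH 5 nc4) (nat_lit 29) (nat_lit 1) = true := by decide +kernel

theorem c4_30 : rng (cntK J4.mul J4.one (cmA J4.mul [zh, bh]) vH 5 nc4) (nat_lit 30) (nat_lit 1) = true := by decide +kernel

theorem c4_31 : rng (cntK J4.mul J4.one (cmA J4.mul [zh, bh]) vH 5 nc4) (nat_lit 31) (nat_lit 1) = true := by decide +kernel

theorem c5_0 : rng (cntK J4.mul J4.one (cmA J4.mul gI) vH 5 nc5) (nat_lit 0) (nat_lit 1) = true := by decide +kernel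

theorem c5_1 : rng (cntK J4.mul J4.one (cmA J4.mul gI) vH 5 nc5) (nat_lit 1) (nat_lit 1) = true := by decide +kernel

theorem c5_2 : rng (cntK J4.mul J4.one (cmA J4.mul gI) vH 5 nc5) (nat_lit 2) (nat_lit 1) = true := by decide +kernel

theorem c5_3 : rng (cntK J4.mul J4.one (cmA J4.mul gI) vH 5 nc5) (nat_lit 3) (nat_lit 1) = true := by decide +kernel

theorem c5_4 : rng (cntK J4.mul J4.one (cmA J4.mul gI) vH 5 nc5) (nat_lit 4) (nat_lit 1) = true := by decide +kernel

theorem c5_5 : rng (cntK J4.mul J4.one (cmA J4.mul gI) vH 5 nc5) (nat_lit 5) (nat_lit 1) = true := by decide +kernel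

theorem c5_6 : rng (cntK J4.mul J4.one (cmA J4.mul gI) vH 5 nc5) (nat_lit 6) (nat_lit 1) = true := by decide +kernel

theorem c5_7 : rng (cntK J4.mul J4.one (cmA J4.mul gI) vH 5 nc5) (nat_lit 7) (nat_lit 1) = true := by decide +kernel

theorem c5_8 : rng (cntK J4.mul J4.one (cmA J4.mul gI) vH 5 nc5) (nat_lit 8) (nat_lit 1) = true := by decide +kernel

theorem c5_9 : rng (cntK J4.mul J4.one (cmA J4.mul gI) vH 5 nc5) (nat_lit 9) (nat_lit 1) = true := by decide +kernel

theorem c5_10 : rng (cntK J4.mul J4.one (cmA J4.mul gI) vH 5 nc5) (nat_lit 10) (nat_lit 1) = true := by decide +kernel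

theorem c5_11 : rng (cntK J4.mul J4.one (cmA J4.mul gI) vH 5 nc5) (nat_lit 11) (nat_lit 1) = true := by decide +kernel

theorem c5_12 : rng (cntK J4.mul J4.one (cmA J4.mul gI) vH 5 nc5) (nat_lit 12) (nat_lit 1) = true := by decide +kernel

theorem c5_13 : rng (cntK J4.mul J4.one (cmA J4.mul gI) vH 5 nc5) (nat_lit 13) (nat_lit 1) = true := by decide +kernel

theorem c5_14 : rng (cntK J4.mul J4.one (cmA J4.mul gI) vH 5 nc5) (nat_lit 14) (nat_lit 1) = true := by decide +kernel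

theorem c5_15 : rng (cntK J4.mul J4.one (cmA J4.mul gI) vH 5 nc5) (nat_lit 15) (nat_lit 1) = true := by decide +kernel

theorem c5_16 : rng (cntK J4.mul J4.one (cmA J4.mul gI) vH 5 nc5) (nat_lit 16) (nat_lit 1) = true := by decide +kernel

theorem c5_17 : rng (cntK J4.mul J4.one (cmA J4.mul gI) vH 5 nc5) (nat_lit 17) (nat_lit 1) = true := by decide +kernel

theorem c5_18 : rng (cntK J4.mul J4.one (cmA J4.mul gI) vH 5 nc5) (nat_lit 18) (nat_lit 1) = true := by decide +kernel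

theorem c5_19 : rng (cntK J4.mul J4.one (cmA J4.mul gI) vH 5 nc5) (nat_lit 19) (nat_lit 1) = true := by decide +kernel

theorem c5_20 : rng (cntK J4.mul J4.one (cmA J4.mul gI) vH 5 nc5) (nat_lit 20) (nat_lit 1) = true := by decide +kernel

theorem c5_21 : rng (cntK J4.mul J4.one (cmA J4.mul gI) vH 5 nc5) (nat_lit 21) (nat_lit 1) = true := by decide +kernel

theorem c5_22 : rng (cntK J4.mul J4.one (cmA J4.mul gI) vH 5 nc5) (nat_lit 22) (nat_lit 1) = true := by decide +kernel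

theorem c5_23 : rng (cntK J4.mul J4.one (cmA J4.mul gI) vH 5 nc5) (nat_lit 23) (nat_lit 1) = true := by decide +kernel

theorem c5_24 : rng (cntK J4.mul J4.one (cmA J4.mul gI) vH 5 nc5) (nat_lit 24) (nat_lit 1) = true := by decide +kernel

theorem c5_25 : rng (cntK J4.mul J4.one (cmA J4.mul gI) vH 5 nc5) (nat_lit 25) (nat_lit 1) = true := by decide +kernel

theorem c5_26 : rng (cntK J4.mul J4.one (cmA J4.mul gI) vH 5 nc5) (nat_lit 26) (nat_lit 1) = true := by decide +kernel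

theorem c5_27 : rng (cntK J4.mul J4.one (cmA J4.mul gI) vH 5 nc5) (nat_lit 27) (nat_lit 1) = true := by decide +kernel

theorem c5_28 : rng (cntK J4.mul J4.one (cmA J4.mul gI) vH 5 nc5) (nat_lit 28) (nat_lit 1) = true := by decide +kernel

theorem c5_29 : rng (cntK J4.mul J4.one (cmA J4.mul gI) vH 5 nc5) (nat_lit 29) (nat_lit 1) = true := by decide +kernel

theorem c5_30 : rng (cntK J4.mul J4.one (cmA J4.mul gI) vH 5 nc5) (nat_lit 30) (nat_lit 1) = true := by decide +kernel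

theorem c5_31 : rng (cntK J4.mul J4.one (cmA J4.mul gI) vH 5 nc5) (nat_lit 31) (nat_lit 1) = true := by decide +kernel

theorem c6_0 : rng (cntK J4.mul J4.one (cmA J4.mul [aH]) vH 5 nc6) (nat_lit 0) (nat_lit 1) = true := by decide +kernel

theorem c6_1 : rng (cntK J4.mul J4.one (cmA J4.mul [aH]) vH 5 nc6) (nat_lit 1) (nat_lit 1) = true := by decide +kernel

theorem c6_2 : rng (cntK J4.mul J4.one (cmA J4.mul [aH]) vH 5 nc6) (nat_lit 2) (nat_lit 1) = true := by decide +kernel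

theorem c6_3 : rng (cntK J4.mul J4.one (cmA J4.mul [aH]) vH 5 nc6) (nat_lit 3) (nat_lit 1) = true := by decide +kernel

theorem c6_4 : rng (cntK J4.mul J4.one (cmA J4.mul [aH]) vH 5 nc6) (nat_lit 4) (nat_lit 1) = true := by decide +kernel

theorem c6_5 : rng (cntK J4.mul J4.one (cmA J4.mul [aH]) vH 5 nc6) (nat_lit 5) (nat_lit 1) = true := by decide +kernel

theorem c6_6 : rng (cntK J4.mul J4.one (cmA J4.mul [aH]) vH 5 nc6) (nat_lit 6) (nat_lit 1) = true := by decide +kernel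

theorem c6_7 : rng (cntK J4.mul J4.one (cmA J4.mul [aH]) vH 5 nc6) (nat_lit 7) (nat_lit 1) = true := by decide +kernel

theorem c6_8 : rng (cntK J4.mul J4.one (cmA J4.mul [aH]) vH 5 nc6) (nat_lit 8) (nat_lit 1) = true := by decide +kernel

theorem c6_9 : rng (cntK J4.mul J4.one (cmA J4.mul [aH]) vH 5 nc6) (nat_lit 9) (nat_lit 1) = true := by decide +kernel

theorem c6_10 : rng (cntK J4.mul J4.one (cmA J4.mul [aH]) vH 5 nc6) (nat_lit 10) (nat_lit 1) = true := by decide +kernel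

theorem c6_11 : rng (cntK J4.mul J4.one (cmA J4.mul [aH]) vH 5 nc6) (nat_lit 11) (nat_lit 1) = true := by decide +kernel

theorem c6_12 : rng (cntK J4.mul J4.one (cmA J4.mul [aH]) vH 5 nc6) (nat_lit 12) (nat_lit 1) = true := by decide +kernel

theorem c6_13 : rng (cntK J4.mul J4.one (cmA J4.mul [aH]) vH 5 nc6) (nat_lit 13) (nat_lit 1) = true := by decide +kernel

theorem c6_14 : rng (cntK J4.mul J4.one (cmA J4.mul [aH]) vH 5 nc6) (nat_lit 14) (nat_lit 1) = true := by decide +kernel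

theorem c6_15 : rng (cntK J4.mul J4.one (cmA J4.mul [aH]) vH 5 nc6) (nat_lit 15) (nat_lit 1) = true := by decide +kernel

theorem c6_16 : rng (cntK J4.mul J4.one (cmA J4.mul [aH]) vH 5 nc6) (nat_lit 16) (nat_lit 1) = true := by decide +kernel

theorem c6_17 : rng (cntK J4.mul J4.one (cmA J4.mul [aH]) vH 5 nc6) (nat_lit 17) (nat_lit 1) = true := by decide +kernel

theorem c6_18 : rng (cntK J4.mul J4.one (cmA J4.mul [aH]) vH 5 nc6) (nat_lit 18) (nat_lit 1) = true := by decide +kernel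

theorem c6_19 : rng (cntK J4.mul J4.one (cmA J4.mul [aH]) vH 5 nc6) (nat_lit 19) (nat_lit 1) = true := by decide +kernel

theorem c6_20 : rng (cntK J4.mul J4.one (cmA J4.mul [aH]) vH 5 nc6) (nat_lit 20) (nat_lit 1) = true := by decide +kernel

theorem c6_21 : rng (cntK J4.mul J4.one (cmA J4.mul [aH]) vH 5 nc6) (nat_lit 21) (nat_lit 1) = true := by decide +kernel

theorem c6_22 : rng (cntK J4.mul J4.one (cmA J4.mul [aH]) vH 5 nc6) (nat_lit 22) (nat_lit 1) = true := by decide +kernel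

theorem c6_23 : rng (cntK J4.mul J4.one (cmA J4.mul [aH]) vH 5 nc6) (nat_lit 23) (nat_lit 1) = true := by decide +kernel

theorem c6_24 : rng (cntK J4.mul J4.one (cmA J4.mul [aH]) vH 5 nc6) (nat_lit 24) (nat_lit 1) = true := by decide +kernel

theorem c6_25 : rng (cntK J4.mul J4.one (cmA J4.mul [aH]) vH 5 nc6) (nat_lit 25) (nat_lit 1) = true := by decide +kernel

theorem c6_26 : rng (cntK J4.mul J4.one (cmA J4.mul [aH]) vH 5 nc6) (nat_lit 26) (nat_lit 1) = true := by decide +kernel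

theorem c6_27 : rng (cntK J4.mul J4.one (cmA J4.mul [aH]) vH 5 nc6) (nat_lit 27) (nat_lit 1) = true := by decide +kernel

theorem c6_28 : rng (cntK J4.mul J4.one (cmA J4.mul [aH]) vH 5 nc6) (nat_lit 28) (nat_lit 1) = true := by decide +kernel

theorem c6_29 : rng (cntK J4.mul J4.one (cmA J4.mul [aH]) vH 5 nc6) (nat_lit 29) (nat_lit 1) = true := by decide +kernel

theorem c6_30 : rng (cntK J4.mul J4.one (cmA J4.mul [aH]) vH 5 nc6) (nat_lit 30) (nat_lit 1) = true := by decide +kernel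

theorem c6_31 : rng (cntK J4.mul J4.one (cmA J4.mul [aH]) vH 5 nc6) (nat_lit 31) (nat_lit 1) = true := by decide +kernel

theorem c7_0 : rng (cntK J4.mul J4.one (rlP) vH 5 nc7) (nat_lit 0) (nat_lit 1) = true := by decide +kernel

theorem c7_1 : rng (cntK J4.mul J4.one (rlP) vH 5 nc7) (nat_lit 1) (nat_lit 1) = true := by decide +kernel

theorem c7_2 : rng (cntK J4.mul J4.one (rlP) vH 5 nc7) (nat_lit 2) (nat_lit 1) = true := by decide +kernel

theorem c7_3 : rng (cntK J4.mul J4.one (rlP) vH 5 nc7) (nat_lit 3) (nat_lit 1) = true := by decide +kernel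

theorem c7_4 : rng (cntK J4.mul J4.one (rlP) vH 5 nc7) (nat_lit 4) (nat_lit 1) = true := by decide +kernel

theorem c7_5 : rng (cntK J4.mul J4.one (rlP) vH 5 nc7) (nat_lit 5) (nat_lit 1) = true := by decide +kernel

theorem c7_6 : rng (cntK J4.mul J4.one (rlP) vH 5 nc7) (nat_lit 6) (nat_lit 1) = true := by decide +kernel

theorem c7_7 : rng (cntK J4.mul J4.one (rlP) vH 5 nc7) (nat_lit 7) (nat_lit 1) = true := by decide +kernel

theorem c7_8 : rng (cntK J4.mul J4.one (rlP) vH 5 nc7) (nat_lit 8) (nat_lit 1) = true := by decide +kernel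

theorem c7_9 : rng (cntK J4.mul J4.one (rlP) vH 5 nc7) (nat_lit 9) (nat_lit 1) = true := by decide +kernel

theorem c7_10 : rng (cntK J4.mul J4.one (rlP) vH 5 nc7) (nat_lit 10) (nat_lit 1) = true := by decide +kernel

theorem c7_11 : rng (cntK J4.mul J4.one (rlP) vH 5 nc7) (nat_lit 11) (nat_lit 1) = true := by decide +kernel

theorem c7_12 : rng (cntK J4.mul J4.one (rlP) vH 5 nc7) (nat_lit 12) (nat_lit 1) = true := by decide +kernel

theorem c7_13 : rng (cntK J4.mul J4.one (rlP) vH 5 nc7) (nat_lit 13) (nat_lit 1) = true := by decide +kernel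

theorem c7_14 : rng (cntK J4.mul J4.one (rlP) vH 5 nc7) (nat_lit 14) (nat_lit 1) = true := by decide +kernel

theorem c7_15 : rng (cntK J4.mul J4.one (rlP) vH 5 nc7) (nat_lit 15) (nat_lit 1) = true := by decide +kernel

theorem c7_16 : rng (cntK J4.mul J4.one (rlP) vH 5 nc7) (nat_lit 16) (nat_lit 1) = true := by decide +kernel

theorem c7_17 : rng (cntK J4.mul J4.one (rlP) vH 5 nc7) (nat_lit 17) (nat_lit 1) = true := by decide +kernel

theorem c7_18 : rng (cntK J4.mul J4.one (rlP) vH 5 nc7) (nat_lit 18) (nat_lit 1) = true := by decide +kernel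

theorem c7_19 : rng (cntK J4.mul J4.one (rlP) vH 5 nc7) (nat_lit 19) (nat_lit 1) = true := by decide +kernel

theorem c7_20 : rng (cntK J4.mul J4.one (rlP) vH 5 nc7) (nat_lit 20) (nat_lit 1) = true := by decide +kernel

theorem c7_21 : rng (cntK J4.mul J4.one (rlP) vH 5 nc7) (nat_lit 21) (nat_lit 1) = true := by decide +kernel

theorem c7_22 : rng (cntK J4.mul J4.one (rlP) vH 5 nc7) (nat_lit 22) (nat_lit 1) = true := by decide +kernel

theorem c7_23 : rng (cntK J4.mul J4.one (rlP) vH 5 nc7) (nat_lit 23) (nat_lit 1) = true := by decide +kernel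

theorem c7_24 : rng (cntK J4.mul J4.one (rlP) vH 5 nc7) (nat_lit 24) (nat_lit 1) = true := by decide +kernel

theorem c7_25 : rng (cntK J4.mul J4.one (rlP) vH 5 nc7) (nat_lit 25) (nat_lit 1) = true := by decide +kernel

theorem c7_26 : rng (cntK J4.mul J4.one (rlP) vH 5 nc7) (nat_lit 26) (nat_lit 1) = true := by decide +kernel

theorem c7_27 : rng (cntK J4.mul J4.one (rlP) vH 5 nc7) (nat_lit 27) (nat_lit 1) = true := by decide +kernel

theorem c7_28 : rng (cntK J4.mul J4.one (rlP) vH 5 nc7) (nat_lit 28) (nat_lit 1) = true := by decide +kernel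

theorem c7_29 : rng (cntK J4.mul J4.one (rlP) vH 5 nc7) (nat_lit 29) (nat_lit 1) = true := by decide +kernel

theorem c7_30 : rng (cntK J4.mul J4.one (rlP) vH 5 nc7) (nat_lit 30) (nat_lit 1) = true := by decide +kernel

theorem c7_31 : rng (cntK J4.mul J4.one (rlP) vH 5 nc7) (nat_lit 31) (nat_lit 1) = true := by decide +kernel

theorem c3 : ∀ i < 32, (cntK J4.mul J4.one (cmA J4.mul [zh]) vH 5 nc3) i = true :=
  (rng_add (rng_add (rng_add (rng_add (rng_add (rng_add (rng_add (rng_add (rng_add (rng_add (rng_add (rng_add (rng_add (rng_add (rng_add (rng_add (rng_add (rng_add (rng_add (rng_add (rng_add (rng_add (rng_add (rng_add (rng_add (rng_add (rng_add (rng_add (rng_add (rng_add (rng_add (rng_add rng_zero c3_0) c3_1) c3_2) c3_3) c3_4) c3_5) c3_6) c3_7) c3_8) c3_9) c3_10) c3_11) c3_12) c3_13) c3_14) c3_15) c3_16) c3_17) c3_18) c3_19) c3_20) c3_21) c3_22) c3_23) c3_24) c3_25) c3_26) c3_27) c3_28) c3_29) c3_30) c3_31)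

theorem c4 : ∀ i < 32, (cntK J4.mul J4.one (cmA J4.mul [zh, bh]) vH 5 nc4) i = true :=
  (rng_add (rng_add (rng_add (rng_add (rng_add (rng_add (rng_add (rng_add (rng_add (rng_add (rng_add (rng_add (rng_add (rng_add (rng_add (rng_add (rng_add (rng_add (rng_add (rng_add (rng_add (rng_add (rng_add (rng_add (rng_add (rng_add (rng_add (rng_add (rng_add (rng_add (rng_add (rng_add rng_zero c4_0) c4_1) c4_2) c4_3) c4_4) c4_5) c4_6) c4_7) c4_8) c4_9) c4_10) c4_11) c4_12) c4_13) c4_14) c4_15) c4_16) c4_17) c4_18) c4_19) c4_20) c4_21) c4_22) c4_23) c4_24) c4_25) c4_26) c4_27) c4_28) c4_29) c4_30) c4_31)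

theorem c5 : ∀ i < 32, (cntK J4.mul J4.one (cmA J4.mul gI) vH 5 nc5) i = true :=
  (rng_add (rng_add (rng_add (rng_add (rng_add (rng_add (rng_add (rng_add (rng_add (rng_add (rng_add (rng_add (rng_add (rng_add (rng_add (rng_add (rng_add (rng_add (rng_add (rng_add (rng_add (rng_add (rng_add (rng_add (rng_add (rng_add (rng_add (rng_add (rng_add (rng_add (rng_add (rng_add rng_zero c5_0) c5_1) c5_2) c5_3) c5_4) c5_5) c5_6) c5_7) c5_8) c5_9) c5_10) c5_11) c5_12) c5_13) c5_14) c5_15) c5_16) c5_17) c5_18) c5_19) c5_20) c5_21) c5_22) c5_23) c5_24) c5_25) c5_26) c5_27) c5_28) c5_29) c5_30) c5_31)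

theorem c6 : ∀ i < 32, (cntK J4.mul J4.one (cmA J4.mul [aH]) vH 5 nc6) i = true :=
  (rng_add (rng_add (rng_add (rng_add (rng_add (rng_add (rng_add (rng_add (rng_add (rng_add (rng_add (rng_add (rng_add (rng_add (rng_add (rng_add (rng_add (rng_add (rng_add (rng_add (rng_add (rng_add (rng_add (rng_add (rng_add (rng_add (rng_add (rng_add (rng_add (rng_add (rng_add (rng_add rng_zero c6_0) c6_1) c6_2) c6_3) c6_4) c6_5) c6_6) c6_7) c6_8) c6_9) c6_10) c6_11) c6_12) c6_13) c6_14) c6_15) c6_16) c6_17) c6_18) c6_19) c6_20) c6_21) c6_22) c6_23) c6_24) c6_25) c6_26) c6_27) c6_28) c6_29) c6_30) c6_31)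

theorem c7 : ∀ i < 32, (cntK J4.mul J4.one (rlP) vH 5 nc7) i = true :=
  (rng_add (rng_add (rng_add (rng_add (rng_add (rng_add (rng_add (rng_add (rng_add (rng_add (rng_add (rng_add (rng_add (rng_add (rng_add (rng_add (rng_add (rng_add (rng_add (rng_add (rng_add (rng_add (rng_add (rng_add (rng_add (rng_add (rng_add (rng_add (rng_add (rng_add (rng_add (rng_add rng_zero c7_0) c7_1) c7_2) c7_3) c7_4) c7_5) c7_6) c7_7) c7_8) c7_9) c7_10) c7_11) c7_12) c7_13) c7_14) c7_15) c7_16) c7_17) c7_18) c7_19) c7_20) c7_21) c7_22) c7_23) c7_24) c7_25) c7_26) c7_27) c7_28) c7_29) c7_30) c7_31)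

end H15.J4O
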