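import Mathlib

/-! The rank of a faithful elementary abelian two-group on a group of order `p` or `p ^ 2` (namespace H15.LpR): `r`. -/

set_option autoImplicit false

namespace H15.LpR
open Subgroup

universe u

variable {G : Type u} [Group G]

theorem bd {ι : Type} [Fintype ι] {P E : Subgroup G} (S : ι → Set G) (hS : P ≤ closure (⋃ i, S i))
    (h : ∀ f ∈ E, ∀ i, (∀ x ∈ S i, f * x * f⁻¹ = x) ∨ ∀ x ∈ S i, f * x * f⁻¹ = x⁻¹) (hc : E ⊓ centralizer (P : Set G) = ⊥) :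
    Nat.card E ≤ 2 ^ Fintype.card ι := by
  classical
  have : Function.Injective (fun (f : E) (i : ι) => ∀ x ∈ S i, f.1 * x * f.1⁻¹ = x) := fun f g e => by
    have k : ∀ i, ∀ x ∈ S i, f.1 * x * f.1⁻¹ = g.1 * x * g.1⁻¹ := fun i x hx => by
      have e : (∀ x ∈ S i, f.1 * x * f.1⁻¹ = x) = ∀ x ∈ S i, g.1 * x * g.1⁻¹ = x := congrFun e i
      by_cases c : ∀ x ∈ S i, f.1 * x * f.1⁻¹ = x
      · rw [c x hx, e.mp c x hx]
      · rw [(h f f.2 i).resolve_left c x hx, (h g g.2 i).resolve_left (fun k => c (e.mpr k)) x hx]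
    have : g.1⁻¹ * f.1 ∈ E ⊓ centralizer (P : Set G) := ⟨E.mul_mem (E.inv_mem g.2) f.2, centralizer_le hS (by
      rw [centralizer_closure]
      intro x hx
      obtain ⟨i, hi⟩ := Set.mem_iUnion.1 hx
      calc _ = g.1⁻¹ * (g.1 * x * g.1⁻¹) * f.1 := by group
        _ = _ := by rw [← k i x hi]; group)⟩
    rw [hc, mem_bot, inv_mul_eq_one] at this
    exact Subtype.ext this.symm
  simpa using Nat.card_le_card_of_injective _ this

theorem pm {A : Subgroup G} {p : ℕ} (hp : p.Prime) (hA : Nat.card A = p) {f : G} (hf : f ^ 2 = 1) (h : ∀ x ∈ A, f * x * f⁻¹ ∈ A) :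
    (∀ x ∈ (A : Set G), f * x * f⁻¹ = x) ∨ ∀ x ∈ (A : Set G), f * x * f⁻¹ = x⁻¹ := by
  have := Fact.mk hp
  have := isCyclic_of_prime_card hA
  refine or_iff_not_imp_right.2 fun n x hx => ?_
  push Not at n
  obtain ⟨a, ha, n⟩ := n
  have c : f * a * f⁻¹ * a = a * (f * a * f⁻¹) := congrArg Subtype.val (mul_comm' (⟨_, h a ha⟩ : A) ⟨a, ha⟩)
  obtain ⟨i, hi⟩ := mem_zpowers_of_prime_card (g := (⟨_, mul_mem ha (h a ha)⟩ : A)) (g' := ⟨x, hx⟩) hA
    fun e => n (eq_inv_of_mul_eq_one_right (congrArg Subtype.val e))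
  have hi : (a * (f * a * f⁻¹)) ^ i = x := congrArg Subtype.val hi
  have : f * (a * (f * a * f⁻¹)) * f⁻¹ = a * (f * a * f⁻¹) := by
    rw [← c]
    calc _ = f * a * f⁻¹ * (f ^ 2 * a * (f ^ 2)⁻¹) := by rw [c]; simp [pow_two, mul_assoc]
      _ = _ := by rw [hf]; group
  rw [← hi, ← conj_zpow, this]

theorem r : ∀ (G : Type u) [Group G] (P E : Subgroup G) (p d : ℕ), p.Prime → p ≠ 2 → d = 1 ∨ d = 2 → Nat.card P = p ^ d →
    (∀ x ∈ P, x ^ p = 1) → Finite E → (∀ e ∈ E, e ^ 2 = 1) → E ≤ normalizer (P : Set G) → E ⊓ centralizer (P : Set G) = ⊥ →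
      Nat.card E ≤ 2 ^ d := by
  intro G _ P E p d hp h2 hd hP hx _ he hn hc
  have nP : ∀ f ∈ E, ∀ x ∈ P, f * x * f⁻¹ ∈ P := fun f hf x hx => (mem_normalizer_iff.1 (hn hf) x).1 hx
  have b1 := fun h => bd (P := P) (E := E) (fun _ : Unit => (P : Set G)) (fun x hx => subset_closure (Set.mem_iUnion.2 ⟨(), hx⟩)) h hc
  rcases hd with rfl | rfl
  · exact b1 fun f hf _ => pm hp (hP.trans (pow_one p)) (he f hf) (nP f hf)
  by_cases c : ∀ f ∈ E, (∀ x ∈ (P : Set G), f * x * f⁻¹ = x) ∨ ∀ x ∈ (P : Set G), f * x * f⁻¹ = x⁻¹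
  · exact (b1 fun f hf _ => c f hf).trans (by simp)
  push Not at c
  obtain ⟨e, hE, ⟨b, hb, nb⟩, a, ha, na⟩ := c
  have := Fact.mk hp
  have : Finite P := Nat.finite_of_card_ne_zero (hP ▸ pow_ne_zero 2 hp.ne_zero)
  have cm : ∀ x ∈ P, ∀ y ∈ P, x * y = y * x := fun x hx y hy =>
    congrArg Subtype.val ((IsPGroup.isMulCommutative_of_card_eq_prime_sq hP).is_comm.comm ⟨x, hx⟩ ⟨y, hy⟩)
  have ce : ∀ f ∈ E, ∀ x, e * (f * x * f⁻¹) * e⁻¹ = f * (e * x * e⁻¹) * f⁻¹ := fun f hf x => by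
    have i : ∀ g ∈ E, g⁻¹ = g := fun g hg => inv_eq_of_mul_eq_one_right (by rw [← pow_two, he g hg])
    have : e * f = f * e := by rw [← i _ (mul_mem hE hf), mul_inv_rev, i e hE, i f hf]
    calc _ = e * f * x * (e * f)⁻¹ := by group
      _ = _ := by rw [this]; group
  have ee : ∀ x, e * (e * x * e⁻¹) * e⁻¹ = x := fun x => by
    calc _ = e ^ 2 * x * (e ^ 2)⁻¹ := by simp [pow_two, mul_assoc]
      _ = _ := by rw [he e hE]; group
  let A : Subgroup G :=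
    { carrier := {x | x ∈ P ∧ e * x * e⁻¹ = x}
      one_mem' := ⟨one_mem _, by simp⟩
      mul_mem' := fun {x y} h k => ⟨mul_mem h.1 k.1, by rw [← conj_mul, h.2, k.2]⟩
      inv_mem' := fun {x} h => ⟨inv_mem h.1, by rw [← conj_inv, h.2]⟩ }
  let B : Subgroup G :=
    { carrier := {x | x ∈ P ∧ e * x * e⁻¹ = x⁻¹}
      one_mem' := ⟨one_mem _, by simp⟩
      mul_mem' := fun {x y} h k => ⟨mul_mem h.1 k.1, by rw [← conj_mul, h.2, k.2, cm x h.1 y k.1, mul_inv_rev]⟩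
      inv_mem' := fun {x} h => ⟨inv_mem h.1, by rw [← conj_inv, h.2]⟩ }
  have mA : ∀ x ∈ P, x * (e * x * e⁻¹) ∈ A := fun x hx =>
    ⟨mul_mem hx (nP e hE x hx), by rw [← conj_mul, ee, cm _ (nP e hE x hx) x hx]⟩
  have mB : ∀ x ∈ P, (e * x * e⁻¹)⁻¹ * x ∈ B := fun x hx =>
    ⟨mul_mem (inv_mem (nP e hE x hx)) hx, by rw [← conj_mul, ← conj_inv, ee, mul_inv_rev, inv_inv]⟩
  have cd : ∀ X : Subgroup G, X ≤ P → X ≠ ⊥ → X ≠ P → Nat.card X = p := fun X l n1 n2 => by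
    have : Finite X := Finite.of_injective _ (inclusion_injective l)
    obtain ⟨i, hi, e⟩ := (Nat.dvd_prime_pow hp).1 (hP ▸ card_dvd_of_le l)
    interval_cases i
    · exact (n1 (card_eq_one.1 e)).elim
    · exact e.trans (pow_one p)
    · exact (n2 (eq_of_le_of_card_ge l (hP.trans e.symm).le)).elim
  have cA := cd A (fun _ h => h.1) (fun c => na (eq_inv_of_mul_eq_one_right (mem_bot.1 (c ▸ mA a ha))))
    fun c => nb (c.ge hb).2
  have cB := cd B (fun _ h => h.1) (fun c => nb (inv_mul_eq_one.1 (mem_bot.1 (c ▸ mB b hb))))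
    fun c => na (c.ge ha).2
  refine (bd (P := P) (E := E) (fun i : Bool => cond i (A : Set G) B) (fun x h => ?_) (fun f hf i => ?_) hc).trans (by simp)
  · obtain ⟨k, hk⟩ := hp.odd_of_ne_two h2
    have : x = (x * (e * x * e⁻¹) * ((e * x * e⁻¹)⁻¹ * x)) ^ (k + 1) := by
      rw [mul_assoc, mul_inv_cancel_left, ← pow_two, ← pow_mul, show 2 * (k + 1) = p + 1 by omega, pow_succ, hx x h, one_mul]
    rw [this]
    exact pow_mem (mul_mem (subset_closure (Set.mem_iUnion.2 ⟨true, mA x h⟩)) (subset_closure (Set.mem_iUnion.2 ⟨false, mB x h⟩))) _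
  · cases i
    · exact pm hp cB (he f hf) fun x h => ⟨nP f hf x h.1, by rw [ce f hf, h.2, conj_inv]⟩
    · exact pm hp cA (he f hf) fun x h => ⟨nP f hf x h.1, by rw [ce f hf, h.2]⟩

end H15.LpR
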