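import Cfsg.Agent.H15.LyAc
import Cfsg.Agent.H15.LyGAa
import Cfsg.Agent.H15.LyMAa
import Cfsg.Agent.S1055
import Cfsg.Agent.S1059
import Cfsg.Prelude.Def_Spor_Ly

/-! The Lyons group: the subgroup of type G2, order, simplicity, the presented group (namespace H15.Ly). -/

namespace H15.Ly
open H13 Cfsg Cfsg.Spor Cfsg.Lie

/-- the coding of vectors of length 7 -/
noncomputable def V7 : VCod (ZMod 5) (Fin 7) 7 98 app wfT :=
  vcodP (p := 5) (m := 103) (s := 9) (w := 14) (Equiv.refl _) (by decide +kernel)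

theorem h7 : V7.mat one = 1 := V7.mat_one Nat.cast_zero Nat.cast_one (by decide +kernel)

/-- the subgroup of type G2 -/
noncomputable abbrev H : Type := mdl (g V7 h7) dom5

instance : Finite H := fin5 V7 h7

instance five : Fact (Nat.Prime 5) := ⟨by norm_num⟩

/-- the coding of vectors of length 14 -/
noncomputable def V14 : VCod (ZMod 5) chevG2.Idx 14 224 LyG.app LyG.wfT :=
  vcodP (p := 5) (m := 205) (s := 10) (w := 16) (finSumFinEquiv (m := 2) (n := 12)) (by decide +kernel)

theorem h14 : V14.mat LyG.one = 1 := V14.mat_one Nat.cast_zero Nat.cast_one (by decide +kernel)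

theorem xc_eq : ∀ (r : Fin chevG2.nroots) (t : ZMod 5),
    V14.mat (nthD LyG.one LyG.xc (5 * r + t.val)) = chevG2.xMat (ZMod 5) r t := by
  decide +kernel

theorem G2_eq : mdl (LyG.g V14 h14) dom5 = chevG2.group (ZMod 5) := by
  have w : ∀ l, LyG.wfT 224 14 (nthD LyG.one LyG.xc l) = true :=
    nthD_prop (p := fun c => LyG.wfT 224 14 c = true) LyG.h1 (allL_iff.1 LyG.xw)
  have o : ∀ (r : Fin 12) (t : ZMod 5), (LyG.S V14 h14).ok (nthD LyG.one LyG.xc (5 * r + t.val)) := fun r t =>
    (V14.ok_of_mul LyG.h1 h14 (w _) (w _)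
      (Nat.eq_of_beq_eq_true (allLt_iff.1 (allLt_iff.1 LyG.xi r r.2) _ t.val_lt))).1
  refine le_antisymm ((Subgroup.closure_le _).2 ?_) ((Subgroup.closure_le _).2 ?_)
  · rintro _ ⟨i, hi, rfl⟩
    have k : ∀ (r : Fin 12) (t : ZMod 5), ((LyG.S V14 h14).sub (chevG2.group (ZMod 5))).ok
        (nthD LyG.one LyG.xc (5 * r + t.val)) := fun r t =>
      ⟨o r t, Subgroup.subset_closure ⟨r, t, (V14.sem_coe LyG.h1 h14 (o r t)).trans (xc_eq r t)⟩⟩
    refine (((LyG.S V14 h14).sub (chevG2.group (ZMod 5))).ok_of_run (fun c hc => ?_) LyG.p1_ok _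
      (mapR_eq _ _ ▸ List.mem_map_of_mem hi)).2
    simp only [sel, mapR_eq, List.map, List.mem_cons, List.not_mem_nil, or_false] at hc
    rcases hc with rfl | rfl | rfl | rfl
    exacts [k 7 1, k 4 1, k 6 1, k 5 1]
  · rintro x ⟨r, t, e⟩
    have := Sem.ok_of_run _ (Sem.ok_sel _ (lc_of _ (LyG.h0 V14 h14) LyG.bco LyG.lco).ok _) LyG.p2_ok
    have k := nthD_prop (Sem.ok_one _) this (5 * r + t.val)
    exact (V14.sem_of_eq LyG.h1 h14 (w _) (e.trans (xc_eq r t).symm)).2 ▸ k.2

theorem card_H : Nat.card H = 5859000000 := card5 V7 h7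

theorem equiv_G2 : Nonempty (H ≃* chevG2.group (ZMod 5)) := by
  obtain ⟨ψ, hψ⟩ := U5 V7 h7 _ _ ((LyG.rr_r V14 h14).mgen rd5)
  have s := MonoidHom.range_eq_top.1 ((range_eq hψ).trans (mdl_mgen _ _))
  exact ⟨(MulEquiv.ofBijective ψ (s.bijective_of_nat_card_le (by
    rw [card_H, G2_eq, Agent.S1059.result (ZMod.card 5)]; norm_num))).trans (MulEquiv.subgroupCongr G2_eq)⟩

instance simple_H : IsSimpleGroup H :=
  have := (Agent.S1055.result (F := ZMod 5) ⟨2, by decide, by decide⟩).1
  equiv_G2.some.isSimpleGroup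

/-- the coding of vectors of length 111 -/
noncomputable def V : VCod (ZMod 5) (Fin 111) 111 2442 LyM.app LyM.wfT :=
  vcodP (p := 5) (m := 1639) (s := 13) (w := 22) (Equiv.refl _) (by decide +kernel)

theorem h2 : V.mat LyM.one = 1 := V.mat_one Nat.cast_zero Nat.cast_one (by decide +kernel)

/-- the model of the Lyons group -/
def M : Type := LyM.M V h2

noncomputable instance : Group M := inferInstanceAs (Group (LyM.M V h2))

/-- its generators -/
noncomputable def gm : ℕ → M := mgen (LyM.g V h2) (List.range 39)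

theorem gm_top : mdl gm (List.range 39) = ⊤ := mdl_mgen _ _

theorem rel : Rels R6 gm := LyM.rr_m V h2

theorem fin_le : Finite M ∧ Nat.card M ≤ (kc5.map Prod.snd).sum * Nat.card H :=
  (C5 V7 h7).card_le ((U5 V7 h7).univ.weaken fun _ _ _ h => h.left) (LyM.rr_r V h2)

instance : Finite M := fin_le.1

/-- the embedding of the subgroup of type G2 -/
noncomputable def ψ : H →* M := (U5 V7 h7 _ _ rel.left).choose

theorem hψ : ∀ i ∈ dom5, ψ (mgen (g V7 h7) dom5 i) = gm i := (U5 V7 h7 _ _ rel.left).choose_spec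

theorem dvd_M : 8835156 * 1728 ∣ Nat.card M := by
  have c := @Nat.Coprime.mul_dvd_of_dvd_of_dvd
  have : Finite (LyM.M V h2) := fin_le.1
  have := c (by norm_num) (c (by norm_num) (c (by norm_num) (c (by norm_num) (LyM.m2d V h2) (LyM.m3d V h2))
    (LyM.o11 V h2)) (LyM.o37 V h2)) (LyM.o67 V h2)
  exact this

theorem range_dvd : Nat.card ψ.range ∣ 5859000000 := card_H ▸ Subgroup.card_range_dvd ψ

theorem prim : ψ.range.index = 8835156 ∧ (∀ K, ψ.range < K → K.index < 67) ∧ ψ.range.normalCore = ⊥ ∧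
    ∃ r : ℕ → M ⧸ ψ.range, Orbs ψ.range Set.univ r [1, 19530, 968750, 2034375, 5812500] :=
  prim5 V7 h7 rel hψ gm_top (le_index_of_dvd (c := 3390625) range_dvd dvd_M (by norm_num))

theorem ψ_inj : Function.Injective ψ :=
  inj_of_simple (by rw [prim.1]; exact lt_of_lt_of_le (by norm_num) (Nat.le_of_dvd Nat.card_pos dvd_M))

theorem card_M : Nat.card M = 51765179004000000 := by
  rw [← ψ.range.index_mul_card, prim.1, card_range ψ_inj, card_H]

/-- the definitions of the auxiliary generators -/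
def sb : List (ℕ × ℕ × ℕ) := (10, 32, 0) :: (28, 16, 0) :: sb3 ++ sb5

theorem simple_M : IsSimpleGroup M :=
  (simple_of_kill prim range_dvd (by norm_num) (LyM.kl_m V h2) LyM.kl_ok (top_unique (gm_top.ge.trans
    (mdl_le_of_sub rel (sb := (29, 16, 0) :: sb) (k := 3) (by decide +kernel))))).2

theorem range_ψ : ψ.range = mdl gm [0, 1, 2, 3] :=
  (range_eq hψ).trans (le_antisymm (mdl_le_of_sub rel (sb := sb) (k := 3) (by decide +kernel))
    (mdl_le_of_sub rel (sb := []) (k := 0) (by decide +kernel)))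

theorem UM : UP.{0} gm (List.range 39) R6 :=
  ((U5 V7 h7).weaken fun _ _ _ h => h.left).lift (C5 V7 h7) gm_top rel
    (by rw [card_M, card_H, pk5]; decide)

/-- the generators of the presentation -/
def gs : List Ly.Gen := [.a, .b, .c, .d, .z, .e, .a1, .a2, .a3, .a4, .c1, .c2, .c3, .c4, .c5, .u, .x23, .x24, .x25, .x29,
  .x47, .x96, .x129, .x162, .x163, .x164, .x165, .x166, .x167, .x168, .x169, .x364, .x365, .x366, .x367, .x368, .x369,
  .x370, .x371]

theorem hgs : ∀ x, x ∈ gs := by intro x; cases x <;> decide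

theorem ex_e : ∃ e : Spor.Ly ≃* M, ∀ i, e (genL gs i) = gm i :=
  pres_equiv hgs rfl rfl (by decide) UM rel (rels_known hgs rfl rfl (by decide +kernel)) (by decide +kernel)

/-- the presented group is the model -/
noncomputable def e : Spor.Ly ≃* M := ex_e.choose

/-- the subgroup generated by the first four generators -/
abbrev G2 : Subgroup Spor.Ly := (Subgroup.closure ({Ly.a, Ly.b, Ly.c, Ly.d} : Set (FreeGroup Ly.Gen))).map
  (PresentedGroup.mk (coxRelators Ly.edges ∪ {r | r ∈ Ly.extra}))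

theorem map_G2 : G2.map e.toMonoidHom = ψ.range := by
  have : G2 = mdl (genL gs) [0, 1, 2, 3] := by
    rw [G2, MonoidHom.map_closure]
    exact (mdl_eq (l := [.of .a, .of .b, .of .c, .of .d]) rfl (by simp [PresentedGroup.of, eq_comm])).symm
  rw [this, map_mdl, range_ψ]
  exact congrArg (mdl · _) (funext ex_e.choose_spec)

theorem card_Ly : Nat.card Spor.Ly = 51765179004000000 := (Nat.card_congr e.toEquiv).trans card_M

theorem simple_Ly : IsSimpleGroup Spor.Ly :=
  have := simple_M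
  e.isSimpleGroup

theorem index_G2 : G2.index = 8835156 := by
  rw [← prim.1, ← map_G2]
  exact (Subgroup.index_map_equiv _ e).symm

theorem G2_equiv : Nonempty (G2 ≃* chevG2.group (ZMod 5)) :=
  ⟨((e.subgroupMap _).trans (MulEquiv.subgroupCongr map_G2)).trans
    ((MonoidHom.ofInjective ψ_inj).symm.trans equiv_G2.some)⟩

theorem ns5 : NoStem 5 M :=
  have : Finite (mdl ((V7.sem h1 h7).bg bc) dom5) := fin5 V7 h7
  have h := Sem.ok_of_slp _ (L5 V7 h7).ok m5so
  m5ns ((Sem.pcRel (D := m5D) (lc := m5lc) _ h m5r (allL_iff.1 m5f)).map ψ)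
    ((V7.le_pc h1 h7 h m5vc m5lo).trans (card_closure_map ψ_inj _ _).ge) (by rw [card_M]; decide)

theorem ns2 : NoStem 2 M :=
  have : Finite (LyM.M V h2) := fin_le.1
  LyM.m2 V h2 fun h => absurd (card_M ▸ h : _ ∣ 51765179004000000) (by decide)

theorem ns3 : NoStem 3 M :=
  have : Finite (LyM.M V h2) := fin_le.1
  LyM.m3 V h2 fun h => absurd (card_M ▸ h : _ ∣ 51765179004000000) (by decide)

theorem mult_Ly : HasCyclicSchurMultiplier Spor.Ly 1 :=
  have : Finite Spor.Ly := Finite.of_equiv _ e.toEquiv.symm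
  hasTrivial_of_list card_Ly [2, 3, 5] [7, 11, 31, 37, 67] (by
    simp only [List.forall_mem_cons]
    exact ⟨ns2.congr e, ns3.congr e, ns5.congr e, by simp⟩) 8 (by decide)

end H15.Ly
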