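import Cfsg.Agent.H15.LyAb
import Cfsg.Agent.H15.Big

/-! The Lyons group: tower of enumerations. Multiplier at 5. -/

set_option maxRecDepth 100000
set_option Elab.async false

namespace H15.Ly
open H13

noncomputable def m5rl : List (List (List ℕ)) :=
  [[[]],
  [(unp (nat_lit 3) (nat_lit 0x2db5106)), []],
  [[nat_lit 2], (unp (nat_lit 3) (nat_lit 0xb246da08)), []],
  [[nat_lit 3], [nat_lit 3, nat_lit 4], [nat_lit 3, nat_lit 5], []],
  [[nat_lit 4, nat_lit 5], [nat_lit 4], [nat_lit 4], [nat_lit 4], []],
  [[nat_lit 5], [nat_lit 5], [nat_lit 5], [nat_lit 5], [nat_lit 5], []]]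

noncomputable def m5fr : List (ℕ × List ℕ × List ℕ) :=
  [(nat_lit 6, [nat_lit 3], (unp (nat_lit 3) (nat_lit 0x16d8d807))),
  (nat_lit 6, [nat_lit 4], (unp (nat_lit 3) (nat_lit 0x5b6b40009))),
  (nat_lit 7, [nat_lit 1], (unp (nat_lit 3) (nat_lit 0x5b6b49209))),
  (nat_lit 7, [nat_lit 4], [nat_lit 5])]

noncomputable def m5D : PC :=
  ⟨nat_lit 5, nat_lit 6, nat_lit 30, nat_lit 3, nat_lit 16, nat_lit 327, nat_lit 4, m5rl, m5fr⟩

noncomputable def m5cs : List (Cn × ℕ) :=
  [(.con [nat_lit 3] (nat_lit 2) (nat_lit 0), (nat_lit 0x100000000000000000000000000)),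
  (.con [nat_lit 4] (nat_lit 2) (nat_lit 0), (nat_lit 0x1000000000000000000000000000)),
  (.con [nat_lit 4] (nat_lit 3) (nat_lit 0), (nat_lit 0x8000000000000000000000000000)),
  (.con [nat_lit 4] (nat_lit 3) (nat_lit 2), (nat_lit 0x100000000000000000000000000000)),
  (.con [nat_lit 4] (nat_lit 2) (nat_lit 1), (nat_lit 0x100000600000000000000000000000)),
  (.con [nat_lit 4] (nat_lit 1) (nat_lit 0), (nat_lit 0x41200040000000000000000000000)),
  (.con [nat_lit 3] (nat_lit 1) (nat_lit 1), (nat_lit 0x4000000000000000000000000)),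
  (.con [nat_lit 3] (nat_lit 2) (nat_lit 2), (nat_lit 0x800000000000000000000000000000)),
  (.con [nat_lit 3] (nat_lit 1) (nat_lit 0), (nat_lit 0x88000044001000000000000000000)),
  (.con [nat_lit 3] (nat_lit 2) (nat_lit 1), (nat_lit 0xd0800040000000000000000000000)),
  (.con [nat_lit 2] (nat_lit 1) (nat_lit 0), (nat_lit 0x10a1000c2003080000000000000000)),
  (.con [nat_lit 1] (nat_lit 0) (nat_lit 0), (nat_lit 0x200000000000000100000000000000)),
  (.con [nat_lit 2] (nat_lit 1) (nat_lit 1), (nat_lit 0x800000000010000000000000000000)),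
  (.fus (nat_lit 6) [nat_lit 1, nat_lit 0] [nat_lit 0, nat_lit 1], (nat_lit 0x8a4080702003000001000000000000)),
  (.fus (nat_lit 6) (unp (nat_lit 1) (nat_lit 5)) [], (nat_lit 0x1000008000000000000001000)),
  (.fus (nat_lit 7) [nat_lit 3, nat_lit 2] [nat_lit 2, nat_lit 3], (nat_lit 0xc000020000000000000000000000)),
  (.fus (nat_lit 7) (unp (nat_lit 2) (nat_lit 0x2aa05)) [], (nat_lit 0x400000000008000100000800000000))]

noncomputable def m5Fs : List ℕ :=
  [(nat_lit 0),
  (nat_lit 0),
  (nat_lit 0x1000000000040000000),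
  (nat_lit 0x3800010000000000000),
  (nat_lit 0x200000000000000000),
  (nat_lit 0x1000000000000000000)]

noncomputable def m5la : List (List ℕ) :=
  [[(nat_lit 0x103000500000)],
  [(nat_lit 0), (nat_lit 0x1002800800000)],
  [(nat_lit 0x2001b21900b), (nat_lit 0), (nat_lit 0x200200000)],
  [(nat_lit 0x8400030b), (nat_lit 0), (nat_lit 0), (nat_lit 0x2000600000)],
  [(nat_lit 0x11010018), (nat_lit 0x200000000108), (nat_lit 0x10010658), (nat_lit 0x3400), (nat_lit 0x40000)],
  [(nat_lit 1), (nat_lit 0x18010318), (nat_lit 32), (nat_lit 256), (nat_lit 512), (nat_lit 0x200000)]]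

noncomputable def m5es : List (ℕ × List ℕ) :=
  [((nat_lit 0x1000000100000000000000000000100040040000004000000000000010000000000000000000000000001000000200000000000000000000100040040000000000000000000010000000000000000000000000001), [nat_lit 22]),
  ((nat_lit 0x1001000000100000008004000000100000000004000000800000000010010001000400100000000000001000c000000c0000000000000000100000000000000000000000000010010000000000000000000000001), (unp (nat_lit 7) (nat_lit 0x56a952a5705))),
  ((nat_lit 0x1000000100100030008003000000100000040004004000c000000000100000000004002000000000000010000002000c0000000000000000100000040000000000000000000010000000000000000000000000001), (unp (nat_lit 7) (nat_lit 0x274e9f4274ea74aa560a))),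
  ((nat_lit 0x10000000001000300080010000001000000000040000008000000000100000000004002000000000000010000000000c0000000000000000100000000000000000000000000010000000000000000000000000001), (unp (nat_lit 7) (nat_lit 0x13e74e9f428d2a752b570b))),
  ((nat_lit 0x1000000000000020000000000000100000000000000000000000000010000000000000300000000000001000000000000000000000000000100000000000000000000000000010000000000000000000000000001), (unp (nat_lit 7) (nat_lit 0x9d3e853a346a5408))),
  ((nat_lit 0x100000000000000000c000000000100000000000000000c00000000010000000000000000000000000001000000000000000000000000000100000000000000000000000000010000000000000000000000000001), (unp (nat_lit 7) (nat_lit 0x1427ce9d3e752a752a54a95ebd70f))),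
  ((nat_lit 0x100040000000000000000000080040000000000000000000000000003000c00300000000000000000800300100000000000000000200100030000000000000000000000000003000c000000000000000000004002), [nat_lit 0]),
  ((nat_lit 0x40008003000400400040040000000001000200040030010000001000000080000010004000000000000010004004000c000000000000000000004003000000000000000004000000c000000000000000000000004), [nat_lit 10])]

noncomputable def m5lc : List ℕ :=
  mapR Prod.fst m5es

noncomputable def m5v0 : VL :=
  ⟨(nat_lit 0x4000), [[nat_lit 0], [nat_lit 1]], nat_lit 2, [(nat_lit 0xaa04)], nat_lit 3, nat_lit 5⟩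

noncomputable def m5v1 : VL :=
  ⟨(nat_lit 0x100040010000000), [[nat_lit 0], [nat_lit 2], [nat_lit 3], [nat_lit 4]], nat_lit 3, [(nat_lit 0x2401b0048036009006c01200d802401b2492e)], nat_lit 5, nat_lit 25⟩

noncomputable def m5v2 : VL :=
  ⟨(nat_lit 0x100000040000000), [(unp (nat_lit 3) (nat_lit 0x16c8d807)), (unp (nat_lit 3) (nat_lit 0x16c8da07)), [nat_lit 5]], nat_lit 2, [(nat_lit 0x208507)], nat_lit 3, nat_lit 5⟩

noncomputable def m5v3 : VL :=
  ⟨(nat_lit 0x10000000), [(unp (nat_lit 3) (nat_lit 0x248db4900a)), [nat_lit 5]], nat_lit 2, [(nat_lit 0x5504)], nat_lit 3, nat_lit 5⟩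

noncomputable def m5v4 : VL :=
  ⟨(nat_lit 0x400000000000000000), [[nat_lit 5]], nat_lit 1, [(nat_lit 3844)], nat_lit 3, nat_lit 5⟩

noncomputable def m5vl : List VL :=
  [m5v0, m5v1, m5v2, m5v3, m5v4]

theorem m5ok : m5D.ok = true := by decide +kernel

theorem m5cn : Nat.beq m5cs.length 17 = true := by decide +kernel

theorem m5h3 : band (Nat.ble m5cs.length m5D.fuel) (allL (fun f => force (m5D.wd f) (bdOk m5D.b m5D.N m5D.t)) m5Fs) = true := by decide +kernel

theorem m5c_0 : rng (fun i => cnOk m5D (nthD (.con [] 0 0, 0) m5cs i)) (nat_lit 0) (nat_lit 17) = true := by decide +kernel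

theorem m5t_0 : tgAll m5D m5cs m5Fs m5la (nat_lit 0) (nat_lit 6) = true := by decide +kernel

theorem m5so : slpOk mul one lc5 m5es = true := by decide +kernel

theorem m5r_0 : rng (pcRow mul one m5lc m5D) (nat_lit 0) (nat_lit 6) = true := by decide +kernel

theorem m5f : allL (fuChk mul one m5lc) m5fr = true := by decide +kernel

theorem m5vc : vchainOk (app 98 1) (wfT 98 1) mul one m5lc [] m5vl = true := by decide +kernel

theorem m5lo : lowOk m5D m5vl = true := by decide +kernel

theorem m5c : ∀ i < 17, (fun i => cnOk m5D (nthD (.con [] 0 0, 0) m5cs i)) i = true :=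
  (rng_add rng_zero m5c_0)

theorem m5ns {G : Type*} [Group G] [Finite G] {g : ℕ → G} (R : PcRel m5D g)
    (hP : m5D.p ^ m5D.n ≤ Nat.card (Subgroup.closure (g '' Set.Iio m5D.n))) (hG : ¬ 5 ^ 7 ∣ Nat.card G) :
    NoStem 5 G :=
  noStem_of (D := m5D) (show Nat.Prime 5 by norm_num) m5ok R (allR m5cn m5c) (rng_add rng_zero (tgAll_rng m5t_0)) m5h3 hP hG

theorem m5r : ∀ i < 6, (pcRow mul one m5lc m5D) i = true :=
  (rng_add rng_zero m5r_0)

section
universe v
variable {R : Type v} {ι : Type} [CommRing R] [Fintype ι] [DecidableEq ι] (V : VCod R ι 7 98 app wfT) (h2 : V.mat one = 1)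

theorem m5 : NoStem 5 (mdl (g V h2) dom5) :=
  have := fin5 V h2
  have : Finite (mdl ((V.sem h1 h2).bg bc) dom5) := this
  have h := Sem.ok_of_slp _ (L5 V h2).ok m5so
  m5ns (Sem.pcRel _ h m5r (allL_iff.1 m5f)) (V.le_pc h1 h2 h m5vc m5lo) (by rw [card5]; decide)

end

end H15.Ly
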