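import Cfsg.Agent.H15.LyAe

/-! The Lyons group: tower of enumerations. Counting in a stabiliser. Checks. -/

set_option maxRecDepth 100000
set_option Elab.async false

namespace H15.Ly
open H13

theorem cv0_ok : band (Nat.beq (prodW mul one lc5 (apd [7, 0, 7, 5, 6, 3, 7, 1, 7] [6, 0, 6, 2, 7, 4, 6, 1, 6])) one) (forceM (fun u => prodW mul one lc5 (apd [7, 0, 7, 5, 6, 3, 7, 1, 7] (apd u [6, 0, 6, 2, 7, 4, 6, 1, 6]))) (mapR Prod.snd d5_0.gs) fun nl => cvOk (app 98 1) (wfT 98 1) mul one nl cv0v [] (cv0L0 :: cv0T)) = true := by decide +kernel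

theorem cv0_e : 5859000000 ≤ d5_0.c * (cv0v.map VL.d).prod ∧ 0 < d5_0.c := by decide +kernel

theorem cv0t_0 : rng (cntAt mul one (trOk mul one 14 7 5 4 2) (cv0L0 :: cv0T) cv0tn) (nat_lit 0) (nat_lit 11) = true := by decide +kernel

theorem cv0t_1 : rng (cntAt mul one (trOk mul one 14 7 5 4 2) (cv0L0 :: cv0T) cv0tn) (nat_lit 11) (nat_lit 11) = true := by decide +kernel

theorem cv0t_2 : rng (cntAt mul one (trOk mul one 14 7 5 4 2) (cv0L0 :: cv0T) cv0tn) (nat_lit 22) (nat_lit 12) = true := by decide +kernel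

theorem cv0t_3 : rng (cntAt mul one (trOk mul one 14 7 5 4 2) (cv0L0 :: cv0T) cv0tn) (nat_lit 34) (nat_lit 11) = true := by decide +kernel

theorem cv0t_4 : rng (cntAt mul one (trOk mul one 14 7 5 4 2) (cv0L0 :: cv0T) cv0tn) (nat_lit 45) (nat_lit 11) = true := by decide +kernel

theorem cv0t_5 : rng (cntAt mul one (trOk mul one 14 7 5 4 2) (cv0L0 :: cv0T) cv0tn) (nat_lit 56) (nat_lit 11) = true := by decide +kernel

theorem cv0t_6 : rng (cntAt mul one (trOk mul one 14 7 5 4 2) (cv0L0 :: cv0T) cv0tn) (nat_lit 67) (nat_lit 12) = true := by decide +kernel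

theorem cv0t_7 : rng (cntAt mul one (trOk mul one 14 7 5 4 2) (cv0L0 :: cv0T) cv0tn) (nat_lit 79) (nat_lit 11) = true := by decide +kernel

theorem cv0t_8 : rng (cntAt mul one (trOk mul one 14 7 5 4 2) (cv0L0 :: cv0T) cv0tn) (nat_lit 90) (nat_lit 12) = true := by decide +kernel

theorem cv0t_9 : rng (cntAt mul one (trOk mul one 14 7 5 4 2) (cv0L0 :: cv0T) cv0tn) (nat_lit 102) (nat_lit 11) = true := by decide +kernel

theorem cv0t_10 : rng (cntAt mul one (trOk mul one 14 7 5 4 2) (cv0L0 :: cv0T) cv0tn) (nat_lit 113) (nat_lit 11) = true := by decide +kernel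

theorem cv0t_11 : rng (cntAt mul one (trOk mul one 14 7 5 4 2) (cv0L0 :: cv0T) cv0tn) (nat_lit 124) (nat_lit 11) = true := by decide +kernel

end H15.Ly
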