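import Cfsg.Agent.H15.LyAe

/-! The Lyons group: tower of enumerations. Counting in a stabiliser. Checks. -/

set_option maxRecDepth 100000
set_option Elab.async false

namespace H15.Ly
open H13

theorem cv0t_12 : rng (cntAt mul one (trOk mul one 14 7 5 4 2) (cv0L0 :: cv0T) cv0tn) (nat_lit 135) (nat_lit 12) = true := by decide +kernel

theorem cv0t_13 : rng (cntAt mul one (trOk mul one 14 7 5 4 2) (cv0L0 :: cv0T) cv0tn) (nat_lit 147) (nat_lit 11) = true := by decide +kernel

theorem cv0t_14 : rng (cntAt mul one (trOk mul one 14 7 5 4 2) (cv0L0 :: cv0T) cv0tn) (nat_lit 158) (nat_lit 11) = true := by decide +kernel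

theorem cv0t_15 : rng (cntAt mul one (trOk mul one 14 7 5 4 2) (cv0L0 :: cv0T) cv0tn) (nat_lit 169) (nat_lit 12) = true := by decide +kernel

theorem cv0t_16 : rng (cntAt mul one (trOk mul one 14 7 5 4 2) (cv0L0 :: cv0T) cv0tn) (nat_lit 181) (nat_lit 10) = true := by decide +kernel

theorem cv0t_17 : rng (cntAt mul one (trOk mul one 14 7 5 4 2) (cv0L0 :: cv0T) cv0tn) (nat_lit 191) (nat_lit 12) = true := by decide +kernel

theorem cv0t_18 : rng (cntAt mul one (trOk mul one 14 7 5 4 2) (cv0L0 :: cv0T) cv0tn) (nat_lit 203) (nat_lit 12) = true := by decide +kernel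

theorem cv0t_19 : rng (cntAt mul one (trOk mul one 14 7 5 4 2) (cv0L0 :: cv0T) cv0tn) (nat_lit 215) (nat_lit 11) = true := by decide +kernel

theorem cv0t_20 : rng (cntAt mul one (trOk mul one 14 7 5 4 2) (cv0L0 :: cv0T) cv0tn) (nat_lit 226) (nat_lit 11) = true := by decide +kernel

theorem cv0t_21 : rng (cntAt mul one (trOk mul one 14 7 5 4 2) (cv0L0 :: cv0T) cv0tn) (nat_lit 237) (nat_lit 11) = true := by decide +kernel

theorem cv0t_22 : rng (cntAt mul one (trOk mul one 14 7 5 4 2) (cv0L0 :: cv0T) cv0tn) (nat_lit 248) (nat_lit 12) = true := by decide +kernel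

theorem cv0t_23 : rng (cntAt mul one (trOk mul one 14 7 5 4 2) (cv0L0 :: cv0T) cv0tn) (nat_lit 260) (nat_lit 12) = true := by decide +kernel

end H15.Ly
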