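import Cfsg.Agent.H15.LyAe

/-! The Lyons group: tower of enumerations. Counting in a stabiliser. Checks. -/

set_option maxRecDepth 100000
set_option Elab.async false

namespace H15.Ly
open H13

theorem cv0t_24 : rng (cntAt mul one (trOk mul one 14 7 5 4 2) (cv0L0 :: cv0T) cv0tn) (nat_lit 272) (nat_lit 12) = true := by decide +kernel

theorem cv0t_25 : rng (cntAt mul one (trOk mul one 14 7 5 4 2) (cv0L0 :: cv0T) cv0tn) (nat_lit 284) (nat_lit 11) = true := by decide +kernel

theorem cv0t_26 : rng (cntAt mul one (trOk mul one 14 7 5 4 2) (cv0L0 :: cv0T) cv0tn) (nat_lit 295) (nat_lit 5) = true := by decide +kernel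

theorem cv0t_s : cv0L0.length = 300 ∧ cv0tn.length = 300 ∧ cv0tn.sum = 1375 := by decide +kernel

theorem cv0x_0 : rng (cntAt mul one (trOk mul one 14 7 5 3 3) (cv0L0 :: cv0T) cv0xn) (nat_lit 0) (nat_lit 11) = true := by decide +kernel

theorem cv0x_1 : rng (cntAt mul one (trOk mul one 14 7 5 3 3) (cv0L0 :: cv0T) cv0xn) (nat_lit 11) (nat_lit 12) = true := by decide +kernel

theorem cv0x_2 : rng (cntAt mul one (trOk mul one 14 7 5 3 3) (cv0L0 :: cv0T) cv0xn) (nat_lit 23) (nat_lit 11) = true := by decide +kernel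

theorem cv0x_3 : rng (cntAt mul one (trOk mul one 14 7 5 3 3) (cv0L0 :: cv0T) cv0xn) (nat_lit 34) (nat_lit 12) = true := by decide +kernel

theorem cv0x_4 : rng (cntAt mul one (trOk mul one 14 7 5 3 3) (cv0L0 :: cv0T) cv0xn) (nat_lit 46) (nat_lit 12) = true := by decide +kernel

theorem cv0x_5 : rng (cntAt mul one (trOk mul one 14 7 5 3 3) (cv0L0 :: cv0T) cv0xn) (nat_lit 58) (nat_lit 11) = true := by decide +kernel

theorem cv0x_6 : rng (cntAt mul one (trOk mul one 14 7 5 3 3) (cv0L0 :: cv0T) cv0xn) (nat_lit 69) (nat_lit 11) = true := by decide +kernel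

theorem cv0x_7 : rng (cntAt mul one (trOk mul one 14 7 5 3 3) (cv0L0 :: cv0T) cv0xn) (nat_lit 80) (nat_lit 11) = true := by decide +kernel

theorem cv0x_8 : rng (cntAt mul one (trOk mul one 14 7 5 3 3) (cv0L0 :: cv0T) cv0xn) (nat_lit 91) (nat_lit 11) = true := by decide +kernel

theorem cv0x_9 : rng (cntAt mul one (trOk mul one 14 7 5 3 3) (cv0L0 :: cv0T) cv0xn) (nat_lit 102) (nat_lit 12) = true := by decide +kernel

end H15.Ly
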