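import Cfsg.Agent.H15.LyAe

/-! The Lyons group: tower of enumerations. Counting in a stabiliser. Checks. -/

set_option maxRecDepth 100000
set_option Elab.async false

namespace H15.Ly
open H13

theorem cv0x_10 : rng (cntAt mul one (trOk mul one 14 7 5 3 3) (cv0L0 :: cv0T) cv0xn) (nat_lit 114) (nat_lit 12) = true := by decide +kernel

theorem cv0x_11 : rng (cntAt mul one (trOk mul one 14 7 5 3 3) (cv0L0 :: cv0T) cv0xn) (nat_lit 126) (nat_lit 12) = true := by decide +kernel

theorem cv0x_12 : rng (cntAt mul one (trOk mul one 14 7 5 3 3) (cv0L0 :: cv0T) cv0xn) (nat_lit 138) (nat_lit 12) = true := by decide +kernel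

theorem cv0x_13 : rng (cntAt mul one (trOk mul one 14 7 5 3 3) (cv0L0 :: cv0T) cv0xn) (nat_lit 150) (nat_lit 12) = true := by decide +kernel

theorem cv0x_14 : rng (cntAt mul one (trOk mul one 14 7 5 3 3) (cv0L0 :: cv0T) cv0xn) (nat_lit 162) (nat_lit 12) = true := by decide +kernel

theorem cv0x_15 : rng (cntAt mul one (trOk mul one 14 7 5 3 3) (cv0L0 :: cv0T) cv0xn) (nat_lit 174) (nat_lit 12) = true := by decide +kernel

theorem cv0x_16 : rng (cntAt mul one (trOk mul one 14 7 5 3 3) (cv0L0 :: cv0T) cv0xn) (nat_lit 186) (nat_lit 12) = true := by decide +kernel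

theorem cv0x_17 : rng (cntAt mul one (trOk mul one 14 7 5 3 3) (cv0L0 :: cv0T) cv0xn) (nat_lit 198) (nat_lit 12) = true := by decide +kernel

theorem cv0x_18 : rng (cntAt mul one (trOk mul one 14 7 5 3 3) (cv0L0 :: cv0T) cv0xn) (nat_lit 210) (nat_lit 11) = true := by decide +kernel

theorem cv0x_19 : rng (cntAt mul one (trOk mul one 14 7 5 3 3) (cv0L0 :: cv0T) cv0xn) (nat_lit 221) (nat_lit 12) = true := by decide +kernel

theorem cv0x_20 : rng (cntAt mul one (trOk mul one 14 7 5 3 3) (cv0L0 :: cv0T) cv0xn) (nat_lit 233) (nat_lit 12) = true := by decide +kernel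

theorem cv0x_21 : rng (cntAt mul one (trOk mul one 14 7 5 3 3) (cv0L0 :: cv0T) cv0xn) (nat_lit 245) (nat_lit 12) = true := by decide +kernel

end H15.Ly
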