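import Cfsg.Agent.H15.LyAe

/-! The Lyons group: tower of enumerations. Counting in a stabiliser. Checks. -/

set_option maxRecDepth 100000
set_option Elab.async false

namespace H15.Ly
open H13

theorem cv0x_22 : rng (cntAt mul one (trOk mul one 14 7 5 3 3) (cv0L0 :: cv0T) cv0xn) (nat_lit 257) (nat_lit 12) = true := by decide +kernel

theorem cv0x_23 : rng (cntAt mul one (trOk mul one 14 7 5 3 3) (cv0L0 :: cv0T) cv0xn) (nat_lit 269) (nat_lit 11) = true := by decide +kernel

theorem cv0x_24 : rng (cntAt mul one (trOk mul one 14 7 5 3 3) (cv0L0 :: cv0T) cv0xn) (nat_lit 280) (nat_lit 12) = true := by decide +kernel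

theorem cv0x_25 : rng (cntAt mul one (trOk mul one 14 7 5 3 3) (cv0L0 :: cv0T) cv0xn) (nat_lit 292) (nat_lit 8) = true := by decide +kernel

theorem cv0x_s : cv0L0.length = 300 ∧ cv0xn.length = 300 ∧ cv0xn.sum = 200 := by decide +kernel

end H15.Ly
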