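import Cfsg.Agent.H15.LyAk

/-! The Lyons group: tower of enumerations. A program. -/

set_option maxRecDepth 100000
set_option Elab.async false

namespace H15.Ly
open H13

noncomputable def ng : List (List ℕ) :=
  [(unp (nat_lit 3) (nat_lit 0x84126009)),
  (unp (nat_lit 3) (nat_lit 0x11b03)),
  (unp (nat_lit 3) (nat_lit 0x1ac4b455e0b)),
  (unp (nat_lit 1) (nat_lit 0x6107)),
  (unp (nat_lit 2) (nat_lit 0x1eddf09)),
  [nat_lit 1, nat_lit 0],
  (unp (nat_lit 2) (nat_lit 0x42406)),
  (unp (nat_lit 2) (nat_lit 0xded06)),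
  [nat_lit 0, nat_lit 1],
  (unp (nat_lit 4) (nat_lit 0x8877865355121200011))]

theorem ng_ok : slpRun mul one ([nthD one lc5 4]) ng (mapR (prodW mul one lc5) [[0], [2], [6], [28], [4, 7, 5, 0, 6, 4, 6, 5]]) = true := by decide +kernel

end H15.Ly
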