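import Cfsg.Agent.H15.Ly
import Cfsg.Agent.H15.LyAl
import Cfsg.Agent.H15.LyMAb

/-! The Lyons group: centralisers of elements of order 2 and 3, fusion, automorphisms (namespace H15.Ly). -/

namespace H15.Ly
open H13 Cfsg Subgroup Equiv

/-- the coding of the subgroup of type G2 -/
noncomputable abbrev S5 : Sem H mul one wf := (S V7 h7).sub _

theorem ψw {u : List ℕ} (h : ∀ l ∈ u, l < 78 ∧ l / 2 ∈ dom5) : ψ (evalW (S5.gen lc5) u) = evalW (sg gm) u :=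
  (map_evalW' _ _ _).trans (evalW_congr fun l hl => ((congrArg ψ ((L5 V7 h7).base l (h l hl).1 (h l hl).2)).trans
    (map_sg _ _ _)).trans (by simp only [sg, hψ _ (h l hl).2]))

theorem nd {u : List ℕ} {t o : ℕ} (h : trOk mul one 14 7 5 t o (prodW mul one lc5 u) = true) {d : Nd} {lv : List VL}
    {L xi xw ns : List ℕ} {Ls : List (List ℕ)} {k n : ℕ}
    (h0 : band (Nat.beq (prodW mul one lc5 (apd xi xw)) one) (forceM (fun u => prodW mul one lc5 (apd xi (apd u xw)))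
      (mapR Prod.snd d.gs) fun nl => cvOk (app 98 1) (wfT 98 1) mul one nl lv [] (L :: Ls)) = true)
    (e : 5859000000 ≤ d.c * (lv.map VL.d).prod ∧ 0 < d.c) (c : ∀ i < k, cntAt mul one (trOk mul one 14 7 5 t o) (L :: Ls) ns i = true)
    (s : L.length = k ∧ ns.length = k ∧ ns.sum = n) : NdB (S5.gen lc5) 5859000000 (evalW (S5.gen lc5) u) d n :=
  V7.cvr_nd (V7.sub_smul h1 h7 _) (L5 V7 h7).ok h0 e fun _ C =>
    C.cnt' (trOk_of (w := 14) (n := 7) V7 rfl rfl h1 h7 (L5 V7 h7).ok h) c s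

theorem I5 : SInj S5 := SInj.sub (fun _ _ => V7.sem_inj h1 h7) _

theorem cent_t : Nat.card (centralizer ({evalW (sg gm) [0, 0, 0, 0]} : Set M)) ≤ 2772 * 14400 :=
  have h : trOk mul one 14 7 5 4 2 (prodW mul one lc5 [0, 0, 0, 0]) = true := by decide +kernel
  ψw (u := [0, 0, 0, 0]) (by decide) ▸ (C5 V7 h7).cent_le (L5 V7 h7).ok card_H hkc5 (allR dn5 na5)
    (Act.cent_le I5 (L5 V7 h7) (A5 V7 h7) ct_ok card_H (by norm_num)) (ns := [1375, 63, 211, 105])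
    (.cons (nd h cv0_ok cv0_e cv0t cv0t_s) (.cons (nd h cv1_ok cv1_e cv1t cv1t_s) (.cons (nd h cv2_ok cv2_e cv2t cv2t_s)
      (.cons (nd h cv3_ok cv3_e cv3t cv3t_s) .nil)))) (by decide +kernel) rel hψ gm_top prim.1.ge ψ_inj

theorem cent_x : Nat.card (centralizer ({evalW (sg gm) [1, 3, 0, 2]} : Set M)) ≤ 7128 * 378000 :=
  have h : trOk mul one 14 7 5 3 3 (prodW mul one lc5 [1, 3, 0, 2]) = true := by decide +kernel
  ψw (u := [1, 3, 0, 2]) (by decide) ▸ (C5 V7 h7).cent_le (L5 V7 h7).ok card_H hkc5 (allR dn5 na5)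
    (Act.cent_le I5 (L5 V7 h7) (A5 V7 h7) cx_ok card_H (by norm_num)) (ns := [200, 56, 20, 2])
    (.cons (nd h cv0_ok cv0_e cv0x cv0x_s) (.cons (nd h cv1_ok cv1_e cv1x cv1x_s) (.cons (nd h cv2_ok cv2_e cv2x cv2x_s)
      (.cons (nd h cv3_ok cv3_e cv3x cv3x_s) .nil)))) (by decide +kernel) rel hψ gm_top prim.1.ge ψ_inj

/-- the coding of the model -/
noncomputable def SM : Sem M LyM.mul LyM.one LyM.wf := LyM.SM V h2

theorem xe_ok : ∀ c ∈ LyM.xe, SM.ok c := LyM.xe_ok V h2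

theorem xl_ok : ∀ c ∈ LyM.xl, SM.ok c := SM.ok_sel xe_ok _

theorem ye_eq (i : ℕ) (hi : i < 9) : SM.ok (nthD (0, []) LyM.ye i).1 ∧
    SM.val (nthD (0, []) LyM.ye i).1 = evalW (SM.gen LyM.xl) (nthD (0, []) LyM.ye i).2 :=
  Nat.eq_of_beq_eq_true (LyM.ys i hi) ▸ SM.prodW_spec xl_ok _

theorem zl_ok : ∀ c ∈ LyM.zl, SM.ok c := by
  rw [LyM.zl, apd_eq, mapR_eq, List.forall_mem_append, List.forall_mem_map]
  refine ⟨fun e he => ?_, SM.ok_sel xe_ok _⟩
  obtain ⟨i, hi, rfl⟩ := List.getElem_of_mem he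
  have := (ye_eq i hi).1
  rwa [nthD_eq, List.getD_eq_getElem _ _ hi] at this

theorem xe_w {u : List ℕ} (h : ∀ l ∈ u, l < 78) : evalW (SM.gen LyM.xe) u = evalW (sg gm) u ∧
    evalW (SM.gen LyM.bc) u = evalW (sg gm) u := by
  have b : ∀ l ∈ u, SM.gen LyM.bc l = sg gm l := fun l hl =>
    (LyM.LM V h2).base l (h l hl) (List.mem_range.2 (by have := h l hl; omega))
  refine ⟨evalW_congr fun l hl => Eq.trans (congrArg SM.val ?_) (b l hl), evalW_congr b⟩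
  rw [LyM.xe, apd_eq, nthD_eq, nthD_eq, List.getD_append _ _ _ _ (Nat.eq_of_beq_eq_true LyM.xe_l ▸ h l hl)]

/-- the elements used below -/
noncomputable def z : ℕ → M := SM.gen LyM.zl

theorem z_eq : z 9 = evalW (sg gm) [0, 0, 0, 0] ∧ z 10 = evalW (sg gm) [4, 7, 5, 0, 6, 4, 6, 5] ∧
    z 11 = evalW (sg gm) [1, 3, 0, 2] ∧ z 14 = gm 0 ∧ z 15 = gm 1 ∧ z 16 = gm 3 ∧ z 17 = gm 4 ∧ z 18 = gm 14 := by
  have a := eqs_of xe_ok LyM.xs0 rfl
  have k : ∀ {i j}, nthD LyM.one LyM.zl i = nthD LyM.one LyM.xe j → z i = evalW (SM.gen LyM.xe) [j] := fun h =>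
    (congrArg SM.val h).trans (mul_one _).symm
  have b : ∀ {i j}, nthD LyM.one LyM.zl i = nthD LyM.one LyM.xe (2 * j) → j < 39 → z i = gm j := fun h hj =>
    (k h).trans ((xe_w (by simpa using by omega)).1.trans ((mul_one _).trans (sg_even _ _)))
  simp only [LyM.xq, List.forall_mem_cons] at a
  exact ⟨(k (by decide +kernel)).trans (a.1.trans (xe_w (by decide)).1), (k (by decide +kernel)).trans
    (a.2.1.trans (xe_w (by decide)).1), (k (by decide +kernel)).trans (a.2.2.1.trans (xe_w (by decide)).1),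
    b (by decide +kernel) (by decide), b (by decide +kernel) (by decide), b (by decide +kernel) (by decide),
    b (by decide +kernel) (by decide), b (by decide +kernel) (by decide)⟩

theorem z_rel : z 10 * z 10 = 1 ∧ z 10 * z 9 * z 10 = z 0 ∧ z 2 * z 0 = z 0 * z 2 ∧ z 1 ^ 3 = 1 ∧ z 4 ^ 3 = 1 ∧
    z 6 * z 0 = z 0 * z 9 * z 6 ∧ z 10 * z 1 * z 10 = z 3 ∧ z 10 * z 4 * z 10 = z 5 ∧ z 6 ^ 2 = 1 ∧ z 7 ^ 2 = 1 ∧
    z 8 ^ 2 = 1 ∧ z 14 * z 9 = z 9 * z 14 ∧ z 15 * z 9 = z 9 * z 15 ∧ z 16 * z 9 = z 9 * z 16 ∧ z 17 * z 9 = z 9 * z 17 ∧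
    z 18 * z 9 = z 9 * z 18 ∧ z 12 * z 11 = z 11 * z 12 ∧ z 13 * z 11 = z 11 * z 13 := by
  simpa [LyM.zq, z, pow_succ, mul_assoc] using eqs_of zl_ok LyM.zs rfl

theorem IM : SInj SM := LyM.sinj V h2

theorem ord_t : orderOf (z 9) = 2 := by
  have := ord_of IM (LyM.bc_ok V h2) Nat.prime_two LyM.ot
  rw [(xe_w (by decide)).2] at this
  rw [z_eq.1, ← this]; simp [pow_succ, mul_assoc]

theorem ord_x : orderOf (z 11) = 3 := by
  have := ord_of IM (LyM.bc_ok V h2) Nat.prime_three LyM.ox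
  rwa [(xe_w (by decide)).2, pow_one, ← z_eq.2.2.1] at this

theorem altD : AltD (z 9) (fun i : Fin (6 + 4) => SM.gen LyM.xl (2 * i)) ∧
    ∀ i < 10, SM.gen LyM.xl (2 * i + 1) = (SM.gen LyM.xl (2 * i))⁻¹ :=
  altD_of xl_ok (nthD_prop SM.ok_one zl_ok 9) ord_t
    ((by decide +kernel : nthD LyM.one LyM.xe 104 = nthD LyM.one LyM.zl 9) ▸ LyM.xa)

theorem cent_t' : Nat.card (centralizer ({z 9} : Set M)) ≤ (6 + 5).factorial := z_eq.1 ▸ cent_t

/-- the projection of the centraliser of the involution -/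
noncomputable def π : centralizer ({z 9} : Set M) →* alternatingGroup (Fin 11) := (altD.1.ce cent_t').choose

theorem ce : CE (z 9) π := (altD.1.ce cent_t').choose_spec.1

/-- permutations of 11 points as tables -/
noncomputable def PT : H14.PK.TS (Perm (Fin 11)) 4 11 := H14.PK.permTS 4 11 (by decide)

theorem el_eq {g : Perm (Fin 11)} {T : ℕ} (h : T < 2 ^ (4 * 11) ∧ ∀ i : Fin 11, (g i : ℕ) = get 4 T i) : PT.el T = g :=
  H14.PK.permTS_tb h.1 h.2 ▸ H14.PK.TS.el_tb g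

theorem x0 : SM.gen LyM.xl 0 = 1 := (congrArg SM.val (by decide +kernel)).trans SM.val_one

theorem gr_l (l : ℕ) : Gr π (SM.gen LyM.xl l) ((semT PT).gen LyM.al l) := by
  by_cases c : l < 20
  · have k : ∀ i : Fin 10, Gr π (SM.gen LyM.xl (2 * i)) ((semT PT).gen LyM.al (2 * i)) ∧
        (semT PT).gen LyM.al (2 * i + 1) = ((semT PT).gen LyM.al (2 * i))⁻¹ := fun i => by
      have d : ∀ i : Fin 10, _ ∧ _ := (by decide +kernel : ∀ i : Fin 10, (nthD (idv 4 11) LyM.al (2 * i) < 2 ^ (4 * 11) ∧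
        ∀ j, ((swap (0 : Fin 11) 1 * swap i.castSucc i.succ) j : ℕ) = get 4 (nthD (idv 4 11) LyM.al (2 * i)) j) ∧
        nthD (idv 4 11) LyM.al (2 * i + 1) < 2 ^ (4 * 11) ∧
        ∀ j, ((swap i.castSucc i.succ * swap (0 : Fin 11) 1) j : ℕ) = get 4 (nthD (idv 4 11) LyM.al (2 * i + 1)) j)
      have e := (altD.1.ce cent_t').choose_spec.2 0 i
      have a : (semT PT).gen LyM.al (2 * i) = _ := el_eq (d i).1
      have b : (semT PT).gen LyM.al (2 * i + 1) = _ := el_eq (d i).2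
      rw [a, b]
      simp only [show ((0 : Fin (6 + 4)) : ℕ) = 0 from rfl, Nat.mul_zero, x0, inv_one, one_mul] at e
      exact ⟨⟨_, e (mem_centralizer_singleton_iff.2 (altD.1.comm i))⟩, by simp⟩
    have := k ⟨l / 2, by omega⟩
    rcases Nat.even_or_odd' l with ⟨i, rfl | rfl⟩
    · simpa using this.1
    · simp only [show (2 * i + 1) / 2 = i by omega] at this
      rw [this.2, altD.2 i (by omega)]; exact this.1.inv
  · have e : ∀ (d : ℕ) (L : List ℕ), L.length = 20 → nthD d L l = d := fun d L h => by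
      rw [nthD_eq, List.getD_eq_default _ _ (by omega)]
    rw [Sem.gen, Sem.gen, e _ _ (by decide +kernel), e _ _ (by decide +kernel), Sem.val_one, Sem.val_one]
    exact .one

theorem al_in : ∀ c ∈ LyM.tau :: LyM.pp :: LyM.qq :: LyM.al, PT.In ⊤ c := fun c h =>
  H14.PK.in_permTS (allL_iff.1 (band_eq_true.1 LyM.al_ok).1 c h)

theorem al_ok : ∀ c ∈ LyM.al, (semT PT).ok c := fun c h => al_in c (by simp [h])

theorem pw_in (i : ℕ) : PT.In ⊤ (LyM.pw_ i) := ((semT PT).prodW_spec al_ok _).1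

theorem gr_z (i : ℕ) (hi : i < 9 := by decide) : Gr π (z i) (PT.el (LyM.pw_ i)) := by
  have a : z i = _ := (congrArg SM.val ((by decide +kernel : ∀ i < 9, nthD LyM.one LyM.zl i =
    (nthD (0, []) LyM.ye i).1) i hi)).trans (ye_eq i hi).2
  have b : PT.el (LyM.pw_ i) = _ := ((semT PT).prodW_spec al_ok _).2
  rw [a, b]; exact .evalW gr_l _

theorem full : PT.Full ⊤ LyM.ch :=
  H14.PK.TS.full_of (by rw [card_top, Nat.card_perm, Nat.card_fin]; rfl) (band_eq_true.1 LyM.ch_ok).2 fun l a t b =>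
    H14.PK.in_permTS (H14.PK.allCh_iff.1 (band_eq_true.1 LyM.ch_ok).1 l a t b)

theorem tau_odd : PT.el LyM.tau ∉ alternatingGroup (Fin 11) := by
  rw [el_eq (g := swap 4 8) (by decide +kernel), Perm.mem_alternatingGroup, Perm.sign_swap (by decide)]; decide

/-- the image of a Sylow subgroup -/
noncomputable abbrev PP : Subgroup (Perm (Fin 11)) := mdl ((semT PT).gen [LyM.pw_ 6, LyM.pw_ 7, LyM.pw_ 8]) [0, 1, 2]

theorem enP : En (semT PT) PP LyM.pl ∧ Nat.card PP = 2 ^ 7 :=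
  en_of (semT_inj PT) (by simp only [List.forall_mem_cons]; exact ⟨pw_in 6, pw_in 7, pw_in 8, by simp⟩) LyM.pl_ok

theorem P_gen : ∀ a ∈ (semT PT).gen [LyM.pw_ 6, LyM.pw_ 7, LyM.pw_ 8] '' {i | i ∈ [0, 1, 2]},
    a ∈ PP ∧ ∃ v, Gr π v a ∧ v ^ 2 = 1 := fun a h => ⟨subset_closure h, by
  obtain ⟨i, hi, rfl⟩ := h
  simp only [Set.mem_ofPred_eq, List.mem_cons, List.not_mem_nil, or_false] at hi
  obtain ⟨-, -, -, -, -, -, -, -, a, b, c, -⟩ := z_rel
  rcases hi with rfl | rfl | rfl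
  exacts [⟨_, gr_z 6, a⟩, ⟨_, gr_z 7, b⟩, ⟨_, gr_z 8, c⟩]⟩

theorem P_le : PP ≤ alternatingGroup _ := (closure_le _).2 fun a h => let ⟨_, e, _⟩ := (P_gen a h).2; e.even

theorem sylP : PT.el (LyM.pw_ 0) ∈ PP ∧ PT.el (LyM.pw_ 0) ≠ 1 ∧
    (∀ a ∈ PP, (∀ b ∈ PP, b * a = a * b) ↔ a = 1 ∨ a = PT.el (LyM.pw_ 0)) ∧ ∀ a ∈ PP, a ^ 2 = 1 →
      ∃ c ∈ alternatingGroup _, c * a * c⁻¹ ∈ [1, PT.el (LyM.pw_ 0), (semT PT).gen LyM.al 4] :=
  syl_of (semT_inj PT) enP.1 al_ok (fun l => (gr_l l).even) (pw_in 0) (nthD_prop (Sem.ok_one _) al_ok 4) LyM.pc_ok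

theorem card_two : Nat.card M = 2 ^ (7 + 1) * 202207730484375 := card_M

theorem one_class (x : M) (hx : orderOf x = 2) : IsConj (z 9) x :=
  ce.one_class ord_t P_le enP.2 card_two (by decide) (gr_z 0) (gr_l 4) (by simpa [x0] using altD.1.r2 0 2 (by decide))
    (isConj_iff.2 ⟨z 10, by rw [inv_eq_of_mul_eq_one_right z_rel.1, z_rel.2.1]⟩)
    (isConj_iff.2 ⟨z 6, mul_inv_eq_iff_eq_mul.2 z_rel.2.2.2.2.2.1⟩) sylP.2.2.2 hx

theorem fus {G : Type*} [Group G] (e : M ≃* G) (S : Sylow 2 G) : (groupFusionSystem (S : Subgroup G)).IsSimple 2 :=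
  ce.fus ord_t P_le enP.2 card_two (by decide) (gr_z 0) one_class le_rfl P_gen sylP.2.2.1
    ⟨z 6, mem_upS.2 ⟨_, subset_closure ⟨0, by simp, rfl⟩, gr_z 6⟩, fun c => by
      have := ord_t
      rw [z_rel.2.2.2.2.2.1, mul_left_inj, mul_eq_left] at c
      simp [c] at this⟩ sylP.1 sylP.2.1
    (nrm_self full enP.1 P_le (pw_in 0) (al_in _ (by simp)) tau_odd LyM.pn_ok) e S

theorem gen_tn (K : Subgroup M) (h : centralizer {z 9} ≤ K) (hn : z 10 ∈ K) : K = ⊤ := by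
  obtain ⟨-, n, -, a0, a1, a3, a4, a14⟩ := z_eq
  obtain ⟨-, -, -, -, -, -, -, -, -, -, -, b0, b1, b3, b4, b14, -⟩ := z_rel
  have m : ∀ {x y}, x * z 9 = z 9 * x → x = y → y ∈ K := fun a b => b ▸ h (mem_centralizer_singleton_iff.2 a)
  have k : ∀ u : List ℕ, (∀ l ∈ u, l < 78 ∧ l / 2 ∈ dom5) → evalW (sg gm) u ∈ K →
      (S5.sub (K.comap ψ)).ok (prodW mul one lc5 u) := fun u a b =>
    have := S5.prodW_spec (L5 V7 h7).ok u
    ⟨this.1, show ψ _ ∈ K from this.2 ▸ ψw a ▸ b⟩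
  have c := ((S5.sub (K.comap ψ)).ok_of_run (by
    simp only [mapR_eq, List.map, List.forall_mem_cons]
    exact ⟨k _ (by decide) (by simpa [sg] using m b0 a0), k _ (by decide) (by simpa [sg] using m b1 a1),
      k _ (by decide) (by simpa [sg] using m b3 a3), k _ (by decide) (by simpa [sg] using m b14 a14),
      k _ (by decide) (n ▸ hn), by simp⟩) ng_ok _ (List.mem_singleton_self _)).2
  have c2 : gm 2 ∈ K := by
    have := ψw (u := [4]) (by decide)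
    rw [evalW_cons, evalW_nil, mul_one] at this
    simpa [sg] using this.subst (motive := (· ∈ K)) c
  refine top_unique (gm_top.ge.trans ((mdl_le_of_sub rel (sb := (29, 16, 0) :: sb) (k := 3) (dom := [0, 1, 2, 3, 4])
    (by decide +kernel)).trans ((closure_le _).2 ?_)))
  rintro _ ⟨i, hi, rfl⟩
  simp only [Set.mem_ofPred_eq, List.mem_cons, List.not_mem_nil, or_false] at hi
  rcases hi with rfl | rfl | rfl | rfl | rfl
  exacts [m b0 a0, m b1 a1, c2, m b3 a3, m b4 a4]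

theorem out_M : Nat.card (Out M) = 1 := by
  obtain ⟨e1, e2, e4, e5, e6, -, e7, e8, -⟩ := z_rel
  obtain ⟨p1, p2, p3, p4, p5, p6⟩ := LyM.pt_ok
  have t := al_in LyM.tau (by simp)
  have p := al_in LyM.pp (by simp)
  have q := al_in LyM.qq (by simp)
  have e : PT.el LyM.tau * PT.el (LyM.pw_ 3) * (PT.el LyM.tau)⁻¹ = PT.el (LyM.pw_ 4) :=
    mul_inv_eq_iff_eq_mul.2 (by rw [← t.el_tm (pw_in 3), p1, (pw_in 4).el_tm t])
  exact ce.out (by decide) (by decide) ord_t one_class (gr_z 0) (gr_z 1) (gr_z 2) (by rw [e7]; exact gr_z 3)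
    (by rw [e]; exact gr_z 4) (by rw [e8]; exact gr_z 5) e1 e2 e4 e5 e6
    ⟨by rw [← p.el_tp, p2, H14.PK.TS.el_idv], by rw [← q.el_tp, p3, H14.PK.TS.el_idv], by rw [← p.el_tm q, p4],
      by rw [← t.el_tm p, p5, p.el_tm t], by rw [← t.el_tm q, p6, q.el_tm t]⟩ tau_odd sylP.2.1
    (cen_two full (pw_in 2) (pw_in 3) LyM.pz_ok) (fun c h => nomatch transp full (pw_in 1) (pw_in 5) LyM.p5_ok c h) gen_tn

noncomputable instance : MulAction M (Fin 111 → ZMod 5) := inferInstanceAs (MulAction (LyM.M V h2) _)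

open Pointwise in
theorem ce_x : ∃ π : centralizer ({z 11} : Set M) →* H14.GM, CE (z 11) π := by
  have r : ∀ {i T}, affOk (LyM.app 2442 1) 22 111 5 LyM.vl 16 275 (nthD LyM.one LyM.zl i) T = true →
      Rep (VCod.apts (w := 22) (n := 111) V rfl rfl LyM.vl_ok) (z i) (get 16 T) := fun {i T} h =>
    have o := nthD_prop SM.ok_one zl_ok i
    VCod.arep (w := 22) (n := 111) V rfl rfl _ (SM.wf_of_ok o) (V.sub_smul LyM.h1 h2 _ _ o) h
  have m := H14.genS_mem H14.MsM_mem H14.vs275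
  obtain ⟨φ, hφ⟩ := exists_hom_of_rep (P := VCod.apts (w := 22) (n := 111) V rfl rfl LyM.vl_ok) (Q := H14.mkPts H14.ok275)
    rfl H14.faith275
    (s := {(z 12, evalW (H14.genS H14.MsM H14.vs275) [0]), (z 13, evalW (H14.genS H14.MsM H14.vs275) [1]), (z 11, 1)}) (by
      rintro _ (rfl | rfl | rfl)
      exacts [⟨evalW_mem fun l _ => m l, _, r LyM.vr0, H14.sys275.rep_tabW _⟩,
        ⟨evalW_mem fun l _ => m l, _, r LyM.vr1, H14.sys275.rep_tabW _⟩, ⟨one_mem _, _, r LyM.vrx, H14.sys275.rep_tabW []⟩])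
  obtain ⟨-, -, -, -, -, -, -, -, -, -, -, -, -, -, -, -, a, b⟩ := z_rel
  refine ce_of_hom (φ := φ) ((closure_le _).2 ?_) (fun y => ?_) _ (Subtype.ext (hφ _ (.inr (.inr rfl))))
    (by rw [ord_x, H14.card_GM, z_eq.2.2.1]; exact cent_x)
  · rintro _ ⟨_, rfl | rfl | rfl, rfl⟩
    exacts [mem_centralizer_singleton_iff.2 a, mem_centralizer_singleton_iff.2 b, mem_centralizer_singleton_iff.2 rfl]
  · obtain ⟨_, ⟨x, rfl⟩, e⟩ := H14.clM_le (K := φ.range.map H14.GM.subtype) (Ms := H14.MsM) (by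
      rintro _ (_ | ⟨_, _ | ⟨_, ⟨⟩⟩⟩)
      exacts [⟨_, ⟨_, rfl⟩, (hφ _ (.inl rfl)).trans (mul_one _)⟩, ⟨_, ⟨_, rfl⟩, (hφ _ (.inr (.inl rfl))).trans (mul_one _)⟩])
      (H14.GM_eq.le y.2)
    exact ⟨x, Subtype.ext e⟩

theorem center_GM : center H14.GM = ⊥ :=
  have := H14.simple_GM
  (IsSimpleGroup.eq_bot_or_eq_top_of_normal _ inferInstance).resolve_right fun h => by
    let _ := Group.commGroupOfCenterEqTop h
    exact absurd (H14.card_GM ▸ CommGroup.is_simple_iff_prime_card.1 this) (by norm_num)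

end H15.Ly
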