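import Cfsg.Agent.H15.Tz

/-! A presentation of the Mathieu group M24: a threefold cover of a subgroup. Generators. -/

set_option maxRecDepth 100000
set_option Elab.async false

namespace H15.M24A
open H13

noncomputable def one : ℕ :=
  (nat_lit 0x1001001001001001001001001001001)

noncomputable def app : ℕ → ℕ → ℕ → ℕ → ℕ :=
  appB (nat_lit 11)

noncomputable def wfT : ℕ → ℕ → ℕ → Bool :=
  wfB (nat_lit 11)

noncomputable def mul : ℕ → ℕ → ℕ :=
  skp (app (nat_lit 11) (nat_lit 11)) one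

noncomputable def wf : ℕ → Bool :=
  wfT (nat_lit 11) (nat_lit 11)

noncomputable def bc : List ℕ :=
  [(nat_lit 0x1001001001001001001001001001001),
  (nat_lit 0x1001001001001001001001001001001),
  (nat_lit 0x1001001001001001001001001001001),
  (nat_lit 0x1001001001001001001001001001001),
  (nat_lit 0x1001001001001001001001001001001),
  (nat_lit 0x1001001001001001001001001001001),
  (nat_lit 0x1001001001001001001001001001001),
  (nat_lit 0x1001001001001001001001001001001),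
  (nat_lit 0x1001001001001001001001001001001),
  (nat_lit 0x1001001001001001001001001001001),
  (nat_lit 0x1001001001001001001001001001001),
  (nat_lit 0x1001001001001001001001001001001),
  (nat_lit 0x1001001001001001001001001001001),
  (nat_lit 0x1001001001001001001001001001001),
  (nat_lit 0x1001001001001001001001001001001),
  (nat_lit 0x1001001001001001001001001001001),
  (nat_lit 0x1001001001001001001001001001001),
  (nat_lit 0x1001001001001001001001001001001),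
  (nat_lit 0x1001001001001001001001001001001),
  (nat_lit 0x1001001001001001001001001001001),
  (nat_lit 0x1001001001001001001001001001001),
  (nat_lit 0x1001001001001001001001001001001),
  (nat_lit 0x1e8120300cc0800300150280240c002),
  (nat_lit 0x38020140f009013001e03805800818),
  (nat_lit 0x1001001001001001001001001001001),
  (nat_lit 0x1001001001001001001001001001001),
  (nat_lit 0x1001001001001001001001001001001),
  (nat_lit 0x1001001001001001001001001001001),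
  (nat_lit 0x1000a0660b804806001001200403805),
  (nat_lit 0x1003a04a0d01a827001001801401804),
  (nat_lit 0x1001001001001001001001001001001),
  (nat_lit 0x1001001001001001001001001001001),
  (nat_lit 0x1001001001001001001001001001001),
  (nat_lit 0x1001001001001001001001001001001),
  (nat_lit 0x1001001001001001001001001001001),
  (nat_lit 0x1001001001001001001001001001001),
  (nat_lit 0x1680506a0e01980c00090100100a00e),
  (nat_lit 0x160340380740b80d000601001006818)]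

theorem h1 : wfT 11 11 one = true := by decide +kernel

theorem bcw : band (allL (wfT 11 11) bc) (Nat.beq bc.length (2 * 19)) = true := by decide +kernel

theorem bco : bcOk mul one bc 19 = true := by decide +kernel

section
universe u v
variable {R : Type v} {ι : Type} [CommRing R] [Fintype ι] [DecidableEq ι] (V : VCod R ι 11 11 app wfT) (h2 : V.mat one = 1)

/-- the coding of the general linear group -/
noncomputable def S : Sem (Matrix ι ι R)ˣ mul one wf := V.sem h1 h2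

theorem h0 : ∀ c ∈ bc, (S V h2).ok c := V.ok_of_bc h1 h2 bcw bco

/-- the generators -/
noncomputable def g : ℕ → (Matrix ι ι R)ˣ := (S V h2).bg bc

end

def dom0 : List ℕ := []

noncomputable def us0 : List (List ℕ) :=
  []

noncomputable def lc0 : List ℕ :=
  [one,
  one,
  one,
  one,
  one,
  one,
  one,
  one,
  one,
  one,
  one,
  one,
  one,
  one,
  one,
  one,
  one,
  one,
  one,
  one,
  one,
  one,
  one,
  one,
  one,
  one,
  one,
  one,
  one,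
  one,
  one,
  one,
  one,
  one,
  one,
  one,
  one,
  one]

noncomputable def R0 : List (List ℕ × ℕ) :=
  []

theorem lco0 : lcOk mul one bc lc0 dom0 (2 * 19) us0 38 = true := by decide +kernel

theorem Rn0 : Nat.beq R0.length 0 = true := by decide +kernel

section
universe u v
variable {R : Type v} {ι : Type} [CommRing R] [Fintype ι] [DecidableEq ι] (V : VCod R ι 11 11 app wfT) (h2 : V.mat one = 1)

theorem L0 : Lc ((S V h2).sub (mdl (g V h2) dom0)) (mgen (g V h2) dom0) lc0 dom0 (2 * 19) us0 38 :=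
  lc_of (S V h2) (h0 V h2) bco lco0

theorem rel0 : Rels R0 (g V h2) := fun _ h => nomatch h

theorem card0 : Nat.card (mdl (g V h2) dom0) = 1 := card_mdl_nil _

theorem fin0 : Finite (mdl (g V h2) dom0) := Nat.finite_of_card_ne_zero (by rw [card0]; decide)

theorem U0 : UP.{0} (mgen (g V h2) dom0) dom0 R0 := up_nil _ _

end

noncomputable def N1 : List (List ℕ × ℕ) :=
  [([nat_lit 28, nat_lit 29], nat_lit 1),
  ([nat_lit 28], nat_lit 3)]

noncomputable def R1 : List (List ℕ × ℕ) :=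
  R0 ++ N1

noncomputable def n0 : List Net :=
  [Net.nil, Net.nil, Net.nil, Net.nil, Net.nil, Net.nil, Net.nil, Net.nil, Net.nil, Net.nil, Net.nil, Net.nil, Net.nil, Net.nil, Net.nil, Net.nil, Net.nil, Net.nil, Net.nil, Net.nil, Net.nil, Net.nil, Net.nil, Net.nil, Net.nil, Net.nil, Net.nil, Net.nil, Net.nil, Net.nil, Net.nil, Net.nil, Net.nil, Net.nil, Net.nil, Net.nil, Net.nil, Net.nil]

def nodes0 : List ℕ := [28, 29]

def sb0 : List (ℕ × ℕ × ℕ) := []

noncomputable def rs0 : List (ℕ × ℕ × List (ℕ × ℕ)) :=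
  [(nat_lit 0, nat_lit 0, [(nat_lit 2, (nat_lit 0x1001001001001001001001001001001)), (nat_lit 1, (nat_lit 0x1001001001001001001001001001001))]),
  (nat_lit 1, nat_lit 0, [(nat_lit 1, (nat_lit 0x1001001001001001001001001001001)), (nat_lit 1, (nat_lit 0x1001001001001001001001001001001)), (nat_lit 1, (nat_lit 0x1001001001001001001001001001001))])]

noncomputable def T0 : Tr :=
  (.nd (nat_lit 3) (.nd (nat_lit 1) (.lf ⟨nat_lit 0, nat_lit 0, nat_lit 0, one, one, one, .triv⟩)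
 (.nd (nat_lit 2) (.lf ⟨nat_lit 0, nat_lit 0, nat_lit 0, one, one, one, .triv⟩)
 (.lf ⟨nat_lit 0, nat_lit 0, nat_lit 0, one, one, one, .triv⟩)))
 (.nd (nat_lit 5) (.nd (nat_lit 4) (.lf ⟨nat_lit 1, nat_lit 2, nat_lit 0, one, one, one, (.wt (nat_lit 0) (nat_lit 0) one (.sp .nil) [] [])⟩)
 (.lf ⟨nat_lit 2, nat_lit 1, nat_lit 0, one, one, one, (.wt (nat_lit 0) (nat_lit 1) one (.sp .nil) [] [])⟩))
 (.nd (nat_lit 6) (.lf ⟨nat_lit 1, nat_lit 1, nat_lit 2, one, one, one, (.wt (nat_lit 1) (nat_lit 0) one (.st (nat_lit 3) [] [] (.sp .nil)) [] [])⟩)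
 (.lf ⟨nat_lit 2, nat_lit 2, nat_lit 1, one, one, one, (.wt (nat_lit 0) (nat_lit 1) one (.st (nat_lit 5) [] [] .nil) [] [])⟩))))

noncomputable def q0_1 : List Net :=
  [Net.nil, Net.nil, Net.nil, Net.nil, Net.nil, Net.nil, Net.nil, Net.nil, Net.nil, Net.nil, Net.nil, Net.nil, Net.nil, Net.nil, Net.nil, Net.nil, Net.nil, Net.nil, Net.nil, Net.nil, Net.nil, Net.nil, Net.nil, Net.nil, Net.nil, Net.nil, Net.nil, Net.nil, Net.nil, Net.nil, Net.nil, Net.nil, Net.nil, Net.nil, Net.nil, Net.nil, Net.nil, Net.nil]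

noncomputable def Qs0 : List (ℕ × ℕ × List Net) :=
  [(nat_lit 1, nat_lit 3, q0_1), (nat_lit 1, nat_lit 3, q0_1)]

noncomputable def ls0 : List Ld :=
  [⟨[], [], [], (nat_lit 0)⟩,
  ⟨[], [], [], (nat_lit 0)⟩]

noncomputable def lk0 : List (List ℕ) :=
  [[], []]

noncomputable def d0_0 : Nd :=
  ⟨nat_lit 1, nat_lit 1, [], [],
  [⟨[], (nat_lit 0), [(nat_lit 5, nat_lit 0, [])]⟩,
  ⟨[], (nat_lit 0), [(nat_lit 4, nat_lit 0, [])]⟩]⟩

noncomputable def d0_1 : Nd :=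
  ⟨nat_lit 2, nat_lit 1, [], [],
  [⟨[], (nat_lit 0), [(nat_lit 3, nat_lit 0, [])]⟩,
  ⟨[], (nat_lit 0), [(nat_lit 6, nat_lit 0, [])]⟩]⟩

noncomputable def ds0 : List Nd :=
  [d0_0, d0_1]

noncomputable def ks0 : List ℕ :=
  [nat_lit 1, nat_lit 2]

def kc0 : List (ℕ × ℕ) := [(0, 1), (1, 1), (2, 1)]

theorem Rn1 : Nat.beq R1.length 2 = true := by decide +kernel

theorem Nn1 : Nat.beq N1.length 2 = true := by decide +kernel

theorem A0_p : actP 3 1 n0 38 = true := by decide +kernel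

theorem A0_l_0 : rng (actL 3 1 n0 dom0 (2 * 19) us0) (nat_lit 0) (nat_lit 38) = true := by decide +kernel

theorem hr0 : relsOk mul one lc0 dom0 nodes0 2 (2 * 19) R1 sb0 0 rs0 = true := by decide +kernel

theorem hc0_0 : rng (chk mul one wf T0 lc0 (mapR (fun e => e.2.2) rs0) 2) (nat_lit 0) (nat_lit 7) = true := by decide +kernel

theorem AQ0_1_p : actP 3 1 q0_1 38 = true := by decide +kernel

theorem AQ0_1_l_0 : rng (actL 3 1 q0_1 dom0 (2 * 19) us0) (nat_lit 0) (nat_lit 38) = true := by decide +kernel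

theorem la0 : ldA mul one T0 7 lc0 1 3 n0 ls0 2 = true := by decide +kernel

theorem lb0 : ldB 1 Qs0 ls0 2 = true := by decide +kernel

theorem na0_0 : rng (fun i => ndA mul one T0 7 lc0 1 3 n0 1 (nthD ⟨nat_lit 0, nat_lit 0, [], [], []⟩ ds0 i)) (nat_lit 0) (nat_lit 2) = true := by decide +kernel

theorem nb0_0 : rng (fun i => ndB mul one T0 7 lc0 ks0 Qs0 2 (nthD ⟨nat_lit 0, nat_lit 0, [], [], []⟩ ds0 i)) (nat_lit 0) (nat_lit 2) = true := by decide +kernel

theorem dn0 : Nat.beq ds0.length 2 = true := by decide +kernel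

theorem hk0 : ks0 = ds0.map Nd.k := by decide +kernel

theorem hkc0 : kc0 = (0, 1) :: ds0.map fun d => (d.k, d.c) := by decide +kernel

theorem lo0 : linkOk mul one T0 7 ks0 lk0 2 = true := by decide +kernel

theorem do0 : domOk dom0 [14] nodes0 2 R1 sb0 0 = true := by decide +kernel

theorem A0_l : ∀ i < 38, (actL 3 1 n0 dom0 (2 * 19) us0) i = true :=
  (rng_add rng_zero A0_l_0)

theorem A0_r : ∀ i < 0, (fun i => relN 3 1 n0 (2 * 19) (nthD ([], nat_lit 0) R0 i)) i = true :=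
  rng_zero

theorem hc0 : ∀ i < 7, (chk mul one wf T0 lc0 (mapR (fun e => e.2.2) rs0) 2) i = true :=
  (rng_add rng_zero hc0_0)

theorem AQ0_1_l : ∀ i < 38, (actL 3 1 q0_1 dom0 (2 * 19) us0) i = true :=
  (rng_add rng_zero AQ0_1_l_0)

theorem AQ0_1_r : ∀ i < 0, (fun i => relN 3 1 q0_1 (2 * 19) (nthD ([], nat_lit 0) R0 i)) i = true :=
  rng_zero

theorem na0 : ∀ i < 2, (fun i => ndA mul one T0 7 lc0 1 3 n0 1 (nthD ⟨nat_lit 0, nat_lit 0, [], [], []⟩ ds0 i)) i = true :=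
  (rng_add rng_zero na0_0)

theorem nb0 : ∀ i < 2, (fun i => ndB mul one T0 7 lc0 ks0 Qs0 2 (nthD ⟨nat_lit 0, nat_lit 0, [], [], []⟩ ds0 i)) i = true :=
  (rng_add rng_zero nb0_0)

section
universe u v
variable {R : Type v} {ι : Type} [CommRing R] [Fintype ι] [DecidableEq ι] (V : VCod R ι 11 11 app wfT) (h2 : V.mat one = 1)

theorem A0 : Act.{0} (((S V h2).sub (mdl (g V h2) dom0)).gen lc0) 1 3 n0 :=
  act_of_up (L0 V h2) (U0 V h2) A0_p A0_l (by decide) (allR Rn0 A0_r)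

theorem AQ0_1 : Act.{0} (((S V h2).sub (mdl (g V h2) dom0)).gen lc0) 1 3 q0_1 :=
  act_of_up (L0 V h2) (U0 V h2) AQ0_1_p AQ0_1_l (by decide) (allR Rn0 AQ0_1_r)

theorem C0 : Cert.{u} ((S V h2).sub (mdl (g V h2) dom0)) T0 7 (mgen (g V h2) dom0) dom0 [14] nodes0 2 (R0 ++ N1) kc0 :=
  have := fin0 V h2
  cert_of (L0 V h2) (card0 V h2).le (A0 V h2) (Qs := Qs0) (List.forall_mem_cons.2 ⟨AQ0_1 V h2, List.forall_mem_cons.2 ⟨AQ0_1 V h2, List.forall_mem_nil _⟩⟩) hr0 hc0 la0 lb0 hk0 (allR dn0 na0) (allR dn0 nb0) lo0 do0 hkc0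

end

def dom1 : List ℕ := [14]

noncomputable def us1 : List (List ℕ) :=
  []

noncomputable def lc1 : List ℕ :=
  [one,
  one,
  one,
  one,
  one,
  one,
  one,
  one,
  one,
  one,
  one,
  one,
  one,
  one,
  one,
  one,
  one,
  one,
  one,
  one,
  one,
  one,
  one,
  one,
  one,
  one,
  one,
  one,
  nthD one bc (nat_lit 28),
  nthD one bc (nat_lit 29),
  one,
  one,
  one,
  one,
  one,
  one,
  one,
  one]

noncomputable def v1_0 : VL :=
  ⟨(nat_lit 1268), [[nat_lit 28]], nat_lit 1, [(nat_lit 770)], nat_lit 2, nat_lit 3⟩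

noncomputable def vl1 : List VL :=
  [v1_0]

theorem lco1 : lcOk mul one bc lc1 dom1 (2 * 19) us1 38 = true := by decide +kernel

theorem rc1_0 : rng (fun i => relC mul one bc (2 * 19) (nthD ([], nat_lit 0) N1 i)) (nat_lit 0) (nat_lit 2) = true := by decide +kernel

theorem sm0 : Nat.beq ((kc0.map Prod.snd).sum * 1) 3 = true := by decide +kernel

theorem vc1 : vchainOk (app 11 1) (wfT 11 1) mul one lc1 [] vl1 = true := by decide +kernel

theorem vf1 : band (allL (fun i => memL i dom1) dom0) (VCod.fixD (app 11 1) (wfT 11 1) one bc dom0 vl1) = true := by decide +kernel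

theorem vp1 : (vl1.map VL.d).prod * 1 = 3 := by decide +kernel

theorem rd1 : allL (fun r => allL (fun l => memL (Nat.shiftRight l (nat_lit 1)) dom1) r.1) (R0 ++ N1) = true := by decide +kernel

theorem rc1 : ∀ i < 2, (fun i => relC mul one bc (2 * 19) (nthD ([], nat_lit 0) N1 i)) i = true :=
  (rng_add rng_zero rc1_0)

section
universe u v
variable {R : Type v} {ι : Type} [CommRing R] [Fintype ι] [DecidableEq ι] (V : VCod R ι 11 11 app wfT) (h2 : V.mat one = 1)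

theorem L1 : Lc ((S V h2).sub (mdl (g V h2) dom1)) (mgen (g V h2) dom1) lc1 dom1 (2 * 19) us1 38 :=
  lc_of (S V h2) (h0 V h2) bco lco1

theorem rel1 : Rels R1 (g V h2) := (rel0 V h2).append ((S V h2).rels (h0 V h2) bco (allR Nn1 rc1))

theorem le1 : Finite (mdl (g V h2) dom1) ∧ Nat.card (mdl (g V h2) dom1) ≤ 3 :=
  have := fin0 V h2
  step_le (C0 V h2) (U0 V h2) (rel1 V h2) (card0 V h2) sm0

theorem fin1 : Finite (mdl (g V h2) dom1) := (le1 V h2).1

theorem card1 : Nat.card (mdl (g V h2) dom1) = 3 := by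
  have : Finite (mdl ((V.sem h1 h2).bg bc) dom1) := fin1 V h2
  have h := V.le_card_mdl h1 h2 (h0 V h2) (L1 V h2).ok vc1 vf1
  exact le_antisymm (le1 V h2).2 (le_trans (vp1.symm.trans (congrArg (HMul.hMul (vl1.map VL.d).prod) (card0 V h2).symm)).le h)

theorem U1 : UP.{0} (mgen (g V h2) dom1) dom1 R1 :=
  have := fin0 V h2
  step_up (C0 V h2) (U0 V h2) (rel1 V h2) (card0 V h2) sm0 (card1 V h2) rd1

end

noncomputable def N2 : List (List ℕ × ℕ) :=
  [([nat_lit 36, nat_lit 37], nat_lit 1),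
  ([nat_lit 36], nat_lit 3),
  ((unp (nat_lit 6) (nat_lit 0x91d91c04)), nat_lit 2)]

noncomputable def R2 : List (List ℕ × ℕ) :=
  R1 ++ N2

noncomputable def n1_28 : Net :=
  mkNet (nat_lit 4) (nat_lit 3) (nat_lit 72)

noncomputable def n1 : List Net :=
  [Net.nil, Net.nil, Net.nil, Net.nil, Net.nil, Net.nil, Net.nil, Net.nil, Net.nil, Net.nil, Net.nil, Net.nil, Net.nil, Net.nil, Net.nil, Net.nil, Net.nil, Net.nil, Net.nil, Net.nil, Net.nil, Net.nil, Net.nil, Net.nil, Net.nil, Net.nil, Net.nil, Net.nil, n1_28, rv n1_28, Net.nil, Net.nil, Net.nil, Net.nil, Net.nil, Net.nil, Net.nil, Net.nil]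

def nodes1 : List ℕ := [36, 37]

def sb1 : List (ℕ × ℕ × ℕ) := []

noncomputable def rs1 : List (ℕ × ℕ × List (ℕ × ℕ)) :=
  [(nat_lit 2, nat_lit 0, [(nat_lit 2, (nat_lit 0x1001001001001001001001001001001)), (nat_lit 1, (nat_lit 0x1001001001001001001001001001001))]),
  (nat_lit 3, nat_lit 0, [(nat_lit 1, (nat_lit 0x1001001001001001001001001001001)), (nat_lit 1, (nat_lit 0x1001001001001001001001001001001)), (nat_lit 1, (nat_lit 0x1001001001001001001001001001001))]),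
  (nat_lit 4, nat_lit 0, [(nat_lit 1, (nat_lit 0x1003a04a0d01a827001001801401804)), (nat_lit 1, (nat_lit 0x1000a0660b804806001001200403805)), (nat_lit 1, (nat_lit 0x1003a04a0d01a827001001801401804)), (nat_lit 1, (nat_lit 0x1000a0660b804806001001200403805))])]

noncomputable def T1_0 : Tr :=
  (.nd (nat_lit 30) (.nd (nat_lit 15) (.nd (nat_lit 7) (.nd (nat_lit 3) (.nd (nat_lit 1) (.lf ⟨nat_lit 0, nat_lit 0, nat_lit 0, one, one, one, .triv⟩)
 (.nd (nat_lit 2) (.lf ⟨nat_lit 0, nat_lit 0, nat_lit 0, one, one, one, .triv⟩)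
 (.lf ⟨nat_lit 0, nat_lit 0, nat_lit 0, one, one, one, .triv⟩)))
 (.nd (nat_lit 5) (.nd (nat_lit 4) (.lf ⟨nat_lit 1, nat_lit 2, nat_lit 0, one, one, one, (.wt (nat_lit 0) (nat_lit 0) one (.sp .nil) [] [])⟩)
 (.lf ⟨nat_lit 2, nat_lit 1, nat_lit 0, one, one, one, (.wt (nat_lit 0) (nat_lit 1) one (.sp .nil) [] [])⟩))
 (.nd (nat_lit 6) (.lf ⟨nat_lit 1, nat_lit 1, nat_lit 2, one, one, one, (.wt (nat_lit 1) (nat_lit 0) one (.st (nat_lit 3) [] [] (.sp .nil)) [] [])⟩)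
 (.lf ⟨nat_lit 2, nat_lit 2, nat_lit 1, one, one, one, (.wt (nat_lit 0) (nat_lit 1) one (.st (nat_lit 5) [] [] .nil) [] [])⟩))))
 (.nd (nat_lit 11) (.nd (nat_lit 9) (.nd (nat_lit 8) (.lf ⟨nat_lit 1, nat_lit 1, nat_lit 7, (nat_lit 0x1003a04a0d01a827001001801401804), one, one, (.df [nat_lit 29])⟩)
 (.lf ⟨nat_lit 2, nat_lit 7, nat_lit 1, one, (nat_lit 0x1003a04a0d01a827001001801401804), one, (.wt (nat_lit 0) (nat_lit 1) (nat_lit 0x1003a04a0d01a827001001801401804) (.st (nat_lit 7) [] [] .nil) [] [])⟩))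
 (.nd (nat_lit 10) (.lf ⟨nat_lit 1, nat_lit 7, nat_lit 2, (nat_lit 0x1000a0660b804806001001200403805), (nat_lit 0x1000a0660b804806001001200403805), (nat_lit 0x1003a04a0d01a827001001801401804), (.wt (nat_lit 2) (nat_lit 3) one (.st (nat_lit 3) [] [] (.sp (.st (nat_lit 7) [] [] .nil))) [] [])⟩)
 (.lf ⟨nat_lit 2, nat_lit 2, nat_lit 7, (nat_lit 0x1000a0660b804806001001200403805), (nat_lit 0x1000a0660b804806001001200403805), (nat_lit 0x1000a0660b804806001001200403805), (.wt (nat_lit 0) (nat_lit 1) (nat_lit 0x1000a0660b804806001001200403805) (.st (nat_lit 9) [] [] .nil) [] [])⟩)))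
 (.nd (nat_lit 13) (.nd (nat_lit 12) (.lf ⟨nat_lit 1, nat_lit 1, nat_lit 11, (nat_lit 0x1000a0660b804806001001200403805), one, one, (.df [nat_lit 28])⟩)
 (.lf ⟨nat_lit 2, nat_lit 11, nat_lit 1, one, (nat_lit 0x1000a0660b804806001001200403805), one, (.wt (nat_lit 0) (nat_lit 1) (nat_lit 0x1000a0660b804806001001200403805) (.st (nat_lit 11) [] [] .nil) [] [])⟩))
 (.nd (nat_lit 14) (.lf ⟨nat_lit 1, nat_lit 11, nat_lit 2, (nat_lit 0x1003a04a0d01a827001001801401804), (nat_lit 0x1003a04a0d01a827001001801401804), (nat_lit 0x1000a0660b804806001001200403805), (.wt (nat_lit 2) (nat_lit 2) one (.st (nat_lit 3) [] [] (.sp (.st (nat_lit 11) [] [] .nil))) [] [])⟩)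
 (.lf ⟨nat_lit 2, nat_lit 2, nat_lit 11, (nat_lit 0x1003a04a0d01a827001001801401804), (nat_lit 0x1003a04a0d01a827001001801401804), (nat_lit 0x1003a04a0d01a827001001801401804), (.wt (nat_lit 0) (nat_lit 1) (nat_lit 0x1003a04a0d01a827001001801401804) (.st (nat_lit 13) [] [] .nil) [] [])⟩)))))
 (.nd (nat_lit 22) (.nd (nat_lit 18) (.nd (nat_lit 16) (.lf ⟨nat_lit 2, nat_lit 1, nat_lit 15, (nat_lit 0x1003a04a0d01a827001001801401804), one, one, (.df [nat_lit 29])⟩)
 (.nd (nat_lit 17) (.lf ⟨nat_lit 1, nat_lit 15, nat_lit 1, one, (nat_lit 0x1003a04a0d01a827001001801401804), one, (.wt (nat_lit 0) (nat_lit 0) (nat_lit 0x1003a04a0d01a827001001801401804) (.st (nat_lit 15) [] [] .nil) [] [])⟩)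
 (.lf ⟨nat_lit 1, nat_lit 7, nat_lit 15, one, one, one, (.wt (nat_lit 1) (nat_lit 0) one (.st (nat_lit 16) [] [] (.st (nat_lit 7) [] [] .nil)) [] [])⟩)))
 (.nd (nat_lit 20) (.nd (nat_lit 19) (.lf ⟨nat_lit 2, nat_lit 15, nat_lit 7, one, one, one, (.wt (nat_lit 0) (nat_lit 1) one (.st (nat_lit 17) [] [] .nil) [] [])⟩)
 (.lf ⟨nat_lit 2, nat_lit 1, nat_lit 19, (nat_lit 0x1000a0660b804806001001200403805), one, one, (.df [nat_lit 28])⟩))
 (.nd (nat_lit 21) (.lf ⟨nat_lit 1, nat_lit 19, nat_lit 1, one, (nat_lit 0x1000a0660b804806001001200403805), one, (.wt (nat_lit 0) (nat_lit 0) (nat_lit 0x1000a0660b804806001001200403805) (.st (nat_lit 19) [] [] .nil) [] [])⟩)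
 (.lf ⟨nat_lit 1, nat_lit 11, nat_lit 19, one, one, one, (.wt (nat_lit 1) (nat_lit 0) one (.st (nat_lit 20) [] [] (.st (nat_lit 11) [] [] .nil)) [] [])⟩))))
 (.nd (nat_lit 26) (.nd (nat_lit 24) (.nd (nat_lit 23) (.lf ⟨nat_lit 2, nat_lit 19, nat_lit 11, one, one, one, (.wt (nat_lit 0) (nat_lit 1) one (.st (nat_lit 21) [] [] .nil) [] [])⟩)
 (.lf ⟨nat_lit 1, nat_lit 2, nat_lit 23, (nat_lit 0x1003a04a0d01a827001001801401804), one, one, (.df [nat_lit 29])⟩))
 (.nd (nat_lit 25) (.lf ⟨nat_lit 2, nat_lit 23, nat_lit 2, one, (nat_lit 0x1003a04a0d01a827001001801401804), one, (.wt (nat_lit 0) (nat_lit 1) (nat_lit 0x1003a04a0d01a827001001801401804) (.st (nat_lit 23) [] [] .nil) [] [])⟩)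
 (.lf ⟨nat_lit 1, nat_lit 23, nat_lit 11, one, (nat_lit 0x1003a04a0d01a827001001801401804), (nat_lit 0x1003a04a0d01a827001001801401804), (.wt (nat_lit 1) (nat_lit 2) (nat_lit 0x1003a04a0d01a827001001801401804) (.st (nat_lit 13) [] [] (.st (nat_lit 23) [] [] .nil)) [] [])⟩)))
 (.nd (nat_lit 28) (.nd (nat_lit 27) (.lf ⟨nat_lit 2, nat_lit 11, nat_lit 23, (nat_lit 0x1003a04a0d01a827001001801401804), one, (nat_lit 0x1000a0660b804806001001200403805), (.wt (nat_lit 0) (nat_lit 1) one (.st (nat_lit 25) [] [] .nil) [] [])⟩)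
 (.lf ⟨nat_lit 1, nat_lit 23, nat_lit 15, (nat_lit 0x1000a0660b804806001001200403805), (nat_lit 0x1000a0660b804806001001200403805), one, (.wt (nat_lit 2) (nat_lit 3) one (.st (nat_lit 16) [] [] (.st (nat_lit 5) [] [] (.st (nat_lit 23) [] [] .nil))) [] [])⟩))
 (.nd (nat_lit 29) (.lf ⟨nat_lit 2, nat_lit 15, nat_lit 23, (nat_lit 0x1000a0660b804806001001200403805), (nat_lit 0x1000a0660b804806001001200403805), one, (.wt (nat_lit 0) (nat_lit 1) (nat_lit 0x1000a0660b804806001001200403805) (.st (nat_lit 27) [] [] .nil) [] [])⟩)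
 (.lf ⟨nat_lit 1, nat_lit 2, nat_lit 29, (nat_lit 0x1000a0660b804806001001200403805), one, one, (.df [nat_lit 28])⟩))))))
 (.nd (nat_lit 45) (.nd (nat_lit 37) (.nd (nat_lit 33) (.nd (nat_lit 31) (.lf ⟨nat_lit 2, nat_lit 29, nat_lit 2, one, (nat_lit 0x1000a0660b804806001001200403805), one, (.wt (nat_lit 0) (nat_lit 1) (nat_lit 0x1000a0660b804806001001200403805) (.st (nat_lit 29) [] [] .nil) [] [])⟩)
 (.nd (nat_lit 32) (.lf ⟨nat_lit 1, nat_lit 29, nat_lit 7, one, (nat_lit 0x1000a0660b804806001001200403805), (nat_lit 0x1000a0660b804806001001200403805), (.wt (nat_lit 1) (nat_lit 2) (nat_lit 0x1000a0660b804806001001200403805) (.st (nat_lit 9) [] [] (.st (nat_lit 29) [] [] .nil)) [] [])⟩)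
 (.lf ⟨nat_lit 2, nat_lit 7, nat_lit 29, (nat_lit 0x1000a0660b804806001001200403805), one, (nat_lit 0x1003a04a0d01a827001001801401804), (.wt (nat_lit 0) (nat_lit 1) one (.st (nat_lit 31) [] [] .nil) [] [])⟩)))
 (.nd (nat_lit 35) (.nd (nat_lit 34) (.lf ⟨nat_lit 1, nat_lit 29, nat_lit 19, (nat_lit 0x1003a04a0d01a827001001801401804), (nat_lit 0x1003a04a0d01a827001001801401804), one, (.wt (nat_lit 2) (nat_lit 2) one (.st (nat_lit 20) [] [] (.st (nat_lit 5) [] [] (.st (nat_lit 29) [] [] .nil))) [] [])⟩)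
 (.lf ⟨nat_lit 2, nat_lit 19, nat_lit 29, (nat_lit 0x1003a04a0d01a827001001801401804), (nat_lit 0x1003a04a0d01a827001001801401804), one, (.wt (nat_lit 0) (nat_lit 1) (nat_lit 0x1003a04a0d01a827001001801401804) (.st (nat_lit 33) [] [] .nil) [] [])⟩))
 (.nd (nat_lit 36) (.lf ⟨nat_lit 1, nat_lit 7, nat_lit 35, (nat_lit 0x1003a04a0d01a827001001801401804), one, one, (.df [nat_lit 29])⟩)
 (.lf ⟨nat_lit 2, nat_lit 35, nat_lit 7, one, (nat_lit 0x1003a04a0d01a827001001801401804), one, (.wt (nat_lit 0) (nat_lit 1) (nat_lit 0x1003a04a0d01a827001001801401804) (.st (nat_lit 35) [] [] .nil) [] [])⟩))))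
 (.nd (nat_lit 41) (.nd (nat_lit 39) (.nd (nat_lit 38) (.lf ⟨nat_lit 1, nat_lit 35, nat_lit 19, (nat_lit 0x1000a0660b804806001001200403805), (nat_lit 0x1000a0660b804806001001200403805), one, (.wt (nat_lit 2) (nat_lit 3) one (.st (nat_lit 20) [] [] (.st (nat_lit 7) [] [] (.st (nat_lit 35) [] [] .nil))) [] [])⟩)
 (.lf ⟨nat_lit 2, nat_lit 19, nat_lit 35, (nat_lit 0x1000a0660b804806001001200403805), (nat_lit 0x1000a0660b804806001001200403805), one, (.wt (nat_lit 0) (nat_lit 1) (nat_lit 0x1000a0660b804806001001200403805) (.st (nat_lit 37) [] [] .nil) [] [])⟩))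
 (.nd (nat_lit 40) (.lf ⟨nat_lit 2, nat_lit 7, nat_lit 39, (nat_lit 0x1003a04a0d01a827001001801401804), one, one, (.df [nat_lit 29])⟩)
 (.lf ⟨nat_lit 1, nat_lit 39, nat_lit 7, one, (nat_lit 0x1003a04a0d01a827001001801401804), one, (.wt (nat_lit 0) (nat_lit 0) (nat_lit 0x1003a04a0d01a827001001801401804) (.st (nat_lit 39) [] [] .nil) [] [])⟩)))
 (.nd (nat_lit 43) (.nd (nat_lit 42) (.lf ⟨nat_lit 1, nat_lit 35, nat_lit 39, one, one, one, (.wt (nat_lit 1) (nat_lit 0) one (.st (nat_lit 40) [] [] (.st (nat_lit 35) [] [] .nil)) [] [])⟩)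
 (.lf ⟨nat_lit 2, nat_lit 39, nat_lit 35, one, one, one, (.wt (nat_lit 0) (nat_lit 1) one (.st (nat_lit 41) [] [] .nil) [] [])⟩))
 (.nd (nat_lit 44) (.lf ⟨nat_lit 1, nat_lit 23, nat_lit 39, (nat_lit 0x1003a04a0d01a827001001801401804), (nat_lit 0x1003a04a0d01a827001001801401804), (nat_lit 0x1000a0660b804806001001200403805), (.wt (nat_lit 2) (nat_lit 0) one (.st (nat_lit 40) [] [] (.st (nat_lit 9) [] [] (.st (nat_lit 23) [] [] .nil))) [] [])⟩)
 (.lf ⟨nat_lit 2, nat_lit 39, nat_lit 23, (nat_lit 0x1003a04a0d01a827001001801401804), (nat_lit 0x1003a04a0d01a827001001801401804), (nat_lit 0x1003a04a0d01a827001001801401804), (.wt (nat_lit 0) (nat_lit 1) (nat_lit 0x1003a04a0d01a827001001801401804) (.st (nat_lit 43) [] [] .nil) [] [])⟩)))))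
 (.nd (nat_lit 53) (.nd (nat_lit 49) (.nd (nat_lit 47) (.nd (nat_lit 46) (.lf ⟨nat_lit 1, nat_lit 11, nat_lit 45, (nat_lit 0x1000a0660b804806001001200403805), one, one, (.df [nat_lit 28])⟩)
 (.lf ⟨nat_lit 2, nat_lit 45, nat_lit 11, one, (nat_lit 0x1000a0660b804806001001200403805), one, (.wt (nat_lit 0) (nat_lit 1) (nat_lit 0x1000a0660b804806001001200403805) (.st (nat_lit 45) [] [] .nil) [] [])⟩))
 (.nd (nat_lit 48) (.lf ⟨nat_lit 1, nat_lit 45, nat_lit 15, (nat_lit 0x1003a04a0d01a827001001801401804), (nat_lit 0x1003a04a0d01a827001001801401804), one, (.wt (nat_lit 2) (nat_lit 2) one (.st (nat_lit 16) [] [] (.st (nat_lit 11) [] [] (.st (nat_lit 45) [] [] .nil))) [] [])⟩)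
 (.lf ⟨nat_lit 2, nat_lit 15, nat_lit 45, (nat_lit 0x1003a04a0d01a827001001801401804), (nat_lit 0x1003a04a0d01a827001001801401804), one, (.wt (nat_lit 0) (nat_lit 1) (nat_lit 0x1003a04a0d01a827001001801401804) (.st (nat_lit 47) [] [] .nil) [] [])⟩)))
 (.nd (nat_lit 51) (.nd (nat_lit 50) (.lf ⟨nat_lit 2, nat_lit 11, nat_lit 49, (nat_lit 0x1000a0660b804806001001200403805), one, one, (.df [nat_lit 28])⟩)
 (.lf ⟨nat_lit 1, nat_lit 49, nat_lit 11, one, (nat_lit 0x1000a0660b804806001001200403805), one, (.wt (nat_lit 0) (nat_lit 0) (nat_lit 0x1000a0660b804806001001200403805) (.st (nat_lit 49) [] [] .nil) [] [])⟩))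
 (.nd (nat_lit 52) (.lf ⟨nat_lit 1, nat_lit 45, nat_lit 49, one, one, one, (.wt (nat_lit 1) (nat_lit 0) one (.st (nat_lit 50) [] [] (.st (nat_lit 45) [] [] .nil)) [] [])⟩)
 (.lf ⟨nat_lit 2, nat_lit 49, nat_lit 45, one, one, one, (.wt (nat_lit 0) (nat_lit 1) one (.st (nat_lit 51) [] [] .nil) [] [])⟩))))
 (.nd (nat_lit 57) (.nd (nat_lit 55) (.nd (nat_lit 54) (.lf ⟨nat_lit 1, nat_lit 29, nat_lit 49, (nat_lit 0x1000a0660b804806001001200403805), (nat_lit 0x1000a0660b804806001001200403805), (nat_lit 0x1003a04a0d01a827001001801401804), (.wt (nat_lit 2) (nat_lit 1) one (.st (nat_lit 50) [] [] (.st (nat_lit 13) [] [] (.st (nat_lit 29) [] [] .nil))) [] [])⟩)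
 (.lf ⟨nat_lit 2, nat_lit 49, nat_lit 29, (nat_lit 0x1000a0660b804806001001200403805), (nat_lit 0x1000a0660b804806001001200403805), (nat_lit 0x1000a0660b804806001001200403805), (.wt (nat_lit 0) (nat_lit 1) (nat_lit 0x1000a0660b804806001001200403805) (.st (nat_lit 53) [] [] .nil) [] [])⟩))
 (.nd (nat_lit 56) (.lf ⟨nat_lit 1, nat_lit 15, nat_lit 55, (nat_lit 0x1003a04a0d01a827001001801401804), one, one, (.df [nat_lit 29])⟩)
 (.lf ⟨nat_lit 2, nat_lit 55, nat_lit 15, one, (nat_lit 0x1003a04a0d01a827001001801401804), one, (.wt (nat_lit 0) (nat_lit 1) (nat_lit 0x1003a04a0d01a827001001801401804) (.st (nat_lit 55) [] [] .nil) [] [])⟩)))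
 (.nd (nat_lit 59) (.nd (nat_lit 58) (.lf ⟨nat_lit 1, nat_lit 55, nat_lit 45, one, (nat_lit 0x1003a04a0d01a827001001801401804), one, (.wt (nat_lit 1) (nat_lit 2) (nat_lit 0x1003a04a0d01a827001001801401804) (.st (nat_lit 47) [] [] (.st (nat_lit 55) [] [] .nil)) [] [])⟩)
 (.lf ⟨nat_lit 2, nat_lit 45, nat_lit 55, (nat_lit 0x1003a04a0d01a827001001801401804), one, one, (.wt (nat_lit 0) (nat_lit 1) one (.st (nat_lit 57) [] [] .nil) [] [])⟩))
 (.nd (nat_lit 60) (.lf ⟨nat_lit 1, nat_lit 55, nat_lit 39, (nat_lit 0x1000a0660b804806001001200403805), (nat_lit 0x1000a0660b804806001001200403805), one, (.wt (nat_lit 2) (nat_lit 3) one (.st (nat_lit 40) [] [] (.st (nat_lit 17) [] [] (.st (nat_lit 55) [] [] .nil))) [] [])⟩)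
 (.lf ⟨nat_lit 2, nat_lit 39, nat_lit 55, (nat_lit 0x1000a0660b804806001001200403805), (nat_lit 0x1000a0660b804806001001200403805), one, (.wt (nat_lit 0) (nat_lit 1) (nat_lit 0x1000a0660b804806001001200403805) (.st (nat_lit 59) [] [] .nil) [] [])⟩)))))))

noncomputable def T1_61 : Tr :=
  (.nd (nat_lit 92) (.nd (nat_lit 76) (.nd (nat_lit 68) (.nd (nat_lit 64) (.nd (nat_lit 62) (.lf ⟨nat_lit 1, nat_lit 15, nat_lit 61, (nat_lit 0x1000a0660b804806001001200403805), one, one, (.df [nat_lit 28])⟩)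
 (.nd (nat_lit 63) (.lf ⟨nat_lit 2, nat_lit 61, nat_lit 15, one, (nat_lit 0x1000a0660b804806001001200403805), one, (.wt (nat_lit 0) (nat_lit 1) (nat_lit 0x1000a0660b804806001001200403805) (.st (nat_lit 61) [] [] .nil) [] [])⟩)
 (.lf ⟨nat_lit 1, nat_lit 61, nat_lit 23, one, (nat_lit 0x1000a0660b804806001001200403805), one, (.wt (nat_lit 1) (nat_lit 2) (nat_lit 0x1000a0660b804806001001200403805) (.st (nat_lit 27) [] [] (.st (nat_lit 61) [] [] .nil)) [] [])⟩)))
 (.nd (nat_lit 66) (.nd (nat_lit 65) (.lf ⟨nat_lit 2, nat_lit 23, nat_lit 61, (nat_lit 0x1000a0660b804806001001200403805), one, one, (.wt (nat_lit 0) (nat_lit 1) one (.st (nat_lit 63) [] [] .nil) [] [])⟩)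
 (.lf ⟨nat_lit 1, nat_lit 61, nat_lit 29, (nat_lit 0x1003a04a0d01a827001001801401804), (nat_lit 0x1003a04a0d01a827001001801401804), (nat_lit 0x1003a04a0d01a827001001801401804), (.wt (nat_lit 2) (nat_lit 2) one (.st (nat_lit 31) [] [] (.st (nat_lit 17) [] [] (.st (nat_lit 61) [] [] .nil))) [] [])⟩))
 (.nd (nat_lit 67) (.lf ⟨nat_lit 2, nat_lit 29, nat_lit 61, (nat_lit 0x1003a04a0d01a827001001801401804), (nat_lit 0x1003a04a0d01a827001001801401804), (nat_lit 0x1000a0660b804806001001200403805), (.wt (nat_lit 0) (nat_lit 1) (nat_lit 0x1003a04a0d01a827001001801401804) (.st (nat_lit 65) [] [] .nil) [] [])⟩)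
 (.lf ⟨nat_lit 1, nat_lit 19, nat_lit 61, (nat_lit 0x1003a04a0d01a827001001801401804), (nat_lit 0x1003a04a0d01a827001001801401804), (nat_lit 0x1000a0660b804806001001200403805), (.wt (nat_lit 2) (nat_lit 0) one (.st (nat_lit 63) [] [] (.st (nat_lit 25) [] [] (.st (nat_lit 21) [] [] .nil))) [] [])⟩))))
 (.nd (nat_lit 72) (.nd (nat_lit 70) (.nd (nat_lit 69) (.lf ⟨nat_lit 2, nat_lit 61, nat_lit 19, (nat_lit 0x1003a04a0d01a827001001801401804), (nat_lit 0x1003a04a0d01a827001001801401804), (nat_lit 0x1003a04a0d01a827001001801401804), (.wt (nat_lit 0) (nat_lit 1) (nat_lit 0x1003a04a0d01a827001001801401804) (.st (nat_lit 67) [] [] .nil) [] [])⟩)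
 (.lf ⟨nat_lit 1, nat_lit 19, nat_lit 69, (nat_lit 0x1000a0660b804806001001200403805), one, one, (.df [nat_lit 28])⟩))
 (.nd (nat_lit 71) (.lf ⟨nat_lit 2, nat_lit 69, nat_lit 19, one, (nat_lit 0x1000a0660b804806001001200403805), one, (.wt (nat_lit 0) (nat_lit 1) (nat_lit 0x1000a0660b804806001001200403805) (.st (nat_lit 69) [] [] .nil) [] [])⟩)
 (.lf ⟨nat_lit 1, nat_lit 69, nat_lit 35, one, (nat_lit 0x1000a0660b804806001001200403805), one, (.wt (nat_lit 1) (nat_lit 2) (nat_lit 0x1000a0660b804806001001200403805) (.st (nat_lit 37) [] [] (.st (nat_lit 69) [] [] .nil)) [] [])⟩)))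
 (.nd (nat_lit 74) (.nd (nat_lit 73) (.lf ⟨nat_lit 2, nat_lit 35, nat_lit 69, (nat_lit 0x1000a0660b804806001001200403805), one, one, (.wt (nat_lit 0) (nat_lit 1) one (.st (nat_lit 71) [] [] .nil) [] [])⟩)
 (.lf ⟨nat_lit 1, nat_lit 69, nat_lit 49, (nat_lit 0x1003a04a0d01a827001001801401804), (nat_lit 0x1003a04a0d01a827001001801401804), one, (.wt (nat_lit 2) (nat_lit 2) one (.st (nat_lit 50) [] [] (.st (nat_lit 21) [] [] (.st (nat_lit 69) [] [] .nil))) [] [])⟩))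
 (.nd (nat_lit 75) (.lf ⟨nat_lit 2, nat_lit 49, nat_lit 69, (nat_lit 0x1003a04a0d01a827001001801401804), (nat_lit 0x1003a04a0d01a827001001801401804), one, (.wt (nat_lit 0) (nat_lit 1) (nat_lit 0x1003a04a0d01a827001001801401804) (.st (nat_lit 73) [] [] .nil) [] [])⟩)
 (.lf ⟨nat_lit 2, nat_lit 23, nat_lit 75, (nat_lit 0x1003a04a0d01a827001001801401804), one, one, (.df [nat_lit 29])⟩)))))
 (.nd (nat_lit 84) (.nd (nat_lit 80) (.nd (nat_lit 78) (.nd (nat_lit 77) (.lf ⟨nat_lit 1, nat_lit 75, nat_lit 23, one, (nat_lit 0x1003a04a0d01a827001001801401804), one, (.wt (nat_lit 0) (nat_lit 0) (nat_lit 0x1003a04a0d01a827001001801401804) (.st (nat_lit 75) [] [] .nil) [] [])⟩)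
 (.lf ⟨nat_lit 1, nat_lit 39, nat_lit 75, (nat_lit 0x1003a04a0d01a827001001801401804), one, (nat_lit 0x1003a04a0d01a827001001801401804), (.wt (nat_lit 1) (nat_lit 0) one (.st (nat_lit 76) [] [] (.st (nat_lit 43) [] [] .nil)) [] [])⟩))
 (.nd (nat_lit 79) (.lf ⟨nat_lit 2, nat_lit 75, nat_lit 39, one, (nat_lit 0x1003a04a0d01a827001001801401804), (nat_lit 0x1000a0660b804806001001200403805), (.wt (nat_lit 0) (nat_lit 1) (nat_lit 0x1003a04a0d01a827001001801401804) (.st (nat_lit 77) [] [] .nil) [] [])⟩)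
 (.lf ⟨nat_lit 1, nat_lit 55, nat_lit 75, (nat_lit 0x1003a04a0d01a827001001801401804), (nat_lit 0x1003a04a0d01a827001001801401804), one, (.wt (nat_lit 2) (nat_lit 0) one (.st (nat_lit 76) [] [] (.st (nat_lit 27) [] [] (.st (nat_lit 55) [] [] .nil))) [] [])⟩)))
 (.nd (nat_lit 82) (.nd (nat_lit 81) (.lf ⟨nat_lit 2, nat_lit 75, nat_lit 55, (nat_lit 0x1003a04a0d01a827001001801401804), (nat_lit 0x1003a04a0d01a827001001801401804), one, (.wt (nat_lit 0) (nat_lit 1) (nat_lit 0x1003a04a0d01a827001001801401804) (.st (nat_lit 79) [] [] .nil) [] [])⟩)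
 (.lf ⟨nat_lit 1, nat_lit 45, nat_lit 75, (nat_lit 0x1000a0660b804806001001200403805), (nat_lit 0x1000a0660b804806001001200403805), (nat_lit 0x1000a0660b804806001001200403805), (.wt (nat_lit 2) (nat_lit 1) one (.st (nat_lit 76) [] [] (.st (nat_lit 25) [] [] (.st (nat_lit 45) [] [] .nil))) [] [])⟩))
 (.nd (nat_lit 83) (.lf ⟨nat_lit 2, nat_lit 75, nat_lit 45, (nat_lit 0x1000a0660b804806001001200403805), (nat_lit 0x1000a0660b804806001001200403805), (nat_lit 0x1003a04a0d01a827001001801401804), (.wt (nat_lit 0) (nat_lit 1) (nat_lit 0x1000a0660b804806001001200403805) (.st (nat_lit 81) [] [] .nil) [] [])⟩)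
 (.lf ⟨nat_lit 2, nat_lit 29, nat_lit 83, (nat_lit 0x1000a0660b804806001001200403805), one, one, (.df [nat_lit 28])⟩))))
 (.nd (nat_lit 88) (.nd (nat_lit 86) (.nd (nat_lit 85) (.lf ⟨nat_lit 1, nat_lit 83, nat_lit 29, one, (nat_lit 0x1000a0660b804806001001200403805), one, (.wt (nat_lit 0) (nat_lit 0) (nat_lit 0x1000a0660b804806001001200403805) (.st (nat_lit 83) [] [] .nil) [] [])⟩)
 (.lf ⟨nat_lit 1, nat_lit 49, nat_lit 83, (nat_lit 0x1000a0660b804806001001200403805), one, (nat_lit 0x1000a0660b804806001001200403805), (.wt (nat_lit 1) (nat_lit 0) one (.st (nat_lit 84) [] [] (.st (nat_lit 53) [] [] .nil)) [] [])⟩))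
 (.nd (nat_lit 87) (.lf ⟨nat_lit 2, nat_lit 83, nat_lit 49, one, (nat_lit 0x1000a0660b804806001001200403805), (nat_lit 0x1003a04a0d01a827001001801401804), (.wt (nat_lit 0) (nat_lit 1) (nat_lit 0x1000a0660b804806001001200403805) (.st (nat_lit 85) [] [] .nil) [] [])⟩)
 (.lf ⟨nat_lit 1, nat_lit 35, nat_lit 83, (nat_lit 0x1003a04a0d01a827001001801401804), (nat_lit 0x1003a04a0d01a827001001801401804), (nat_lit 0x1003a04a0d01a827001001801401804), (.wt (nat_lit 2) (nat_lit 0) one (.st (nat_lit 84) [] [] (.st (nat_lit 31) [] [] (.st (nat_lit 35) [] [] .nil))) [] [])⟩)))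
 (.nd (nat_lit 90) (.nd (nat_lit 89) (.lf ⟨nat_lit 2, nat_lit 83, nat_lit 35, (nat_lit 0x1003a04a0d01a827001001801401804), (nat_lit 0x1003a04a0d01a827001001801401804), (nat_lit 0x1000a0660b804806001001200403805), (.wt (nat_lit 0) (nat_lit 1) (nat_lit 0x1003a04a0d01a827001001801401804) (.st (nat_lit 87) [] [] .nil) [] [])⟩)
 (.lf ⟨nat_lit 1, nat_lit 69, nat_lit 83, (nat_lit 0x1000a0660b804806001001200403805), (nat_lit 0x1000a0660b804806001001200403805), one, (.wt (nat_lit 2) (nat_lit 1) one (.st (nat_lit 84) [] [] (.st (nat_lit 33) [] [] (.st (nat_lit 69) [] [] .nil))) [] [])⟩))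
 (.nd (nat_lit 91) (.lf ⟨nat_lit 2, nat_lit 83, nat_lit 69, (nat_lit 0x1000a0660b804806001001200403805), (nat_lit 0x1000a0660b804806001001200403805), one, (.wt (nat_lit 0) (nat_lit 1) (nat_lit 0x1000a0660b804806001001200403805) (.st (nat_lit 89) [] [] .nil) [] [])⟩)
 (.lf ⟨nat_lit 2, nat_lit 35, nat_lit 91, (nat_lit 0x1003a04a0d01a827001001801401804), one, one, (.df [nat_lit 29])⟩))))))
 (.nd (nat_lit 107) (.nd (nat_lit 99) (.nd (nat_lit 95) (.nd (nat_lit 93) (.lf ⟨nat_lit 1, nat_lit 91, nat_lit 35, one, (nat_lit 0x1003a04a0d01a827001001801401804), one, (.wt (nat_lit 0) (nat_lit 0) (nat_lit 0x1003a04a0d01a827001001801401804) (.st (nat_lit 91) [] [] .nil) [] [])⟩)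
 (.nd (nat_lit 94) (.lf ⟨nat_lit 1, nat_lit 83, nat_lit 91, (nat_lit 0x1003a04a0d01a827001001801401804), one, (nat_lit 0x1000a0660b804806001001200403805), (.wt (nat_lit 1) (nat_lit 0) one (.st (nat_lit 92) [] [] (.st (nat_lit 87) [] [] .nil)) [] [])⟩)
 (.lf ⟨nat_lit 2, nat_lit 91, nat_lit 83, one, (nat_lit 0x1003a04a0d01a827001001801401804), (nat_lit 0x1003a04a0d01a827001001801401804), (.wt (nat_lit 0) (nat_lit 1) (nat_lit 0x1003a04a0d01a827001001801401804) (.st (nat_lit 93) [] [] .nil) [] [])⟩)))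
 (.nd (nat_lit 97) (.nd (nat_lit 96) (.lf ⟨nat_lit 1, nat_lit 61, nat_lit 91, (nat_lit 0x1000a0660b804806001001200403805), (nat_lit 0x1003a04a0d01a827001001801401804), (nat_lit 0x1003a04a0d01a827001001801401804), (.wt (nat_lit 2) (nat_lit 0) one (.st (nat_lit 92) [] [] (.st (nat_lit 37) [] [] (.st (nat_lit 67) [] [] .nil))) [] [])⟩)
 (.lf ⟨nat_lit 2, nat_lit 91, nat_lit 61, (nat_lit 0x1003a04a0d01a827001001801401804), (nat_lit 0x1000a0660b804806001001200403805), (nat_lit 0x1000a0660b804806001001200403805), (.wt (nat_lit 0) (nat_lit 1) (nat_lit 0x1000a0660b804806001001200403805) (.st (nat_lit 95) [] [] .nil) [] [])⟩))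
 (.nd (nat_lit 98) (.lf ⟨nat_lit 1, nat_lit 75, nat_lit 91, (nat_lit 0x1000a0660b804806001001200403805), (nat_lit 0x1000a0660b804806001001200403805), (nat_lit 0x1000a0660b804806001001200403805), (.wt (nat_lit 2) (nat_lit 1) one (.st (nat_lit 92) [] [] (.st (nat_lit 41) [] [] (.st (nat_lit 77) [] [] .nil))) [] [])⟩)
 (.lf ⟨nat_lit 2, nat_lit 91, nat_lit 75, (nat_lit 0x1000a0660b804806001001200403805), (nat_lit 0x1000a0660b804806001001200403805), (nat_lit 0x1003a04a0d01a827001001801401804), (.wt (nat_lit 0) (nat_lit 1) (nat_lit 0x1000a0660b804806001001200403805) (.st (nat_lit 97) [] [] .nil) [] [])⟩))))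
 (.nd (nat_lit 103) (.nd (nat_lit 101) (.nd (nat_lit 100) (.lf ⟨nat_lit 1, nat_lit 91, nat_lit 45, (nat_lit 0x1000a0660b804806001001200403805), (nat_lit 0x1000a0660b804806001001200403805), (nat_lit 0x1000a0660b804806001001200403805), (.wt (nat_lit 2) (nat_lit 3) one (.st (nat_lit 51) [] [] (.st (nat_lit 85) [] [] (.st (nat_lit 93) [] [] .nil))) [] [])⟩)
 (.lf ⟨nat_lit 2, nat_lit 45, nat_lit 91, (nat_lit 0x1000a0660b804806001001200403805), (nat_lit 0x1000a0660b804806001001200403805), (nat_lit 0x1003a04a0d01a827001001801401804), (.wt (nat_lit 0) (nat_lit 1) (nat_lit 0x1000a0660b804806001001200403805) (.st (nat_lit 99) [] [] .nil) [] [])⟩))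
 (.nd (nat_lit 102) (.lf ⟨nat_lit 1, nat_lit 39, nat_lit 101, (nat_lit 0x1000a0660b804806001001200403805), one, one, (.df [nat_lit 28])⟩)
 (.lf ⟨nat_lit 2, nat_lit 101, nat_lit 39, one, (nat_lit 0x1000a0660b804806001001200403805), one, (.wt (nat_lit 0) (nat_lit 1) (nat_lit 0x1000a0660b804806001001200403805) (.st (nat_lit 101) [] [] .nil) [] [])⟩)))
 (.nd (nat_lit 105) (.nd (nat_lit 104) (.lf ⟨nat_lit 1, nat_lit 101, nat_lit 55, one, (nat_lit 0x1000a0660b804806001001200403805), one, (.wt (nat_lit 1) (nat_lit 2) (nat_lit 0x1000a0660b804806001001200403805) (.st (nat_lit 59) [] [] (.st (nat_lit 101) [] [] .nil)) [] [])⟩)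
 (.lf ⟨nat_lit 2, nat_lit 55, nat_lit 101, (nat_lit 0x1000a0660b804806001001200403805), one, one, (.wt (nat_lit 0) (nat_lit 1) one (.st (nat_lit 103) [] [] .nil) [] [])⟩))
 (.nd (nat_lit 106) (.lf ⟨nat_lit 1, nat_lit 101, nat_lit 69, (nat_lit 0x1003a04a0d01a827001001801401804), (nat_lit 0x1003a04a0d01a827001001801401804), one, (.wt (nat_lit 2) (nat_lit 2) one (.st (nat_lit 71) [] [] (.st (nat_lit 41) [] [] (.st (nat_lit 101) [] [] .nil))) [] [])⟩)
 (.lf ⟨nat_lit 2, nat_lit 69, nat_lit 101, (nat_lit 0x1003a04a0d01a827001001801401804), (nat_lit 0x1003a04a0d01a827001001801401804), one, (.wt (nat_lit 0) (nat_lit 1) (nat_lit 0x1003a04a0d01a827001001801401804) (.st (nat_lit 105) [] [] .nil) [] [])⟩)))))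
 (.nd (nat_lit 115) (.nd (nat_lit 111) (.nd (nat_lit 109) (.nd (nat_lit 108) (.lf ⟨nat_lit 1, nat_lit 101, nat_lit 61, (nat_lit 0x1000a0660b804806001001200403805), (nat_lit 0x1000a0660b804806001001200403805), (nat_lit 0x1003a04a0d01a827001001801401804), (.wt (nat_lit 2) (nat_lit 3) one (.st (nat_lit 63) [] [] (.st (nat_lit 43) [] [] (.st (nat_lit 101) [] [] .nil))) [] [])⟩)
 (.lf ⟨nat_lit 2, nat_lit 61, nat_lit 101, (nat_lit 0x1000a0660b804806001001200403805), (nat_lit 0x1000a0660b804806001001200403805), (nat_lit 0x1000a0660b804806001001200403805), (.wt (nat_lit 0) (nat_lit 1) (nat_lit 0x1000a0660b804806001001200403805) (.st (nat_lit 107) [] [] .nil) [] [])⟩))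
 (.nd (nat_lit 110) (.lf ⟨nat_lit 1, nat_lit 49, nat_lit 101, (nat_lit 0x1003a04a0d01a827001001801401804), (nat_lit 0x1003a04a0d01a827001001801401804), one, (.wt (nat_lit 2) (nat_lit 0) one (.st (nat_lit 103) [] [] (.st (nat_lit 57) [] [] (.st (nat_lit 51) [] [] .nil))) [] [])⟩)
 (.lf ⟨nat_lit 2, nat_lit 101, nat_lit 49, (nat_lit 0x1003a04a0d01a827001001801401804), (nat_lit 0x1003a04a0d01a827001001801401804), one, (.wt (nat_lit 0) (nat_lit 1) (nat_lit 0x1003a04a0d01a827001001801401804) (.st (nat_lit 109) [] [] .nil) [] [])⟩)))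
 (.nd (nat_lit 113) (.nd (nat_lit 112) (.lf ⟨nat_lit 1, nat_lit 91, nat_lit 101, (nat_lit 0x1003a04a0d01a827001001801401804), (nat_lit 0x1000a0660b804806001001200403805), (nat_lit 0x1003a04a0d01a827001001801401804), (.wt (nat_lit 2) (nat_lit 1) one (.st (nat_lit 103) [] [] (.st (nat_lit 79) [] [] (.st (nat_lit 97) [] [] .nil))) [] [])⟩)
 (.lf ⟨nat_lit 2, nat_lit 101, nat_lit 91, (nat_lit 0x1000a0660b804806001001200403805), (nat_lit 0x1003a04a0d01a827001001801401804), (nat_lit 0x1000a0660b804806001001200403805), (.wt (nat_lit 0) (nat_lit 1) (nat_lit 0x1003a04a0d01a827001001801401804) (.st (nat_lit 111) [] [] .nil) [] [])⟩))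
 (.nd (nat_lit 114) (.lf ⟨nat_lit 2, nat_lit 55, nat_lit 113, (nat_lit 0x1003a04a0d01a827001001801401804), one, one, (.df [nat_lit 29])⟩)
 (.lf ⟨nat_lit 1, nat_lit 113, nat_lit 55, one, (nat_lit 0x1003a04a0d01a827001001801401804), one, (.wt (nat_lit 0) (nat_lit 0) (nat_lit 0x1003a04a0d01a827001001801401804) (.st (nat_lit 113) [] [] .nil) [] [])⟩))))
 (.nd (nat_lit 119) (.nd (nat_lit 117) (.nd (nat_lit 116) (.lf ⟨nat_lit 1, nat_lit 75, nat_lit 113, (nat_lit 0x1003a04a0d01a827001001801401804), one, one, (.wt (nat_lit 1) (nat_lit 0) one (.st (nat_lit 114) [] [] (.st (nat_lit 79) [] [] .nil)) [] [])⟩)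
 (.lf ⟨nat_lit 2, nat_lit 113, nat_lit 75, one, (nat_lit 0x1003a04a0d01a827001001801401804), one, (.wt (nat_lit 0) (nat_lit 1) (nat_lit 0x1003a04a0d01a827001001801401804) (.st (nat_lit 115) [] [] .nil) [] [])⟩))
 (.nd (nat_lit 118) (.lf ⟨nat_lit 0, nat_lit 113, nat_lit 113, (nat_lit 0x1003a04a0d01a827001001801401804), one, (nat_lit 0x1003a04a0d01a827001001801401804), (.we (nat_lit 2) (nat_lit 0) one (.st (nat_lit 114) [] [] (.st (nat_lit 59) [] [] (.st (nat_lit 77) [] [] (.st (nat_lit 115) [] [] .nil)))))⟩)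
 (.lf ⟨nat_lit 2, nat_lit 69, nat_lit 118, (nat_lit 0x1000a0660b804806001001200403805), one, one, (.df [nat_lit 28])⟩)))
 (.nd (nat_lit 121) (.nd (nat_lit 120) (.lf ⟨nat_lit 1, nat_lit 118, nat_lit 69, one, (nat_lit 0x1000a0660b804806001001200403805), one, (.wt (nat_lit 0) (nat_lit 0) (nat_lit 0x1000a0660b804806001001200403805) (.st (nat_lit 118) [] [] .nil) [] [])⟩)
 (.lf ⟨nat_lit 1, nat_lit 83, nat_lit 118, (nat_lit 0x1000a0660b804806001001200403805), one, one, (.wt (nat_lit 1) (nat_lit 0) one (.st (nat_lit 119) [] [] (.st (nat_lit 89) [] [] .nil)) [] [])⟩))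
 (.nd (nat_lit 122) (.lf ⟨nat_lit 2, nat_lit 118, nat_lit 83, one, (nat_lit 0x1000a0660b804806001001200403805), one, (.wt (nat_lit 0) (nat_lit 1) (nat_lit 0x1000a0660b804806001001200403805) (.st (nat_lit 120) [] [] .nil) [] [])⟩)
 (.lf ⟨nat_lit 0, nat_lit 118, nat_lit 118, (nat_lit 0x1003a04a0d01a827001001801401804), one, (nat_lit 0x1003a04a0d01a827001001801401804), (.we (nat_lit 2) (nat_lit 0) one (.st (nat_lit 119) [] [] (.st (nat_lit 71) [] [] (.st (nat_lit 87) [] [] (.st (nat_lit 120) [] [] .nil)))))⟩)))))))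

noncomputable def T1 : Tr :=
  (.nd (nat_lit 61) T1_0
 T1_61)

noncomputable def q1_1_28 : Net :=
  mkNet (nat_lit 4) (nat_lit 3) (nat_lit 72)

noncomputable def q1_1 : List Net :=
  [Net.nil, Net.nil, Net.nil, Net.nil, Net.nil, Net.nil, Net.nil, Net.nil, Net.nil, Net.nil, Net.nil, Net.nil, Net.nil, Net.nil, Net.nil, Net.nil, Net.nil, Net.nil, Net.nil, Net.nil, Net.nil, Net.nil, Net.nil, Net.nil, Net.nil, Net.nil, Net.nil, Net.nil, q1_1_28, rv q1_1_28, Net.nil, Net.nil, Net.nil, Net.nil, Net.nil, Net.nil, Net.nil, Net.nil]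

noncomputable def Qs1 : List (ℕ × ℕ × List Net) :=
  [(nat_lit 3, nat_lit 4, q1_1), (nat_lit 3, nat_lit 4, q1_1)]

noncomputable def ls1 : List Ld :=
  [⟨[], [], [[nat_lit 29]], (nat_lit 528)⟩,
  ⟨[], [], [[nat_lit 29]], (nat_lit 528)⟩]

noncomputable def lk1 : List (List ℕ) :=
  [[], []]

noncomputable def d1_0 : Nd :=
  ⟨nat_lit 1, nat_lit 3, [], [],
  [⟨[], (nat_lit 0), [(nat_lit 5, nat_lit 0, []), (nat_lit 7, nat_lit 1, [nat_lit 29]), (nat_lit 11, nat_lit 2, [nat_lit 28])]⟩,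
  ⟨[], (nat_lit 0), [(nat_lit 4, nat_lit 0, []), (nat_lit 15, nat_lit 1, [nat_lit 29]), (nat_lit 19, nat_lit 2, [nat_lit 28])]⟩]⟩

noncomputable def d1_1 : Nd :=
  ⟨nat_lit 2, nat_lit 3, [], [],
  [⟨[], (nat_lit 0), [(nat_lit 3, nat_lit 0, []), (nat_lit 23, nat_lit 1, [nat_lit 29]), (nat_lit 29, nat_lit 2, [nat_lit 28])]⟩,
  ⟨[], (nat_lit 0), [(nat_lit 6, nat_lit 0, []), (nat_lit 10, nat_lit 2, [nat_lit 28]), (nat_lit 14, nat_lit 1, [nat_lit 29])]⟩]⟩

noncomputable def d1_2 : Nd :=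
  ⟨nat_lit 7, nat_lit 3, [], [],
  [⟨[], (nat_lit 0), [(nat_lit 9, nat_lit 2, [nat_lit 28]), (nat_lit 17, nat_lit 0, []), (nat_lit 35, nat_lit 1, [nat_lit 29])]⟩,
  ⟨[], (nat_lit 0), [(nat_lit 8, nat_lit 0, []), (nat_lit 32, nat_lit 2, [nat_lit 28]), (nat_lit 39, nat_lit 1, [nat_lit 29])]⟩]⟩

noncomputable def d1_3 : Nd :=
  ⟨nat_lit 11, nat_lit 3, [], [],
  [⟨[], (nat_lit 0), [(nat_lit 13, nat_lit 1, [nat_lit 29]), (nat_lit 21, nat_lit 0, []), (nat_lit 45, nat_lit 2, [nat_lit 28])]⟩,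
  ⟨[], (nat_lit 0), [(nat_lit 12, nat_lit 0, []), (nat_lit 26, nat_lit 1, [nat_lit 29]), (nat_lit 49, nat_lit 2, [nat_lit 28])]⟩]⟩

noncomputable def d1_4 : Nd :=
  ⟨nat_lit 15, nat_lit 3, [], [],
  [⟨[], (nat_lit 0), [(nat_lit 16, nat_lit 0, []), (nat_lit 55, nat_lit 1, [nat_lit 29]), (nat_lit 61, nat_lit 2, [nat_lit 28])]⟩,
  ⟨[], (nat_lit 0), [(nat_lit 18, nat_lit 0, []), (nat_lit 28, nat_lit 2, [nat_lit 28]), (nat_lit 48, nat_lit 1, [nat_lit 29])]⟩]⟩

noncomputable def d1_5 : Nd :=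
  ⟨nat_lit 19, nat_lit 3, [], [],
  [⟨[], (nat_lit 0), [(nat_lit 20, nat_lit 0, []), (nat_lit 67, nat_lit 1, [nat_lit 29]), (nat_lit 69, nat_lit 2, [nat_lit 28])]⟩,
  ⟨[], (nat_lit 0), [(nat_lit 22, nat_lit 0, []), (nat_lit 34, nat_lit 1, [nat_lit 29]), (nat_lit 38, nat_lit 2, [nat_lit 28])]⟩]⟩

noncomputable def d1_6 : Nd :=
  ⟨nat_lit 23, nat_lit 3, [], [],
  [⟨[], (nat_lit 0), [(nat_lit 25, nat_lit 0, []), (nat_lit 27, nat_lit 2, [nat_lit 28]), (nat_lit 43, nat_lit 1, [nat_lit 29])]⟩,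
  ⟨[], (nat_lit 0), [(nat_lit 24, nat_lit 0, []), (nat_lit 64, nat_lit 2, [nat_lit 28]), (nat_lit 75, nat_lit 1, [nat_lit 29])]⟩]⟩

noncomputable def d1_7 : Nd :=
  ⟨nat_lit 29, nat_lit 3, [], [],
  [⟨[], (nat_lit 0), [(nat_lit 31, nat_lit 0, []), (nat_lit 33, nat_lit 1, [nat_lit 29]), (nat_lit 53, nat_lit 2, [nat_lit 28])]⟩,
  ⟨[], (nat_lit 0), [(nat_lit 30, nat_lit 0, []), (nat_lit 66, nat_lit 1, [nat_lit 29]), (nat_lit 83, nat_lit 2, [nat_lit 28])]⟩]⟩

noncomputable def d1_8 : Nd :=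
  ⟨nat_lit 35, nat_lit 3, [], [],
  [⟨[], (nat_lit 0), [(nat_lit 37, nat_lit 2, [nat_lit 28]), (nat_lit 41, nat_lit 0, []), (nat_lit 87, nat_lit 1, [nat_lit 29])]⟩,
  ⟨[], (nat_lit 0), [(nat_lit 36, nat_lit 0, []), (nat_lit 72, nat_lit 2, [nat_lit 28]), (nat_lit 91, nat_lit 1, [nat_lit 29])]⟩]⟩

noncomputable def d1_9 : Nd :=
  ⟨nat_lit 39, nat_lit 3, [], [],
  [⟨[], (nat_lit 0), [(nat_lit 40, nat_lit 0, []), (nat_lit 77, nat_lit 1, [nat_lit 29]), (nat_lit 101, nat_lit 2, [nat_lit 28])]⟩,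
  ⟨[], (nat_lit 0), [(nat_lit 42, nat_lit 0, []), (nat_lit 44, nat_lit 1, [nat_lit 29]), (nat_lit 60, nat_lit 2, [nat_lit 28])]⟩]⟩

noncomputable def d1_10 : Nd :=
  ⟨nat_lit 45, nat_lit 3, [], [],
  [⟨[], (nat_lit 0), [(nat_lit 47, nat_lit 1, [nat_lit 29]), (nat_lit 51, nat_lit 0, []), (nat_lit 81, nat_lit 2, [nat_lit 28])]⟩,
  ⟨[], (nat_lit 0), [(nat_lit 46, nat_lit 0, []), (nat_lit 58, nat_lit 1, [nat_lit 29]), (nat_lit 100, nat_lit 2, [nat_lit 28])]⟩]⟩

noncomputable def d1_11 : Nd :=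
  ⟨nat_lit 49, nat_lit 3, [], [],
  [⟨[], (nat_lit 0), [(nat_lit 50, nat_lit 0, []), (nat_lit 85, nat_lit 2, [nat_lit 28]), (nat_lit 109, nat_lit 1, [nat_lit 29])]⟩,
  ⟨[], (nat_lit 0), [(nat_lit 52, nat_lit 0, []), (nat_lit 54, nat_lit 2, [nat_lit 28]), (nat_lit 74, nat_lit 1, [nat_lit 29])]⟩]⟩

noncomputable def d1_12 : Nd :=
  ⟨nat_lit 55, nat_lit 3, [], [],
  [⟨[], (nat_lit 0), [(nat_lit 57, nat_lit 0, []), (nat_lit 59, nat_lit 2, [nat_lit 28]), (nat_lit 79, nat_lit 1, [nat_lit 29])]⟩,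
  ⟨[], (nat_lit 0), [(nat_lit 56, nat_lit 0, []), (nat_lit 104, nat_lit 2, [nat_lit 28]), (nat_lit 113, nat_lit 1, [nat_lit 29])]⟩]⟩

noncomputable def d1_13 : Nd :=
  ⟨nat_lit 61, nat_lit 3, [], [],
  [⟨[], (nat_lit 0), [(nat_lit 63, nat_lit 0, []), (nat_lit 65, nat_lit 1, [nat_lit 29]), (nat_lit 95, nat_lit 2, [nat_lit 28])]⟩,
  ⟨[], (nat_lit 0), [(nat_lit 62, nat_lit 0, []), (nat_lit 68, nat_lit 1, [nat_lit 29]), (nat_lit 108, nat_lit 2, [nat_lit 28])]⟩]⟩

noncomputable def d1_14 : Nd :=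
  ⟨nat_lit 69, nat_lit 3, [], [],
  [⟨[], (nat_lit 0), [(nat_lit 71, nat_lit 0, []), (nat_lit 73, nat_lit 1, [nat_lit 29]), (nat_lit 89, nat_lit 2, [nat_lit 28])]⟩,
  ⟨[], (nat_lit 0), [(nat_lit 70, nat_lit 0, []), (nat_lit 106, nat_lit 1, [nat_lit 29]), (nat_lit 118, nat_lit 2, [nat_lit 28])]⟩]⟩

noncomputable def d1_15 : Nd :=
  ⟨nat_lit 75, nat_lit 3, [], [],
  [⟨[], (nat_lit 0), [(nat_lit 76, nat_lit 0, []), (nat_lit 97, nat_lit 2, [nat_lit 28]), (nat_lit 115, nat_lit 1, [nat_lit 29])]⟩,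
  ⟨[], (nat_lit 0), [(nat_lit 78, nat_lit 0, []), (nat_lit 80, nat_lit 1, [nat_lit 29]), (nat_lit 82, nat_lit 2, [nat_lit 28])]⟩]⟩

noncomputable def d1_16 : Nd :=
  ⟨nat_lit 83, nat_lit 3, [], [],
  [⟨[], (nat_lit 0), [(nat_lit 84, nat_lit 0, []), (nat_lit 93, nat_lit 1, [nat_lit 29]), (nat_lit 120, nat_lit 2, [nat_lit 28])]⟩,
  ⟨[], (nat_lit 0), [(nat_lit 86, nat_lit 0, []), (nat_lit 88, nat_lit 1, [nat_lit 29]), (nat_lit 90, nat_lit 2, [nat_lit 28])]⟩]⟩

noncomputable def d1_17 : Nd :=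
  ⟨nat_lit 91, nat_lit 3, [], [],
  [⟨[], (nat_lit 0), [(nat_lit 92, nat_lit 0, []), (nat_lit 99, nat_lit 2, [nat_lit 28]), (nat_lit 111, nat_lit 1, [nat_lit 29])]⟩,
  ⟨[], (nat_lit 0), [(nat_lit 94, nat_lit 0, []), (nat_lit 96, nat_lit 1, [nat_lit 29]), (nat_lit 98, nat_lit 2, [nat_lit 28])]⟩]⟩

noncomputable def d1_18 : Nd :=
  ⟨nat_lit 101, nat_lit 3, [], [],
  [⟨[], (nat_lit 0), [(nat_lit 103, nat_lit 0, []), (nat_lit 105, nat_lit 1, [nat_lit 29]), (nat_lit 107, nat_lit 2, [nat_lit 28])]⟩,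
  ⟨[], (nat_lit 0), [(nat_lit 102, nat_lit 0, []), (nat_lit 110, nat_lit 1, [nat_lit 29]), (nat_lit 112, nat_lit 2, [nat_lit 28])]⟩]⟩

noncomputable def d1_19 : Nd :=
  ⟨nat_lit 113, nat_lit 1, [(nat_lit 117, [nat_lit 29])], [⟨nat_lit 0, [nat_lit 0], (nat_lit 528), nat_lit 3⟩],
  [⟨[nat_lit 0], (nat_lit 528), [(nat_lit 114, nat_lit 0, [])]⟩,
  ⟨[nat_lit 0], (nat_lit 528), [(nat_lit 116, nat_lit 0, [])]⟩]⟩

noncomputable def d1_20 : Nd :=
  ⟨nat_lit 118, nat_lit 1, [(nat_lit 122, [nat_lit 29])], [⟨nat_lit 0, [nat_lit 0], (nat_lit 528), nat_lit 3⟩],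
  [⟨[nat_lit 0], (nat_lit 528), [(nat_lit 119, nat_lit 0, [])]⟩,
  ⟨[nat_lit 0], (nat_lit 528), [(nat_lit 121, nat_lit 0, [])]⟩]⟩

noncomputable def ds1 : List Nd :=
  [d1_0, d1_1, d1_2, d1_3, d1_4, d1_5, d1_6, d1_7, d1_8, d1_9, d1_10, d1_11, d1_12, d1_13, d1_14, d1_15, d1_16, d1_17, d1_18, d1_19, d1_20]

noncomputable def ks1 : List ℕ :=
  (unp (nat_lit 7) (nat_lit 0x76e396dd39715eb762b53a33a5c98f161c10115))

def kc1 : List (ℕ × ℕ) := [(0, 1), (1, 3), (2, 3), (7, 3), (11, 3), (15, 3), (19, 3), (23, 3), (29, 3), (35, 3), (39, 3), (45, 3), (49, 3), (55, 3), (61, 3), (69, 3), (75, 3), (83, 3), (91, 3), (101, 3), (113, 1), (118, 1)]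

theorem Rn2 : Nat.beq R2.length 5 = true := by decide +kernel

theorem Nn2 : Nat.beq N2.length 3 = true := by decide +kernel

theorem A1_p : actP 4 3 n1 38 = true := by decide +kernel

theorem A1_l_0 : rng (actL 4 3 n1 dom1 (2 * 19) us1) (nat_lit 0) (nat_lit 38) = true := by decide +kernel

theorem A1_r_0 : rng (fun i => relN 4 3 n1 (2 * 19) (nthD ([], nat_lit 0) R1 i)) (nat_lit 0) (nat_lit 2) = true := by decide +kernel

theorem hr1 : relsOk mul one lc1 dom1 nodes1 2 (2 * 19) R2 sb1 0 rs1 = true := by decide +kernel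

theorem hc1_0 : rng (chk mul one wf T1 lc1 (mapR (fun e => e.2.2) rs1) 2) (nat_lit 0) (nat_lit 123) = true := by decide +kernel

theorem AQ1_1_p : actP 4 3 q1_1 38 = true := by decide +kernel

theorem AQ1_1_l_0 : rng (actL 4 3 q1_1 dom1 (2 * 19) us1) (nat_lit 0) (nat_lit 38) = true := by decide +kernel

theorem AQ1_1_r_0 : rng (fun i => relN 4 3 q1_1 (2 * 19) (nthD ([], nat_lit 0) R1 i)) (nat_lit 0) (nat_lit 2) = true := by decide +kernel

theorem la1 : ldA mul one T1 123 lc1 3 4 n1 ls1 2 = true := by decide +kernel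

theorem lb1 : ldB 3 Qs1 ls1 2 = true := by decide +kernel

theorem na1_0 : rng (fun i => ndA mul one T1 123 lc1 3 4 n1 3 (nthD ⟨nat_lit 0, nat_lit 0, [], [], []⟩ ds1 i)) (nat_lit 0) (nat_lit 21) = true := by decide +kernel

theorem nb1_0 : rng (fun i => ndB mul one T1 123 lc1 ks1 Qs1 2 (nthD ⟨nat_lit 0, nat_lit 0, [], [], []⟩ ds1 i)) (nat_lit 0) (nat_lit 21) = true := by decide +kernel

theorem dn1 : Nat.beq ds1.length 21 = true := by decide +kernel

theorem hk1 : ks1 = ds1.map Nd.k := by decide +kernel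

theorem hkc1 : kc1 = (0, 1) :: ds1.map fun d => (d.k, d.c) := by decide +kernel

theorem lo1 : linkOk mul one T1 123 ks1 lk1 2 = true := by decide +kernel

theorem do1 : domOk dom1 [14, 18] nodes1 2 R2 sb1 0 = true := by decide +kernel

theorem A1_l : ∀ i < 38, (actL 4 3 n1 dom1 (2 * 19) us1) i = true :=
  (rng_add rng_zero A1_l_0)

theorem A1_r : ∀ i < 2, (fun i => relN 4 3 n1 (2 * 19) (nthD ([], nat_lit 0) R1 i)) i = true :=
  (rng_add rng_zero A1_r_0)

theorem hc1 : ∀ i < 123, (chk mul one wf T1 lc1 (mapR (fun e => e.2.2) rs1) 2) i = true :=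
  (rng_add rng_zero hc1_0)

theorem AQ1_1_l : ∀ i < 38, (actL 4 3 q1_1 dom1 (2 * 19) us1) i = true :=
  (rng_add rng_zero AQ1_1_l_0)

theorem AQ1_1_r : ∀ i < 2, (fun i => relN 4 3 q1_1 (2 * 19) (nthD ([], nat_lit 0) R1 i)) i = true :=
  (rng_add rng_zero AQ1_1_r_0)

theorem na1 : ∀ i < 21, (fun i => ndA mul one T1 123 lc1 3 4 n1 3 (nthD ⟨nat_lit 0, nat_lit 0, [], [], []⟩ ds1 i)) i = true :=
  (rng_add rng_zero na1_0)

theorem nb1 : ∀ i < 21, (fun i => ndB mul one T1 123 lc1 ks1 Qs1 2 (nthD ⟨nat_lit 0, nat_lit 0, [], [], []⟩ ds1 i)) i = true :=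
  (rng_add rng_zero nb1_0)

section
universe u v
variable {R : Type v} {ι : Type} [CommRing R] [Fintype ι] [DecidableEq ι] (V : VCod R ι 11 11 app wfT) (h2 : V.mat one = 1)

theorem A1 : Act.{0} (((S V h2).sub (mdl (g V h2) dom1)).gen lc1) 3 4 n1 :=
  act_of_up (L1 V h2) (U1 V h2) A1_p A1_l (by decide) (allR Rn1 A1_r)

theorem AQ1_1 : Act.{0} (((S V h2).sub (mdl (g V h2) dom1)).gen lc1) 3 4 q1_1 :=
  act_of_up (L1 V h2) (U1 V h2) AQ1_1_p AQ1_1_l (by decide) (allR Rn1 AQ1_1_r)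

theorem C1 : Cert.{u} ((S V h2).sub (mdl (g V h2) dom1)) T1 123 (mgen (g V h2) dom1) dom1 [14, 18] nodes1 2 (R1 ++ N2) kc1 :=
  have := fin1 V h2
  cert_of (L1 V h2) (card1 V h2).le (A1 V h2) (Qs := Qs1) (List.forall_mem_cons.2 ⟨AQ1_1 V h2, List.forall_mem_cons.2 ⟨AQ1_1 V h2, List.forall_mem_nil _⟩⟩) hr1 hc1 la1 lb1 hk1 (allR dn1 na1) (allR dn1 nb1) lo1 do1 hkc1

end

def dom2 : List ℕ := [14, 18]

noncomputable def us2 : List (List ℕ) :=
  [(unp (nat_lit 6) (nat_lit 0x91d91c04)), (unp (nat_lit 6) (nat_lit 0x1c91d03)), (unp (nat_lit 6) (nat_lit 0x279e69a69e79e609)), (unp (nat_lit 6) (nat_lit 0x9a69a79a79e608))]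

noncomputable def lc2 : List ℕ :=
  [one,
  one,
  one,
  one,
  one,
  one,
  one,
  one,
  one,
  one,
  one,
  one,
  one,
  one,
  one,
  one,
  one,
  one,
  one,
  one,
  one,
  one,
  one,
  one,
  one,
  one,
  one,
  one,
  nthD one bc (nat_lit 28),
  nthD one bc (nat_lit 29),
  one,
  one,
  one,
  one,
  one,
  one,
  nthD one bc (nat_lit 36),
  nthD one bc (nat_lit 37),
  (nat_lit 0xa01003e0c001035000901003801018),
  (nat_lit 0xb0010380a00c037000800c0280d00f),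
  (nat_lit 0x1883706a0280e81000060200700a019),
  (nat_lit 0x1203f01801003005000c00c0580f00f)]

noncomputable def v2_0 : VL :=
  ⟨(nat_lit 205), [[nat_lit 28], [nat_lit 36]], nat_lit 2, [(nat_lit 0x1616000086600596001a59600000698080166160025960001808616096020202858585800098065a580002098580096580006029825808082616600026096965ff), (nat_lit 0x269808082166160200a59600002980826160960202028585d)], nat_lit 8, nat_lit 180⟩

noncomputable def vl2 : List VL :=
  [v2_0]

theorem lco2 : lcOk mul one bc lc2 dom2 (2 * 19) us2 42 = true := by decide +kernel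

theorem rc2_0 : rng (fun i => relC mul one bc (2 * 19) (nthD ([], nat_lit 0) N2 i)) (nat_lit 0) (nat_lit 3) = true := by decide +kernel

theorem sm1 : Nat.beq ((kc1.map Prod.snd).sum * 3) 180 = true := by decide +kernel

theorem vc2 : vchainOk (app 11 1) (wfT 11 1) mul one lc2 [] vl2 = true := by decide +kernel

theorem vf2 : band (allL (fun i => memL i dom2) dom0) (VCod.fixD (app 11 1) (wfT 11 1) one bc dom0 vl2) = true := by decide +kernel

theorem vp2 : (vl2.map VL.d).prod * 1 = 180 := by decide +kernel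

theorem rd2 : allL (fun r => allL (fun l => memL (Nat.shiftRight l (nat_lit 1)) dom2) r.1) (R1 ++ N2) = true := by decide +kernel

theorem rc2 : ∀ i < 3, (fun i => relC mul one bc (2 * 19) (nthD ([], nat_lit 0) N2 i)) i = true :=
  (rng_add rng_zero rc2_0)

section
universe u v
variable {R : Type v} {ι : Type} [CommRing R] [Fintype ι] [DecidableEq ι] (V : VCod R ι 11 11 app wfT) (h2 : V.mat one = 1)

theorem L2 : Lc ((S V h2).sub (mdl (g V h2) dom2)) (mgen (g V h2) dom2) lc2 dom2 (2 * 19) us2 42 :=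
  lc_of (S V h2) (h0 V h2) bco lco2

theorem rel2 : Rels R2 (g V h2) := (rel1 V h2).append ((S V h2).rels (h0 V h2) bco (allR Nn2 rc2))

theorem le2 : Finite (mdl (g V h2) dom2) ∧ Nat.card (mdl (g V h2) dom2) ≤ 180 :=
  have := fin1 V h2
  step_le (C1 V h2) (U1 V h2) (rel2 V h2) (card1 V h2) sm1

theorem fin2 : Finite (mdl (g V h2) dom2) := (le2 V h2).1

theorem card2 : Nat.card (mdl (g V h2) dom2) = 180 := by
  have : Finite (mdl ((V.sem h1 h2).bg bc) dom2) := fin2 V h2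
  have h := V.le_card_mdl h1 h2 (h0 V h2) (L2 V h2).ok vc2 vf2
  exact le_antisymm (le2 V h2).2 (le_trans (vp2.symm.trans (congrArg (HMul.hMul (vl2.map VL.d).prod) (card0 V h2).symm)).le h)

theorem U2 : UP.{0} (mgen (g V h2) dom2) dom2 R2 :=
  have := fin1 V h2
  step_up (C1 V h2) (U1 V h2) (rel2 V h2) (card1 V h2) sm1 (card2 V h2) rd2

end

noncomputable def N3 : List (List ℕ × ℕ) :=
  [([nat_lit 22, nat_lit 23], nat_lit 1),
  ([nat_lit 22], nat_lit 3),
  ((unp (nat_lit 6) (nat_lit 0x5dc91d59d06)), nat_lit 1),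
  ((unp (nat_lit 6) (nat_lit 0x72459c91771608)), nat_lit 1),
  ((unp (nat_lit 6) (nat_lit 0x91671704)), nat_lit 2)]

noncomputable def R3 : List (List ℕ × ℕ) :=
  R2 ++ N3

noncomputable def n2_28 : Net :=
  mkNet (nat_lit 5) (nat_lit 8) (nat_lit 0x400041205)

noncomputable def n2_36 : Net :=
  mkNet (nat_lit 5) (nat_lit 8) (nat_lit 0x82000)

noncomputable def n2_38 : Net :=
  mkNet (nat_lit 5) (nat_lit 8) (nat_lit 0x80010)

noncomputable def n2_39 : Net :=
  mkNet (nat_lit 5) (nat_lit 8) (nat_lit 0x4000002000)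

noncomputable def n2_40 : Net :=
  mkNet (nat_lit 5) (nat_lit 8) (nat_lit 0x2040)

noncomputable def n2_41 : Net :=
  mkNet (nat_lit 5) (nat_lit 8) (nat_lit 0x3050)

noncomputable def n2 : List Net :=
  [Net.nil, Net.nil, Net.nil, Net.nil, Net.nil, Net.nil, Net.nil, Net.nil, Net.nil, Net.nil, Net.nil, Net.nil, Net.nil, Net.nil, Net.nil, Net.nil, Net.nil, Net.nil, Net.nil, Net.nil, Net.nil, Net.nil, Net.nil, Net.nil, Net.nil, Net.nil, Net.nil, Net.nil, n2_28, rv n2_28, Net.nil, Net.nil, Net.nil, Net.nil, Net.nil, Net.nil, n2_36, rv n2_36, n2_38, n2_39, n2_40, n2_41]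

def nodes2 : List ℕ := [22, 23]

def sb2 : List (ℕ × ℕ × ℕ) := []

noncomputable def rs2 : List (ℕ × ℕ × List (ℕ × ℕ)) :=
  [(nat_lit 5, nat_lit 0, [(nat_lit 2, (nat_lit 0x1001001001001001001001001001001)), (nat_lit 1, (nat_lit 0x1001001001001001001001001001001))]),
  (nat_lit 6, nat_lit 0, [(nat_lit 1, (nat_lit 0x1001001001001001001001001001001)), (nat_lit 1, (nat_lit 0x1001001001001001001001001001001)), (nat_lit 1, (nat_lit 0x1001001001001001001001001001001))]),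
  (nat_lit 7, nat_lit 0, [(nat_lit 2, (nat_lit 0xb0010380a00c037000800c0280d00f)), (nat_lit 1, (nat_lit 0x1003a04a0d01a827001001801401804))]),
  (nat_lit 8, nat_lit 6, [(nat_lit 1, (nat_lit 0x1680602e04c1c80b000900c0380f00a)), (nat_lit 2, (nat_lit 0x1000a0660b804806001001200403805)), (nat_lit 1, (nat_lit 0x1680602e04c1c80b000900c0380f00a))]),
  (nat_lit 9, nat_lit 7, [(nat_lit 1, (nat_lit 0x1000a0660b804806001001200403805)), (nat_lit 2, (nat_lit 0x1680506a0e01980c00090100100a00e)), (nat_lit 1, (nat_lit 0x1000a0660b804806001001200403805)), (nat_lit 2, (nat_lit 0x1680506a0e01980c00090100100a00e))])]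

noncomputable def T2_0 : Tr :=
  (.nd (nat_lit 31) (.nd (nat_lit 15) (.nd (nat_lit 7) (.nd (nat_lit 3) (.nd (nat_lit 1) (.lf ⟨nat_lit 0, nat_lit 0, nat_lit 0, one, one, one, .triv⟩)
 (.nd (nat_lit 2) (.lf ⟨nat_lit 0, nat_lit 0, nat_lit 0, one, one, one, .triv⟩)
 (.lf ⟨nat_lit 0, nat_lit 0, nat_lit 0, one, one, one, .triv⟩)))
 (.nd (nat_lit 5) (.nd (nat_lit 4) (.lf ⟨nat_lit 1, nat_lit 2, nat_lit 0, (nat_lit 0xb0010380a00c037000800c0280d00f), (nat_lit 0x1000a0660b804806001001200403805), one, (.wt (nat_lit 2) (nat_lit 0) one (.sp .nil) [] [])⟩)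
 (.lf ⟨nat_lit 0, nat_lit 2, nat_lit 2, (nat_lit 0xb0010380a00c037000800c0280d00f), one, (nat_lit 0x1000a0660b804806001001200403805), (.we (nat_lit 0) (nat_lit 1) (nat_lit 0xb0010380a00c037000800c0280d00f) (.st (nat_lit 3) [] [] (.sp .nil)))⟩))
 (.nd (nat_lit 6) (.lf ⟨nat_lit 0, nat_lit 2, nat_lit 2, (nat_lit 0x1883706a0280e81000060200700a019), one, (nat_lit 0x1003a04a0d01a827001001801401804), (.prod [nat_lit 4, nat_lit 4])⟩)
 (.lf ⟨nat_lit 0, nat_lit 2, nat_lit 2, (nat_lit 0x1883706a0280e81000060200700a019), one, (nat_lit 0x1003a04a0d01a827001001801401804), (.prod [nat_lit 4, nat_lit 4])⟩))))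
 (.nd (nat_lit 11) (.nd (nat_lit 9) (.nd (nat_lit 8) (.lf ⟨nat_lit 2, nat_lit 1, nat_lit 0, (nat_lit 0x1003a04a0d01a827001001801401804), (nat_lit 0x1883706a0280e81000060200700a019), one, (.wt (nat_lit 2) (nat_lit 1) one (.sp .nil) [] [])⟩)
 (.lf ⟨nat_lit 0, nat_lit 1, nat_lit 1, (nat_lit 0x1003a04a0d01a827001001801401804), one, (nat_lit 0x1883706a0280e81000060200700a019), (.we (nat_lit 0) (nat_lit 0) (nat_lit 0x1003a04a0d01a827001001801401804) (.st (nat_lit 7) [] [] (.sp .nil)))⟩))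
 (.nd (nat_lit 10) (.lf ⟨nat_lit 0, nat_lit 1, nat_lit 1, (nat_lit 0x1000a0660b804806001001200403805), one, (nat_lit 0xb0010380a00c037000800c0280d00f), (.prod [nat_lit 8, nat_lit 8])⟩)
 (.lf ⟨nat_lit 0, nat_lit 1, nat_lit 1, (nat_lit 0x1000a0660b804806001001200403805), one, (nat_lit 0xb0010380a00c037000800c0280d00f), (.prod [nat_lit 8, nat_lit 8])⟩)))
 (.nd (nat_lit 13) (.nd (nat_lit 12) (.lf ⟨nat_lit 1, nat_lit 2, nat_lit 0, one, one, one, (.wt (nat_lit 0) (nat_lit 0) one (.sp .nil) [] [])⟩)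
 (.lf ⟨nat_lit 2, nat_lit 1, nat_lit 0, one, one, one, (.wt (nat_lit 0) (nat_lit 1) one (.sp .nil) [] [])⟩))
 (.nd (nat_lit 14) (.lf ⟨nat_lit 1, nat_lit 1, nat_lit 2, one, (nat_lit 0x1883706a0280e81000060200700a019), (nat_lit 0x1000a0660b804806001001200403805), (.wt (nat_lit 1) (nat_lit 0) (nat_lit 0x1883706a0280e81000060200700a019) (.st (nat_lit 11) [nat_lit 8] [] (.sp .nil)) [] [])⟩)
 (.lf ⟨nat_lit 2, nat_lit 2, nat_lit 1, (nat_lit 0x1883706a0280e81000060200700a019), one, (nat_lit 0x1003a04a0d01a827001001801401804), (.wt (nat_lit 0) (nat_lit 1) one (.st (nat_lit 13) [] [] .nil) [] [])⟩)))))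
 (.nd (nat_lit 23) (.nd (nat_lit 19) (.nd (nat_lit 17) (.nd (nat_lit 16) (.lf ⟨nat_lit 1, nat_lit 2, nat_lit 2, (nat_lit 0x1000a0660b804806001001200403805), (nat_lit 0x1f03601206802839000c01000403818), (nat_lit 0x1e80402e0441581b000601200406819), (.wt (nat_lit 3) (nat_lit 0) (nat_lit 0xb0010380a00c037000800c0280d00f) (.st (nat_lit 11) [nat_lit 9] [] (.sp .nil)) [] [])⟩)
 (.lf ⟨nat_lit 2, nat_lit 2, nat_lit 2, (nat_lit 0x1f00d06a0c01401f000801201401819), (nat_lit 0xb0040700e815830000801203c0f805), (nat_lit 0x1682e0320400e02a00090180280d004), (.wt (nat_lit 0) (nat_lit 1) (nat_lit 0x1000a0660b804806001001200403805) (.st (nat_lit 15) [] [] .nil) [nat_lit 5] [])⟩))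
 (.nd (nat_lit 18) (.lf ⟨nat_lit 2, nat_lit 1, nat_lit 2, (nat_lit 0xb0010380a00c037000800c0280d00f), (nat_lit 0x1f03601206802839000c01000403818), (nat_lit 0x1e80402e0441581b000601200406819), (.wt (nat_lit 3) (nat_lit 2) (nat_lit 0xb0010380a00c037000800c0280d00f) (.st (nat_lit 11) [nat_lit 9] [] (.sp .nil)) [nat_lit 4] [])⟩)
 (.lf ⟨nat_lit 1, nat_lit 2, nat_lit 1, (nat_lit 0x1d8270560140f83c000c00c03c0f80e), (nat_lit 0x1680602e04c1c80b000900c0380f00a), (nat_lit 0x1682e0320400e02a00090180280d004), (.wt (nat_lit 0) (nat_lit 0) (nat_lit 0xb0010380a00c037000800c0280d00f) (.st (nat_lit 17) [] [] .nil) [nat_lit 8] [])⟩)))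
 (.nd (nat_lit 21) (.nd (nat_lit 20) (.lf ⟨nat_lit 1, nat_lit 1, nat_lit 1, (nat_lit 0x1680602e04c1c80b000900c0380f00a), (nat_lit 0x1882e0560300e03600060180140681c), (nat_lit 0x1003a04a0d01a827001001801401804), (.wt (nat_lit 3) (nat_lit 1) one (.st (nat_lit 12) [] [] (.sp .nil)) [] [])⟩)
 (.lf ⟨nat_lit 2, nat_lit 1, nat_lit 1, (nat_lit 0x160340380740b80d000601001006818), (nat_lit 0xa83000c0b81e03300090200580f01c), (nat_lit 0x1000a0660b804806001001200403805), (.wt (nat_lit 0) (nat_lit 1) (nat_lit 0x1680602e04c1c80b000900c0380f00a) (.st (nat_lit 19) [] [] .nil) [nat_lit 5] [])⟩))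
 (.nd (nat_lit 22) (.lf ⟨nat_lit 1, nat_lit 1, nat_lit 2, (nat_lit 0x1102a04e0d01b825000c0200580f818), (nat_lit 0x1200f03a0641d00200090180700a00a), (nat_lit 0x1101003401801003000c0100600880e), (.wt (nat_lit 3) (nat_lit 1) (nat_lit 0x1f03601206802839000c01000403818) (.st (nat_lit 16) [nat_lit 5] [] (.st (nat_lit 18) [] [nat_lit 6] .nil)) [] [])⟩)
 (.lf ⟨nat_lit 2, nat_lit 2, nat_lit 1, (nat_lit 0xa0030180e00503500080120640a80f), (nat_lit 0x1601906c0300082b000c00c03803816), (nat_lit 0x1101003401801003000c0100600880e), (.wt (nat_lit 0) (nat_lit 1) (nat_lit 0x1102a04e0d01b825000c0200580f818) (.st (nat_lit 21) [] [] .nil) [nat_lit 4] [])⟩))))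
 (.nd (nat_lit 27) (.nd (nat_lit 25) (.nd (nat_lit 24) (.lf ⟨nat_lit 1, nat_lit 1, nat_lit 23, (nat_lit 0x160340380740b80d000601001006818), one, one, (.df [nat_lit 37])⟩)
 (.lf ⟨nat_lit 2, nat_lit 23, nat_lit 1, one, (nat_lit 0x160340380740b80d000601001006818), one, (.wt (nat_lit 0) (nat_lit 1) (nat_lit 0x160340380740b80d000601001006818) (.st (nat_lit 23) [] [] .nil) [] [])⟩))
 (.nd (nat_lit 26) (.lf ⟨nat_lit 1, nat_lit 23, nat_lit 1, one, (nat_lit 0xa83000c0b81e03300090200580f01c), (nat_lit 0x1000a0660b804806001001200403805), (.wt (nat_lit 1) (nat_lit 2) (nat_lit 0xa83000c0b81e03300090200580f01c) (.st (nat_lit 19) [nat_lit 9] [] (.st (nat_lit 23) [] [] .nil)) [] [])⟩)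
 (.lf ⟨nat_lit 2, nat_lit 1, nat_lit 23, (nat_lit 0x1102a04e0d01b825000c0200580f818), (nat_lit 0xb0010380a00c037000800c0280d00f), (nat_lit 0x1003a04a0d01a827001001801401804), (.wt (nat_lit 0) (nat_lit 1) one (.st (nat_lit 25) [] [] .nil) [nat_lit 5] [])⟩)))
 (.nd (nat_lit 29) (.nd (nat_lit 28) (.lf ⟨nat_lit 2, nat_lit 23, nat_lit 2, (nat_lit 0x1680506a0e01980c00090100100a00e), (nat_lit 0xa01d0660e41503200090200600a016), (nat_lit 0x1e80402e0441581b000601200406819), (.wt (nat_lit 3) (nat_lit 2) (nat_lit 0x1201104a07c0d023000c02006408816) (.st (nat_lit 18) [nat_lit 9] [] (.st (nat_lit 23) [nat_lit 8] [] .nil)) [] [])⟩)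
 (.lf ⟨nat_lit 1, nat_lit 2, nat_lit 23, (nat_lit 0xa01d0660e41503200090200600a016), (nat_lit 0x1680506a0e01980c00090100100a00e), (nat_lit 0x1682e0320400e02a00090180280d004), (.wt (nat_lit 0) (nat_lit 0) (nat_lit 0x1680506a0e01980c00090100100a00e) (.st (nat_lit 27) [] [] .nil) [] [])⟩))
 (.nd (nat_lit 30) (.lf ⟨nat_lit 2, nat_lit 23, nat_lit 2, (nat_lit 0xb0010380a00c037000800c0280d00f), (nat_lit 0x1200f03a0641d00200090180700a00a), (nat_lit 0x110180660f00c804000c00c03803816), (.wt (nat_lit 3) (nat_lit 2) (nat_lit 0x1f03601206802839000c01000403818) (.st (nat_lit 18) [nat_lit 8] [] (.st (nat_lit 23) [] [nat_lit 10] .nil)) [nat_lit 4] [])⟩)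
 (.lf ⟨nat_lit 1, nat_lit 2, nat_lit 23, (nat_lit 0x1f01b0040a80981800090180100101c), (nat_lit 0x1680602e04c1c80b000900c0380f00a), (nat_lit 0xa83a0540041a81200090180700a00a), (.wt (nat_lit 0) (nat_lit 0) (nat_lit 0xb0010380a00c037000800c0280d00f) (.st (nat_lit 29) [] [] .nil) [nat_lit 8] [])⟩))))))
 (.nd (nat_lit 47) (.nd (nat_lit 39) (.nd (nat_lit 35) (.nd (nat_lit 33) (.nd (nat_lit 32) (.lf ⟨nat_lit 1, nat_lit 23, nat_lit 2, (nat_lit 0x1680602e04c1c80b000900c0380f00a), (nat_lit 0x703803a0b813828000800c0580f80a), (nat_lit 0x1600b0040e80880a00060200600881c), (.wt (nat_lit 3) (nat_lit 1) (nat_lit 0x1e83c0120400603a00060200640a818) (.st (nat_lit 14) [nat_lit 5] [] (.st (nat_lit 23) [] [nat_lit 10] .nil)) [] [])⟩)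
 (.lf ⟨nat_lit 2, nat_lit 2, nat_lit 23, (nat_lit 0x1203f01801003005000c00c0580f00f), (nat_lit 0xf0170600e81183800090100600f004), (nat_lit 0xb0130120fc0401100080180140a80a), (.wt (nat_lit 0) (nat_lit 1) (nat_lit 0x1680602e04c1c80b000900c0380f00a) (.st (nat_lit 31) [] [] .nil) [nat_lit 4] [])⟩))
 (.nd (nat_lit 34) (.lf ⟨nat_lit 1, nat_lit 1, nat_lit 23, (nat_lit 0x1d8270560140f83c000c00c03c0f80e), (nat_lit 0x1483904a0dc1f82e000800c03c01816), (nat_lit 0x1d8280040641281d000c0120040880f), (.wt (nat_lit 3) (nat_lit 0) (nat_lit 0x1883706a0280e81000060200700a019) (.st (nat_lit 25) [nat_lit 8] [] (.st (nat_lit 20) [nat_lit 5] [nat_lit 8] .nil)) [] [])⟩)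
 (.lf ⟨nat_lit 2, nat_lit 23, nat_lit 1, (nat_lit 0xa81f01002c1c034000900c02801016), (nat_lit 0x1201104a07c0d023000c02006408816), (nat_lit 0x160130780140402b00060180700a804), (.wt (nat_lit 0) (nat_lit 1) (nat_lit 0x1d8270560140f83c000c00c03c0f80e) (.st (nat_lit 33) [] [] .nil) [nat_lit 5] [])⟩)))
 (.nd (nat_lit 37) (.nd (nat_lit 36) (.lf ⟨nat_lit 2, nat_lit 2, nat_lit 23, (nat_lit 0x1202f0380180200500100120140680f), (nat_lit 0x1e83c0120400603a00060200640a818), (nat_lit 0x1e80402e0441581b000601200406819), (.wt (nat_lit 3) (nat_lit 2) (nat_lit 0x1883706a0280e81000060200700a019) (.st (nat_lit 25) [nat_lit 8] [] (.st (nat_lit 13) [nat_lit 8] [nat_lit 10] .nil)) [] [])⟩)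
 (.lf ⟨nat_lit 1, nat_lit 23, nat_lit 2, (nat_lit 0x1e83c0120400603a00060200640a818), (nat_lit 0x1202f0380180200500100120140680f), (nat_lit 0x1682e0320400e02a00090180280d004), (.wt (nat_lit 0) (nat_lit 0) (nat_lit 0x1202f0380180200500100120140680f) (.st (nat_lit 35) [] [] .nil) [] [])⟩))
 (.nd (nat_lit 38) (.lf ⟨nat_lit 1, nat_lit 23, nat_lit 23, (nat_lit 0x1680506a0e01980c00090100100a00e), (nat_lit 0xa0230560041a01300100100040680e), (nat_lit 0x1d8280040641281d000c0120040880f), (.wt (nat_lit 1) (nat_lit 2) (nat_lit 0xa0230560041a01300100100040680e) (.st (nat_lit 36) [nat_lit 9] [] (.st (nat_lit 28) [] [nat_lit 4] .nil)) [] [])⟩)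
 (.lf ⟨nat_lit 2, nat_lit 23, nat_lit 23, (nat_lit 0x1202f0380180200500100120140680f), (nat_lit 0xa81f01002c1c034000900c02801016), (nat_lit 0x160130780140402b00060180700a804), (.wt (nat_lit 0) (nat_lit 1) (nat_lit 0x1680506a0e01980c00090100100a00e) (.st (nat_lit 37) [] [] .nil) [nat_lit 5] [])⟩))))
 (.nd (nat_lit 43) (.nd (nat_lit 41) (.nd (nat_lit 40) (.lf ⟨nat_lit 1, nat_lit 1, nat_lit 2, (nat_lit 0x1202f0380180200500100120140680f), (nat_lit 0xa8190120d400812001000c03c0380a), (nat_lit 0xf02a0560201b81900080200640f81c), (.wt (nat_lit 3) (nat_lit 0) (nat_lit 0xa01d0660e41503200090200600a016) (.st (nat_lit 28) [] [] (.st (nat_lit 34) [nat_lit 4] [] .nil)) [nat_lit 9] [])⟩)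
 (.lf ⟨nat_lit 2, nat_lit 2, nat_lit 1, (nat_lit 0x1103f06a00803003001000c0280180e), (nat_lit 0x1f00d06a0c01401f000801201401819), (nat_lit 0x1f01d00804c1501800080200640f81c), (.wt (nat_lit 0) (nat_lit 1) (nat_lit 0x1202f0380180200500100120140680f) (.st (nat_lit 39) [] [] .nil) [nat_lit 5] [])⟩))
 (.nd (nat_lit 42) (.lf ⟨nat_lit 2, nat_lit 23, nat_lit 23, (nat_lit 0x1102a04e0d01b825000c0200580f818), (nat_lit 0x1600b0040e80880a00060200600881c), (nat_lit 0xb0130120fc0401100080180140a80a), (.wt (nat_lit 3) (nat_lit 2) (nat_lit 0x1e83c0120400603a00060200640a818) (.st (nat_lit 36) [] [] (.st (nat_lit 30) [] [] .nil)) [] [])⟩)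
 (.lf ⟨nat_lit 1, nat_lit 23, nat_lit 23, (nat_lit 0x1600b0040e80880a00060200600881c), (nat_lit 0x1102a04e0d01b825000c0200580f818), (nat_lit 0x1600b0040e80880a00060200600881c), (.wt (nat_lit 0) (nat_lit 0) (nat_lit 0x1102a04e0d01b825000c0200580f818) (.st (nat_lit 41) [] [] .nil) [] [])⟩)))
 (.nd (nat_lit 45) (.nd (nat_lit 44) (.lf ⟨nat_lit 2, nat_lit 23, nat_lit 2, (nat_lit 0xa0030180e00503500080120640a80f), (nat_lit 0xa0030180e00503500080120640a80f), (nat_lit 0x1e80506e0a01981c00060100600a001), (.wt (nat_lit 3) (nat_lit 2) (nat_lit 0x1200f03a0641d00200090180700a00a) (.st (nat_lit 30) [nat_lit 8] [] (.st (nat_lit 42) [] [] .nil)) [] [])⟩)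
 (.lf ⟨nat_lit 1, nat_lit 2, nat_lit 23, (nat_lit 0x1482f06802c02008000601200406819), (nat_lit 0x1200f03a0641d00200090180700a00a), (nat_lit 0x1d83407e0280b81a000c0100380f001), (.wt (nat_lit 0) (nat_lit 0) (nat_lit 0xa0030180e00503500080120640a80f) (.st (nat_lit 43) [] [] .nil) [nat_lit 8] [])⟩))
 (.nd (nat_lit 46) (.lf ⟨nat_lit 1, nat_lit 2, nat_lit 23, (nat_lit 0xa0190220d000813000900c0580d00e), (nat_lit 0x703803a0b813828000800c0580f80a), (nat_lit 0x1200a0300a804802000c01203c03819), (.wt (nat_lit 1) (nat_lit 2) (nat_lit 0x703803a0b813828000800c0580f80a) (.st (nat_lit 42) [nat_lit 8] [] (.st (nat_lit 31) [nat_lit 9] [] .nil)) [] [])⟩)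
 (.lf ⟨nat_lit 1, nat_lit 23, nat_lit 1, (nat_lit 0x1202f0380180200500100120140680f), (nat_lit 0x1201104a07c0d023000c02006408816), (nat_lit 0xa83000c0b81e03300090200580f01c), (.wt (nat_lit 1) (nat_lit 0) (nat_lit 0x1201104a07c0d023000c02006408816) (.st (nat_lit 33) [nat_lit 9] [] (.st (nat_lit 37) [nat_lit 9] [] .nil)) [] [])⟩)))))
 (.nd (nat_lit 55) (.nd (nat_lit 51) (.nd (nat_lit 49) (.nd (nat_lit 48) (.lf ⟨nat_lit 2, nat_lit 1, nat_lit 23, (nat_lit 0x700c0100601802f00080200700a816), (nat_lit 0x1f00d06a0c01401f000801201401819), (nat_lit 0x1483904a0dc1f82e000800c03c01816), (.wt (nat_lit 0) (nat_lit 1) (nat_lit 0x1202f0380180200500100120140680f) (.st (nat_lit 46) [] [] .nil) [nat_lit 5] [])⟩)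
 (.lf ⟨nat_lit 2, nat_lit 23, nat_lit 23, (nat_lit 0x1f00c0680a01801f000c0200600f019), (nat_lit 0x1101b0600d80980400060180700a804), (nat_lit 0xa80803e0a00d834001001802801005), (.wt (nat_lit 3) (nat_lit 2) (nat_lit 0xa0230560041a01300100100040680e) (.st (nat_lit 36) [nat_lit 9] [] (.st (nat_lit 45) [nat_lit 8] [] .nil)) [nat_lit 4] [])⟩))
 (.nd (nat_lit 50) (.lf ⟨nat_lit 1, nat_lit 23, nat_lit 23, (nat_lit 0x703202e09c1702800100180100680a), (nat_lit 0x1f01d00804c1501800080200640f81c), (nat_lit 0xa01f0200281c035001000c0380100f), (.wt (nat_lit 0) (nat_lit 0) (nat_lit 0x1f00c0680a01801f000c0200600f019) (.st (nat_lit 48) [] [] .nil) [nat_lit 8] [])⟩)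
 (.lf ⟨nat_lit 1, nat_lit 1, nat_lit 1, (nat_lit 0x1f01b0040a80981800090180100101c), (nat_lit 0x1e83c0120400603a00060200640a818), (nat_lit 0x100330140441b006000c01000403818), (.wt (nat_lit 3) (nat_lit 0) (nat_lit 0x1202f0380180200500100120140680f) (.st (nat_lit 39) [] [] (.st (nat_lit 40) [] [nat_lit 6] .nil)) [] [])⟩)))
 (.nd (nat_lit 53) (.nd (nat_lit 52) (.lf ⟨nat_lit 0, nat_lit 1, nat_lit 1, (nat_lit 0xf00300a0c80503f001001200403805), one, (nat_lit 0x1681905c0340082a000800c0280d00f), (.we (nat_lit 0) (nat_lit 1) (nat_lit 0x1f01b0040a80981800090180100101c) (.st (nat_lit 50) [] [] (.st (nat_lit 20) [nat_lit 4] [nat_lit 10] .nil)))⟩)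
 (.lf ⟨nat_lit 0, nat_lit 1, nat_lit 1, (nat_lit 0x1f03501a05c0781f001001801401804), one, (nat_lit 0x1201d01e0241500200060200700a019), (.prod [nat_lit 51, nat_lit 51])⟩))
 (.nd (nat_lit 54) (.lf ⟨nat_lit 0, nat_lit 2, nat_lit 2, (nat_lit 0x1d8180640940c81d000800c0280d00f), one, (nat_lit 0x1f00906c07001839001001200403805), (.cmp (nat_lit 21) (nat_lit 21) [nat_lit 8] [nat_lit 51])⟩)
 (.lf ⟨nat_lit 0, nat_lit 2, nat_lit 2, (nat_lit 0xa82a07400c1b81200060200700a019), one, (nat_lit 0xf00f05008c1d038001001801401804), (.prod [nat_lit 53, nat_lit 53])⟩))))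
 (.nd (nat_lit 59) (.nd (nat_lit 57) (.nd (nat_lit 56) (.lf ⟨nat_lit 0, nat_lit 23, nat_lit 23, (nat_lit 0x1e80d07e0cc1401c001001203c01801), one, (nat_lit 0x1003705e06c0e80100080200640f81c), (.cmp (nat_lit 44) (nat_lit 30) [] [nat_lit 54])⟩)
 (.lf ⟨nat_lit 0, nat_lit 23, nat_lit 23, (nat_lit 0x148250720140682e001001203c01801), one, (nat_lit 0xf02a0560201b81900080200640f81c), (.cmp (nat_lit 45) (nat_lit 28) [nat_lit 8] [nat_lit 6, nat_lit 53])⟩))
 (.nd (nat_lit 58) (.lf ⟨nat_lit 0, nat_lit 23, nat_lit 23, (nat_lit 0x1f0020360ac09018001001001001001), one, (nat_lit 0x1f0020360ac09018001001001001001), (.prod [nat_lit 56, nat_lit 56])⟩)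
 (.lf ⟨nat_lit 1, nat_lit 1, nat_lit 58, (nat_lit 0xa01003e0c001035000901003801018), one, one, (.df [nat_lit 38])⟩)))
 (.nd (nat_lit 61) (.nd (nat_lit 60) (.lf ⟨nat_lit 0, nat_lit 58, nat_lit 58, (nat_lit 0x1003a04a0d01a827001001801401804), one, (nat_lit 0x1681905c0340082a000800c0280d00f), (.cmp (nat_lit 58) (nat_lit 58) [nat_lit 9] [nat_lit 51])⟩)
 (.lf ⟨nat_lit 0, nat_lit 58, nat_lit 58, (nat_lit 0x1000a0660b804806001001200403805), one, (nat_lit 0x1201d01e0241500200060200700a019), (.prod [nat_lit 59, nat_lit 59])⟩))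
 (.nd (nat_lit 62) (.lf ⟨nat_lit 2, nat_lit 58, nat_lit 1, one, (nat_lit 0xa01003e0c001035000901003801018), one, (.wt (nat_lit 0) (nat_lit 1) (nat_lit 0xa01003e0c001035000901003801018) (.st (nat_lit 58) [] [] .nil) [] [])⟩)
 (.lf ⟨nat_lit 1, nat_lit 58, nat_lit 23, one, (nat_lit 0x1d80301005c0501a00060120140a801), (nat_lit 0x1f03601206802839000c01000403818), (.wt (nat_lit 1) (nat_lit 2) (nat_lit 0x1d80301005c0501a00060120140a801) (.st (nat_lit 46) [nat_lit 8] [] (.st (nat_lit 58) [] [nat_lit 10] .nil)) [] [])⟩)))))))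

noncomputable def T2_63 : Tr :=
  (.nd (nat_lit 94) (.nd (nat_lit 78) (.nd (nat_lit 70) (.nd (nat_lit 66) (.nd (nat_lit 64) (.lf ⟨nat_lit 2, nat_lit 23, nat_lit 58, (nat_lit 0x1d80301005c0501a00060120140a801), one, (nat_lit 0xf0170600e81183800090100600f004), (.wt (nat_lit 0) (nat_lit 1) one (.st (nat_lit 62) [] [] .nil) [] [])⟩)
 (.nd (nat_lit 65) (.lf ⟨nat_lit 1, nat_lit 58, nat_lit 23, (nat_lit 0x1680602e04c1c80b000900c0380f00a), (nat_lit 0x1882801604c12817000601206408805), (nat_lit 0x1883706a0280e81000060200700a019), (.wt (nat_lit 3) (nat_lit 1) (nat_lit 0x1003a04a0d01a827001001801401804) (.st (nat_lit 24) [nat_lit 5] [] (.st (nat_lit 58) [] [nat_lit 10] .nil)) [] [])⟩)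
 (.lf ⟨nat_lit 0, nat_lit 58, nat_lit 58, (nat_lit 0xf0170600e81183800090100600f004), one, (nat_lit 0x70170640a811828000601001006818), (.we (nat_lit 0) (nat_lit 1) (nat_lit 0x1680602e04c1c80b000900c0380f00a) (.st (nat_lit 64) [] [] (.st (nat_lit 63) [nat_lit 4] [nat_lit 55] .nil)))⟩)))
 (.nd (nat_lit 68) (.nd (nat_lit 67) (.lf ⟨nat_lit 0, nat_lit 58, nat_lit 58, (nat_lit 0x1003a04a0d01a827001001801401804), one, (nat_lit 0x1681905c0340082a000800c0280d00f), (.inv (nat_lit 60))⟩)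
 (.lf ⟨nat_lit 0, nat_lit 58, nat_lit 58, (nat_lit 0xf01c0340281903f00080180700d005), one, (nat_lit 0x1103f06a00803003001000c0280180e), (.prod [nat_lit 65, nat_lit 66])⟩))
 (.nd (nat_lit 69) (.lf ⟨nat_lit 0, nat_lit 58, nat_lit 58, (nat_lit 0x1000a0660b804806001001200403805), one, (nat_lit 0x1201d01e0241500200060200700a019), (.inv (nat_lit 59))⟩)
 (.lf ⟨nat_lit 0, nat_lit 58, nat_lit 58, (nat_lit 0xf01a0380cc0583f00090200700d018), one, (nat_lit 0x1f00d06a0c01401f000801201401819), (.prod (unp (nat_lit 7) (nat_lit 0x1121bb03)))⟩))))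
 (.nd (nat_lit 74) (.nd (nat_lit 72) (.nd (nat_lit 71) (.lf ⟨nat_lit 0, nat_lit 58, nat_lit 58, (nat_lit 0x1f00d06a0c01401f000801201401819), one, (nat_lit 0xf01a0380cc0583f00090200700d018), (.prod [nat_lit 69, nat_lit 69])⟩)
 (.lf ⟨nat_lit 1, nat_lit 23, nat_lit 58, (nat_lit 0xa8060600ac1c833000c00c0580f00f), (nat_lit 0x1e80402e0441581b000601200406819), (nat_lit 0x1102e04607c0e02500100180100680a), (.wt (nat_lit 3) (nat_lit 1) one (.st (nat_lit 61) [] [] (.st (nat_lit 33) [nat_lit 9] [nat_lit 8] .nil)) [nat_lit 9] [])⟩))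
 (.nd (nat_lit 73) (.lf ⟨nat_lit 2, nat_lit 58, nat_lit 23, (nat_lit 0x160340380740b80d000601001006818), (nat_lit 0x1681700c0241180b000c0100380f001), (nat_lit 0x703202e09c1702800100180100680a), (.wt (nat_lit 0) (nat_lit 1) (nat_lit 0xa8060600ac1c833000c00c0580f00f) (.st (nat_lit 71) [] [] .nil) [nat_lit 4] [])⟩)
 (.lf ⟨nat_lit 2, nat_lit 2, nat_lit 58, (nat_lit 0x1880300207405010000c01203c03819), (nat_lit 0xa0230560041a01300100100040680e), (nat_lit 0x148300140481e00f00060200640a818), (.wt (nat_lit 3) (nat_lit 2) (nat_lit 0x1883706a0280e81000060200700a019) (.st (nat_lit 62) [nat_lit 8] [] (.st (nat_lit 36) [nat_lit 9] [nat_lit 55, nat_lit 57] .nil)) [nat_lit 5] [])⟩)))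
 (.nd (nat_lit 76) (.nd (nat_lit 75) (.lf ⟨nat_lit 1, nat_lit 58, nat_lit 2, (nat_lit 0x1e83c0120400603a00060200640a818), (nat_lit 0x1600f00c0441d00a00080180280181c), (nat_lit 0xb02307200c1a011000c0100380f001), (.wt (nat_lit 0) (nat_lit 0) (nat_lit 0x1880300207405010000c01203c03819) (.st (nat_lit 73) [nat_lit 4] [nat_lit 6, nat_lit 54] .nil) [nat_lit 8] [])⟩)
 (.lf ⟨nat_lit 2, nat_lit 1, nat_lit 75, (nat_lit 0xb01001a0c801037000601000408804), one, one, (.df (unp (nat_lit 6) (nat_lit 0x249a503)))⟩))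
 (.nd (nat_lit 77) (.lf ⟨nat_lit 0, nat_lit 75, nat_lit 75, (nat_lit 0x1883706a0280e81000060200700a019), one, (nat_lit 0x1d8180640940c81d000800c0280d00f), (.cmp (nat_lit 75) (nat_lit 75) [nat_lit 4] [nat_lit 52, nat_lit 8])⟩)
 (.lf ⟨nat_lit 0, nat_lit 75, nat_lit 75, (nat_lit 0xb0010380a00c037000800c0280d00f), one, (nat_lit 0xa82a07400c1b81200060200700a019), (.prod [nat_lit 76, nat_lit 76])⟩)))))
 (.nd (nat_lit 86) (.nd (nat_lit 82) (.nd (nat_lit 80) (.nd (nat_lit 79) (.lf ⟨nat_lit 1, nat_lit 75, nat_lit 1, one, (nat_lit 0xb01001a0c801037000601000408804), one, (.wt (nat_lit 0) (nat_lit 0) (nat_lit 0xb01001a0c801037000601000408804) (.st (nat_lit 75) [] [] .nil) [] [])⟩)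
 (.lf ⟨nat_lit 1, nat_lit 2, nat_lit 75, (nat_lit 0x148380040241380f001000c0380100f), (nat_lit 0x1883706a0280e81000060200700a019), (nat_lit 0x1d8020500b80901d000601000408804), (.wt (nat_lit 1) (nat_lit 0) (nat_lit 0x1883706a0280e81000060200700a019) (.st (nat_lit 78) [nat_lit 8] [] (.st (nat_lit 39) [nat_lit 8] [nat_lit 8] .nil)) [] [])⟩))
 (.nd (nat_lit 81) (.lf ⟨nat_lit 2, nat_lit 75, nat_lit 2, (nat_lit 0x1883706a0280e81000060200700a019), (nat_lit 0x148380040241380f001000c0380100f), (nat_lit 0x1681204a0700802a000601000408804), (.wt (nat_lit 0) (nat_lit 1) (nat_lit 0x148380040241380f001000c0380100f) (.st (nat_lit 79) [] [] .nil) [] [])⟩)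
 (.lf ⟨nat_lit 2, nat_lit 23, nat_lit 75, (nat_lit 0x1682e0320400e02a00090180280d004), (nat_lit 0x1d8270560140f83c000c00c03c0f80e), (nat_lit 0xb0010380a00c037000800c0280d00f), (.wt (nat_lit 3) (nat_lit 2) (nat_lit 0xb0010380a00c037000800c0280d00f) (.st (nat_lit 78) [nat_lit 9] [] (.st (nat_lit 23) [nat_lit 9] [nat_lit 8] .nil)) [] [])⟩)))
 (.nd (nat_lit 84) (.nd (nat_lit 83) (.lf ⟨nat_lit 1, nat_lit 75, nat_lit 23, (nat_lit 0x1d8270560140f83c000c00c03c0f80e), (nat_lit 0x1682e0320400e02a00090180280d004), (nat_lit 0x1883706a0280e81000060200700a019), (.wt (nat_lit 0) (nat_lit 0) (nat_lit 0x1682e0320400e02a00090180280d004) (.st (nat_lit 81) [] [] .nil) [] [])⟩)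
 (.lf ⟨nat_lit 2, nat_lit 75, nat_lit 2, (nat_lit 0x148250720140682e001001203c01801), (nat_lit 0x1e80506e0a01981c00060100600a001), (nat_lit 0x1103303004c1b004001001003803804), (.wt (nat_lit 3) (nat_lit 2) (nat_lit 0x1882801604c12817000601206408805) (.st (nat_lit 15) [nat_lit 8] [] (.st (nat_lit 79) [nat_lit 9] [nat_lit 4, nat_lit 53] .nil)) [] [])⟩))
 (.nd (nat_lit 85) (.lf ⟨nat_lit 0, nat_lit 75, nat_lit 75, (nat_lit 0xf01c0340281903f00080180700d005), one, (nat_lit 0xa03303a0941b03200060100600a001), (.we (nat_lit 0) (nat_lit 0) (nat_lit 0x148250720140682e001001203c01801) (.st (nat_lit 83) [] [] (.st (nat_lit 79) [nat_lit 8] [nat_lit 4, nat_lit 54] .nil)))⟩)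
 (.lf ⟨nat_lit 0, nat_lit 75, nat_lit 75, (nat_lit 0x1f00c0680a01801f000c0200600f019), one, (nat_lit 0xb02307200c1a011000c0100380f001), (.prod [nat_lit 84, nat_lit 84])⟩))))
 (.nd (nat_lit 90) (.nd (nat_lit 88) (.nd (nat_lit 87) (.lf ⟨nat_lit 2, nat_lit 75, nat_lit 58, (nat_lit 0x1202f0380180200500100120140680f), (nat_lit 0x110180660f00c804000c00c03803816), (nat_lit 0x1003c04603406027000c0200600f019), (.wt (nat_lit 3) (nat_lit 2) (nat_lit 0x1483904a0dc1f82e000800c03c01816) (.st (nat_lit 74) [nat_lit 9] [nat_lit 70] (.st (nat_lit 79) [nat_lit 8] [nat_lit 54] .nil)) [] [])⟩)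
 (.lf ⟨nat_lit 1, nat_lit 58, nat_lit 75, (nat_lit 0x110180660f00c804000c00c03803816), (nat_lit 0x1202f0380180200500100120140680f), (nat_lit 0x100320160241700600080180700d005), (.wt (nat_lit 0) (nat_lit 0) (nat_lit 0x1202f0380180200500100120140680f) (.st (nat_lit 86) [] [] .nil) [] [])⟩))
 (.nd (nat_lit 89) (.lf ⟨nat_lit 0, nat_lit 75, nat_lit 75, (nat_lit 0x1e82702400c0f83a001000c0380100f), one, (nat_lit 0xa80803e0a00d834001001802801005), (.cmp (nat_lit 87) (nat_lit 87) [nat_lit 9] [nat_lit 67, nat_lit 69])⟩)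
 (.lf ⟨nat_lit 1, nat_lit 1, nat_lit 89, (nat_lit 0x1e83c0120400603a00060200640a818), one, one, (.df [nat_lit 29, nat_lit 40])⟩)))
 (.nd (nat_lit 92) (.nd (nat_lit 91) (.lf ⟨nat_lit 2, nat_lit 89, nat_lit 1, one, (nat_lit 0x1e83c0120400603a00060200640a818), one, (.wt (nat_lit 0) (nat_lit 1) (nat_lit 0x1e83c0120400603a00060200640a818) (.st (nat_lit 89) [] [] .nil) [] [])⟩)
 (.lf ⟨nat_lit 1, nat_lit 89, nat_lit 23, (nat_lit 0x1003a04a0d01a827001001801401804), (nat_lit 0x1883706a0280e81000060200700a019), (nat_lit 0x1e83c0120400603a00060200640a818), (.wt (nat_lit 1) (nat_lit 2) (nat_lit 0x1883706a0280e81000060200700a019) (.st (nat_lit 25) [nat_lit 8] [] (.st (nat_lit 89) [nat_lit 8] [nat_lit 10] .nil)) [] [])⟩))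
 (.nd (nat_lit 93) (.lf ⟨nat_lit 2, nat_lit 23, nat_lit 89, (nat_lit 0x1883706a0280e81000060200700a019), (nat_lit 0x1003a04a0d01a827001001801401804), (nat_lit 0xb0040700e815830000801203c0f805), (.wt (nat_lit 0) (nat_lit 1) (nat_lit 0x1003a04a0d01a827001001801401804) (.st (nat_lit 91) [] [] .nil) [] [])⟩)
 (.lf ⟨nat_lit 1, nat_lit 89, nat_lit 1, one, (nat_lit 0xf0170600e81183800090100600f004), (nat_lit 0x1680602e04c1c80b000900c0380f00a), (.wt (nat_lit 1) (nat_lit 2) (nat_lit 0xf0170600e81183800090100600f004) (.st (nat_lit 19) [nat_lit 8] [] (.st (nat_lit 89) [] [nat_lit 8] .nil)) [] [])⟩))))))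
 (.nd (nat_lit 110) (.nd (nat_lit 102) (.nd (nat_lit 98) (.nd (nat_lit 96) (.nd (nat_lit 95) (.lf ⟨nat_lit 2, nat_lit 1, nat_lit 89, (nat_lit 0xf01c0340281903f00080180700d005), (nat_lit 0x1883706a0280e81000060200700a019), (nat_lit 0x1882e0560300e03600060180140681c), (.wt (nat_lit 0) (nat_lit 1) one (.st (nat_lit 93) [] [] .nil) [nat_lit 4] [])⟩)
 (.lf ⟨nat_lit 2, nat_lit 89, nat_lit 1, (nat_lit 0x1682e0320400e02a00090180280d004), (nat_lit 0x1481a0020100580800080200580d019), (nat_lit 0x1101a02003c0580300060200600881c), (.wt (nat_lit 3) (nat_lit 2) (nat_lit 0xa83000c0b81e03300090200580f01c) (.st (nat_lit 19) [nat_lit 9] [] (.st (nat_lit 89) [nat_lit 9] [nat_lit 52, nat_lit 8] .nil)) [] [])⟩))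
 (.nd (nat_lit 97) (.lf ⟨nat_lit 0, nat_lit 89, nat_lit 89, (nat_lit 0x1d83407e0280b81a000c0100380f001), one, (nat_lit 0x700500206c1982f001001003803804), (.we (nat_lit 0) (nat_lit 0) (nat_lit 0x1682e0320400e02a00090180280d004) (.st (nat_lit 95) [] [] (.st (nat_lit 89) [nat_lit 8] [nat_lit 10] .nil)))⟩)
 (.lf ⟨nat_lit 2, nat_lit 89, nat_lit 23, (nat_lit 0x1680506a0e01980c00090100100a00e), (nat_lit 0x1d8270560140f83c000c00c03c0f80e), (nat_lit 0x1681f05e0cc1c00c000c00c03c0f80e), (.wt (nat_lit 3) (nat_lit 2) (nat_lit 0xb0010380a00c037000800c0280d00f) (.st (nat_lit 25) [nat_lit 9] [] (.st (nat_lit 89) [nat_lit 8] [nat_lit 51, nat_lit 10] .nil)) [] [])⟩)))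
 (.nd (nat_lit 100) (.nd (nat_lit 99) (.lf ⟨nat_lit 1, nat_lit 23, nat_lit 89, (nat_lit 0x1d8270560140f83c000c00c03c0f80e), (nat_lit 0x1680506a0e01980c00090100100a00e), (nat_lit 0xa80d03406c14034000601206408805), (.wt (nat_lit 0) (nat_lit 0) (nat_lit 0x1680506a0e01980c00090100100a00e) (.st (nat_lit 97) [] [] .nil) [] [])⟩)
 (.lf ⟨nat_lit 2, nat_lit 89, nat_lit 23, (nat_lit 0xb0010380a00c037000800c0280d00f), (nat_lit 0x1201104a07c0d023000c02006408816), (nat_lit 0x1882e0560300e03600060180140681c), (.wt (nat_lit 3) (nat_lit 2) (nat_lit 0x1f00d06a0c01401f000801201401819) (.st (nat_lit 46) [nat_lit 9] [] (.st (nat_lit 89) [] [nat_lit 8] .nil)) [nat_lit 4] [])⟩))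
 (.nd (nat_lit 101) (.lf ⟨nat_lit 0, nat_lit 89, nat_lit 89, (nat_lit 0xf02b05404017819000c0120640f801), one, (nat_lit 0x1603c0260040602b00080200700a816), (.we (nat_lit 0) (nat_lit 0) (nat_lit 0xb0010380a00c037000800c0280d00f) (.st (nat_lit 99) [] [] (.st (nat_lit 98) [nat_lit 9] [] .nil)))⟩)
 (.lf ⟨nat_lit 0, nat_lit 89, nat_lit 89, (nat_lit 0x1f0020360ac09018001001001001001), one, (nat_lit 0x1f0020360ac09018001001001001001), (.prod [nat_lit 100, nat_lit 100])⟩))))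
 (.nd (nat_lit 106) (.nd (nat_lit 104) (.nd (nat_lit 103) (.lf ⟨nat_lit 0, nat_lit 89, nat_lit 89, (nat_lit 0x1002f06e00802001000c0120640f801), one, (nat_lit 0x700c0100601802f00080200700a816), (.prod [nat_lit 101, nat_lit 100])⟩)
 (.lf ⟨nat_lit 1, nat_lit 89, nat_lit 2, (nat_lit 0x1680506a0e01980c00090100100a00e), (nat_lit 0x1e80d07e0cc1401c001001203c01801), (nat_lit 0x1883506e0600781000090180700a00a), (.wt (nat_lit 3) (nat_lit 1) (nat_lit 0x1200f03a0641d00200090180700a00a) (.st (nat_lit 22) [nat_lit 4] [] (.st (nat_lit 89) [nat_lit 8] [nat_lit 10] .nil)) [] [])⟩))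
 (.nd (nat_lit 105) (.lf ⟨nat_lit 2, nat_lit 2, nat_lit 89, (nat_lit 0x1e80d07e0cc1401c001001203c01801), (nat_lit 0x1680506a0e01980c00090100100a00e), (nat_lit 0x700100a0c00c02f000c00c03803816), (.wt (nat_lit 0) (nat_lit 1) (nat_lit 0x1680506a0e01980c00090100100a00e) (.st (nat_lit 103) [] [] .nil) [] [])⟩)
 (.lf ⟨nat_lit 1, nat_lit 2, nat_lit 89, (nat_lit 0x1202f0380180200500100120140680f), (nat_lit 0x1882e0560300e03600060180140681c), (nat_lit 0x1003a04a0d01a827001001801401804), (.wt (nat_lit 3) (nat_lit 1) one (.st (nat_lit 90) [] [] (.st (nat_lit 13) [nat_lit 8] [] .nil)) [] [])⟩)))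
 (.nd (nat_lit 108) (.nd (nat_lit 107) (.lf ⟨nat_lit 2, nat_lit 89, nat_lit 2, (nat_lit 0x160340380740b80d000601001006818), (nat_lit 0x1f00d06a0c01401f000801201401819), (nat_lit 0x1000a0660b804806001001200403805), (.wt (nat_lit 0) (nat_lit 1) (nat_lit 0x1202f0380180200500100120140680f) (.st (nat_lit 105) [] [] .nil) [nat_lit 5] [])⟩)
 (.lf ⟨nat_lit 1, nat_lit 75, nat_lit 89, (nat_lit 0x1680602e04c1c80b000900c0380f00a), (nat_lit 0x1483904a0dc1f82e000800c03c01816), (nat_lit 0x1e83f01a0740301c000800c03c01816), (.wt (nat_lit 3) (nat_lit 0) (nat_lit 0x1883706a0280e81000060200700a019) (.st (nat_lit 93) [nat_lit 8] [] (.st (nat_lit 75) [nat_lit 4] [nat_lit 51] .nil)) [] [])⟩))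
 (.nd (nat_lit 109) (.lf ⟨nat_lit 2, nat_lit 89, nat_lit 75, (nat_lit 0xa81f01002c1c034000900c02801016), (nat_lit 0xf0170600e81183800090100600f004), (nat_lit 0x1f01105c0140d03900090200700d018), (.wt (nat_lit 0) (nat_lit 1) (nat_lit 0x1680602e04c1c80b000900c0380f00a) (.st (nat_lit 107) [nat_lit 8] [nat_lit 77, nat_lit 85] .nil) [nat_lit 4] [])⟩)
 (.lf ⟨nat_lit 2, nat_lit 1, nat_lit 109, (nat_lit 0x1483405e0600b80800100100040680e), one, one, (.df [nat_lit 37, nat_lit 38])⟩)))))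
 (.nd (nat_lit 118) (.nd (nat_lit 114) (.nd (nat_lit 112) (.nd (nat_lit 111) (.lf ⟨nat_lit 1, nat_lit 109, nat_lit 1, one, (nat_lit 0x1483405e0600b80800100100040680e), one, (.wt (nat_lit 0) (nat_lit 0) (nat_lit 0x1483405e0600b80800100100040680e) (.st (nat_lit 109) [] [] .nil) [] [])⟩)
 (.lf ⟨nat_lit 1, nat_lit 109, nat_lit 1, (nat_lit 0x1000a0660b804806001001200403805), (nat_lit 0xa01f0200281c035001000c0380100f), (nat_lit 0x1600b0040e80880a00060200600881c), (.wt (nat_lit 3) (nat_lit 0) (nat_lit 0xa83000c0b81e03300090200580f01c) (.st (nat_lit 19) [nat_lit 9] [] (.st (nat_lit 109) [] [nat_lit 10] .nil)) [] [])⟩))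
 (.nd (nat_lit 113) (.lf ⟨nat_lit 0, nat_lit 109, nat_lit 109, (nat_lit 0x1000a0660b804806001001200403805), one, (nat_lit 0x700500206c1982f001001003803804), (.we (nat_lit 0) (nat_lit 1) (nat_lit 0x1000a0660b804806001001200403805) (.st (nat_lit 111) [] [] (.st (nat_lit 109) [] [nat_lit 51] .nil)))⟩)
 (.lf ⟨nat_lit 1, nat_lit 109, nat_lit 75, (nat_lit 0x1600b0040e80880a00060200600881c), (nat_lit 0x1f03601206802839000c01000403818), one, (.wt (nat_lit 3) (nat_lit 0) (nat_lit 0xb0010380a00c037000800c0280d00f) (.st (nat_lit 78) [nat_lit 9] [] (.st (nat_lit 109) [nat_lit 5] [] .nil)) [] [])⟩)))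
 (.nd (nat_lit 116) (.nd (nat_lit 115) (.lf ⟨nat_lit 2, nat_lit 75, nat_lit 109, (nat_lit 0x1f00d06a0c01401f000801201401819), (nat_lit 0x1103303004c1b004001001003803804), one, (.wt (nat_lit 0) (nat_lit 1) (nat_lit 0x1600b0040e80880a00060200600881c) (.st (nat_lit 113) [] [] .nil) [nat_lit 5] [])⟩)
 (.lf ⟨nat_lit 0, nat_lit 109, nat_lit 109, (nat_lit 0x1f00c0680a01801f000c0200600f019), one, (nat_lit 0x1681700c0241180b000c0100380f001), (.cmp (nat_lit 114) (nat_lit 114) [nat_lit 4] [nat_lit 76, nat_lit 88])⟩))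
 (.nd (nat_lit 117) (.lf ⟨nat_lit 0, nat_lit 109, nat_lit 109, (nat_lit 0x1003a04a0d01a827001001801401804), one, (nat_lit 0x1483405e0600b80800100100040680e), (.inv (nat_lit 112))⟩)
 (.lf ⟨nat_lit 0, nat_lit 109, nat_lit 109, (nat_lit 0x1f03401803c0b81f00090100600f004), one, (nat_lit 0xf0170600e81183800090100600f004), (.prod (unp (nat_lit 7) (nat_lit 0x1d39f003)))⟩))))
 (.nd (nat_lit 122) (.nd (nat_lit 120) (.nd (nat_lit 119) (.lf ⟨nat_lit 1, nat_lit 23, nat_lit 109, (nat_lit 0x1000a0660b804806001001200403805), (nat_lit 0x1883706a0280e81000060200700a019), (nat_lit 0xb0010380a00c037000800c0280d00f), (.wt (nat_lit 1) (nat_lit 0) (nat_lit 0x1883706a0280e81000060200700a019) (.st (nat_lit 110) [nat_lit 8] [] (.st (nat_lit 23) [nat_lit 9] [nat_lit 8] .nil)) [] [])⟩)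
 (.lf ⟨nat_lit 2, nat_lit 109, nat_lit 23, (nat_lit 0x1883706a0280e81000060200700a019), (nat_lit 0x1000a0660b804806001001200403805), (nat_lit 0x1883706a0280e81000060200700a019), (.wt (nat_lit 0) (nat_lit 1) (nat_lit 0x1000a0660b804806001001200403805) (.st (nat_lit 118) [] [] .nil) [] [])⟩))
 (.nd (nat_lit 121) (.lf ⟨nat_lit 1, nat_lit 89, nat_lit 109, (nat_lit 0x1000a0660b804806001001200403805), one, (nat_lit 0xf0120260bc08019001001001001001), (.wt (nat_lit 1) (nat_lit 0) one (.st (nat_lit 110) [] [] (.st (nat_lit 89) [nat_lit 9] [nat_lit 52, nat_lit 10] .nil)) [] [])⟩)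
 (.lf ⟨nat_lit 2, nat_lit 109, nat_lit 89, one, (nat_lit 0x1000a0660b804806001001200403805), (nat_lit 0x1f0020360ac09018001001001001001), (.wt (nat_lit 0) (nat_lit 1) (nat_lit 0x1000a0660b804806001001200403805) (.st (nat_lit 120) [] [] .nil) [] [])⟩)))
 (.nd (nat_lit 124) (.nd (nat_lit 123) (.lf ⟨nat_lit 1, nat_lit 2, nat_lit 109, (nat_lit 0xa8190120d400812001000c03c0380a), (nat_lit 0xb0010380a00c037000800c0280d00f), (nat_lit 0x1003705e06c0e80100080200640f81c), (.wt (nat_lit 1) (nat_lit 0) (nat_lit 0xb0010380a00c037000800c0280d00f) (.st (nat_lit 110) [nat_lit 9] [] (.st (nat_lit 39) [] [nat_lit 52, nat_lit 10] .nil)) [] [])⟩)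
 (.lf ⟨nat_lit 2, nat_lit 109, nat_lit 2, (nat_lit 0xb0010380a00c037000800c0280d00f), (nat_lit 0xa8190120d400812001000c03c0380a), (nat_lit 0x1003705e06c0e80100080200640f81c), (.wt (nat_lit 0) (nat_lit 1) (nat_lit 0xa8190120d400812001000c03c0380a) (.st (nat_lit 122) [] [] .nil) [] [])⟩))
 (.nd (nat_lit 125) (.lf ⟨nat_lit 2, nat_lit 58, nat_lit 109, (nat_lit 0xb0010380a00c037000800c0280d00f), (nat_lit 0x1483904a0dc1f82e000800c03c01816), one, (.wt (nat_lit 3) (nat_lit 2) (nat_lit 0x1883706a0280e81000060200700a019) (.st (nat_lit 110) [nat_lit 8] [] (.st (nat_lit 58) [] [] .nil)) [nat_lit 4] [])⟩)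
 (.lf ⟨nat_lit 1, nat_lit 109, nat_lit 58, (nat_lit 0x1e83c0120400603a00060200640a818), (nat_lit 0x1d8270560140f83c000c00c03c0f80e), (nat_lit 0x1d83607407c0283c00090100100a00e), (.wt (nat_lit 0) (nat_lit 0) (nat_lit 0xb0010380a00c037000800c0280d00f) (.st (nat_lit 124) [nat_lit 5] [nat_lit 67, nat_lit 60] .nil) [nat_lit 9] [])⟩)))))))

noncomputable def T2 : Tr :=
  (.nd (nat_lit 63) T2_0
 T2_63)

noncomputable def q2_1_28 : Net :=
  mkNet (nat_lit 7) (nat_lit 60) (nat_lit 0x41144145504104400233301101310000c0b0b0800000000500b20039000000006b900004000000000006bb40000000dff0000691000b0025004f00f000f0f0800070a04011203300211202504445545505445)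

noncomputable def q2_1_36 : Net :=
  mkNet (nat_lit 7) (nat_lit 60) (nat_lit 0x10110445541004211120131303030002060407060d0200800c00011002000004a100001000000000004e551000000a850000163200500e4004d00280070004030c0506211330231122011010054151145144)

noncomputable def q2_1_38 : Net :=
  mkNet (nat_lit 7) (nat_lit 60) (nat_lit 0x11440401141004403121230110020000700060107070100e00d100eb00200000c4100003000000000002717e20000018e00002c810020048008000ad00d00040e060f0e212330212212321441151544145511)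

noncomputable def q2_1_39 : Net :=
  mkNet (nat_lit 7) (nat_lit 60) (nat_lit 0x450415414054002002123220300000070800090a080b00c00e20035000000006000000400000000000a10640000000ae0000a44300b00640068002e007080c05000601320223122101030555451550041554)

noncomputable def q2_1_40 : Net :=
  mkNet (nat_lit 7) (nat_lit 60) (nat_lit 0x4005504100310113211202030003040c00000203009001c00980080000008000001000000000001a4180000005590000c00b00a005d00b6002400304080606060f100121311030000510414014150044)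

noncomputable def q2_1_41 : Net :=
  mkNet (nat_lit 7) (nat_lit 60) (nat_lit 0x50045400101415012223120232000000204090f03010c00b00630029005000004f00000100000000000da29950000000b000082f400b006a004f00a600402090f0c0803122201232023333055101554541405)

noncomputable def q2_1 : List Net :=
  [Net.nil, Net.nil, Net.nil, Net.nil, Net.nil, Net.nil, Net.nil, Net.nil, Net.nil, Net.nil, Net.nil, Net.nil, Net.nil, Net.nil, Net.nil, Net.nil, Net.nil, Net.nil, Net.nil, Net.nil, Net.nil, Net.nil, Net.nil, Net.nil, Net.nil, Net.nil, Net.nil, Net.nil, q2_1_28, rv q2_1_28, Net.nil, Net.nil, Net.nil, Net.nil, Net.nil, Net.nil, q2_1_36, rv q2_1_36, q2_1_38, q2_1_39, q2_1_40, q2_1_41]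

noncomputable def q2_2_28 : Net :=
  mkNet (nat_lit 7) (nat_lit 60) (nat_lit 0x4044040050441421020020122011000b0106020f00080080028008f004000000d800002000000000000d82000000091f00000f40006000400b000d00060b050c06020e100322132113020010104550451010)

noncomputable def q2_2_36 : Net :=
  mkNet (nat_lit 7) (nat_lit 60) (nat_lit 0x114151400500144213201113210200004020403010b0c008002c00190000000081a000010000000000005a3c0000002480000d92c0050074005f005800d0a0501040808101313012001222141540055040555)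

noncomputable def q2_2_38 : Net :=
  mkNet (nat_lit 7) (nat_lit 60) (nat_lit 0x1444044004450103213020222131300080c030804010600e000000260010000009c0000000000000000f8d6b1000004630000b0940030002006200a4001070c03040a00021032322210103410151111100545)

noncomputable def q2_2_39 : Net :=
  mkNet (nat_lit 7) (nat_lit 60) (nat_lit 0x4011000551404540313312200202000040a0707080c0000c00fa00200000000084e0000f0000000000054ff80000003250000a880001004900ea000e00b07060c0d0909303121301333000110104115154400)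

noncomputable def q2_2_40 : Net :=
  mkNet (nat_lit 7) (nat_lit 60) (nat_lit 0x11010411515440020313120123300000a030d000d010800e00590068000000004850000a00000000000fc5f00000006bb0000f0880080070002a0086003070703080409030330231020200401100055140454)

noncomputable def q2_2_41 : Net :=
  mkNet (nat_lit 7) (nat_lit 60) (nat_lit 0x1150014141154020020130201300000206070505070a00700c5001e00c000002ad0000400000000000bfd6900000065f0000b402008007c00a1003600c060e0a0b0e05233231032310333544055414144015)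

noncomputable def q2_2 : List Net :=
  [Net.nil, Net.nil, Net.nil, Net.nil, Net.nil, Net.nil, Net.nil, Net.nil, Net.nil, Net.nil, Net.nil, Net.nil, Net.nil, Net.nil, Net.nil, Net.nil, Net.nil, Net.nil, Net.nil, Net.nil, Net.nil, Net.nil, Net.nil, Net.nil, Net.nil, Net.nil, Net.nil, Net.nil, q2_2_28, rv q2_2_28, Net.nil, Net.nil, Net.nil, Net.nil, Net.nil, Net.nil, q2_2_36, rv q2_2_36, q2_2_38, q2_2_39, q2_2_40, q2_2_41]

noncomputable def Qs2 : List (ℕ × ℕ × List Net) :=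
  [(nat_lit 60, nat_lit 7, q2_1), (nat_lit 60, nat_lit 7, q2_2)]

noncomputable def ls2 : List Ld :=
  [⟨[(nat_lit 8, [nat_lit 40])], [⟨nat_lit 5, [nat_lit 0], (nat_lit 0x880f7bdef), nat_lit 3⟩], [[nat_lit 29], [nat_lit 37]], (nat_lit 0xc24407102040912184850e243850a1c2891020308101c3880e1c387082430a1418206080c4060c10184061830504142820208080)⟩,
  ⟨[(nat_lit 4, [nat_lit 28])], [⟨nat_lit 0, [nat_lit 0], (nat_lit 0x7bdef78440), nat_lit 3⟩], [[nat_lit 29], [nat_lit 37]], (nat_lit 0xa28407102038612204891018309102438912185070a103880e18384061c3870a202870a284041210303101828604182030a08080)⟩]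

noncomputable def lk2 : List (List ℕ) :=
  [[], []]

noncomputable def d2_0 : Nd :=
  ⟨nat_lit 1, nat_lit 20, [(nat_lit 51, (unp (nat_lit 6) (nat_lit 0x9a79e604))), (nat_lit 8, [nat_lit 29])], [⟨nat_lit 0, [nat_lit 1], (nat_lit 0x7bdef78820), nat_lit 3⟩, ⟨nat_lit 3, [nat_lit 0], (nat_lit 0x785e203def), nat_lit 3⟩],
  [⟨[nat_lit 0, nat_lit 1], (nat_lit 0x40c10404041830800082060c082060818406040840404183040c1020208102040410404081800800101020400002080010008080), [(nat_lit 13, nat_lit 0, []), (nat_lit 19, nat_lit 14, [nat_lit 28, nat_lit 39]), (nat_lit 21, nat_lit 50, (unp (nat_lit 6) (nat_lit 0x2776403))), (nat_lit 23, nat_lit 3, [nat_lit 37]), (nat_lit 33, nat_lit 9, [nat_lit 29, nat_lit 39]), (nat_lit 39, nat_lit 16, [nat_lit 36, nat_lit 40]), (nat_lit 58, nat_lit 5, [nat_lit 38]), (nat_lit 89, nat_lit 8, [nat_lit 29, nat_lit 40])]⟩,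
  ⟨[nat_lit 0, nat_lit 1], (nat_lit 0x80c181021020208081030608082060c101020c102020018200080820400101060c10202101030800102060408002080020204000), [(nat_lit 12, nat_lit 0, []), (nat_lit 17, nat_lit 5, [nat_lit 39]), (nat_lit 20, nat_lit 1, [nat_lit 37]), (nat_lit 26, nat_lit 34, (unp (nat_lit 6) (nat_lit 0x2776403))), (nat_lit 47, nat_lit 14, [nat_lit 36, nat_lit 39]), (nat_lit 75, nat_lit 31, (unp (nat_lit 6) (nat_lit 0x249a503))), (nat_lit 94, nat_lit 26, [nat_lit 41, nat_lit 40]), (nat_lit 109, nat_lit 8, [nat_lit 37, nat_lit 38])]⟩]⟩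

noncomputable def d2_1 : Nd :=
  ⟨nat_lit 2, nat_lit 20, [(nat_lit 4, [nat_lit 40, nat_lit 40]), (nat_lit 53, (unp (nat_lit 6) (nat_lit 0xa28a669dc06)))], [⟨nat_lit 0, [nat_lit 1], (nat_lit 0x7bdef78440), nat_lit 3⟩, ⟨nat_lit 5, [nat_lit 0], (nat_lit 0x1040f7bdef), nat_lit 3⟩],
  [⟨[nat_lit 0, nat_lit 1], (nat_lit 0x804081060c1820204184040c082000c10202000830408202040010202102020808003060c1000204102040c00102081810400100), [(nat_lit 11, nat_lit 0, []), (nat_lit 15, nat_lit 2, [nat_lit 28]), (nat_lit 18, nat_lit 9, [nat_lit 29, nat_lit 39]), (nat_lit 28, nat_lit 21, [nat_lit 38, nat_lit 28]), (nat_lit 30, nat_lit 38, (unp (nat_lit 6) (nat_lit 0x2795c03))), (nat_lit 79, nat_lit 43, (unp (nat_lit 6) (nat_lit 0x259dc03))), (nat_lit 105, nat_lit 16, [nat_lit 36, nat_lit 40]), (nat_lit 122, nat_lit 30, (unp (nat_lit 6) (nat_lit 0x259dd03)))]⟩,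
  ⟨[nat_lit 0, nat_lit 1], (nat_lit 0x40c180080810106040810808182080c10402100010608081020c1820408103040c00204080830408004000008302001000204101), [(nat_lit 14, nat_lit 4, [nat_lit 40]), (nat_lit 16, nat_lit 10, [nat_lit 37, nat_lit 39]), (nat_lit 22, nat_lit 56, (unp (nat_lit 6) (nat_lit 0x9e59a404))), (nat_lit 32, nat_lit 6, [nat_lit 41]), (nat_lit 35, nat_lit 13, [nat_lit 36, nat_lit 40]), (nat_lit 40, nat_lit 21, [nat_lit 39, nat_lit 37]), (nat_lit 73, nat_lit 11, [nat_lit 37, nat_lit 41]), (nat_lit 104, nat_lit 37, (unp (nat_lit 6) (nat_lit 0x269e503)))]⟩]⟩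

noncomputable def d2_2 : Nd :=
  ⟨nat_lit 23, nat_lit 30, [(nat_lit 55, (unp (nat_lit 6) (nat_lit 0x29a289a705))), (nat_lit 56, (unp (nat_lit 6) (nat_lit 0xa29a1d04)))], [⟨nat_lit 0, [nat_lit 1], (nat_lit 0x7bdef78820), nat_lit 3⟩, ⟨nat_lit 3, [nat_lit 0], (nat_lit 0x785ef03def), nat_lit 2⟩],
  [⟨[nat_lit 1], (nat_lit 0x80c1020804103040c20506040830a10001000c082080820206140850a042010810282061408004000030a0400004101800a00280), [(nat_lit 25, nat_lit 0, []), (nat_lit 31, nat_lit 14, [nat_lit 28, nat_lit 39]), (nat_lit 36, nat_lit 8, [nat_lit 29, nat_lit 40]), (nat_lit 37, nat_lit 4, [nat_lit 36]), (nat_lit 42, nat_lit 13, [nat_lit 28, nat_lit 40]), (nat_lit 46, nat_lit 16, [nat_lit 36, nat_lit 40]), (nat_lit 49, nat_lit 39, (unp (nat_lit 6) (nat_lit 0x2891c03))), (nat_lit 71, nat_lit 41, (unp (nat_lit 6) (nat_lit 0x269dc03))), (nat_lit 98, nat_lit 9, [nat_lit 29, nat_lit 39]), (nat_lit 118, nat_lit 2, [nat_lit 28])]⟩,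
  ⟨[nat_lit 1], (nat_lit 0x404083080c1020814102021020408081840810180060008204140850a04205000c28304040850214000060c00206040000a00280), [(nat_lit 24, nat_lit 0, []), (nat_lit 27, nat_lit 2, [nat_lit 36]), (nat_lit 29, nat_lit 5, [nat_lit 39]), (nat_lit 34, nat_lit 9, [nat_lit 37, nat_lit 40]), (nat_lit 38, nat_lit 13, [nat_lit 36, nat_lit 40]), (nat_lit 41, nat_lit 34, (unp (nat_lit 6) (nat_lit 0x2776403))), (nat_lit 48, nat_lit 23, [nat_lit 39, nat_lit 41]), (nat_lit 63, nat_lit 36, (unp (nat_lit 6) (nat_lit 0x24a2403))), (nat_lit 81, nat_lit 12, [nat_lit 36, nat_lit 29]), (nat_lit 92, nat_lit 4, [nat_lit 40])]⟩]⟩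

noncomputable def d2_3 : Nd :=
  ⟨nat_lit 58, nat_lit 5, [(nat_lit 67, [nat_lit 41, nat_lit 40]), (nat_lit 69, (unp (nat_lit 6) (nat_lit 0x28a689a705))), (nat_lit 59, [nat_lit 29])], [⟨nat_lit 0, [nat_lit 2], (nat_lit 0x7bdef78820), nat_lit 3⟩, ⟨nat_lit 3, [nat_lit 0, nat_lit 1], (nat_lit 0x89e203def), nat_lit 4⟩, ⟨nat_lit 4, [nat_lit 0], (nat_lit 0x105e07bdef), nat_lit 3⟩],
  [⟨[nat_lit 0, nat_lit 2], (nat_lit 0x61428408141860808381081830404141810410003101c18306080820c04285040c1040414305060c204020818006081840408080), [(nat_lit 62, nat_lit 0, []), (nat_lit 74, nat_lit 8, [nat_lit 29, nat_lit 40]), (nat_lit 87, nat_lit 37, (unp (nat_lit 6) (nat_lit 0x2895c03)))]⟩,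
  ⟨[nat_lit 0, nat_lit 2], (nat_lit 0xc1028302102070c141830c10385060c40608082020608282060c18408042860408204041008506142020a0c18502100020c04000), [(nat_lit 61, nat_lit 0, []), (nat_lit 72, nat_lit 1, [nat_lit 37]), (nat_lit 124, nat_lit 5, [nat_lit 39])]⟩]⟩

noncomputable def d2_4 : Nd :=
  ⟨nat_lit 75, nat_lit 5, [(nat_lit 76, [nat_lit 40]), (nat_lit 84, [nat_lit 41, nat_lit 40]), (nat_lit 88, (unp (nat_lit 6) (nat_lit 0xa28a68a269e799d0a)))], [⟨nat_lit 0, [nat_lit 2], (nat_lit 0x7bdef78820), nat_lit 3⟩, ⟨nat_lit 4, [nat_lit 0, nat_lit 1], (nat_lit 0x104407bdef), nat_lit 4⟩, ⟨nat_lit 5, [nat_lit 0], (nat_lit 0x880f7bdef), nat_lit 3⟩],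
  [⟨[nat_lit 0, nat_lit 2], (nat_lit 0xa081820804187081c1040614104061818206080840a083030a0c3050610084060c2060a141040a0010506100020c102030a04080), [(nat_lit 78, nat_lit 0, []), (nat_lit 82, nat_lit 9, [nat_lit 29, nat_lit 39]), (nat_lit 107, nat_lit 14, [nat_lit 28, nat_lit 39])]⟩,
  ⟨[nat_lit 0, nat_lit 2], (nat_lit 0xa101830a0c20308102830208304061818506102020c141040a10203081838208141850808184060400604000850e140800808082), [(nat_lit 80, nat_lit 4, [nat_lit 40]), (nat_lit 86, nat_lit 13, [nat_lit 36, nat_lit 40]), (nat_lit 114, nat_lit 10, [nat_lit 37, nat_lit 39])]⟩]⟩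

noncomputable def d2_5 : Nd :=
  ⟨nat_lit 89, nat_lit 10, [(nat_lit 96, [nat_lit 40, nat_lit 41]), (nat_lit 102, (unp (nat_lit 6) (nat_lit 0x289a703))), (nat_lit 100, (unp (nat_lit 6) (nat_lit 0x28a5d03)))], [⟨nat_lit 0, [nat_lit 2], (nat_lit 0x7bdef78820), nat_lit 3⟩, ⟨nat_lit 3, [nat_lit 1], (nat_lit 0x785ef03def), nat_lit 2⟩, ⟨nat_lit 4, [nat_lit 0], (nat_lit 0xbc407bdef), nat_lit 3⟩],
  [⟨[nat_lit 0, nat_lit 2], (nat_lit 0x60c10304141040414201080c30206141860a14186081420404101010a042820618303040418404041050c0808504042000800000), [(nat_lit 91, nat_lit 1, [nat_lit 29]), (nat_lit 93, nat_lit 0, []), (nat_lit 103, nat_lit 4, [nat_lit 36]), (nat_lit 120, nat_lit 2, [nat_lit 28])]⟩,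
  ⟨[nat_lit 0, nat_lit 2], (nat_lit 0x60c305040c182060c1030a1430608102040a0420404041820c0410502042860410202080818604042810a1400204080820400000), [(nat_lit 90, nat_lit 0, []), (nat_lit 97, nat_lit 2, [nat_lit 36]), (nat_lit 106, nat_lit 1, [nat_lit 37]), (nat_lit 108, nat_lit 9, [nat_lit 37, nat_lit 40])]⟩]⟩

noncomputable def d2_6 : Nd :=
  ⟨nat_lit 109, nat_lit 5, [(nat_lit 115, (unp (nat_lit 6) (nat_lit 0x29a2803))), (nat_lit 117, (unp (nat_lit 6) (nat_lit 0xa299a79e606))), (nat_lit 112, [nat_lit 28])], [⟨nat_lit 0, [nat_lit 2], (nat_lit 0x7bdef78440), nat_lit 3⟩, ⟨nat_lit 3, [nat_lit 0, nat_lit 1], (nat_lit 0x89e203def), nat_lit 4⟩, ⟨nat_lit 4, [nat_lit 0], (nat_lit 0x89e07bdef), nat_lit 3⟩],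
  [⟨[nat_lit 0, nat_lit 2], (nat_lit 0x61c2050a10303100c283061830208103050814203081418604101040608207080c1850210304060c002040418002041050404100), [(nat_lit 110, nat_lit 0, []), (nat_lit 113, nat_lit 13, [nat_lit 28, nat_lit 40]), (nat_lit 125, nat_lit 8, [nat_lit 29, nat_lit 40])]⟩,
  ⟨[nat_lit 0, nat_lit 2], (nat_lit 0xa1030504142840a183060a1020406201830a0c384040c304060c10208082050218204081c2030a0c2010c0c28302040000408100), [(nat_lit 119, nat_lit 4, [nat_lit 40]), (nat_lit 121, nat_lit 0, []), (nat_lit 123, nat_lit 5, [nat_lit 39])]⟩]⟩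

noncomputable def ds2 : List Nd :=
  [d2_0, d2_1, d2_2, d2_3, d2_4, d2_5, d2_6]

noncomputable def ks2 : List ℕ :=
  (unp (nat_lit 7) (nat_lit 0x1b6ccb745c10107))

def kc2 : List (ℕ × ℕ) := [(0, 1), (1, 20), (2, 20), (23, 30), (58, 5), (75, 5), (89, 10), (109, 5)]

theorem Rn3 : Nat.beq R3.length 10 = true := by decide +kernel

theorem Nn3 : Nat.beq N3.length 5 = true := by decide +kernel

theorem A2_p : actP 5 8 n2 42 = true := by decide +kernel

theorem A2_l_0 : rng (actL 5 8 n2 dom2 (2 * 19) us2) (nat_lit 0) (nat_lit 42) = true := by decide +kernel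

theorem A2_r_0 : rng (fun i => relN 5 8 n2 (2 * 19) (nthD ([], nat_lit 0) R2 i)) (nat_lit 0) (nat_lit 5) = true := by decide +kernel

theorem hr2 : relsOk mul one lc2 dom2 nodes2 2 (2 * 19) R3 sb2 0 rs2 = true := by decide +kernel

theorem hc2_0 : rng (chk mul one wf T2 lc2 (mapR (fun e => e.2.2) rs2) 2) (nat_lit 0) (nat_lit 126) = true := by decide +kernel

theorem AQ2_1_p : actP 7 60 q2_1 42 = true := by decide +kernel

theorem AQ2_1_l_0 : rng (actL 7 60 q2_1 dom2 (2 * 19) us2) (nat_lit 0) (nat_lit 42) = true := by decide +kernel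

theorem AQ2_1_r_0 : rng (fun i => relN 7 60 q2_1 (2 * 19) (nthD ([], nat_lit 0) R2 i)) (nat_lit 0) (nat_lit 5) = true := by decide +kernel

theorem AQ2_2_p : actP 7 60 q2_2 42 = true := by decide +kernel

theorem AQ2_2_l_0 : rng (actL 7 60 q2_2 dom2 (2 * 19) us2) (nat_lit 0) (nat_lit 42) = true := by decide +kernel

theorem AQ2_2_r_0 : rng (fun i => relN 7 60 q2_2 (2 * 19) (nthD ([], nat_lit 0) R2 i)) (nat_lit 0) (nat_lit 5) = true := by decide +kernel

theorem la2 : ldA mul one T2 126 lc2 8 5 n2 ls2 2 = true := by decide +kernel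

theorem lb2 : ldB 180 Qs2 ls2 2 = true := by decide +kernel

theorem na2_0 : rng (fun i => ndA mul one T2 126 lc2 8 5 n2 180 (nthD ⟨nat_lit 0, nat_lit 0, [], [], []⟩ ds2 i)) (nat_lit 0) (nat_lit 7) = true := by decide +kernel

theorem nb2_0 : rng (fun i => ndB mul one T2 126 lc2 ks2 Qs2 2 (nthD ⟨nat_lit 0, nat_lit 0, [], [], []⟩ ds2 i)) (nat_lit 0) (nat_lit 7) = true := by decide +kernel

theorem dn2 : Nat.beq ds2.length 7 = true := by decide +kernel

theorem hk2 : ks2 = ds2.map Nd.k := by decide +kernel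

theorem hkc2 : kc2 = (0, 1) :: ds2.map fun d => (d.k, d.c) := by decide +kernel

theorem lo2 : linkOk mul one T2 126 ks2 lk2 2 = true := by decide +kernel

theorem do2 : domOk dom2 [11, 14, 18] nodes2 2 R3 sb2 0 = true := by decide +kernel

theorem A2_l : ∀ i < 42, (actL 5 8 n2 dom2 (2 * 19) us2) i = true :=
  (rng_add rng_zero A2_l_0)

theorem A2_r : ∀ i < 5, (fun i => relN 5 8 n2 (2 * 19) (nthD ([], nat_lit 0) R2 i)) i = true :=
  (rng_add rng_zero A2_r_0)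

theorem hc2 : ∀ i < 126, (chk mul one wf T2 lc2 (mapR (fun e => e.2.2) rs2) 2) i = true :=
  (rng_add rng_zero hc2_0)

theorem AQ2_1_l : ∀ i < 42, (actL 7 60 q2_1 dom2 (2 * 19) us2) i = true :=
  (rng_add rng_zero AQ2_1_l_0)

theorem AQ2_1_r : ∀ i < 5, (fun i => relN 7 60 q2_1 (2 * 19) (nthD ([], nat_lit 0) R2 i)) i = true :=
  (rng_add rng_zero AQ2_1_r_0)

theorem AQ2_2_l : ∀ i < 42, (actL 7 60 q2_2 dom2 (2 * 19) us2) i = true :=
  (rng_add rng_zero AQ2_2_l_0)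

theorem AQ2_2_r : ∀ i < 5, (fun i => relN 7 60 q2_2 (2 * 19) (nthD ([], nat_lit 0) R2 i)) i = true :=
  (rng_add rng_zero AQ2_2_r_0)

theorem na2 : ∀ i < 7, (fun i => ndA mul one T2 126 lc2 8 5 n2 180 (nthD ⟨nat_lit 0, nat_lit 0, [], [], []⟩ ds2 i)) i = true :=
  (rng_add rng_zero na2_0)

theorem nb2 : ∀ i < 7, (fun i => ndB mul one T2 126 lc2 ks2 Qs2 2 (nthD ⟨nat_lit 0, nat_lit 0, [], [], []⟩ ds2 i)) i = true :=
  (rng_add rng_zero nb2_0)

section
universe u v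
variable {R : Type v} {ι : Type} [CommRing R] [Fintype ι] [DecidableEq ι] (V : VCod R ι 11 11 app wfT) (h2 : V.mat one = 1)

theorem A2 : Act.{0} (((S V h2).sub (mdl (g V h2) dom2)).gen lc2) 8 5 n2 :=
  act_of_up (L2 V h2) (U2 V h2) A2_p A2_l (by decide) (allR Rn2 A2_r)

theorem AQ2_1 : Act.{0} (((S V h2).sub (mdl (g V h2) dom2)).gen lc2) 60 7 q2_1 :=
  act_of_up (L2 V h2) (U2 V h2) AQ2_1_p AQ2_1_l (by decide) (allR Rn2 AQ2_1_r)

theorem AQ2_2 : Act.{0} (((S V h2).sub (mdl (g V h2) dom2)).gen lc2) 60 7 q2_2 :=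
  act_of_up (L2 V h2) (U2 V h2) AQ2_2_p AQ2_2_l (by decide) (allR Rn2 AQ2_2_r)

theorem C2 : Cert.{u} ((S V h2).sub (mdl (g V h2) dom2)) T2 126 (mgen (g V h2) dom2) dom2 [11, 14, 18] nodes2 2 (R2 ++ N3) kc2 :=
  have := fin2 V h2
  cert_of (L2 V h2) (card2 V h2).le (A2 V h2) (Qs := Qs2) (List.forall_mem_cons.2 ⟨AQ2_1 V h2, List.forall_mem_cons.2 ⟨AQ2_2 V h2, List.forall_mem_nil _⟩⟩) hr2 hc2 la2 lb2 hk2 (allR dn2 na2) (allR dn2 nb2) lo2 do2 hkc2

end

def dom3 : List ℕ := [11, 14, 18]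

noncomputable def us3 : List (List ℕ) :=
  [(unp (nat_lit 6) (nat_lit 0x72595d04)), (unp (nat_lit 6) (nat_lit 0x92591704)), (unp (nat_lit 6) (nat_lit 0x269a79a605)), (unp (nat_lit 6) (nat_lit 0x269a6a2605)), (unp (nat_lit 6) (nat_lit 0x9e9a2904)), (unp (nat_lit 6) (nat_lit 0x28aa9a2705)), (unp (nat_lit 6) (nat_lit 0x9eaa6a9e806)), (unp (nat_lit 6) (nat_lit 0x2bb2c03)), (unp (nat_lit 6) (nat_lit 0xb6cb2b04)), (unp (nat_lit 6) (nat_lit 0xaebaeb04))]

noncomputable def lc3 : List ℕ :=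
  [one,
  one,
  one,
  one,
  one,
  one,
  one,
  one,
  one,
  one,
  one,
  one,
  one,
  one,
  one,
  one,
  one,
  one,
  one,
  one,
  one,
  one,
  nthD one bc (nat_lit 22),
  nthD one bc (nat_lit 23),
  one,
  one,
  one,
  one,
  nthD one bc (nat_lit 28),
  nthD one bc (nat_lit 29),
  one,
  one,
  one,
  one,
  one,
  one,
  nthD one bc (nat_lit 36),
  nthD one bc (nat_lit 37),
  (nat_lit 0xb0010380a00c037000800c0280d00f),
  (nat_lit 0x1102f05403c0203600040380580400b),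
  (nat_lit 0x1f00601804c1c803001e0380600900b),
  (nat_lit 0x1d8300680b81e02f001e00803809013),
  (nat_lit 0x1002f0780240201b00020380300d01f),
  (nat_lit 0x130080680180d830001802c05002011),
  (nat_lit 0x1003203206c17004000803007009019),
  (nat_lit 0x1682f03a0340201c000801c05006011),
  (nat_lit 0x1f00c0080601801300180200300d009),
  (nat_lit 0xf0120260bc08019001001001001001)]

noncomputable def v3_0 : VL :=
  ⟨(nat_lit 640), [[nat_lit 22], [nat_lit 28], [nat_lit 36]], nat_lit 2, [(nat_lit 0xc181701c160180b520)], nat_lit 5, nat_lit 18⟩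

noncomputable def v3_1 : VL :=
  ⟨(nat_lit 12), [(unp (nat_lit 6) (nat_lit 0x59caaaaeeb2c08)), (unp (nat_lit 6) (nat_lit 0x5e7b2caef06))], nat_lit 2, [(nat_lit 0x1582550b)], nat_lit 4, nat_lit 10⟩

noncomputable def v3_2 : VL :=
  ⟨(nat_lit 1879), [(unp (nat_lit 6) (nat_lit 0x756a2cb2bbac08)), (unp (nat_lit 6) (nat_lit 0x91d5a9a27bac08)), (unp (nat_lit 6) (nat_lit 0x247569e69ecb2bb2c0b))], nat_lit 2, [(nat_lit 0x3203)], nat_lit 2, nat_lit 3⟩

noncomputable def v3_3 : VL :=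
  ⟨(nat_lit 897), [(unp (nat_lit 6) (nat_lit 0x25756a2bbac07)), (unp (nat_lit 6) (nat_lit 0x756a2cb2bbac08)), (unp (nat_lit 6) (nat_lit 0x1c5a7a2baee07)), (unp (nat_lit 6) (nat_lit 0xaa7aebbac06))], nat_lit 3, [(nat_lit 0x301905)], nat_lit 2, nat_lit 4⟩

noncomputable def v3_4 : VL :=
  ⟨(nat_lit 694), [(unp (nat_lit 6) (nat_lit 0x1c5a79a7aebb2c09)), (unp (nat_lit 6) (nat_lit 0x756a2cb2bbac08)), (unp (nat_lit 6) (nat_lit 0x1d5a79a7aeeb2c09))], nat_lit 2, [(nat_lit 257)], nat_lit 1, nat_lit 2⟩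

noncomputable def v3_5 : VL :=
  ⟨(nat_lit 6), [(unp (nat_lit 6) (nat_lit 0x1d5a79a7aeeb2c09)), (unp (nat_lit 6) (nat_lit 0x1ca2ab6baef07))], nat_lit 2, [(nat_lit 257)], nat_lit 1, nat_lit 2⟩

noncomputable def v3_6 : VL :=
  ⟨(nat_lit 597), [(unp (nat_lit 6) (nat_lit 0x1ca2ab6baef07))], nat_lit 1, [(nat_lit 257)], nat_lit 1, nat_lit 2⟩

noncomputable def vl3 : List VL :=
  [v3_0, v3_1, v3_2, v3_3, v3_4, v3_5, v3_6]

theorem lco3 : lcOk mul one bc lc3 dom3 (2 * 19) us3 48 = true := by decide +kernel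

theorem rc3_0 : rng (fun i => relC mul one bc (2 * 19) (nthD ([], nat_lit 0) N3 i)) (nat_lit 0) (nat_lit 5) = true := by decide +kernel

theorem sm2 : Nat.beq ((kc2.map Prod.snd).sum * 180) 17280 = true := by decide +kernel

theorem vc3 : vchainOk (app 11 1) (wfT 11 1) mul one lc3 [] vl3 = true := by decide +kernel

theorem vf3 : band (allL (fun i => memL i dom3) dom0) (VCod.fixD (app 11 1) (wfT 11 1) one bc dom0 vl3) = true := by decide +kernel

theorem vp3 : (vl3.map VL.d).prod * 1 = 17280 := by decide +kernel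

theorem rd3 : allL (fun r => allL (fun l => memL (Nat.shiftRight l (nat_lit 1)) dom3) r.1) (R2 ++ N3) = true := by decide +kernel

theorem rc3 : ∀ i < 5, (fun i => relC mul one bc (2 * 19) (nthD ([], nat_lit 0) N3 i)) i = true :=
  (rng_add rng_zero rc3_0)

section
universe u v
variable {R : Type v} {ι : Type} [CommRing R] [Fintype ι] [DecidableEq ι] (V : VCod R ι 11 11 app wfT) (h2 : V.mat one = 1)

theorem L3 : Lc ((S V h2).sub (mdl (g V h2) dom3)) (mgen (g V h2) dom3) lc3 dom3 (2 * 19) us3 48 :=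
  lc_of (S V h2) (h0 V h2) bco lco3

theorem rel3 : Rels R3 (g V h2) := (rel2 V h2).append ((S V h2).rels (h0 V h2) bco (allR Nn3 rc3))

theorem le3 : Finite (mdl (g V h2) dom3) ∧ Nat.card (mdl (g V h2) dom3) ≤ 17280 :=
  have := fin2 V h2
  step_le (C2 V h2) (U2 V h2) (rel3 V h2) (card2 V h2) sm2

theorem fin3 : Finite (mdl (g V h2) dom3) := (le3 V h2).1

theorem card3 : Nat.card (mdl (g V h2) dom3) = 17280 := by
  have : Finite (mdl ((V.sem h1 h2).bg bc) dom3) := fin3 V h2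
  have h := V.le_card_mdl h1 h2 (h0 V h2) (L3 V h2).ok vc3 vf3
  exact le_antisymm (le3 V h2).2 (le_trans (vp3.symm.trans (congrArg (HMul.hMul (vl3.map VL.d).prod) (card0 V h2).symm)).le h)

theorem U3 : UP.{0} (mgen (g V h2) dom3) dom3 R3 :=
  have := fin2 V h2
  step_up (C2 V h2) (U2 V h2) (rel3 V h2) (card2 V h2) sm2 (card3 V h2) rd3

end

noncomputable def kcN : List (List ℕ × ℕ) :=
  [([nat_lit 34, nat_lit 35], nat_lit 1),
  ([nat_lit 34], nat_lit 3),
  ((unp (nat_lit 6) (nat_lit 0x8e48a589706)), nat_lit 1),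
  ((unp (nat_lit 6) (nat_lit 0x5e395d04)), nat_lit 2),
  ((unp (nat_lit 6) (nat_lit 0x8969225a58a408)), nat_lit 1),
  ((unp (nat_lit 6) (nat_lit 0x5a48a504)), nat_lit 2)]

noncomputable def kcrs : List (ℕ × ℕ × List (ℕ × ℕ)) :=
  [(nat_lit 10, nat_lit 0, [(nat_lit 2, (nat_lit 0x1001001001001001001001001001001)), (nat_lit 1, (nat_lit 0x1001001001001001001001001001001))]),
  (nat_lit 11, nat_lit 0, [(nat_lit 1, (nat_lit 0x1001001001001001001001001001001)), (nat_lit 1, (nat_lit 0x1001001001001001001001001001001)), (nat_lit 1, (nat_lit 0x1001001001001001001001001001001))]),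
  (nat_lit 12, nat_lit 0, [(nat_lit 2, (nat_lit 0x1680506a0e01980c00090100100a00e)), (nat_lit 1, (nat_lit 0x160340380740b80d000601001006818)), (nat_lit 1, (nat_lit 0x38020140f009013001e03805800818))]),
  (nat_lit 13, nat_lit 7, [(nat_lit 2, (nat_lit 0xb0230180d81a02b001701403809014)), (nat_lit 2, (nat_lit 0xb0230180d81a02b001701403809014))]),
  (nat_lit 14, nat_lit 0, [(nat_lit 1, (nat_lit 0x1483606005c0283f000301a01800814)), (nat_lit 1, (nat_lit 0xa0230500081a01a001a0040400700d)), (nat_lit 1, (nat_lit 0x1680506a0e01980c00090100100a00e))]),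
  (nat_lit 15, nat_lit 6, [(nat_lit 1, (nat_lit 0x70080220b80d818000701a0180f80e)), (nat_lit 1, (nat_lit 0x70080220b80d818000701a0180f80e))])]

noncomputable def kcT : Tr :=
  (.nd (nat_lit 12) (.nd (nat_lit 6) (.nd (nat_lit 3) (.nd (nat_lit 1) (.lf ⟨nat_lit 0, nat_lit 0, nat_lit 0, one, one, one, .triv⟩)
 (.nd (nat_lit 2) (.lf ⟨nat_lit 0, nat_lit 0, nat_lit 0, one, one, one, .triv⟩)
 (.lf ⟨nat_lit 0, nat_lit 0, nat_lit 0, one, one, one, .triv⟩)))
 (.nd (nat_lit 4) (.lf ⟨nat_lit 1, nat_lit 2, nat_lit 0, one, one, one, (.wt (nat_lit 0) (nat_lit 0) one (.sp .nil) [] [])⟩)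
 (.nd (nat_lit 5) (.lf ⟨nat_lit 2, nat_lit 1, nat_lit 0, one, one, one, (.wt (nat_lit 0) (nat_lit 1) one (.sp .nil) [] [])⟩)
 (.lf ⟨nat_lit 2, nat_lit 2, nat_lit 0, (nat_lit 0xb0230180d81a02b001701403809014), (nat_lit 0x1203f02206403032000d00e0300781e), one, (.wt (nat_lit 3) (nat_lit 0) one (.sp .nil) [] [])⟩))))
 (.nd (nat_lit 9) (.nd (nat_lit 7) (.lf ⟨nat_lit 0, nat_lit 2, nat_lit 1, (nat_lit 0xb0230180d81a02b001701403809014), one, (nat_lit 0x1203f02206403032000d00e0300781e), (.we (nat_lit 0) (nat_lit 0) (nat_lit 0xb0230180d81a02b001701403809014) (.st (nat_lit 5) [] [] (.sp .nil)))⟩)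
 (.nd (nat_lit 8) (.lf ⟨nat_lit 1, nat_lit 1, nat_lit 0, (nat_lit 0x1203f02206403032000d00e0300781e), one, (nat_lit 0xb0230180d81a02b001701403809014), (.ren (nat_lit 3) [] [nat_lit 6] [])⟩)
 (.lf ⟨nat_lit 1, nat_lit 1, nat_lit 0, (nat_lit 0x70080220b80d818000701a0180f80e), (nat_lit 0x120110200a80d019001700a0640e814), one, (.wt (nat_lit 5) (nat_lit 0) one (.sp .nil) [] [])⟩)))
 (.nd (nat_lit 10) (.lf ⟨nat_lit 0, nat_lit 1, nat_lit 2, (nat_lit 0x70080220b80d818000701a0180f80e), one, (nat_lit 0x120110200a80d019001700a0640e814), (.we (nat_lit 0) (nat_lit 1) (nat_lit 0x70080220b80d818000701a0180f80e) (.st (nat_lit 8) [] [] (.sp .nil)))⟩)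
 (.nd (nat_lit 11) (.lf ⟨nat_lit 0, nat_lit 1, nat_lit 1, (nat_lit 0x700c0100601802f00080200700a816), one, (nat_lit 0x1e80d07e0cc1401c00100240500c001), (.prod [nat_lit 9, nat_lit 6])⟩)
 (.lf ⟨nat_lit 1, nat_lit 1, nat_lit 1, (nat_lit 0x160340380740b80d000601001006818), (nat_lit 0x1e8120300cc0800300150280240c002), (nat_lit 0x160340380740b80d000601001006818), (.wt (nat_lit 2) (nat_lit 0) one (.st (nat_lit 4) [] [] (.sp .nil)) [] [])⟩)))))
 (.nd (nat_lit 18) (.nd (nat_lit 15) (.nd (nat_lit 13) (.lf ⟨nat_lit 1, nat_lit 1, nat_lit 1, one, (nat_lit 0x1203f02206403032000d00e0300781e), (nat_lit 0x1203f02206403032000d00e0300781e), (.wt (nat_lit 1) (nat_lit 0) (nat_lit 0x1203f02206403032000d00e0300781e) (.st (nat_lit 7) [] [] (.sp .nil)) [] [])⟩)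
 (.nd (nat_lit 14) (.lf ⟨nat_lit 1, nat_lit 1, nat_lit 1, (nat_lit 0xa0230500081a01a001a0040400700d), (nat_lit 0x188030720940500f00140220300c807), (nat_lit 0x148380040241380f001000c0380100f), (.wt (nat_lit 4) (nat_lit 0) (nat_lit 0x1203f02206403032000d00e0300781e) (.st (nat_lit 7) [] [] (.sp .nil)) [] [])⟩)
 (.lf ⟨nat_lit 1, nat_lit 1, nat_lit 1, (nat_lit 0x1680506a0e01980c00090100100a00e), (nat_lit 0xb0010380a00c037000800c0280d00f), (nat_lit 0x110180660f00c804000c00c03803816), (.wt (nat_lit 4) (nat_lit 1) (nat_lit 0x1203f02206403032000d00e0300781e) (.st (nat_lit 7) [] [] (.sp .nil)) [] [])⟩)))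
 (.nd (nat_lit 16) (.lf ⟨nat_lit 1, nat_lit 1, nat_lit 1, (nat_lit 0x1e8120300cc0800300150280240c002), (nat_lit 0x1680506a0e01980c00090100100a00e), (nat_lit 0x1601906c0300082b001703a0540e00d), (.wt (nat_lit 1) (nat_lit 2) (nat_lit 0x1680506a0e01980c00090100100a00e) (.st (nat_lit 14) [] [] (.st (nat_lit 11) [] [nat_lit 10] .nil)) [] [])⟩)
 (.nd (nat_lit 17) (.lf ⟨nat_lit 2, nat_lit 1, nat_lit 1, (nat_lit 0x1d83202206c17017001201e02809815), (nat_lit 0xa0230500081a01a001a0040400700d), (nat_lit 0x1601c00802019001001003007c0e80e), (.wt (nat_lit 2) (nat_lit 1) (nat_lit 0x1e8120300cc0800300150280240c002) (.st (nat_lit 15) [] [] (.st (nat_lit 12) [] [] .nil)) [] [])⟩)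
 (.lf ⟨nat_lit 0, nat_lit 1, nat_lit 1, (nat_lit 0x1103004e0941e034000701604c08806), one, (nat_lit 0x110330120081b00f001002c0540b80a), (.we (nat_lit 0) (nat_lit 0) (nat_lit 0x1d83202206c17017001201e02809815) (.st (nat_lit 16) [] [] (.st (nat_lit 13) [] [] .nil)))⟩))))
 (.nd (nat_lit 21) (.nd (nat_lit 19) (.lf ⟨nat_lit 0, nat_lit 1, nat_lit 1, (nat_lit 0x1f00204e05c09028000b00e07c09005), one, (nat_lit 0xa8040460a015838001000e0140300a), (.prod [nat_lit 10, nat_lit 17])⟩)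
 (.nd (nat_lit 20) (.lf ⟨nat_lit 0, nat_lit 1, nat_lit 1, (nat_lit 0xf01203e08c08025000b00e07c0481e), one, (nat_lit 0x700501404019835001001a0380600a), (.inv (nat_lit 18))⟩)
 (.lf ⟨nat_lit 0, nat_lit 1, nat_lit 1, (nat_lit 0x100100740d80101d00040380400d019), one, (nat_lit 0x100100100100100100100260100c801), (.prod (unp (nat_lit 5) (nat_lit 0x4d5103)))⟩)))
 (.nd (nat_lit 22) (.lf ⟨nat_lit 0, nat_lit 1, nat_lit 1, (nat_lit 0x700c0100601802f00080200700a816), one, (nat_lit 0x1e80d07e0cc1401c00100240500c001), (.inv (nat_lit 10))⟩)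
 (.nd (nat_lit 23) (.lf ⟨nat_lit 0, nat_lit 1, nat_lit 1, (nat_lit 0x700c0100601802f00080200700a816), one, (nat_lit 0x148250720140682e00100240500c001), (.we (nat_lit 4) (nat_lit 0) one (.st (nat_lit 12) [] [] (.st (nat_lit 12) [] [nat_lit 20, nat_lit 18] (.st (nat_lit 14) [] [nat_lit 20, nat_lit 18] .nil))))⟩)
 (.lf ⟨nat_lit 0, nat_lit 1, nat_lit 1, one, one, (nat_lit 0xf0120260bc08019001001001001001), (.prod [nat_lit 22, nat_lit 21])⟩))))))

def kcz : List ℕ := [22, 37, 22, 37, 22, 37, 22, 37]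

theorem kchr : relsOk mul one lc3 dom3 [34, 35] 2 (2 * 19) (R3 ++ kcN) [] 0 kcrs = true := by decide +kernel

theorem kchc_0 : rng (chk mul one wf kcT lc3 (mapR (fun e => e.2.2) kcrs) 2) (nat_lit 0) (nat_lit 24) = true := by decide +kernel

theorem kck : 23 < 24 ∧ (kcT.look 23).j = 0 ∧ (kcT.look 23).k = (kcT.look 23).l ∧ (kcT.look 23).t = one ∧
    inDom (2 * 19) dom3 kcz = true ∧ prodW mul one lc3 kcz = (kcT.look 23).al := by decide +kernel

theorem kco : ordOk mul one lc3 kcz 1 3 = true := by decide +kernel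

theorem kchc : ∀ i < 24, (chk mul one wf kcT lc3 (mapR (fun e => e.2.2) kcrs) 2) i = true :=
  (rng_add rng_zero kchc_0)

section
universe u v
variable {R : Type v} {ι : Type} [CommRing R] [Fintype ι] [DecidableEq ι] (V : VCod R ι 11 11 app wfT) (h2 : V.mat one = 1)

include V h2 in
theorem kc {G : Type u} [Group G] {g1 : ℕ → G} (hR : Rels (R3 ++ kcN) g1) : evalW (sg g1) kcz = 1 :=
  kill_of (L3 V h2) (U3 V h2) kchr kchc hR kck

theorem kc_ord : orderOf (evalW (sg (mgen (g V h2) dom3)) kcz) = 3 := by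
  rw [← (L3 V h2).evalW_base kck.2.2.2.2.1, ← pow_one (evalW _ _)]
  exact ord_of (SInj.sub (fun _ _ => V.sem_inj h1 h2) _) (L3 V h2).ok (by norm_num) kco

end

/-- the coding of vectors of length 11 -/
noncomputable def V11 : VCod (ZMod 2) (Fin 11) 11 11 app wfT := vcodB (Equiv.refl _) (by decide)

theorem h11 : V11.mat one = 1 := V11.mat_one Nat.cast_zero Nat.cast_one (by decide +kernel)

theorem uq {G : Type*} [Group G] {g1 : ℕ → G} (hR : Rels (R3 ++ [(kcz, 1)]) g1) (hz : inDom 38 dom3 kcz = true)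
    (hd : allL (fun r => allL (fun l => memL (Nat.shiftRight l (nat_lit 1)) dom3) r.1) (R3 ++ [(kcz, 1)]) = true) :
    (Finite (mdl g1 dom3) ∧ Nat.card (mdl g1 dom3) ≤ 5760) ∧
      (Nat.card (mdl g1 dom3) = 5760 → UP.{0} (mgen g1 dom3) dom3 (R3 ++ [(kcz, 1)])) :=
  have := fin3 V11 h11
  up_quot (U3 V11 h11) (mdl_mgen _ _) (card3 V11 h11) (kc_ord V11 h11) hR hz hd

end H15.M24A
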