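import Cfsg.Agent.H15.Der

/-!
Simplicity from a primitive action, transport of relators (namespace H15).
* `simOk`, `Act.simple`; `UP.rels`, `fact_rel'`.
-/

namespace H15
open H13 MulAction

universe u v

variable {M G : Type*} [Group M] [Group G] {mul : ℕ → ℕ → ℕ} {one : ℕ} {wf : ℕ → Bool}

theorem simple_of_coatom {H : Subgroup G} [Finite G] {p : ℕ} (hc : IsCoatom H) (h0 : H.normalCore = ⊥)
    (hp : (Nat.card H).Coprime p) {g : ℕ → G} {s dom : List ℕ} {ks : List (ℕ × List ℕ × ℕ × ℕ)}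
    (hR : Rels ((s, p) :: killR s ks) g) (h : killOk dom ks = true) (hg : mdl g dom = ⊤) : IsSimpleGroup G := by
  have := nontrivial_of_coatom hc
  refine ⟨fun N hN => or_iff_not_imp_left.2 fun c => ?_⟩
  rw [eq_top_iff, ← hg]
  refine mem_of_kill (fun r hr => hR r (List.mem_cons_of_mem _ hr)) h ?_
  have hk : evalW (sg g) s ^ p = 1 := hR (_, _) List.mem_cons_self
  have h1 : orderOf ((evalW (sg g) s : G) : G ⧸ N) ∣ p :=
    orderOf_dvd_of_pow_eq_one (by rw [← QuotientGroup.mk_pow, hk]; rfl)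
  exact (QuotientGroup.eq_one_iff _).1 (orderOf_eq_one_iff.1 (Nat.eq_one_of_dvd_coprimes hp
    ((orderOf_dvd_natCard _).trans (index_dvd_card_of_sup (sup_eq_top_of_normal hc h0 c))) h1))

/-- a faithful primitive action whose point stabiliser has order `b` -/
noncomputable def simOk (w n : ℕ) (nets : List Net) (us us' : List (List ℕ)) (E E' k : ℕ) (rs cs : List ℕ)
    (lv : List Lvl) (a b : ℕ) : Bool :=
  band (transOk w n nets us E (nthN rs 0)) (band (Nat.blt (nthN rs 0) n) (band (fixOk w n nets us' [nthN rs 0])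
    (band (labOk w n nets us' E' k rs) (band (cntOk w n E' k cs) (band (Nat.beq rs.length cs.length) (band (primOk n cs)
      (band (chainOk w n nets [] lv) (band (allL (fun l => Nat.blt l.b n) lv) (band (Nat.ble a (chainProd lv))
        (Nat.beq (Nat.mul n b) a))))))))))

theorem Act.simple [Finite M] {S : Sem M mul one wf} {g0 : ℕ → M} {lc dom : List ℕ} {m2 len : ℕ}
    {us0 : List (List ℕ)} (L : Lc S g0 lc dom m2 us0 len) {n w : ℕ} {nets : List Net} (A : Act.{v} (S.gen lc) n w nets)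
    {us us' : List (List ℕ)} {E E' k a b p : ℕ} {rs cs s : List ℕ} {lv : List Lvl} {ks : List (ℕ × List ℕ × ℕ × ℕ)}
    (h : simOk w n nets us us' E E' k rs cs lv a b = true) (ha : Nat.card M = a) (hp : b.Coprime p)
    (hR : Rels ((s, p) :: killR s ks) g0) (hk : killOk dom ks = true) : IsSimpleGroup M := by
  obtain ⟨β, _, P, rfl, Y⟩ := A
  simp only [simOk, band_eq_true, Nat.blt_eq, Nat.ble_eq, Nat.beq_eq, allL_iff] at h
  obtain ⟨a1, a2, a3, a4, a5, a6, a7, a8, a9, a10, a11⟩ := h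
  have o := Y.orbit_top_eq_set a1 (fun g x hx => Y.smul_mem_set (by rw [L.top]; trivial) hx) a2
  have b5 := (stabilizer M (P.pt (nthN rs 0))).index_mul_card
  rw [index_stabilizer, o, P.ncard_set, ha, ← a11] at b5
  refine simple_of_coatom (Y.isCoatom_stabilizer o (fun u hu => Y.fix_of_ok a3 hu (by simp)) a4 a5 a6 a7)
    (normalCore_stabilizer_eq_bot o fun g _ e => Y.base_of_chain (H := ⊤) (chainIn_of_gen (fun _ => Subgroup.mem_top _) lv) a8
      (by rwa [Subgroup.card_top, ha]) trivial fun l hl => e _ (a9 l hl))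
    (Nat.eq_of_mul_eq_mul_left (by omega) b5 ▸ hp) hR hk L.gen

theorem UP.rels {g0 : ℕ → M} {dom : List ℕ} {R N : List (List ℕ × ℕ)} (U : UP.{0} g0 dom R) (hN : Rels N g0) {m2 : ℕ}
    (hd : allL (fun r => inDom m2 dom r.1) N = true) {g : ℕ → G} (hR : Rels R g) : Rels N g := fun r hr => by
  obtain ⟨ψ, hψ⟩ := U.univ G g hR
  rw [← map_base hψ (allL_iff.1 hd r hr), ← map_pow, hN r hr, map_one]

theorem rel_of_comm {g : ℕ → G} {u v : List ℕ} {i : ℕ} (h : evalW (sg g) u * sg g (2 * i) = sg g (2 * i) * evalW (sg g) v) :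
    Rels [(u ++ (2 * i) :: (invW v ++ [2 * i + 1]), 1)] g := List.forall_mem_singleton.2 (by
  simp only [evalW_append, evalW_cons, evalW_invW, evalW_nil, sg_odd, sg_even, ← mul_assoc] at h ⊢
  simp [h])

end H15
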