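import Cfsg.Agent.H15.RSb0
import Cfsg.Agent.H15.RSb1
import Cfsg.Agent.H15.RSg
import Cfsg.Agent.S2077
import Cfsg.Agent.S2051

/-! The involutions of the double cover of the Rudvalis group (namespace H15.RS): `nf`, `link`, `dat`, `model`, `main`. -/

set_option maxRecDepth 100000

namespace H15.RS
open H13 H14.PK H14.RK H27 H27.CovRu Cfsg Subgroup
open scoped commutatorElement

variable {E : Type*} [Group E]

theorem wd0 {α : Type} (a : α) (r : List α) (d : ℕ) : wdR (a :: r) (2 * d) = wdR r d := by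
  show Bool.rec (motive := fun _ => List α) (a :: wdR r (2 * d / 2)) (wdR r (2 * d / 2)) (Nat.beq (2 * d % 2) 0) = _
  rw [Nat.mul_mod_right, Nat.mul_div_cancel_left _ two_pos]; rfl

theorem wd1 {α : Type} (a : α) (r : List α) (d : ℕ) : wdR (a :: r) (2 * d + 1) = a :: wdR r d := by
  show Bool.rec (motive := fun _ => List α) (a :: wdR r ((2 * d + 1) / 2)) (wdR r ((2 * d + 1) / 2)) (Nat.beq ((2 * d + 1) % 2) 0) = _
  rw [show (2 * d + 1) / 2 = d by omega, show (2 * d + 1) % 2 = 1 by omega]; rfl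

theorem nf [Finite E] (g : ℕ → E) (L : List ℕ) (h : PcL (L.map g)) :
    ∀ x ∈ clL (L.map g), ∃ e < 2 ^ L.length, x = evalW g (wdR L e) := by
  induction L with
  | nil => exact fun x hx => ⟨0, one_pos, show x = 1 by simpa [clL] using hx⟩
  | cons a r ih =>
    obtain ⟨a1, a2, a3⟩ := h
    intro x hx
    suffices x ∈ clL (r.map g) ∨ (g a)⁻¹ * x ∈ clL (r.map g) by
      rcases this with c | c <;> obtain ⟨d, hd, e⟩ := ih a1 _ c
      · exact ⟨2 * d, by rw [List.length_cons, pow_succ]; omega, by rw [wd0, e]⟩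
      · exact ⟨2 * d + 1, by rw [List.length_cons, pow_succ]; omega, by rw [wd1, evalW_cons, ← e, mul_inv_cancel_left]⟩
    have hx' : x ∈ Submonoid.closure {x | x ∈ (a :: r).map g} := by
      rwa [← Subgroup.closure_toSubmonoid_of_finite]
    clear hx
    induction hx' using Submonoid.closure_induction_left with
    | one => exact .inl (one_mem _)
    | mul_left b hb y _ ih =>
      rcases List.mem_cons.1 hb with rfl | hb
      · exact ih.symm.imp (fun c => by simpa [mul_assoc] using mul_mem a2 c) fun c => by simpa using c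
      · exact ih.imp (mul_mem (mem_clL hb)) fun c => by simpa [mul_assoc] using mul_mem (a3 b hb) c

theorem pcl {g : ℕ → E} {D : PC} (R : PcRel D g) (hp : D.p = 2)
    (c : ∀ j < D.n, ∀ i ≤ j, ∀ l ∈ rule D.rl j i, i < l ∧ l < D.n) (m k : ℕ) (e : k + m = D.n) :
    PcL ((List.range' k m).map g) := by
  induction m generalizing k with
  | zero => trivial
  | succ m ih =>
    have w : ∀ j < D.n, k ≤ j → evalW g (rule D.rl j k) ∈ clL ((List.range' (k + 1) m).map g) := fun j hj hk =>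
      evalW_mem fun l hl => mem_clL (List.mem_map_of_mem (List.mem_range'_1.2 (by have := c j hj k hk l hl; omega)))
    refine ⟨ih _ (by omega), ?_, List.forall_mem_map.2 fun j hj => ?_⟩
    · have := R.pc k (by omega) k le_rfl
      rw [PC.lhs_self, PC.rhs_self, evalW_pw, hp, evalW_cons, evalW_nil, mul_one, pow_two] at this
      exact this ▸ w k (by omega) le_rfl
    · have hj := List.mem_range'_1.1 hj
      have := R.pc j (by omega) k (by omega)
      rw [PC.lhs_lt _ (by omega), PC.rhs_lt _ (by omega), evalW_cons, evalW_cons, evalW_cons, evalW_nil, mul_one] at this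
      rw [mul_assoc, this, inv_mul_cancel_left]
      exact w j (by omega) (by omega)

theorem link {w n : ℕ} (S : TS E w n) {g : ℕ → E} {p : ℕ → ℕ} {m : ℕ} (hp : ∀ j < m, p j < n) {L R : List ℕ}
    (h : List.Forall₂ (fun l r => ∀ j < m, get 16 r j < m ∧ S.ap (g l) (p j) = p (get 16 r j)) L R) (e : ℕ) :
    ∀ j < m, apL (wdR R e) j < m ∧ S.ap (evalW g (wdR L e)) (p j) = p (apL (wdR R e) j) := by
  induction h generalizing e with
  | nil => exact fun j hj => ⟨hj, S.ap_one (hp j hj)⟩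
  | cons h _ ih =>
    intro j hj
    obtain ⟨d, rfl | rfl⟩ := Nat.even_or_odd' e
    · rw [wd0, wd0]; exact ih d j hj
    · obtain ⟨a, b⟩ := ih d j hj
      rw [wd1, wd1, evalW_cons, S.ap_mul _ _ (hp j hj), b]
      exact h _ a

theorem lf : ∀ e < 32768, leaf e = true :=
  rng_add (rng_add (rng_add (rng_add (rng_add (rng_add (rng_add (rng_add (rng_add (rng_add (rng_add (rng_add (rng_add (rng_add
    (rng_add (rng_add (rng_add (rng_add (rng_add (rng_add (rng_add (rng_add (rng_add (rng_add (rng_add (rng_add (rng_add (rng_add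
    (rng_add (rng_add (rng_add (rng_add rng_zero l0) l1) l2) l3) l4) l5) l6) l7) l8) l9) l10) l11) l12) l13) l14) l15) l16) l17) l18)
    l19) l20) l21) l22) l23) l24) l25) l26) l27) l28) l29) l30) l31

theorem ent : ∀ c ∈ ens.flatten, entOk c = true := fun c hc => by
  obtain ⟨l, hl, h⟩ := List.mem_flatten.1 hc
  revert c
  revert l
  show ∀ l ∈ ens, ∀ c, _ → c ∈ l → _
  simp only [ens, List.forall_mem_cons]
  exact ⟨fun c _ => allL_iff.1 e0 c, fun c _ => allL_iff.1 e1 c, fun c _ => allL_iff.1 e2 c, fun c _ => allL_iff.1 e3 c,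
    fun c _ => allL_iff.1 e4 c, fun c _ => allL_iff.1 e5 c, fun c _ => allL_iff.1 e6 c, fun c _ => allL_iff.1 e7 c,
    fun c _ => allL_iff.1 e8 c, fun c _ => allL_iff.1 e9 c, fun c _ => allL_iff.1 e10 c, fun c _ => allL_iff.1 e11 c,
    fun c _ => allL_iff.1 e12 c, fun c _ => allL_iff.1 e13 c, fun c _ => allL_iff.1 e14 c, by simp⟩

theorem c_l : lt = (List.range 15).map (28 + ·) ∧ rl = (List.range 15).map (nd 0 rl) ∧ allL (fun b => Nat.blt b 80) b2 = true ∧
    wdR lt 0 = [] ∧ wdR lt 2048 = [39] ∧ wdR rl 2048 = [r11] := by decide +kernel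

attribute [local irreducible] tbs P rl ei ens b2 r11 d2rl

theorem dat [Finite E] {S : TS E 16 16240} (hb : S.Base Ru.bs) (h : ∀ t ∈ tbs, S.In ⊤ t) (R : PcRel d2D fun i => gT S tbs (28 + i))
    (hP : 2 ^ 15 ≤ Nat.card (closure ((fun i => gT S tbs (28 + i)) '' Set.Iio 15))) (hN : Nat.card E = 2 * 145926144000)
    (cen : ∀ x, x ∈ center E ↔ x = 1 ∨ x = gT S tbs 27) (ne : gT S tbs 27 ≠ 1) (z2 : gT S tbs 27 * gT S tbs 27 = 1) :
    Dat (gT S tbs 39) (gT S tbs 42) := by
  have sn := sndB hb h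
  have a1 := neT h c_ne
  have hp : ∀ j < 80, get 16 P j < 16240 := fun j hj => by simpa using allLt_iff.1 c_P j hj
  have lk := link S (g := gT S tbs) hp (L := lt) (R := rl) (by
    rw [c_l.1, c_l.2.1, List.forall₂_map_left_iff, List.forall₂_map_right_iff, List.forall₂_same]
    intro i hi j hj
    have := allLt_iff.1 c_cm i (List.mem_range.1 hi)
    rw [cmOk, force_eq, force_eq] at this
    have := allLt_iff.1 this j hj
    rw [band_eq_true, Nat.blt_eq, Nat.beq_eq] at this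
    exact ⟨this.1, ((in_nd h _).ap_el _).trans this.2⟩)
  have pc : PcL (lt.map (gT S tbs)) := pcl R rfl (fun j hj i hi l hl => by
    show i < l ∧ l < 15
    simpa using allL_iff.1 (allLt_iff.1 (allLt_iff.1 c_pc j hj) i (Nat.lt_succ_of_le hi)) l hl) 15 0 rfl
  have le : closure ((fun i => gT S tbs (28 + i)) '' Set.Iio 15) ≤ clL (lt.map (gT S tbs)) := closure_mono (by
    rintro _ ⟨i, hi, rfl⟩
    exact List.mem_map_of_mem (c_l.1 ▸ List.mem_map_of_mem (List.mem_range.2 hi)))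
  have rl := fun e he => sn _ _ (allL_iff.1 c_rel e he)
  have en := fun c hc => sn _ _ (ent c hc)
  generalize gT S tbs = g at *
  generalize closure ((fun i => g (28 + i)) '' Set.Iio 15) = Q at *
  have nf := fun x (hx : x ∈ Q) => nf g lt pc x (le hx)
  have cQ : Nat.card Q = 2 ^ 15 := le_antisymm (by
    choose f f1 f2 using nf
    refine (Nat.card_le_card_of_injective (fun x : Q => (⟨f x x.2, f1 x x.2⟩ : Fin _)) fun x y e => Subtype.ext ?_).trans (Nat.card_fin _).le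
    rw [f2 x x.2, f2 y y.2, Fin.mk.inj_iff.1 e]) hP
  have cj : ∀ x : E, x ^ 2 ^ 3 = 1 → ∃ c : E, ∃ e < 32768, c * x * c⁻¹ = evalW g (wdR lt e) := fun x hx => by
    have := Q.index_mul_card
    rw [cQ, hN] at this
    obtain ⟨T, hT⟩ := (IsPGroup.of_card (p := 2) (G := zpowers x) (n := Classical.choose ((Nat.dvd_prime_pow Nat.prime_two).1
      (orderOf_dvd_of_pow_eq_one hx))) (by
        rw [Nat.card_zpowers]; exact (Classical.choose_spec ((Nat.dvd_prime_pow Nat.prime_two).1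
          (orderOf_dvd_of_pow_eq_one hx))).2)).exists_le_sylow
    obtain ⟨c, hc⟩ := MulAction.exists_smul_eq E T ((IsPGroup.of_card cQ).toSylow (by omega))
    refine ⟨c, nf _ ?_⟩
    have : c * x * c⁻¹ ∈ ((c • T : Sylow 2 E) : Subgroup E) := smul_mem_pointwise_smul _ (MulAut.conj c) _ (hT (mem_zpowers x))
    rwa [hc] at this
  simp only [rels, List.forall_mem_cons, evalW_cons, evalW_nil, mul_one] at rl a1
  obtain ⟨r1, r2, r3, r4, r5, r6, r7, r8, r9, r10, r11', -⟩ := rl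
  rw [r7] at cen ne z2
  have zc : ∀ x, x * g 39 = g 39 * x := mem_center_iff.1 ((cen _).2 (.inr rfl))
  have cm : ∀ {i j}, g i * (g j * g 42) = g 42 * (g i * g j) → g i * g j ∈ centralizer ({g 42} : Set E) := fun e =>
    mem_centralizer_singleton_iff.2 (by rw [mul_assoc, e])
  refine ⟨cen, ne, z2, fun b hb => ?_, fun x hx => ?_, ⟨_, commutator_mem_commutator (cm r8) (cm r9), ?_⟩,
    ⟨_, commutator_mem_commutator (cm r10) (cm r11'), ?_⟩, a1, r6⟩
  · obtain ⟨c, e, he, hc⟩ := cj b (by rw [show 2 ^ 3 = 4 * 2 from rfl, pow_mul, hb, pow_two, z2])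
    obtain ⟨j, hj, k⟩ := anyL_iff.1 (band_eq_true.1 (lf e he)).1
    have hj : j < 80 := by simpa using allL_iff.1 c_l.2.2.1 j hj
    refine bn_iff.1 k (Nat.beq_eq ▸ ?_)
    obtain ⟨b1, k1⟩ := lk e j hj
    obtain ⟨b2, k2⟩ := lk e _ b1
    obtain ⟨b3, k3⟩ := lk e _ b2
    have k5 := (lk 2048 j hj).2
    rw [c_l.2.2.2.2.1, c_l.2.2.2.2.2, evalW_cons, evalW_nil, mul_one] at k5
    rw [← (lk e _ b3).2, ← k3, ← k2, ← k1, ← S.ap_mul _ _ (hp j hj), ← S.ap_mul _ _ (hp j hj), ← S.ap_mul _ _ (hp j hj), ← hc,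
      show c * b * c⁻¹ * (c * b * c⁻¹ * (c * b * c⁻¹ * (c * b * c⁻¹))) = c * b ^ 4 * c⁻¹ by simp [pow_succ, mul_assoc], hb, zc,
      mul_inv_cancel_right]
    exact k5
  · obtain ⟨c, e, he, hc⟩ := cj x (by rw [show 2 ^ 3 = 2 * 4 from rfl, pow_mul, pow_two, hx, one_pow])
    have ic : IsConj x (evalW g (wdR lt e)) := isConj_iff.2 ⟨c, hc⟩
    rcases bor_eq_true.1 (band_eq_true.1 (lf e he)).2 with k | k
    · obtain ⟨j, hj, k⟩ := anyL_iff.1 k
      have hj : j < 80 := by simpa using allL_iff.1 c_l.2.2.1 j hj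
      refine (bn_iff.1 k (Nat.beq_eq ▸ ?_)).elim
      obtain ⟨b1, k1⟩ := lk e j hj
      rw [← (lk e _ b1).2, ← k1, ← S.ap_mul _ _ (hp j hj), ← hc,
        show c * x * c⁻¹ * (c * x * c⁻¹) = c * (x * x) * c⁻¹ by simp [mul_assoc], hx, mul_one, mul_inv_cancel, S.ap_one (hp j hj)]
    rcases bor_eq_true.1 k with k | k
    · rw [Nat.eq_of_beq_eq_true k, c_l.2.2.2.1] at ic
      exact .inl (isConj_one_left.1 ic)
    rcases bor_eq_true.1 k with k | k
    · rw [Nat.eq_of_beq_eq_true k, c_l.2.2.2.2.1, evalW_cons, evalW_nil, mul_one] at hc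
      exact .inr (.inl (by rw [mul_inv_eq_iff_eq_mul, ← zc] at hc; exact mul_left_cancel hc))
    obtain ⟨_, hj, k⟩ := anyL_iff.1 k
    obtain ⟨d, hd, rfl⟩ := List.mem_map.1 (c_ei ▸ hj)
    have := en d hd
    rw [H15.apd_eq, H15.apd_eq, evalW_append, evalW_append, ← mul_inv_eq_iff_eq_mul] at this
    have ic := (Nat.eq_of_beq_eq_true k ▸ ic).trans (isConj_iff.2 ⟨_, this⟩)
    generalize Nat.beq (Nat.mod (Nat.shiftRight d 15) 2) 1 = t at ic
    cases t
    · exact .inr (.inr (.inl (by simpa using ic)))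
    · exact .inr (.inr (.inr (by simpa using ic)))
  · rw [← r2, show ⁅g 29 * g 28, g 28 * g 30⁆ = g 31 * (g 37 * (g 39 * (g 40 * g 41))) by
      rw [commutatorElement_def, mul_assoc (g 29), r1]; group]
    simp [pow_succ, mul_assoc]
  · rw [show ⁅g 30 * g 28, g 29 * g 31⁆ = g 31 * (g 32 * (g 39 * (g 40 * g 42))) by
      rw [commutatorElement_def, mul_assoc (g 30), r3]; group]
    exact ⟨isConj_iff.2 ⟨g 44 * (g 43 * (g 44 * (g 28 * (g 33 * g 34)))), by rw [mul_inv_eq_iff_eq_mul, ← r4]; group⟩,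
      isConj_iff.2 ⟨g 44 * (g 43 * (g 44 * (g 28 * (g 34 * (g 38 * g 42))))), by rw [mul_inv_eq_iff_eq_mul, ← r5]; group⟩⟩

theorem cov {G : Type*} [Group G] {W m : ℕ} {S : TS E W m} {bs L : List ℕ} (hb : S.Base bs) (h : ∀ t ∈ L, S.In ⊤ t) {lv : List H14.RK.SL}
    (hg : cl (gT S L) (gsOf lv) = ⊤) {σ : E →* G} (hs : Function.Surjective σ) (hZ : center G = ⊥) {N : ℕ} (hN : Nat.card G = N)
    (R : Chk (fB W m bs L) (ssE lv)) (e : band (ssOk lv) (Nat.beq (ssN lv) (2 * N)) = true) {z b : ℕ}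
    (e' : MG.zL W m bs (gsOf lv) [z] 2 b L = true) : σ.ker = center E ∧ (∀ x, x ∈ center E ↔ x = 1 ∨ x = gT S L z) ∧ gT S L z ≠ 1 ∧
      gT S L z * gT S L z = 1 ∧ Nat.card E = 2 * N := by
  have := S.finite
  have := Finite.of_surjective σ hs
  have sn := sndB hb h
  obtain ⟨e1, e2⟩ := band_eq_true.1 e'
  obtain ⟨e1, e3⟩ := band_eq_true.1 e1
  have a1 := sn _ _ e1
  have ne := neT h e2
  rw [H15.evalW_pw, evalW_nil, pow_two] at a1
  rw [evalW_cons, evalW_nil, mul_one] at a1 ne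
  have a2 : gT S L z ∈ center E := mem_center_iff.2 fun g =>
    mem_centralizer_singleton_iff.1 (H14.RK.cl_le (K := centralizer {gT S L z})
      (fun i hi => by simpa [H14.PK.apd_eq, H15.apd_eq, evalW_append, mem_centralizer_singleton_iff] using sn _ _ (allL_iff.1 e3 i hi))
      (hg.ge trivial))
  have a3 : center E ≤ σ.ker := fun x hx => mem_bot.1 (hZ ▸ mem_center_iff.2 fun g => by
    obtain ⟨y, rfl⟩ := hs g
    rw [← map_mul, ← map_mul, mem_center_iff.1 hx])
  have a4 := (ss_card (R.rel sn) (band_eq_true.1 e).1).2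
  rw [hg, card_top, Nat.eq_of_beq_eq_true (band_eq_true.1 e).2] at a4
  have a5 := σ.ker.card_mul_index
  rw [index_ker, MonoidHom.range_eq_top.2 hs, card_top, hN] at a5
  have a6 : Nat.card σ.ker ≤ 2 := Nat.le_of_mul_le_mul_right (a5 ▸ a4) (hN ▸ Nat.card_pos)
  have a7 : ∀ x ∈ σ.ker, x = 1 ∨ x = gT S L z := fun x hx => two_of_le (X := (σ.ker : Set E)) ((Nat.card_coe_set_eq _).symm.trans_le a6) (one_mem _) (a3 a2) ne.symm hx
  have a8 : σ.ker ≤ center E := fun x hx => by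
    rcases a7 x hx with rfl | rfl
    exacts [one_mem _, a2]
  refine ⟨le_antisymm a8 a3, fun x => ⟨fun hx => a7 x (a3 hx), ?_⟩, ne, a1, le_antisymm a4 (a5 ▸ Nat.mul_le_mul_right _ ?_)⟩
  · rintro (rfl | rfl)
    exacts [one_mem _, a2]
  · exact Finite.one_lt_card_iff_nontrivial.2 ⟨⟨1, ⟨_, a3 a2⟩, fun c => ne (congrArg Subtype.val c).symm⟩⟩

theorem iso_of {E : Type} {Q A : Type*} [Group E] [Finite E] [Group Q] [Group A] [Finite A] {σ : E →* Q} (hs : Function.Surjective σ)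
    (hk : σ.ker = center E) (hp : commutator E = ⊤) {ζ a : E} (T : Dat ζ a) (hA : Group.IsPerfect A) (hZ : Nat.card (center A) = 2)
    (ε : A ⧸ center A ≃* Q) (hm : HasCyclicSchurMultiplier Q 2) : Nonempty (A ≃* E) := by
  have hA' : commutator A = ⊤ := hA.commutator_eq_top
  let τ : ULift E →* A ⧸ center A := ε.symm.toMonoidHom.comp (σ.comp MulEquiv.ulift.toMonoidHom)
  have mem : ∀ x, x ∈ τ.ker ↔ x.down ∈ center E := fun x => by
    rw [← hk, MonoidHom.mem_ker, MonoidHom.mem_ker]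
    exact ε.symm.map_eq_one_iff
  have := Fact.mk Nat.prime_two
  obtain ⟨e, -⟩ := (Cfsg.Agent.S3974.result (H16.hsm_congr_left hm ε.symm)).2 (by
      rw [show Nat.card (Abelianization (A ⧸ center A)) = 1 from index_eq_one.2 (by
        rw [← map_top_of_surjective _ (QuotientGroup.mk'_surjective _), ← hA', map_commutator_eq,
          MonoidHom.range_eq_top.2 (QuotientGroup.mk'_surjective _)]; rfl)]
      exact Nat.coprime_one_left _) (ULift E) A τ (QuotientGroup.mk' _)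
    ⟨ε.symm.surjective.comp (hs.comp MulEquiv.ulift.surjective), fun x hx => mem_center_iff.2 fun y =>
      ULift.ext _ _ (mem_center_iff.1 ((mem x).1 hx) y.down), le_top.trans (by
        rw [← map_top_of_surjective (MulEquiv.ulift (α := E)).symm.toMonoidHom MulEquiv.ulift.symm.surjective, ← hp, map_commutator_eq]
        exact commutator_mono le_top le_top)⟩
    ⟨QuotientGroup.mk'_surjective _, (QuotientGroup.ker_mk' _).le, le_top.trans hA'.ge⟩
    ⟨mulEquivOfPrimeCardEq (p := 2) (by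
      rw [Nat.card_eq_two_iff' 1]
      exact ⟨⟨⟨ζ⟩, (mem _).2 ((T.cen _).2 (.inr rfl))⟩, fun c => T.ne (congrArg (·.1.down) c), fun y hy =>
        Subtype.ext (ULift.ext _ _ (((T.cen _).1 ((mem _).1 y.2)).resolve_left fun c => hy (Subtype.ext (ULift.ext _ _ c))))⟩) (by simp)⟩
    ⟨mulEquivOfPrimeCardEq (p := 2) (by rw [QuotientGroup.ker_mk', hZ]) (by simp)⟩
  exact ⟨e.symm.trans MulEquiv.ulift⟩

theorem model : ∃ (σ : D →* Spor.Ru) (ζ a : D), Function.Surjective σ ∧ σ.ker = center D ∧ Dat ζ a := by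
  obtain ⟨-, S, R, a, b, h1, M, h2, h3, h4, h5⟩ := Ru.main
  have e : gsOf lv = [0, 1] := rfl
  obtain ⟨φ, S', b1, b2, b3, -, b4⟩ := MG.exists_sub Y h1 (gs := gsOf lv) (by
    rw [e]
    exact List.forall_mem_cons.2 ⟨⟨a, trivial, h2.trans t0.symm⟩, List.forall_mem_singleton.2 ⟨b, trivial, h3.trans t1.symm⟩⟩)
    hM (by rw [e]; decide)
  have := S'.finite
  let σ : D →* Spor.Ru := (QuotientGroup.mk' _).comp φ
  have ha : (a : Spor.Ru) ∈ σ.range := ⟨_, congrArg QuotientGroup.mk (S.tb_inj ((b4 0 (by norm_num)).trans (t0.trans h2.symm)))⟩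
  have hb : (b : Spor.Ru) ∈ σ.range := ⟨_, congrArg QuotientGroup.mk (S.tb_inj ((b4 1 (by norm_num)).trans (t1.trans h3.symm)))⟩
  have hs : Function.Surjective σ := MonoidHom.range_eq_top.1 (eq_top_iff.2 (M.cl.ge.trans
    (TS.cl_le (List.forall_mem_cons.2 ⟨⟨_, ha, h4⟩, List.forall_mem_singleton.2 ⟨_, hb, h5⟩⟩))))
  have hZ : center Spor.Ru = ⊥ := eq_bot_iff.2 fun z hz => MG.eq_one_of_cenT Ru.cen M.mem fun t _ => Subgroup.mem_center_iff.1 hz _
  obtain ⟨k1, k2, k3, k4, k5⟩ := cov b1 b2 b3 hs hZ M.card c1 (by decide +kernel) (tq ▸ cz)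
  refine MG.ns_tb b1 b2 cd2 (tq ▸ d2low) fun R hP => ?_
  rw [tq] at b2 k2 k3 k4 R hP
  exact ⟨σ, _, _, hs, k1, dat b1 b2 R hP k5 k2 k3 k4⟩

theorem main {G : Type*} [Group G] [Finite G] (hO : oddCore G = ⊥) (A : Subgroup G) (hA : IsStandardSubgroup A)
    (hZ : Nat.card (center A) = 2) (hAX : Spor.IsoRu (A ⧸ center A))
    (hR : ∀ R : Sylow 2 (centralizer (A : Set G)), IsCyclic (R : Subgroup (centralizer (A : Set G)))) : A.Normal := by
  obtain ⟨σ, ζ, a, hs, hk, T⟩ := model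
  obtain ⟨ε⟩ := hAX
  obtain ⟨e⟩ := iso_of hs hk perf T hA.1.1 hZ ε Cfsg.Agent.S2051.result
  refine norm T hO A hA e (inner_of hs hk perf fun γ => ?_) hR
  have := Nat.card_eq_one_iff_unique.1 Cfsg.Agent.S2077.result
  obtain ⟨c, hc⟩ := (QuotientGroup.eq_one_iff (γ : MulAut Spor.Ru)).1 (this.1.elim (_ : Out Spor.Ru) 1)
  exact ⟨c, fun x => by rw [← hc]; rfl⟩

end H15.RS
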