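import Mathlib

/-! Involutions centralised by elements of order three in small groups (namespace H15.S7X): `six`, `fin`. -/

set_option autoImplicit false

namespace H15.S7X
open Subgroup Equiv

theorem six {X : Type*} [Group X] [Finite X] {z : X} (o : orderOf z = 2) (h : 3 ∣ Nat.card (centralizer ({z} : Set X))) :
    ∃ g : X, g ^ 6 = 1 ∧ g ^ 2 ≠ 1 ∧ g ^ 3 ≠ 1 ∧ g ^ 3 = z := by
  have : Fact (Nat.Prime 3) := ⟨Nat.prime_three⟩
  obtain ⟨y, oy⟩ := exists_prime_orderOf_dvd_card' 3 h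
  rw [← orderOf_coe] at oy
  have c : Commute y.1 z := mem_centralizer_singleton_iff.1 y.2
  have z2 : z ^ 2 = 1 := o ▸ pow_orderOf_eq_one z
  have y3 : y.1 ^ 3 = 1 := oy ▸ pow_orderOf_eq_one _
  have e : (y.1 * z) ^ 3 = z := by rw [c.mul_pow, y3, one_mul, pow_succ, z2, one_mul]
  refine ⟨y.1 * z, by rw [show 6 = 3 * 2 from rfl, pow_mul, e, z2], fun r => ?_, fun r => ?_, e⟩
  · rw [c.mul_pow, z2, mul_one] at r
    have := orderOf_dvd_of_pow_eq_one r
    rw [oy] at this; omega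
  · rw [e] at r; simp [r] at o

theorem s4 : ∀ g : Perm (Fin 4), g ^ 6 = 1 → g ^ 2 = 1 ∨ g ^ 3 = 1 := by decide +kernel
theorem a6 : ∀ g : Perm (Fin 6), g ^ 6 = 1 → g ^ 2 = 1 ∨ g ^ 3 = 1 ∨ Perm.sign g ≠ 1 := by decide +kernel
theorem l3 : ∀ g : Matrix (Fin 3) (Fin 3) (ZMod 2), g * g * g * (g * g * g) = 1 → g * g = 1 ∨ g * g * g = 1 := by decide +kernel
theorem s5 : ∀ g : Perm (Fin 5), g ^ 6 = 1 → g ^ 2 = 1 ∨ g ^ 3 = 1 ∨ (g ^ 3).support.card = 2 := by decide +kernel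
theorem c5 : (Finset.univ.filter fun g : Perm (Fin 5) => g * swap 0 1 = swap 0 1 * g).card = 12 := by decide +kernel

theorem fin {X : Type*} [Group X] [Finite X] {z : X} (o : orderOf z = 2) (h : 3 ∣ Nat.card (centralizer ({z} : Set X)))
    (k : Nonempty (X ≃* Perm (Fin 4)) ∨ Nonempty (X ≃* Perm (Fin 5)) ∨
      Nonempty (X ≃* Matrix.SpecialLinearGroup (Fin 3) (ZMod 2)) ∨ Nonempty (X ≃* ↥(alternatingGroup (Fin 6)))) :
    Nonempty (X ≃* Perm (Fin 5)) ∧ Nat.card (centralizer ({z} : Set X)) = 12 ∧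
      ∀ w : X, orderOf w = 2 → 3 ∣ Nat.card (centralizer ({w} : Set X)) → IsConj z w := by
  have tr : ∀ {Y : Type} [Group Y] (e : X ≃* Y) {w : X}, orderOf w = 2 → 3 ∣ Nat.card (centralizer ({w} : Set X)) →
      ∃ g : Y, g ^ 6 = 1 ∧ g ^ 2 ≠ 1 ∧ g ^ 3 ≠ 1 ∧ g ^ 3 = e w := fun e w a b => by
    obtain ⟨g, a, b, c, d⟩ := six a b
    exact ⟨e g, by rw [← map_pow, a, map_one], by rwa [← map_pow, Ne, map_eq_one_iff e e.injective],
      by rwa [← map_pow, Ne, map_eq_one_iff e e.injective], by rw [← map_pow, d]⟩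
  rcases k with ⟨⟨e⟩⟩ | ⟨⟨e⟩⟩ | ⟨⟨e⟩⟩ | ⟨⟨e⟩⟩
  · obtain ⟨g, a, b, c, -⟩ := tr e o h
    exact ((s4 g a).elim b c).elim
  · have sw : ∀ {w : X}, orderOf w = 2 → 3 ∣ Nat.card (centralizer ({w} : Set X)) → IsConj w (e.symm (swap 0 1)) := fun a b => by
      obtain ⟨g, a, b, c, d⟩ := tr e a b
      obtain ⟨x, y, n, r⟩ := Perm.card_support_eq_two.1 (((s5 g a).resolve_left b).resolve_left c)
      have := e.symm.toMonoidHom.map_isConj (Perm.isConj_swap n (show (0 : Fin 5) ≠ 1 by decide))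
      rw [← r, d] at this
      simpa using this
    refine ⟨⟨e⟩, ?_, fun w a b => (sw o h).trans (sw a b).symm⟩
    obtain ⟨c, r⟩ := isConj_iff.1 (sw o h)
    rw [← c5, ← Fintype.card_subtype, ← Nat.card_eq_fintype_card]
    refine Nat.card_congr (((MulAut.conj c).trans e).toEquiv.subtypeEquiv fun x => ?_)
    have r' : ((MulAut.conj c).trans e) z = swap 0 1 := by simp [r]
    rw [mem_centralizer_singleton_iff, ← r']
    exact ⟨fun i => by have := congrArg ((MulAut.conj c).trans e) i; rw [map_mul, map_mul] at this; exact this,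
      fun i => ((MulAut.conj c).trans e).injective (by rw [map_mul, map_mul]; exact i)⟩
  · obtain ⟨g, a, b, c, -⟩ := tr e o h
    rw [show 6 = 3 + 3 from rfl, pow_add, pow_three'] at a
    rw [pow_two] at b
    rw [pow_three'] at c
    exact ((l3 g.1 (congrArg Subtype.val a)).elim (fun i => b (Subtype.ext i)) fun i => c (Subtype.ext i)).elim
  · obtain ⟨g, a, b, c, -⟩ := tr e o h
    exact ((a6 g.1 (congrArg Subtype.val a)).elim (fun i => b (Subtype.ext i)) fun i => i.elim (fun i => c (Subtype.ext i)) fun i => i g.2).elim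

end H15.S7X
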