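import Cfsg.Agent.H15.TEd
import Cfsg.Agent.H15.Mat2
import Cfsg.Agent.H15.Pres
import Cfsg.Prelude.Def_LieTwisted

/-!
Coded matrices for the adjoint module of type E6 over a field with four elements (namespace H15.TE).
-/

namespace H15.TE
open H13 Matrix Cfsg.Lie

/-- linear part of a root element -/
def z1 (r a b : ℕ) : ℤ :=
  if b < 6 then (if a = 6 + r then -((chevE6.cartanSR.getD b #[]).getD r 0) else 0)
  else if b - 6 = r then 0 else if b - 6 = chevE6.negIdx.getD r 0 then (if a < 6 then (chevE6.coroot.getD r #[]).getD a 0 else 0)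
  else if a < 6 then 0 else ((chevE6.chainCoeff r (b - 6) (a - 6)).map (·.2)).sum

/-- quadratic part of a root element -/
def z2 (r a b : ℕ) : ℤ := if b = 6 + chevE6.negIdx.getD r 0 ∧ a = 6 + r then -1 else 0

/-- the product of codes -/
noncomputable def mu : ℕ → ℕ → ℕ := appQ 78 156 78
/-- well formed codes -/
noncomputable def wf : ℕ → Bool := wfB 156 156 78
/-- check of the entries -/
noncomputable def eo (c : ℕ) (f : ℕ → ℕ → ℕ) : Bool := band (wf c) (VCod.entOk (entQ 78) 78 156 c f)
/-- code of the linear part -/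
noncomputable def n1 (r : ℕ) : ℕ := nthD 0 nL r
/-- code of the quadratic part -/
noncomputable def n2 (r : ℕ) : ℕ := p2 (156 * (77 - r) + (6 + r))

/-- check of the data of a root -/
noncomputable def rOk (r : ℕ) : Bool :=
  band (decide (r < 72 ∧ r ≠ chevE6.negIdx.getD r 0 ∧ ∀ e ∈ (chevE6.chain.getD r #[]).toList, e.2.toList.length ≤ 1))
    (band (force (n1 r) fun c => eo c fun a b => (z1 r a b).natAbs % 2) (force (n2 r) fun c => eo c fun a b => (z2 r a b).natAbs % 2))

theorem rA : allL rOk [46, 25, 39, 32, 56, 36] = true := by decide +kernel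
theorem rB : allL rOk [15, 35, 42, 37, 29, 34] = true := by decide +kernel

/-- code of a power of the scalar -/
noncomputable def pc (k : ℕ) : ℕ := powC mu on oc k
/-- code of a root element -/
noncomputable def xC (r k : ℕ) : ℕ := Nat.xor (Nat.xor on (mu (pc k) (n1 r))) (mu (pc (Nat.mul k 2)) (n2 r))
/-- code of a sum of words -/
noncomputable def sumW (L : List ℕ) (ws : List (List ℕ)) : ℕ := List.rec 0 (fun w _ ih => Nat.xor (prodW mu on L w) ih) ws

theorem c_on : eo on (fun r k => Bool.rec 0 1 (Nat.beq r k)) = true := by decide +kernel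
theorem c_oc : eo oc (fun r k => Bool.rec 0 2 (Nat.beq r k)) = true := by decide +kernel
theorem c_P : eo 1 (fun r k => Bool.rec 0 1 (Nat.beq (Nat.add r k) 0)) = true := by decide +kernel
theorem c_gl : gl = [xC 46 0, xC 25 0, xC 39 0, xC 32 0, mu (xC 56 0) (xC 36 0), mu (xC 56 1) (xC 36 2),
    mu (xC 15 0) (xC 35 0), mu (xC 15 1) (xC 35 2), mu (xC 42 0) (xC 37 0), mu (xC 42 1) (xC 37 2),
    mu (xC 29 0) (xC 34 0), mu (xC 29 1) (xC 34 2)] := by decide +kernel
theorem c_sq : allL (fun g => Nat.beq (mu g g) on) gl = true := by decide +kernel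
theorem c_yl : y0 :: yl = yw.map (prodW mu on gl) := by decide +kernel
theorem c_ne : Nat.beq y0 on = false := by decide +kernel
theorem c_S : force (sumW yl aw) (fun a => force (sumW yl xw) fun x => force (mu cS 1) fun v =>
    band (allL wf [cS, cT, cb, cWm, cD]) (band (Nat.beq (mu a v) 0) (band (Nat.beq (mu cb a) (Nat.xor on (mu v cWm)))
      (band (Nat.beq cS (Nat.xor v (mu x (mu cS cD)))) (band (Nat.beq (mu cS cT) on) (Nat.beq (powC mu on cD 78) 0)))))) = true := by
  decide +kernel

theorem wf_zero : wf 0 = true := by decide +kernel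

end H15.TE
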