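import Cfsg.Agent.H15.TEa

/-!
Coded matrices for the adjoint module of type E6 over a field with four elements (namespace H15.TE).
-/

namespace H15.TE
open H13 Matrix Cfsg.Lie

theorem schur {ι R : Type*} [Fintype ι] [DecidableEq ι] [CommRing R] {M a x S T b W D : Matrix ι ι R} {i : ι} {k : ℕ}
    (ha : Commute M a) (hx : Commute M x) (h1 : a * (S * single i i 1) = 0) (h2 : b * a = 1 + S * single i i 1 * W)
    (h3 : S = S * single i i 1 + x * (S * D)) (h4 : S * T = 1) (h5 : D ^ k = 0) (y : Matrix ι ι R) : M * y = y * M := by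
  obtain ⟨l, e1⟩ : ∃ l : R, M * (S * single i i 1) = l • (S * single i i 1) := by
    have : b * a * (M * (S * single i i 1)) = 0 := by
      rw [mul_assoc, ← mul_assoc a, ← ha.eq, mul_assoc M, h1, mul_zero, mul_zero]
    have e : S * single i i 1 * W * (M * (S * single i i 1)) = S * (single i i 1 * (W * M * S) * single i i 1) := by
      simp only [mul_assoc]
    rw [h2, add_mul, one_mul, e, single_mul_mul_single, add_eq_zero_iff_eq_neg] at this
    exact ⟨-(W * M * S) i i, by rw [this, neg_smul, ← mul_smul_comm, smul_single]; simp⟩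
  have e2 : M * S - l • S = x * (M * S - l • S) * D := by
    conv_lhs => rw [h3, mul_add, smul_add, e1, add_sub_add_left_eq_sub, ← mul_assoc, hx.eq]
    simp only [mul_sub, sub_mul, mul_assoc, mul_smul_comm, smul_mul_assoc]
  have e3 (k : ℕ) : M * S - l • S = x ^ k * (M * S - l • S) * D ^ k := by
    induction k with
    | zero => simp
    | succ k ih => rw [pow_succ, pow_succ', mul_assoc _ x, ← mul_assoc _ D, mul_assoc _ _ D, ← e2, ← ih]
  have e4 := congrArg (· * T) (e3 k)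
  simp only [h5, mul_zero, zero_mul, sub_mul, mul_assoc, h4, smul_mul_assoc, mul_one, sub_eq_zero] at e4
  rw [e4]; simp

/-- numbering of the basis -/
def e78 : chevE6.Idx ≃ Fin 78 := finSumFinEquiv

theorem e_l (i : Fin chevE6.rank) : (e78 (.inl i)).1 = i := rfl
theorem e_r (i : Fin chevE6.nroots) : (e78 (.inr i)).1 = 6 + i := rfl

theorem xMat_eq {K : Type*} [Field K] (r : Fin chevE6.nroots) (h0 : r.1 ≠ chevE6.negIdx.getD r 0)
    (h : ∀ e ∈ (chevE6.chain.getD r #[]).toList, e.2.toList.length ≤ 1) (t : K) (a b : chevE6.Idx) :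
    chevE6.xMat K r t a b = (1 : Matrix _ _ K) a b + t * z1 r (e78 a) (e78 b) + t ^ 2 * z2 r (e78 a) (e78 b) := by
  have hc (s u) : ((chevE6.chainCoeff r s u).map fun km => ((km.2 : ℤ) : K) * t ^ km.1).sum =
      t * (((chevE6.chainCoeff r s u).map (·.2)).sum : ℤ) := by
    rw [Int.cast_list_sum, List.map_map, ← List.sum_map_mul_left]
    refine congrArg List.sum (List.map_congr_left fun km hk => ?_)
    simp only [ChevalleyDatum.chainCoeff, List.mem_flatMap, List.mem_filter, List.mem_map] at hk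
    obtain ⟨e, ⟨he, -⟩, q, ⟨hq, -⟩, rfl⟩ := hk
    have := List.snd_lt_add_of_mem_zipIdx hq
    have := h e he
    rw [show q.2 = 0 by omega]; simp [mul_comm]
  have l6 (i : Fin chevE6.rank) : i.1 < 6 := i.2
  rcases a with a | a <;> rcases b with b | b <;> simp only [e_l, e_r] <;>
    simp only [ChevalleyDatum.xMat, of_apply, z1, z2, one_apply, l6, if_true, Nat.add_sub_cancel_left, hc,
      Nat.add_right_inj, add_lt_iff_neg_left, Nat.not_lt_zero, if_false, Fin.ext_iff, Sum.inl.injEq, Sum.inr.injEq, reduceCtorEq]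
  · have := l6 a; have := l6 b
    split_ifs <;> first | omega | simp
  · have := l6 a
    split_ifs <;> first | omega | simp [mul_comm]
  · have := l6 b
    split_ifs <;> first | omega | simp [mul_comm]
  · split_ifs <;> first | omega | simp

section
variable {N : Type*} [Monoid N] {mul : ℕ → ℕ → ℕ} {one : ℕ} {wf : ℕ → Bool} (C : Cod N mul one wf)

theorem cpow {c : ℕ} (h : wf c = true) (k : ℕ) : wf (powC mul one c k) = true ∧ C.mat (powC mul one c k) = C.mat c ^ k := by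
  induction k with
  | zero => exact ⟨C.wf_one, C.mat_one.trans (pow_zero _).symm⟩
  | succ k ih => exact ⟨C.wf_mul ih.1 h, (C.mat_mul ih.1 h).trans (by rw [ih.2, pow_succ])⟩

theorem cprod {M} {L : List ℕ} (h : ∀ c ∈ L, wf c = true ∧ Commute M (C.mat c)) (w : List ℕ) :
    wf (prodW mul one L w) = true ∧ Commute M (C.mat (prodW mul one L w)) := by
  have o : wf one = true ∧ Commute M (C.mat one) := ⟨C.wf_one, C.mat_one ▸ Commute.one_right M⟩
  induction w with
  | nil => exact o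
  | cons l w ih =>
    have := nthD_prop (p := fun c => wf c = true ∧ Commute M (C.mat c)) o h l
    exact ⟨C.wf_mul this.1 ih.1, (C.mat_mul this.1 ih.1).symm ▸ this.2.mul_right ih.2⟩
end

theorem wf_xor {a b : ℕ} (ha : wf a = true) (hb : wf b = true) : wf (Nat.xor a b) = true := by
  have h1 := (wfB_iff (by decide)).1 ha
  have h2 := (wfB_iff (by decide)).1 hb
  refine (wfB_iff (by decide)).2 ⟨le_rfl, fun i => ?_⟩
  rw [show Nat.xor a b = a ^^^ b from rfl, get_xor]
  exact ⟨Nat.xor_lt_two_pow (h1.2 i).1 (h2.2 i).1, fun c => by rw [(h1.2 i).2 c, (h2.2 i).2 c]; rfl⟩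

section
variable {K : Type*} [Field K] (h2 : (1 : K) + 1 = 0) {ω : K} (hω : ω ^ 2 + ω + 1 = 0)

/-- the coded vectors -/
noncomputable def V := vcodQ e78 (by decide) h2 hω

theorem eo_mat {c : ℕ} {f : ℕ → ℕ → ℕ} (h : eo c f = true) (a b) : (V h2 hω).mat c a b = castQ ω (f (e78 a) (e78 b)) :=
  (V h2 hω).mat_eq (band_eq_true.1 h).2 a b

/-- the coded matrices -/
noncomputable def C : Cod (Matrix chevE6.Idx chevE6.Idx K) mu on wf :=
  (V h2 hω).cod (band_eq_true.1 c_on).1 ((V h2 hω).mat_one (by simp [V, vcodQ, castQ]) (by simp [V, vcodQ, castQ])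
    (band_eq_true.1 c_on).2)

theorem C_mat (c) : (C h2 hω).mat c = (V h2 hω).mat c := rfl

theorem mat_xor (a b : ℕ) : (C h2 hω).mat (Nat.xor a b) = (C h2 hω).mat a + (C h2 hω).mat b := by
  ext r k
  show castQ ω (entQ 78 (get (2 * 78) (a ^^^ b) _) _) = castQ ω (entQ 78 (get (2 * 78) a _) _) + castQ ω (entQ 78 (get (2 * 78) b _) _)
  simp only [castQ_entQ, get_xor, Nat.testBit_xor, bt_xor h2]
  ring

attribute [local irreducible] mu wf on oc gl yl y0 cS cT cb cWm cD n1 n2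

theorem mat_zero : (C h2 hω).mat 0 = 0 := by
  have := mat_xor h2 hω 0 0
  rwa [show Nat.xor 0 0 = 0 from rfl, left_eq_add] at this

theorem beq_e (a b : chevE6.Idx) : Nat.beq (e78 a) (e78 b) = decide (a = b) := by
  rw [Bool.eq_iff_iff, Nat.beq_eq, decide_eq_true_eq]
  exact ⟨fun c => e78.injective (Fin.ext c), fun c => c ▸ rfl⟩

theorem mat_pc (k : ℕ) : wf (pc k) = true ∧ (C h2 hω).mat (pc k) = ω ^ k • 1 := by
  have : (C h2 hω).mat oc = ω • 1 := by
    ext a b
    rw [C_mat, eo_mat h2 hω c_oc, beq_e, Matrix.smul_apply, one_apply]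
    by_cases c : a = b <;> simp [c, castQ]
  have h := cpow (C h2 hω) (band_eq_true.1 c_oc).1 k
  exact ⟨h.1, h.2.trans (by rw [this, smul_pow, one_pow])⟩

include h2 in
theorem cast_z (z : ℤ) : castQ ω (z.natAbs % 2) = z := by
  have e : (2 : K) = 0 := by rw [← h2]; norm_num
  have : ((z.natAbs % 2 : ℕ) : K) = z.natAbs := by
    conv_rhs => rw [← Nat.mod_add_div z.natAbs 2]
    simp [e]
  rw [castQ, Nat.mod_mod, Nat.mod_div_self, this]
  rcases Int.natAbs_eq z with c | c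
  · rw [c]; simp
  · rw [c]; simp only [Int.natAbs_neg, Int.natAbs_natCast, Int.cast_neg, Int.cast_natCast]
    linear_combination (z.natAbs : K) * e

theorem mat_xC {r : ℕ} (h : rOk r = true) (k : ℕ) : wf (xC r k) = true ∧ (C h2 hω).mat (xC r k) = chevE6.x K r (ω ^ k) := by
  simp only [rOk, band_eq_true, force_eq, decide_eq_true_eq] at h
  obtain ⟨⟨a1, a2, a3⟩, a4, a5⟩ := h
  have b1 := mat_pc h2 hω k
  have b2 := mat_pc h2 hω (Nat.mul k 2)
  have b4 := (band_eq_true.1 a4).1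
  have b5 := (band_eq_true.1 a5).1
  refine ⟨wf_xor (wf_xor (C h2 hω).wf_one ((C h2 hω).wf_mul b1.1 b4)) ((C h2 hω).wf_mul b2.1 b5), ?_⟩
  rw [xC, mat_xor, mat_xor, (C h2 hω).mat_mul b1.1 b4, (C h2 hω).mat_mul b2.1 b5, b1.2, b2.2, (C h2 hω).mat_one,
    ChevalleyDatum.x, dif_pos (show r < chevE6.nroots from a1)]
  ext a b
  rw [xMat_eq ⟨r, a1⟩ a2 a3]
  simp only [smul_mul_assoc, one_mul, Matrix.add_apply, Matrix.smul_apply, C_mat, eo_mat h2 hω a4, eo_mat h2 hω a5, cast_z h2, smul_eq_mul,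
    ← pow_mul]
  rfl

theorem sum_comm {M} {L : List ℕ} (h : ∀ c ∈ L, wf c = true ∧ Commute M ((C h2 hω).mat c)) (ws : List (List ℕ)) :
    wf (sumW L ws) = true ∧ Commute M ((C h2 hω).mat (sumW L ws)) := by
  induction ws with
  | nil => exact ⟨wf_zero, (mat_zero h2 hω).symm ▸ Commute.zero_right M⟩
  | cons w ws ih =>
    have := cprod (C h2 hω) h w
    exact ⟨wf_xor this.1 ih.1, (mat_xor h2 hω _ _).symm ▸ this.2.add_right ih.2⟩

theorem central {M} (h : ∀ c ∈ yl, wf c = true ∧ Commute M ((C h2 hω).mat c)) (y) : M * y = y * M := by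
  have hP : (C h2 hω).mat 1 = single (e78.symm 0) (e78.symm 0) 1 := by
    ext a b
    rw [C_mat, eo_mat h2 hω c_P, single_apply]
    have : Nat.beq (Nat.add (e78 a) (e78 b)) 0 = decide (e78.symm 0 = a ∧ e78.symm 0 = b) := by
      rw [Bool.eq_iff_iff, Nat.beq_eq, decide_eq_true_eq, Equiv.symm_apply_eq, Equiv.symm_apply_eq, Fin.ext_iff, Fin.ext_iff]
      show (e78 a).1 + (e78 b).1 = 0 ↔ 0 = (e78 a).1 ∧ 0 = (e78 b).1
      omega
    rw [this]
    by_cases c : e78.symm 0 = a ∧ e78.symm 0 = b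
    · rw [if_pos c, decide_eq_true c]; simp [castQ]
    · rw [if_neg c, decide_eq_false c]; simp [castQ]
  have a := sum_comm h2 hω h aw
  have x := sum_comm h2 hω h xw
  have k := c_S
  simp only [force_eq, band_eq_true, allL_iff, List.forall_mem_cons, Nat.beq_eq] at k
  obtain ⟨⟨w1, w2, w3, w4, w5, -⟩, k1, k2, k3, k4, k5⟩ := k
  have w0 := (band_eq_true.1 c_P).1
  have wv := (C h2 hω).wf_mul w1 w0
  have m := @Cod.mat_mul _ _ _ _ _ (C h2 hω)
  refine schur (S := (C h2 hω).mat cS) (T := (C h2 hω).mat cT) (b := (C h2 hω).mat cb) (W := (C h2 hω).mat cWm)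
    (D := (C h2 hω).mat cD) (i := e78.symm 0) (k := 78) a.2 x.2 ?_ ?_ ?_ ?_ ?_ y
  · rw [← hP, ← m w1 w0, ← m a.1 wv, k1, mat_zero]
  · rw [← hP, ← m w1 w0, ← m w3 a.1, k2, mat_xor, m wv w4, (C h2 hω).mat_one]
  · rw [← hP, ← m w1 w0, ← m w1 w5, ← m x.1 ((C h2 hω).wf_mul w1 w5), ← mat_xor, ← k3]
  · rw [← m w1 w2, k4, (C h2 hω).mat_one]
  · rw [← (cpow (C h2 hω) w5 78).2, k5, mat_zero]

/-- the natural representation -/
def ρ : twistedE6 K 2 →* Matrix chevE6.Idx chevE6.Idx K := (Units.coeHom _).comp (Subgroup.subtype _)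

theorem ρ_inj : Function.Injective (ρ (K := K)) := Units.val_injective.comp Subtype.val_injective

/-- the coded group -/
noncomputable def S : Sem (twistedE6 K 2) mu on wf := Sem.ofCod (C h2 hω) ρ ρ_inj

theorem ok_gl : ∀ c ∈ gl, (S h2 hω).ok c := by
  have o {g w} (hw : w ∈ e6Words K 2) (h : wf g = true ∧ (C h2 hω).mat g = chevE6.wordMat K w) (hg : g ∈ gl) : (S h2 hω).ok g := by
    have e : (C h2 hω).mat g * (C h2 hω).mat g = 1 := by
      rw [← (C h2 hω).mat_mul h.1 h.1, Nat.eq_of_beq_eq_true (allL_iff.1 c_sq g hg), (C h2 hω).mat_one]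
    exact ⟨h.1, ⟨⟨_, _, e, e⟩, Subgroup.subset_closure ⟨w, hw, h.2⟩⟩, rfl⟩
  have o1 {r} (h : rOk r = true) (hr : r ∈ [e6p2, e6m2, e6p4, e6m4]) (hg : xC r 0 ∈ gl) : (S h2 hω).ok (xC r 0) :=
    o (w := [(r, ω ^ 0)]) (.inl ⟨_, by simp, r, hr, rfl⟩) ⟨(mat_xC h2 hω h 0).1, by
      simp [(mat_xC h2 hω h 0).2, ChevalleyDatum.wordMat]⟩ hg
  have o2 {r s} (k) (h : rOk r = true) (h' : rOk s = true) (hr : (r, s) ∈ [(e6p1, e6p6), (e6m1, e6m6), (e6p3, e6p5), (e6m3, e6m5)])
      (hg : mu (xC r k) (xC s (k * 2)) ∈ gl) : (S h2 hω).ok (mu (xC r k) (xC s (k * 2))) := by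
    have a := mat_xC h2 hω h k
    have b := mat_xC h2 hω h' (k * 2)
    exact o (w := [(r, ω ^ k), (s, (ω ^ k) ^ 2)]) (.inr ⟨_, _, hr, rfl⟩) ⟨(C h2 hω).wf_mul a.1 b.1, by
      simp [(C h2 hω).mat_mul a.1 b.1, a.2, b.2, ChevalleyDatum.wordMat, pow_mul]⟩ hg
  have a := allL_iff.1 rA
  have b := allL_iff.1 rB
  simp only [List.forall_mem_cons] at a b
  obtain ⟨a1, a2, a3, a4, a5, a6, -⟩ := a
  obtain ⟨b1, b2, b3, b4, b5, b6, -⟩ := b
  suffices ∀ c ∈ gl, c ∈ gl → (S h2 hω).ok c from fun c h => this c h h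
  conv => enter [c, 1]; rw [c_gl]
  simp only [List.forall_mem_cons]
  exact ⟨o1 a1 (by decide), o1 a2 (by decide), o1 a3 (by decide), o1 a4 (by decide), o2 0 a5 a6 (by decide), o2 1 a5 a6 (by decide),
    o2 0 b1 b2 (by decide), o2 1 b1 b2 (by decide), o2 0 b3 b4 (by decide), o2 1 b3 b4 (by decide), o2 0 b5 b6 (by decide),
    o2 1 b5 b6 (by decide), by simp⟩

theorem ok_yl : ∀ c ∈ y0 :: yl, (S h2 hω).ok c := by
  rw [c_yl]
  exact List.forall_mem_map.2 fun w _ => ((S h2 hω).prodW_spec (ok_gl h2 hω) w).1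

end

end H15.TE
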