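import Cfsg.Agent.S5743
import Cfsg.Agent.H15.TEb
import Cfsg.Agent.H10.Omega
import Cfsg.Agent.S1686
import Cfsg.Agent.S2604
import Cfsg.Agent.S2079
import Cfsg.Agent.S1696

/-!
Three classes of subgroups in the twisted group of type E6 over the field with four elements (namespace H15.TE).
-/

namespace H15.TE
open Cfsg H11 Cfsg.Lie H11.StSys Cfsg.Agent.S5743

theorem three {K : Type*} [Field K] [Fintype K] (hK : Fintype.card K = 4) {G : Type*} [Group G] [Finite G]
    (ψ' : G →* twistedE6 K 2) (hψ' : Function.Injective ψ') (hO : Nat.card (Out G) = 2)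
    (hc : ∀ M : GL chevE6.Idx K, (∀ x, Commute M (ψ' x)) → ∀ y, M * y = y * M) :
    ∃ H : Fin 3 → Subgroup (twistedE6 K 2), (∀ i, Nonempty ((H i) ≃* G)) ∧
      (∀ i j, i ≠ j → ∀ g : twistedE6 K 2, (H i).map (MulAut.conj g).toMonoidHom ≠ H j) := by
  obtain ⟨θ, F⟩ := exists_frF (q := 2) Nat.prime_two.isPrimePow two_ne_zero hK
  obtain ⟨γ, hγ⟩ := exists_isTw_E6 (RingEquiv.refl K)
  have h := isTw_mul hγ θ
  obtain ⟨j, hj, hr, hv⟩ : ∃ j : twistedE6 K 2 →* chevE6.group K, Function.Injective j ∧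
      j.range = fixS (γ * fieldAut chevE6 K θ) ∧ ∀ x, (j x).1 = x.1 :=
    ⟨_, Subgroup.inclusion_injective _, (inclusion_range_gen _).trans (TE6.eq_fix F h (grpSys_θ_injective _ _) (grpSys_grp _ _)),
      fun _ => rfl⟩
  let ψ := j.comp ψ'
  have hψ : Function.Injective ψ := hj.comp hψ'
  have h5 : Nat.card Kˣ = 3 := by rw [Nat.card_units, Nat.card_eq_fintype_card, hK]
  obtain ⟨ω, hω⟩ := exists_prime_orderOf_dvd_card' (G := Kˣ) 3 h5.symm.dvd
  have h6 (a : Kˣ) : a ^ 3 = 1 := h5 ▸ pow_card_eq_one'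
  let c : Node chevE6 → Kˣ := fun i => ω ^ [1, 0, 0, 0, 0, 2].getD i 0
  obtain ⟨δ, -, hδ⟩ := Lx.exists_Rs (h := TE6.simpAct h) hj hr (c := c) (fun i => by
    rw [F.eq, ← Units.val_pow_eq_pow_val, ← pow_mul, Units.val_inj, pow_eq_pow_iff_modEq, hω]; revert i; decide) 1
  have h7 (n : ℕ) (g) : j ((δ ^ n) g) = diagAut chevE6 K (c ^ n) (j g) := by
    induction n with
    | zero => simp
    | succ n ih => rw [pow_succ', pow_succ', MulAut.mul_apply, hδ, ih, map_mul]; simp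
  refine ⟨fun i => ((δ ^ i.1).toMonoidHom.comp ψ').range, fun i => ⟨(MonoidHom.ofInjective ((δ ^ i.1).injective.comp hψ')).symm⟩,
    fun i k hik g e => ?_⟩
  choose b hb using fun x => e.le ⟨_, ⟨x, rfl⟩, rfl⟩
  let A := diagAut chevE6 K (c ^ k.1)⁻¹ * MulAut.conj (j g) * diagAut chevE6 K (c ^ i.1)
  have h8 (x) : ψ (b x) = A (ψ x) := by
    have := congrArg j (hb x)
    change j ((δ ^ k.1) (ψ' (b x))) = j (g * (δ ^ i.1) (ψ' x) * g⁻¹) at this
    simp only [map_mul, map_inv, h7] at this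
    simp only [A, map_inv, MulAut.mul_apply, MulAut.inv_apply, MulEquiv.eq_symm_apply, MulAut.conj_apply]
    exact this
  have h9 : Function.Injective b := fun x y e => hψ (A.injective (by rw [← h8, e, h8]))
  obtain ⟨z, hz⟩ := sq_inner hO (.ofBijective (MonoidHom.mk' b fun x y => hψ (by
    rw [map_mul, h8, h8, h8, map_mul, map_mul])) ⟨h9, Finite.injective_iff_surjective.1 h9⟩)
  have hA : Pr ((c ^ k.1)⁻¹ * c ^ i.1) A := Pr.mul ⟨_, rfl⟩ ⟨1, by simp⟩
  obtain ⟨g', hg⟩ := Pr.mul (c := 1) (A := MulAut.conj (ψ z)⁻¹) ⟨_, by rw [map_one, one_mul]⟩ (hA.mul hA)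
  have h10 (x) : (MulAut.conj (ψ z)⁻¹ * (A * A)) (ψ x) = ψ x := by
    rw [MulAut.mul_apply, MulAut.mul_apply, ← h8, ← h8, show b (b x) = z * x * z⁻¹ from hz x]; simp [mul_assoc]
  rw [hg] at h10
  have h13 (c') (y) : ((diagAut chevE6 K c' * MulAut.conj g') y).1 =
      (torU chevE6 K (chiS c') * g'.1) * y.1 * (torU chevE6 K (chiS c') * g'.1)⁻¹ := by
    rw [MulAut.mul_apply, diagAut_coe]; simp [mul_assoc]
  have h14 := hc _ fun x => by
    have := congrArg Subtype.val (h10 x)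
    rwa [h13, mul_inv_eq_iff_eq_mul, show (ψ x).1 = (ψ' x).1 from hv _] at this
  obtain ⟨d, hd⟩ := fixd (g := g') fun i => ⟨1, one_mem _, Subtype.ext (by rw [h13, h14, mul_inv_cancel_right])⟩
  have h11 := congrArg lam hd
  have h12 : lam c = ω ^ 5 := show ω ^ 1 * (ω ^ 0) ^ 2 * ω ^ 0 * (ω ^ 2) ^ 2 = ω ^ 5 by group
  simp only [map_mul, map_inv, map_pow, lam_cartan h6, map_one, one_mul, h12, ← sq, mul_pow, inv_pow, inv_mul_eq_one, ← pow_mul,
    pow_eq_pow_iff_modEq, hω, Nat.ModEq] at h11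
  omega

open H13 Cfsg.Spor

theorem c_rel : allL (fun r => Nat.beq (prodW mu on (y0 :: yl) r) on) H13.Fi22.rels = true := by decide +kernel

theorem c_ix : ∀ c ∈ yl, ∃ g ∈ [Fi22.Gen.b, .c, .d, .e, .f, .g, .h, .i], nthD on (y0 :: yl) (H13.Fi22.gs.idxOf g) = c := by
  decide +kernel

theorem c_len : (y0 :: yl).length = 9 := by decide +kernel

attribute [local irreducible] mu wf on yl y0

theorem emb {K : Type*} [Field K] [Fintype K] (hK : Fintype.card K = 4) : ∃ φ : Fi22 →* twistedE6 K 2, Function.Injective φ ∧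
    ∀ M : GL chevE6.Idx K, (∀ g ∈ [Fi22.Gen.b, .c, .d, .e, .f, .g, .h, .i], Commute M (φ (PresentedGroup.of g))) →
      ∀ y, M * y = y * M := by
  have : CharP K 2 := charP_of_card_eq_prime_pow (f := 2) hK
  have h2 : (1 : K) + 1 = 0 := CharTwo.add_self_eq_zero 1
  have h5 : Nat.card Kˣ = 3 := by rw [Nat.card_units, Nat.card_eq_fintype_card, hK]
  obtain ⟨w, hw⟩ := exists_prime_orderOf_dvd_card' (G := Kˣ) 3 h5.symm.dvd
  have hω : (w : K) ^ 2 + w + 1 = 0 := by
    have a : (w : K) ^ 3 = 1 := by rw [← Units.val_pow_eq_pow_val, ← hw, pow_orderOf_eq_one, Units.val_one]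
    have b : (w : K) - 1 ≠ 0 := fun c => by
      rw [sub_eq_zero, Units.val_eq_one] at c
      simp [c] at hw
    exact mul_left_cancel₀ b (by linear_combination a)
  have ok := ok_yl h2 hω
  have rel : H13.Rels ((S h2 hω).gen (y0 :: yl)) H13.Fi22.rels := fun r hr => by
    have := ((S h2 hω).prodW_spec ok r).2
    rw [Nat.eq_of_beq_eq_true (allL_iff.1 c_rel r hr), (S h2 hω).val_one] at this
    exact this.symm
  have o (l) (h : 9 ≤ l) : (S h2 hω).gen (y0 :: yl) l = 1 := by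
    rw [Sem.gen, nthD_eq, List.getD_eq_default _ _ (c_len.trans_le h), (S h2 hω).val_one]
  let φ : Fi22 →* twistedE6 K 2 :=
    presHom (inv_of_rels o (by decide) rel (by decide +kernel)) H13.Fi22.hgs (H13.Fi22.pres_eq ▸ rel)
  have hφ (g) : φ (PresentedGroup.of g) = (S h2 hω).val (nthD on (y0 :: yl) (H13.Fi22.gs.idxOf g)) := presHom_of g
  refine ⟨φ, ?_, fun M h y => Units.ext (central h2 hω (fun c hc => ?_) _)⟩
  · have := Cfsg.Agent.S1696.result.1
    rw [← MonoidHom.ker_eq_bot_iff]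
    refine (MonoidHom.normal_ker φ).eq_bot_or_eq_top.resolve_right fun e => ?_
    have a : φ (PresentedGroup.of .a) = 1 := e.ge trivial
    rw [hφ, ← (S h2 hω).val_one] at a
    have b : y0 = on := Sem.ofCod_inj (C h2 hω) ρ ρ_inj (ok _ List.mem_cons_self) (S h2 hω).ok_one a
    have c := c_ne
    rw [b, Nat.beq_refl] at c
    exact absurd c (by decide)
  · obtain ⟨g, a, b⟩ := c_ix c hc
    have k := ok c (List.mem_cons_of_mem _ hc)
    have e := Sem.ofCod_map (C h2 hω) ρ ρ_inj k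
    refine ⟨k.1, e ▸ ?_⟩
    have := (h g a).map (Units.coeHom _)
    rwa [hφ, b] at this

theorem fi {K : Type*} [Field K] [Fintype K] (hK : Fintype.card K = 4) :
    ∃ H : Fin 3 → Subgroup (twistedE6 K 2), (∀ i, IsoFi22 (H i)) ∧
      (∀ i j, i ≠ j → ∀ g : twistedE6 K 2, (H i).map (MulAut.conj g).toMonoidHom ≠ H j) := by
  obtain ⟨φ, a, b⟩ := emb hK
  exact three hK φ a Cfsg.Agent.S2079.result fun M h => b M fun _ _ => h _

theorem om {K : Type*} [Field K] [Fintype K] (hK : Fintype.card K = 4) :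
    ∃ H : Fin 3 → Subgroup (twistedE6 K 2), (∀ i, Nonempty ((H i) ≃* Omega (ZMod 3) (quadFormOdd 3 (ZMod 3)))) ∧
      (∀ i j, i ≠ j → ∀ g : twistedE6 K 2, (H i).map (MulAut.conj g).toMonoidHom ≠ H j) := by
  obtain ⟨φ, a, b⟩ := emb hK
  obtain ⟨e⟩ := Cfsg.Agent.S1686.result
  obtain ⟨o⟩ := Cfsg.Agent.S2604.result (F := ZMod 3) (p := 3) (f := 1) (m := 3) le_rfl (by simp) (by decide) le_rfl
  obtain ⟨H, h1, h2⟩ := three hK (φ.comp ((Subgroup.subtype _).comp e.symm.toMonoidHom))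
    (a.comp (Subtype.val_injective.comp e.symm.injective)) (by simp [Nat.card_congr o.toEquiv]) fun M h => b M fun g hg => by
      have := h (e ⟨PresentedGroup.of g, FreeGroup.of g, Subgroup.subset_closure (by
        simp only [List.mem_cons, List.not_mem_nil, or_false] at hg
        rcases hg with rfl | rfl | rfl | rfl | rfl | rfl | rfl | rfl <;> simp), rfl⟩)
      simpa using this
  have t : (2 : ZMod 3) ≠ 0 := by decide
  have := H10.qOdd_nondeg (m := 3) t
  have hQ := H10.Form.isQuad_ofQuad (H10.qOdd 3 (ZMod 3))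
  have hZ : Subgroup.center (commutator (H10.Form.ofQuad (H10.qOdd 3 (ZMod 3))).Isom) = ⊥ := by
    rw [← Subgroup.card_eq_one, hQ.card_center_commutator (hQ.good_of_two_ne_zero t) (by simp), if_neg]
    exact fun h => absurd h.2.1 (by simp; decide)
  exact ⟨H, fun i => (h1 i).map fun f => f.trans ((((H10.pOmegaEquiv (H10.isometryEquiv (H10.qOdd 3 (ZMod 3)))).trans
    (QuotientGroup.quotientMulEquivOfEq hZ)).trans QuotientGroup.quotientBot).trans
    (H10.commutatorEquiv (H10.isometryEquiv _)).symm), h2⟩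

end H15.TE
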