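import Cfsg.Agent.H15.ThAe
import Cfsg.Agent.H15.ThMAg
import Cfsg.Prelude.Def_Spor_Th
import Cfsg.Prelude.Def_Exceptional

/-! The Thompson group: order, simplicity, the presented group, multiplier (namespace H15.Th). -/

set_option maxRecDepth 100000

namespace H15.Th
open H13 Cfsg Cfsg.Spor

/-- the coding of vectors of length 26 -/
noncomputable def V26 : VCod (ZMod 2) (Fin 26) 26 26 app wfT := vcodB (Equiv.refl _) (by decide)

theorem h26 : V26.mat one = 1 := V26.mat_one Nat.cast_zero Nat.cast_one (by decide +kernel)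

/-- the same coding for the second tower -/
noncomputable def VP : VCod (ZMod 2) (Fin 26) 26 26 ThP.app ThP.wfT := vcodB (Equiv.refl _) (by decide)

theorem hP : VP.mat ThP.one = 1 := VP.mat_one Nat.cast_zero Nat.cast_one (by decide +kernel)

theorem top0 {G : Type*} [Group G] {g : ℕ → G} (h : Rels ThM.rr g) : Rels R6 g ∧
    Rels (ThM.rr ++ [([12, 13], 1), ([6, 8, 15, 6, 14, 6, 8, 15, 6, 14], 1), ([4, 6, 8, 10], 9)]) g := by
  have a := h.append (h.der (ns := [(([12, 13], 1), [(0, 999, 0, false)]),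
    (([6, 8, 15, 6, 14, 6, 8, 15, 6, 14], 1), [(0, 31, 0, true)])]) (by decide +kernel))
  have b : Rels R6 g := a.sub (by decide +kernel)
  have c : Rels [([4, 6, 8, 10], 9)] (Th.g V26 h26) :=
    (S V26 h26).rels (h0 V26 h26) bco
      (by decide +kernel : ∀ r ∈ ([([4, 6, 8, 10], 9)] : List (List ℕ × ℕ)), relC mul one bc (2 * 8) r = true)
  exact ⟨b, (a.append ((U6 V26 h26).rels (c.mgen (by decide +kernel)) (m2 := 16) (by decide +kernel) b)).sub
    (by decide +kernel)⟩

theorem topP {G : Type*} [Group G] {g : ℕ → G} (h : Rels ThM.rr g) : Rels ThP.R6 g := (top0 h).2.sub (by decide +kernel)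

theorem top {G : Type*} [Group G] {g : ℕ → G} (h : Rels ThM.rr g) : Rels R7 g :=
  ((top0 h).2.append (rel_of_comm (i := 7) (fact_rel (ThP.L5 VP hP) (ThP.U5 VP hP) (R' := ThP.N6) ThP.hr5 ThP.hc5 (topP h)
    (i := 141) (a := 0) (u := [4, 6, 4, 6, 10, 10, 8, 11, 11])
    (v := [8, 11, 8, 6, 4, 6, 8, 11, 8, 6, 4, 6, 10, 8, 6, 4, 11, 7]) (by decide +kernel)))).sub (by decide +kernel)

/-- the subgroup of index 143127000 -/
noncomputable abbrev H : Type := mdl (g V26 h26) dom6

instance : Finite H := fin6 V26 h26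

/-- the coding of vectors of length 248 -/
noncomputable def V : VCod (ZMod 3) (Fin 248) 248 4960 ThM.app ThM.wfT :=
  vcodP (p := 3) (m := 683) (s := 11) (w := 20) (Equiv.refl _) (by decide +kernel)

theorem h2 : V.mat ThM.one = 1 := V.mat_one Nat.cast_zero Nat.cast_one (by decide +kernel)

/-- the model of the Thompson group -/
def M : Type := ThM.M V h2

noncomputable instance : Group M := inferInstanceAs (Group (ThM.M V h2))

/-- its generators -/
noncomputable def gm : ℕ → M := mgen (ThM.g V h2) (List.range 8)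

theorem rel : Rels ThM.rr gm := ThM.rr_m V h2

theorem gm_top : mdl gm (List.range 8) = ⊤ := mdl_mgen _ _

theorem U7 : UP.{0} (mgen (g V26 h26) dom6) dom6 R7 := (U6 V26 h26).weaken fun _ _ _ h => h.left

theorem fin_le : Finite M ∧ Nat.card M ≤ 90745943887872000 := by
  have := (C6 V26 h26).card_le U7 (top rel)
  rw [show mdl gm [0, 1, 2, 3, 4, 5, 6, 7] = ⊤ from gm_top, Subgroup.card_top, card6, pk6] at this
  exact ⟨have := this.1; Subgroup.topEquiv.toEquiv.finite_iff.1 this, this.2⟩

instance : Finite M := fin_le.1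

theorem card_M : Nat.card M = 90745943887872000 := by
  have c := @Nat.Coprime.mul_dvd_of_dvd_of_dvd
  have : Finite (ThM.M V h2) := fin_le.1
  exact fin_le.2.antisymm (Nat.le_of_dvd Nat.card_pos (c (by norm_num) (c (by norm_num) (c (by norm_num) (c (by norm_num)
    (c (by norm_num) (c (by norm_num) (ThM.m2d V h2) (ThM.m3d V h2)) (ThM.m5d V h2)) (ThM.m7d V h2)) (ThM.o13 V h2))
    (ThM.o19 V h2)) (ThM.o31 V h2)))

/-- the embedding of the subgroup -/
noncomputable def ψ : H →* M := (U7 _ _ (top rel)).choose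

theorem hψ : ∀ i ∈ dom6, ψ (mgen (g V26 h26) dom6 i) = gm i := (U7 _ _ (top rel)).choose_spec

theorem range_dvd : Nat.card ψ.range ∣ 634023936 := card6 V26 h26 ▸ Subgroup.card_range_dvd ψ

theorem prim : ψ.range.index = 143127000 ∧ (∀ K, ψ.range < K → K.index < 19) ∧ ψ.range.normalCore = ⊥ ∧
    ∃ r : ℕ → M ⧸ ψ.range, Orbs ψ.range Set.univ r
      [1, 17199, 45864, 2201472, 1304576, 11741184, 105670656, 5031936, 8128512, 179712, 8805888] :=
  prim6 V26 h26 (top rel) hψ gm_top (le_index (Nat.le_of_dvd (by norm_num) range_dvd) card_M.ge)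

theorem simple_M : IsSimpleGroup M :=
  (simple_of_kill prim range_dvd (by norm_num) (ThM.kl_m V h2) ThM.kl_ok gm_top).2

theorem ψ_inj : Function.Injective ψ := by
  have := ψ.range.index_mul_card
  rw [prim.1, card_M] at this
  exact (Subgroup.subtype_injective _).comp
    (ψ.rangeRestrict_surjective.bijective_of_nat_card_le (by rw [card6]; omega)).1

theorem UM : UP.{0} gm (List.range 8) ThM.rr := fun G _ g h =>
  U7.lift (C6 V26 h26) gm_top (top rel) (by rw [card_M, card6, pk6]; decide) G _ (top h)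

/-- the generators of the presentation -/
def gs : List Th.Gen := [.a, .b, .c, .d, .e, .s, .t, .u]

theorem hgs : ∀ x, x ∈ gs := by intro x; cases x <;> decide

theorem ex_e : ∃ e : Spor.Th ≃* M, ∀ i, e (genL gs i) = gm i :=
  pres_equiv hgs rfl rfl (by decide) UM rel (rels_known hgs rfl rfl (by decide +kernel)) (by decide +kernel)

/-- the presented group is the model -/
noncomputable def e : Spor.Th ≃* M := ex_e.choose

/-- the subgroup generated by the first seven generators -/
abbrev N : Subgroup Spor.Th := (Subgroup.closure ({Spor.Th.a, Spor.Th.b, Spor.Th.c, Spor.Th.d, Spor.Th.e, Spor.Th.s, Spor.Th.t} : Set (FreeGroup Th.Gen))).map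
  (PresentedGroup.mk (coxRelators Th.edges ∪ {r | r ∈ Th.extra}))

theorem map_N : N.map e.toMonoidHom = mdl gm dom6 := by
  have : N = mdl (genL gs) dom6 := by
    rw [N, MonoidHom.map_closure]
    exact (mdl_eq (l := [.of .a, .of .b, .of .c, .of .d, .of .e, .of .s, .of .t]) rfl
      (by simp [PresentedGroup.of, eq_comm])).symm
  rw [this, map_mdl]
  exact congrArg (mdl · _) (funext ex_e.choose_spec)

theorem card_Th : Nat.card Spor.Th = 90745943887872000 := (Nat.card_congr e.toEquiv).trans card_M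

theorem simple_Th : IsSimpleGroup Spor.Th :=
  have := simple_M
  e.isSimpleGroup

theorem index_N : N.index = 143127000 := by
  rw [← prim.1, range_eq hψ, ← map_N]
  exact (Subgroup.index_map_equiv _ e).symm

theorem mult_Th : HasCyclicSchurMultiplier Spor.Th 1 :=
  have : Finite Spor.Th := Finite.of_equiv _ e.toEquiv.symm
  have : Finite (ThM.M V h2) := fin_le.1
  have k : ∀ {a}, ¬ a ∣ 90745943887872000 → ¬ a ∣ Nat.card (ThM.M V h2) := fun h c => h (card_M ▸ c)
  hasTrivial_of_list card_Th [2, 3, 5, 7] [13, 19, 31] (by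
    simp only [List.forall_mem_cons]
    exact ⟨(ThM.m2 V h2 (k (by decide))).congr e, (ThM.m3 V h2 (k (by decide))).congr e,
      (ThM.m5 V h2 (k (by decide))).congr e, (ThM.m7 V h2 (k (by decide))).congr e, by simp⟩) 15 (by decide)

theorem is3 {A B : Type*} [Group A] [Group B] {φ : A →* B} (i : Function.Injective φ) (h : IsSimpleGroup A)
    (c : Nat.card A = 211341312) : Is3D4 φ.range :=
  ⟨(MonoidHom.ofInjective i).symm.isSimpleGroup, 2, Nat.prime_two.isPrimePow,
    (card_range i).trans (c.trans (by norm_num))⟩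

theorem ex_sub : ∃ K : Subgroup M, K.index = 143127000 ∧ ∃ L : Subgroup M, L ≤ K ∧ Is3D4 L :=
  ⟨_, prim.1, (ψ.comp (incl (g V26 h26) (dom := dom5) (dom' := dom6) (by decide +kernel))).range,
    fun _ ⟨_, h⟩ => ⟨_, h⟩, is3 (ψ_inj.comp (Subgroup.inclusion_injective _)) (sim V26 h26) (card5 V26 h26)⟩

end H15.Th
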