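import Cfsg.Agent.H15.ThAc

/-! The Thompson group: tower of enumerations. Enumeration 6. Checks. -/

set_option maxRecDepth 100000
set_option Elab.async false

namespace H15.Th
open H13

theorem Rn7 : Nat.beq R7.length 41 = true := by decide +kernel

theorem Nn7 : Nat.beq N7.length 13 = true := by decide +kernel

theorem A6_p : actP 11 819 n6 25 = true := by decide +kernel

theorem A6_l_0 : rng (actL 11 819 n6 dom6 (2 * 8) us6) (nat_lit 0) (nat_lit 25) = true := by decide +kernel

theorem A6_r_0 : rng (fun i => relN 11 819 n6 (2 * 8) (nthD ([], nat_lit 0) R6 i)) (nat_lit 0) (nat_lit 28) = true := by decide +kernel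

theorem hr6 : relsOk mul one lc6 dom6 nodes6 1 (2 * 8) R7 sb6 1 rs6 = true := by decide +kernel

theorem hc6_0 : rng (chk mul one wf T6 lc6 (mapR (fun e => e.2.2) rs6) 1) (nat_lit 0) (nat_lit 2007) = true := by decide +kernel

theorem hc6_1 : rng (chk mul one wf T6 lc6 (mapR (fun e => e.2.2) rs6) 1) (nat_lit 2007) (nat_lit 1014) = true := by decide +kernel

theorem hc6_2 : rng (chk mul one wf T6 lc6 (mapR (fun e => e.2.2) rs6) 1) (nat_lit 3021) (nat_lit 1030) = true := by decide +kernel

theorem hc6_3 : rng (chk mul one wf T6 lc6 (mapR (fun e => e.2.2) rs6) 1) (nat_lit 4051) (nat_lit 1097) = true := by decide +kernel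

theorem hc6_4 : rng (chk mul one wf T6 lc6 (mapR (fun e => e.2.2) rs6) 1) (nat_lit 5148) (nat_lit 395) = true := by decide +kernel

theorem AQ6_1_p : actP 16 17199 q6_1 25 = true := by decide +kernel

theorem AQ6_1_l_0 : rng (actL 16 17199 q6_1 dom6 (2 * 8) us6) (nat_lit 0) (nat_lit 25) = true := by decide +kernel

theorem AQ6_1_r_0 : rng (fun i => relN 16 17199 q6_1 (2 * 8) (nthD ([], nat_lit 0) R6 i)) (nat_lit 0) (nat_lit 28) = true := by decide +kernel

theorem la6 : ldA mul one T6 5543 lc6 819 11 n6 ls6 1 = true := by decide +kernel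

theorem lb6 : ldB 634023936 Qs6 ls6 1 = true := by decide +kernel

theorem na6_0 : rng (fun i => ndA mul one T6 5543 lc6 819 11 n6 634023936 (nthD ⟨nat_lit 0, nat_lit 0, [], [], []⟩ ds6 i)) (nat_lit 0) (nat_lit 10) = true := by decide +kernel

theorem nb6_0 : rng (fun i => ndB mul one T6 5543 lc6 ks6 Qs6 1 (nthD ⟨nat_lit 0, nat_lit 0, [], [], []⟩ ds6 i)) (nat_lit 0) (nat_lit 9) = true := by decide +kernel

theorem nb6_1 : rng (fun i => ndB mul one T6 5543 lc6 ks6 Qs6 1 (nthD ⟨nat_lit 0, nat_lit 0, [], [], []⟩ ds6 i)) (nat_lit 9) (nat_lit 1) = true := by decide +kernel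

theorem dn6 : Nat.beq ds6.length 10 = true := by decide +kernel

theorem hk6 : ks6 = ds6.map Nd.k := by decide +kernel

theorem hkc6 : kc6 = (0, 1) :: ds6.map fun d => (d.k, d.c) := by decide +kernel

theorem lo6 : linkOk mul one T6 5543 ks6 lk6 1 = true := by decide +kernel

theorem do6 : domOk dom6 [0, 1, 2, 3, 4, 5, 6, 7] nodes6 1 R7 sb6 1 = true := by decide +kernel

end H15.Th
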