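import Cfsg.Agent.H15.XeD

/-!
Centralisers that are extensions of an extraspecial group by the alternating group of degree 9 (namespace H15).
* `XE` and its consequences, `ex_pi` (the projection from a subgroup of a product), `xe_of`, `du_of`.
-/

namespace H15
open H13 Cfsg Subgroup Equiv
open scoped commutatorElement Pointwise

variable {G : Type*} [Group G] {z y g g' x : G} {Q : Subgroup G} {a : Perm (Fin 9)}
  {π : centralizer ({z} : Set G) →* alternatingGroup (Fin 9)}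

/-- the kernel `Q` of `π` is extraspecial, and `y` has no fixed points on it -/
structure XE (Q : Subgroup G) (π : centralizer ({z} : Set G) →* alternatingGroup (Fin 9)) (y : G) : Prop where
  aes : H04.AES 2 Q z
  cen : ∀ x ∈ Q, (∀ y ∈ Q, y * x = x * y) → x ∈ zpowers z
  surj : Function.Surjective π
  ker : ∀ g, Gr π g 1 ↔ g ∈ Q
  big : ∃ c ∈ Q, c ∉ zpowers z
  yc : y * z = z * y
  fpf : ∀ x ∈ Q, ⁅y, x⁆ ∈ zpowers z → x ∈ zpowers z

theorem conj_zp (h : g * z = z * g) (hx : x ∈ zpowers z) : g * x * g⁻¹ = x := by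
  obtain ⟨k, rfl⟩ := hx
  exact mul_inv_eq_iff_eq_mul.2 (Commute.zpow_right h k)

namespace XE
variable (E : XE Q π y)
include E

theorem lift (h : a ∈ alternatingGroup (Fin 9)) : ∃ g, Gr π g a :=
  let ⟨x, e⟩ := E.surj ⟨a, h⟩
  ⟨x, x.2, congrArg Subtype.val e⟩

theorem conj_mem (h : g * z = z * g) (hx : x ∈ Q) : g * x * g⁻¹ ∈ Q :=
  let ⟨_, e⟩ := gr_of (π := π) h
  (E.ker _).1 (by simpa using e.conj ((E.ker x).2 hx))

theorem coset (h : Gr π g a) (h' : Gr π g' a) : g⁻¹ * g' ∈ Q := (E.ker _).1 (by simpa using h.inv.mul h')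

theorem cm (h : Gr π g a) (h' : Gr π g' a) (hx : x ∈ Q) (c : ⁅g', x⁆ ∈ zpowers z) : ⁅g, x⁆ ∈ zpowers z := by
  have k := E.aes.comm _ (E.coset h h') _ hx
  rwa [show ⁅g', x⁆ = g * ⁅g⁻¹ * g', x⁆ * g⁻¹ * ⁅g, x⁆ by group, conj_zp h.comm k, mul_mem_cancel_left k] at c

theorem zz : z * z = 1 := by rw [← sq, ← E.aes.ord, pow_orderOf_eq_one]

theorem map_zp {β : MulAut G} (h : β z = z) : β x ∈ zpowers z ↔ x ∈ zpowers z := by
  rw [mem_two E.aes.ord, mem_two E.aes.ord, ← β.injective.eq_iff (a := x), ← β.injective.eq_iff (a := x), map_one, h]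

theorem two (K : Subgroup G) (h : ∀ g, g * z = z * g → ∀ k ∈ K, g * k * g⁻¹ ∈ K) :
    (∀ k ∈ K, k * z = z * k → k ∈ Q) ∨ ∀ g a, Gr π g a → ∃ k ∈ K, Gr π k a := by
  have : (K.subgroupOf (centralizer {z})).Normal := ⟨fun k hk g => h _ (mem_centralizer_singleton_iff.1 g.2) _ hk⟩
  refine ((alternatingGroup.isSimpleGroup (by simp)).eq_bot_or_eq_top_of_normal _ (this.map π E.surj)).imp
    (fun e k hk c => (E.ker _).1 ⟨mem_centralizer_singleton_iff.2 c, congrArg Subtype.val (mem_bot.1 (e.le ⟨_, hk, rfl⟩))⟩)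
    fun e g a c => ?_
  obtain ⟨k, k1, k2⟩ := e.ge (mem_top ⟨a, c.even⟩)
  exact ⟨k, k1, k.2, congrArg Subtype.val k2⟩

theorem cent (h : ∀ x ∈ Q, x * g = g * x) : g ∈ zpowers z := by
  refine E.cen g (((E.two (centralizer Q) fun g hg k hk x hx => ?_).resolve_right fun c => ?_) g h (h z E.aes.mem).symm) h
  · calc x * (g * k * g⁻¹) = g * (g⁻¹ * x * g⁻¹⁻¹ * k) * g⁻¹ := by group
      _ = _ := by rw [hk _ (E.conj_mem (Commute.inv_left hg) hx)]; group
  · obtain ⟨_, e⟩ := gr_of (π := π) E.yc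
    obtain ⟨k, k1, k2⟩ := c _ _ e
    obtain ⟨x, x1, x2⟩ := E.big
    exact x2 (E.fpf x x1 (E.cm e k2 x1 (commutatorElement_eq_one_iff_mul_comm.2 (k1 x x1).symm ▸ one_mem _)))

theorem fix {γ : MulAut G} (h : ∀ x ∈ Q, γ x = x) (c : g * z = z * g) : γ g = g := by
  have u : ∀ g, g * z = z * g → g⁻¹ * γ g ∈ zpowers z := fun g c => E.cent fun x hx => by
    have := h _ (E.conj_mem c hx)
    rw [map_mul, map_mul, map_inv, h x hx] at this
    calc x * (g⁻¹ * γ g) = g⁻¹ * (g * x * g⁻¹) * γ g := by group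
      _ = _ := by rw [← this]; group
  have k : ∀ a ∈ closure {σ : Perm (Fin 9) | σ.IsThreeCycle}, ∃ g, Gr π g a ∧ γ g = g := fun a ha => by
    induction ha using closure_induction with
    | mem a ha =>
      obtain ⟨g, e⟩ := E.lift ha.mem_alternatingGroup
      refine ⟨g, e, (inv_mul_eq_one.1 (((mem_two E.aes.ord).1 (u g e.comm)).resolve_right fun c => ?_)).symm⟩
      have := h _ ((E.ker _).1 ((ha.orderOf ▸ pow_orderOf_eq_one a : a ^ 3 = 1) ▸ e.pow 3))
      rw [map_pow, inv_mul_eq_iff_eq_mul.1 c, Commute.mul_pow e.comm, mul_eq_left, ← orderOf_dvd_iff_pow_eq_one,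
        E.aes.ord] at this
      exact absurd this (by decide)
    | one => exact ⟨1, .one, map_one _⟩
    | mul _ _ _ _ a b => exact a.elim fun x a => b.elim fun y b => ⟨_, a.1.mul b.1, by rw [map_mul, a.2, b.2]⟩
    | inv _ _ a => exact a.elim fun x a => ⟨_, a.1.inv, by rw [map_inv, a.2]⟩
  obtain ⟨a, e⟩ := gr_of (π := π) c
  obtain ⟨x, b, d⟩ := k a (Perm.closure_three_cycles_eq_alternating.ge e.even)
  have := h _ (E.coset b e)
  rwa [map_mul, map_inv, d, mul_right_inj] at this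

theorem Q_le : Q ≤ centralizer {z} := fun x hx => ((E.ker x).2 hx).1

variable [Finite G]

theorem fix_z (h : ¬ 2 ∣ (centralizer ({z} : Set G)).index) (α : MulAut G) : ∃ g : G, (MulAut.conj g * α) z = z := by
  obtain ⟨P, hP⟩ := (E.aes.isPGroup.comap_subtype (K := centralizer {z})).exists_le_sylow
  let S := (P.isPGroup'.map (centralizer {z}).subtype).toSylow (by
    rw [index_map_subtype]; exact fun c => (Nat.prime_two.dvd_mul.1 c).elim P.not_dvd_index h)
  obtain ⟨g, e⟩ := MulAction.exists_smul_eq G (α • S) S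
  refine ⟨g, ((mem_two E.aes.ord).1 (E.cent fun x hx => ?_)).resolve_left fun c => ?_⟩
  · have : x ∈ (g • α • S : Sylow 2 G) := e.symm ▸ ⟨⟨x, E.Q_le hx⟩, hP hx, rfl⟩
    obtain ⟨_, ⟨_, ⟨u, -, rfl⟩, rfl⟩, rfl⟩ := this
    exact (map_mul (MulAut.conj g * α) _ _).symm.trans
      ((congrArg _ (mem_centralizer_singleton_iff.1 u.2)).trans (map_mul _ _ _))
  · exact E.aes.ne_one ((map_eq_one_iff _ (MulEquiv.injective _)).1 c)

omit [Finite G] in
theorem aut {β : MulAut G} (hβ : β z = z) : ∃ σ, ∀ g a, Gr π g a → Gr π (β g) (σ * a * σ⁻¹) := by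
  have k : ∀ x, β x ∈ centralizer ({z} : Set G) ↔ x ∈ centralizer ({z} : Set G) := fun x => by
    rw [mem_centralizer_singleton_iff, mem_centralizer_singleton_iff, ← β.injective.eq_iff (a := x * z), map_mul, map_mul, hβ]
  have q := (E.two (Q.map β.toMonoidHom) (by
    rintro g hg _ ⟨x, hx, rfl⟩
    exact ⟨_, E.conj_mem (g := β.symm g) (mem_centralizer_singleton_iff.1 ((k _).1
      (by simpa using mem_centralizer_singleton_iff.2 hg))) hx, by simp⟩)).resolve_right fun c => by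
    obtain ⟨g, e⟩ := E.lift (a := swap 0 1 * swap 1 2) (by simp [Perm.mem_alternatingGroup])
    obtain ⟨_, ⟨x, hx, rfl⟩, e⟩ := c _ _ e
    have := e.pow (2 * 2)
    rw [← map_pow, pow_mul, E.aes.pow_eq_one (E.aes.pow x hx), map_one] at this
    exact absurd (this.uniq .one) (by decide)
  let γ : centralizer ({z} : Set G) →* centralizer ({z} : Set G) :=
    (β.toMonoidHom.comp (Subgroup.subtype _)).codRestrict _ fun x => (k _).2 x.2
  let f := π.liftOfSurjective E.surj ⟨π.comp γ, fun x hx => Subtype.ext ((E.ker _).2 (q _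
    ⟨_, (E.ker _).1 ⟨x.2, congrArg Subtype.val hx⟩, rfl⟩ (mem_centralizer_singleton_iff.1 ((k _).2 x.2)))).2⟩
  have hf : ∀ x, f (π x) = π (γ x) := fun x => π.liftOfRightInverse_comp_apply _ _ _ x
  obtain ⟨σ, e⟩ := (Agent.S2119.result 9 (by decide) (by decide)).2 (MulEquiv.ofBijective f
    (Finite.surjective_iff_bijective.1 fun a => by
      obtain ⟨x, rfl⟩ := E.surj a
      exact ⟨π ⟨β.symm x, (k _).1 (by simp)⟩, (hf _).trans (congrArg π (Subtype.ext (β.apply_symm_apply _)))⟩))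
  refine ⟨σ, fun g a h => ⟨(k g).2 h.1, ?_⟩⟩
  exact (congrArg Subtype.val ((hf ⟨g, h.1⟩).symm.trans (MulEquiv.congr_fun e _).symm)).trans (by rw [← h.2]; rfl)

theorem extra : IsExtraspecial 2 (Q.subgroupOf (centralizer {z})) := by
  have e := subgroupOfEquivOfLe E.Q_le
  have h := E.aes.subgroup.map e.symm.toMonoidHom e.symm.injective
  rw [map_top_of_surjective _ e.symm.surjective] at h
  have c : ∀ x : Q, (∀ y, y * x = x * y) → x ∈ zpowers (⟨z, E.aes.mem⟩ : Q) := fun x hx => by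
    obtain ⟨k, hk⟩ := E.cen x x.2 fun y hy => congrArg Subtype.val (hx ⟨y, hy⟩)
    exact ⟨k, Subtype.ext hk⟩
  refine H04.isExtraspecial_of_aes_top h (fun x hx => ?_) fun hc => ?_
  · obtain ⟨k, hk⟩ := c (e x) fun y => by
      obtain ⟨y, rfl⟩ := e.surjective y
      rw [← map_mul, mem_center_iff.1 hx, map_mul]
    exact ⟨k, e.injective (by simpa using hk)⟩
  · obtain ⟨x, hx, n⟩ := E.big
    refine n (E.cen x hx fun y hy => ?_)
    simpa using congrArg (fun z => (e z).1) (hc.is_comm.comm (e.symm ⟨y, hy⟩) (e.symm ⟨x, hx⟩))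

theorem struct : ∃ (K : Subgroup (centralizer ({z} : Set G))) (_ : K.Normal), Nat.card K = Nat.card Q ∧
    IsExtraspecial 2 K ∧ Nonempty (centralizer ({z} : Set G) ⧸ K ≃* alternatingGroup (Fin 9)) := by
  have e : π.ker = Q.subgroupOf _ := Subgroup.ext fun x =>
    ⟨fun h => (E.ker _).1 ⟨x.2, congrArg Subtype.val h⟩, fun h => Subtype.ext ((E.ker _).2 h).2⟩
  exact ⟨π.ker, inferInstance, e ▸ Nat.card_congr (subgroupOfEquivOfLe E.Q_le).toEquiv, e ▸ E.extra,
    ⟨QuotientGroup.quotientKerEquivOfSurjective π E.surj⟩⟩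

theorem out (hi : ¬ 2 ∣ (centralizer ({z} : Set G)).index) {c e s n x q0 : G} {eb sb xb τ : Perm (Fin 9)} {q : ℕ → G}
    {k : ℕ} (hc : c ∈ Q) (hc' : c ∉ zpowers z) (he : Gr π e eb) (hs : Gr π s sb) (ec : e * c = c * e) (sc : s * c = c * s)
    (h5 : ∀ x ∈ Q, ⁅e, x⁆ ∈ zpowers z → ⁅s, x⁆ ∈ zpowers z → x ∈ zpowers z ∨ x = c ∨ x = c * z)
    (hQ : Q = mdl q (List.range k)) (hq : ∀ i < k, (∃ g, g * z = z * g ∧ g * c = q i * g) ∧
      ∃ r ∈ Q, ∀ j < k, r * q j = (if i = j then q j * z else q j) * r)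
    (n1 : n * n = 1) (n2 : n * z * n = c) (n3 : n * e = e * n) (n4 : n * s = s * n)
    (h1 : ∀ a, a * sb = sb * a → a * eb = eb * a → a = 1)
    (hg : ∀ K : Subgroup G, centralizer {z} ≤ K → n ∈ K → K = ⊤) (hx : Gr π x xb) (hy : Gr π y (τ * xb * τ⁻¹))
    (e9 : τ ∉ alternatingGroup _) (q1 : q0 ∈ Q) (q2 : q0 ∉ zpowers z) (q3 : ⁅x, q0⁆ ∈ zpowers z) : Nat.card (Out G) = 1 := by
  have fin : ∀ β : MulAut G, (∀ g, g * z = z * g → β g = g) → β n = n → β = 1 := fun β a b => MulEquiv.ext fun x =>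
    (hg (β.toMonoidHom.eqLocus (MonoidHom.id G)) (fun g h => a g (mem_centralizer_singleton_iff.1 h)) b).ge (mem_top x)
  have one : ∀ {u v : G}, u * v = v * u → ⁅u, v⁆ ∈ zpowers z := fun h =>
    commutatorElement_eq_one_iff_mul_comm.2 h ▸ one_mem _
  have qm : ∀ j < k, q j ∈ Q := fun j hj => hQ ▸ mem_mdl _ (List.mem_range.2 hj)
  have ev : ∀ β : MulAut G, β z = z → (∀ g a, Gr π g a → Gr π (β g) a) → ∃ g, MulAut.conj g * β = 1 := fun β b1 b2 => by
    have m : ∀ x ∈ Q, β x ∈ Q := fun x hx => (E.ker _).1 (b2 _ _ ((E.ker _).2 hx))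
    have c1 : β c * c⁻¹ ∈ zpowers z := by
      rcases (h5 _ (m c hc) (E.cm he (b2 _ _ he) (m c hc) (one (by rw [← map_mul, ec, map_mul])))
        (E.cm hs (b2 _ _ hs) (m c hc) (one (by rw [← map_mul, sc, map_mul])))).resolve_left
          fun h => hc' ((E.map_zp b1).1 h) with h | h <;> rw [h]
      · simp
      · rw [conj_zp ((E.ker _).2 hc).comm (mem_zpowers _)]; simp
    have c2 : ∀ j < k, ∀ r ∈ Q, r * β (q j) * r⁻¹ * (q j)⁻¹ ∈ zpowers z := fun j hj r hr => by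
      obtain ⟨⟨g, g1, g2⟩, -⟩ := hq j hj
      obtain ⟨a, g3⟩ := gr_of (π := π) g1
      have := mul_mem (E.aes.comm _ (E.coset g3 (b2 _ _ g3)) _ (m c hc)) c1
      rw [← conj_zp g1 this] at this
      convert mul_mem (E.aes.comm _ hr _ (m _ (qm j hj))) this using 1
      rw [eq_mul_inv_of_mul_eq g2.symm, map_mul, map_mul, map_inv]
      group
    have c3 : ∀ l ≤ k, ∃ r ∈ Q, ∀ j < l, r * β (q j) * r⁻¹ = q j := fun l hl => by
      induction l with
      | zero => exact ⟨1, one_mem _, nofun⟩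
      | succ l ih =>
        obtain ⟨r, r1, r2⟩ := ih (by omega)
        rcases (mem_two E.aes.ord).1 (c2 l hl r r1) with h | h
        · exact ⟨r, r1, fun j hj => (Nat.lt_succ_iff_lt_or_eq.1 hj).elim (r2 j) (· ▸ mul_inv_eq_one.1 h)⟩
        obtain ⟨-, u, u1, u2⟩ := hq l hl
        refine ⟨u * r, mul_mem u1 r1, fun j hj => ?_⟩
        rw [show u * r * β (q j) * (u * r)⁻¹ = u * (r * β (q j) * r⁻¹) * u⁻¹ by group]
        rcases Nat.lt_succ_iff_lt_or_eq.1 hj with c | rfl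
        · rw [r2 j c, u2 j (by omega), if_neg c.ne', mul_inv_cancel_right]
        · rw [mul_inv_eq_iff_eq_mul.1 h, ← mul_assoc, ((E.ker _).2 u1).comm, mul_assoc z, u2 j hl, if_pos rfl, mul_assoc,
            mul_inv_cancel_right, ((E.ker _).2 (qm j hl)).comm, ← mul_assoc, E.zz, one_mul]
    obtain ⟨r, -, r2⟩ := c3 k le_rfl
    have f : ∀ g, g * z = z * g → (MulAut.conj r * β) g = g := fun g => E.fix fun x hx =>
      (closure_le ((MulAut.conj r * β).toMonoidHom.eqLocus (MonoidHom.id G))).2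
        (by rintro _ ⟨j, hj, rfl⟩; exact r2 j (List.mem_range.1 hj)) (hQ.le hx)
    suffices ∃ g, MulAut.conj g * (MulAut.conj r * β) = 1 from this.elim fun g h => ⟨g * r, by rwa [map_mul, mul_assoc]⟩
    generalize MulAut.conj r * β = γ at f
    have m1 : γ n * γ n = 1 := by rw [← map_mul, n1, map_one]
    have m2 : γ n * z * γ n = n * z * n := by
      rw [n2, ← f c ((E.ker _).2 hc).comm, ← n2, map_mul, map_mul, f z rfl]
    have m3 : ∀ u, u * z = z * u → n * u = u * n → n * γ n * u = u * (n * γ n) := fun u a b => by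
      rw [mul_assoc, ← f u a, ← map_mul, b, map_mul, f u a, ← mul_assoc, b, mul_assoc]
    obtain ⟨a, w⟩ := gr_of (π := π) (show n * γ n * z = z * (n * γ n) by
      calc _ = n * (γ n * z * γ n) * γ n := by simp [mul_assoc, m1]
        _ = _ := by simp [m2, ← mul_assoc, n1])
    obtain rfl := h1 a ((w.mul hs).uniq (m3 _ hs.comm n4 ▸ hs.mul w)) ((w.mul he).uniq (m3 _ he.comm n3 ▸ he.mul w))
    have o : ∀ {u}, n * γ n = u → γ n = n * u := fun h => by rw [← h, ← mul_assoc, n1, one_mul]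
    have zi := inv_eq_of_mul_eq_one_right E.zz
    rcases h5 _ ((E.ker _).1 w) (one (m3 _ he.comm n3).symm) (one (m3 _ hs.comm n4).symm) with h | h | h
    · rcases (mem_two E.aes.ord).1 h with h | h
      · exact ⟨1, by simpa using fin γ f (by simpa using o h)⟩
      · rw [o h, ← mul_assoc, n2, mul_eq_one_iff_eq_inv] at m1
        exact (hc' (m1 ▸ inv_mem (mem_zpowers _))).elim
    · rw [o h, ← mul_assoc, show n * c * n = z by rw [← n2]; simp [← mul_assoc, n1]; simp [mul_assoc, n1],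
        mul_eq_one_iff_inv_eq] at m1
      exact (hc' (m1 ▸ inv_mem (mem_zpowers _))).elim
    · refine ⟨z, fin _ (fun g h => by simp [f g h, ← h]) ?_⟩
      simp [o h, ← n2, ← mul_assoc, n1, E.zz]
  refine H14.card_Out_eq_one fun α => ?_
  obtain ⟨g, a⟩ := E.fix_z hi α
  obtain ⟨σ, b⟩ := E.aut a
  have k : ∀ ρ, σ * ρ⁻¹ ∈ alternatingGroup _ → ∃ x : G, (MulAut.conj x * α) z = z ∧
      ∀ g a, Gr π g a → Gr π ((MulAut.conj x * α) g) (ρ * a * ρ⁻¹) := fun ρ h => by
    obtain ⟨x, q⟩ := E.lift h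
    refine ⟨x⁻¹ * g, ?_, fun y c r => ?_⟩
    · rw [map_mul, mul_assoc, MulAut.mul_apply, a]; exact conj_zp q.inv.comm (mem_zpowers _)
    · convert q.inv.conj (b y c r) using 1 <;> simp [mul_assoc]
  by_cases p : σ ∈ alternatingGroup _
  · obtain ⟨x, c, d⟩ := k 1 (by simpa using p)
    obtain ⟨x', e⟩ := ev _ c (by simpa using d)
    exact ⟨x' * x, by rw [map_mul, mul_assoc, e]⟩
  obtain ⟨u, c, d⟩ := k τ (by
    rw [Perm.mem_alternatingGroup] at *
    rw [map_mul, map_inv, Int.units_ne_iff_eq_neg.1 p, Int.units_ne_iff_eq_neg.1 e9]; rfl)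
  have m : (MulAut.conj u * α) q0 ∈ Q := (E.ker _).1 (by simpa using d _ _ ((E.ker _).2 q1))
  exact (q2 ((E.map_zp c).1 (E.fpf _ m (E.cm hy (d _ _ hx) m
    (map_commutatorElement (MulAut.conj u * α) x q0 ▸ (E.map_zp c).2 q3))))).elim

end XE

theorem ex_pi [Finite G] {Γ : Subgroup (G × Perm (Fin 9))} (hz : ∀ p ∈ Γ, p.1 ∈ centralizer {z}) (hQ : ∀ q ∈ Q, (q, 1) ∈ Γ)
    (cq : Nat.card Q = 512) (hs : 181440 ≤ Nat.card (Γ.map (MonoidHom.snd _ _))) (hc : Nat.card Γ ≤ 92897280)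
    (hn : ∃ g a, (g, a) ∈ Γ ∧ g ∉ Q) (hC : Nat.card (centralizer ({z} : Set G)) < 2 * 92897280) :
    Nat.card (centralizer ({z} : Set G)) = 92897280 ∧ ∃ π : centralizer ({z} : Set G) →* alternatingGroup (Fin 9),
      Function.Surjective π ∧ (∀ g, Gr π g 1 ↔ g ∈ Q) ∧ ∀ g a, (g, a) ∈ Γ → Gr π g a := by
  let s := (MonoidHom.snd _ _).comp Γ.subtype
  have a := s.ker.card_mul_index
  rw [index_ker, MonoidHom.range_comp, range_subtype] at a
  let ι : Q → s.ker := fun q => ⟨⟨_, hQ _ q.2⟩, rfl⟩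
  have i : Function.Injective ι := fun a b e => Subtype.ext (congrArg (·.1.1.1) e)
  have b := cq ▸ Nat.card_le_card_of_injective ι i
  have c1 : Nat.card s.ker ≤ 512 := Nat.le_of_mul_le_mul_right (c := 181440)
    ((Nat.mul_le_mul_left _ hs).trans (a ▸ hc)) (by decide)
  have c2 : Nat.card (Γ.map (MonoidHom.snd _ _)) ≤ 181440 := Nat.le_of_mul_le_mul_left (c := 512)
    ((Nat.mul_le_mul_right _ b).trans (a ▸ hc)) (by decide)
  have k : ∀ p ∈ Γ, p.2 = 1 → p.1 ∈ Q := fun p hp e =>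
    let ⟨q, h⟩ := (i.bijective_of_nat_card_le (cq ▸ c1)).2 ⟨⟨p, hp⟩, e⟩
    (congrArg (·.1.1.1) h : q.1 = p.1) ▸ q.2
  have e : Γ.map (MonoidHom.snd _ _) = alternatingGroup _ := Perm.eq_alternatingGroup_of_index_eq_two (by
    have := (Γ.map (MonoidHom.snd _ _)).index_mul_card
    rw [c2.antisymm hs, Nat.card_perm, Nat.card_fin] at this
    change _ = 362880 at this
    omega)
  let s' := s.codRestrict (alternatingGroup _) fun p => e.le ⟨_, p.2, rfl⟩
  have su : Function.Surjective s' := fun a => let ⟨p, h, c⟩ := e.ge a.2; ⟨⟨p, h⟩, Subtype.ext c⟩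
  let f := ((MonoidHom.fst _ _).comp Γ.subtype).codRestrict (centralizer {z}) fun p => hz _ p.2
  have fi : Function.Injective f := by
    rw [← MonoidHom.ker_eq_bot_iff]
    rcases (alternatingGroup.isSimpleGroup (by simp)).eq_bot_or_eq_top_of_normal _
      ((inferInstance : f.ker.Normal).map s' su) with h | h
    · exact le_bot_iff.1 fun x hx => Subtype.ext (Prod.ext (congrArg Subtype.val hx)
        (congrArg Subtype.val (mem_bot.1 (h.le ⟨x, hx, rfl⟩))))
    · obtain ⟨g, a, p1, p2⟩ := hn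
      obtain ⟨x, x1, x2⟩ := h.ge (mem_top (s' ⟨_, p1⟩))
      have := k _ (mul_mem (inv_mem x.2) p1) (inv_mul_eq_one.2 (congrArg Subtype.val x2))
      rw [Prod.fst_mul, Prod.fst_inv, show x.1.1 = 1 from congrArg Subtype.val x1, inv_one, one_mul] at this
      exact absurd this p2
  rw [c1.antisymm b, c2.antisymm hs] at a
  have d := Nat.eq_of_dvd_of_lt_two_mul Nat.card_pos.ne' ((show 92897280 = _ from a) ▸ card_dvd_of_injective f fi) hC
  let u := MulEquiv.ofBijective f (fi.bijective_of_nat_card_le (by omega))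
  have v : ∀ p ∈ Γ, Gr (s'.comp u.symm.toMonoidHom) p.1 p.2 := fun p hp =>
    ⟨_, congrArg (fun x => (s' x).1) (u.symm_apply_apply ⟨p, hp⟩)⟩
  exact ⟨d, _, su.comp u.symm.surjective, fun g => ⟨fun ⟨h, c⟩ => (show (u.symm ⟨g, h⟩).1.1 = g from
    congrArg Subtype.val (u.apply_symm_apply ⟨g, h⟩)) ▸ k _ (u.symm ⟨g, h⟩).2 c, fun h => v _ (hQ g h)⟩, fun _ _ => v _⟩

section
variable {A : Type*} [Group A] {g : ℕ → G} {g' : ℕ → A} {dom : List ℕ}

theorem fst_mem {K : Subgroup G} (h : ∀ i ∈ dom, g i ∈ K) : ∀ p ∈ mdl (fun i => (g i, g' i)) dom, p.1 ∈ K :=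
  fun _ hp => mem_comap.1 ((closure_le (K.comap (MonoidHom.fst G A))).2 (by rintro _ ⟨i, hi, rfl⟩; exact h i hi) hp)

theorem inl_mem {Γ : Subgroup (G × A)} (h : ∀ i ∈ dom, (g i, 1) ∈ Γ) : ∀ x ∈ mdl g dom, (x, 1) ∈ Γ :=
  fun _ hp => mem_comap.1 ((closure_le (Γ.comap (MonoidHom.inl G A))).2 (by rintro _ ⟨i, hi, rfl⟩; exact h i hi) hp)

theorem pair_mem {u : List ℕ} {m : ℕ} (h : inDom m dom u = true) :
    (evalW (sg g) u, evalW (sg g') u) ∈ mdl (fun i => (g i, g' i)) dom := by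
  simp only [inDom, allL_iff, band_eq_true, memL_iff] at h
  have a := map_evalW (MonoidHom.fst _ _) (sg fun i => (g i, g' i)) u
  have b := map_evalW (MonoidHom.snd _ _) (sg fun i => (g i, g' i)) u
  rw [funext (map_sg _ _)] at a b
  convert evalW_mem (u := u) (K := mdl (fun i => (g i, g' i)) dom) fun l hl =>
    sg_mem (g := fun i => (g i, g' i)) (mem_mdl (fun i => (g i, g' i)) ((show Nat.shiftRight l 1 = l / 2 from Nat.shiftRight_one l) ▸ (h l hl).2)) using 1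
  exact Prod.ext a.symm b.symm

theorem conj_inl {Γ : Subgroup (G × A)} {g c q : G} {a : A} (h : (g, a) ∈ Γ) (h' : (c, 1) ∈ Γ) (e : g * c = q * g) :
    (q, 1) ∈ Γ := by
  convert mul_mem (mul_mem h h') (inv_mem h) using 1
  simp [e]

end

variable {mul : ℕ → ℕ → ℕ} {one : ℕ} {wf : ℕ → Bool} {S : Sem G mul one wf}

theorem xe_of (I : SInj S) {ql L : List ℕ} (E : En S Q L) (hq : ∀ c ∈ ql, S.ok c ∧ S.val c ∈ Q) {z c e s y : ℕ}
    (hz : S.ok z) (hc : S.ok c) (he : S.ok e) (hs : S.ok s) (hy : S.ok y) (h : xeOk mul one ql L z c e s y = true) :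
    H04.AES 2 Q (S.val z) ∧ (∀ x ∈ Q, (∀ y ∈ Q, y * x = x * y) → x ∈ zpowers (S.val z)) ∧ S.val c ∈ Q ∧
      S.val c ∉ zpowers (S.val z) ∧ (∀ x ∈ Q, ⁅S.val y, x⁆ ∈ zpowers (S.val z) → x ∈ zpowers (S.val z)) ∧
      ∀ x ∈ Q, ⁅S.val e, x⁆ ∈ zpowers (S.val z) → ⁅S.val s, x⁆ ∈ zpowers (S.val z) →
        x ∈ zpowers (S.val z) ∨ x = S.val c ∨ x = S.val c * S.val z := by
  simp only [xeOk, force_eq, band_eq_true, allL_iff, bor_eq_true, anyL_iff, H14.PK.bn_iff] at h
  obtain ⟨a1, a2, a3, a4, a5⟩ := h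
  have p : ∀ {x u v}, S.ok x → S.ok u → S.ok v → (memL x [u, v] = true ↔ S.val x = S.val u ∨ S.val x = S.val v) :=
    fun a b c => by rw [← I.beq a b, ← I.beq a c]; simp [memL_iff]
  have n : S.val z ≠ 1 := fun e => a4 ((I.beq hz S.ok_one).2 (e.trans S.val_one.symm))
  have ot : orderOf (S.val z) = 2 := orderOf_eq_prime (by
    have := (p (S.ok_mul hz hz) S.ok_one hz).1 (a5 z (memL_iff.1 a1)).1
    rw [S.val_mul hz hz, S.val_one, mul_eq_left] at this
    rw [sq, this.resolve_right n]) n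
  have m : ∀ {x}, S.ok x → (memL x [one, z] = true ↔ S.val x ∈ zpowers (S.val z)) := fun hx => by
    rw [mem_two ot, p hx S.ok_one hz, S.val_one]
  have bq : ∀ {x y u v}, S.ok x → S.ok y → S.ok u → S.ok v →
      (Nat.beq (mul x y) (mul u v) = true ↔ S.val x * S.val y = S.val u * S.val v) := fun x y u v => by
    rw [I.beq (S.ok_mul x y) (S.ok_mul u v), S.val_mul x y, S.val_mul u v]
  have cm : ∀ {g x}, S.ok g → S.ok x → ⁅S.val g, S.val x⁆ ∈ zpowers (S.val z) → cmB mul z g x = true := fun g x h => by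
    rw [cmB, force_eq, force_eq, bor_eq_true, bq g x x g, bq g x hz (S.ok_mul x g), S.val_mul x g]
    simp only [commutatorElement_def, mem_two ot, mul_inv_eq_iff_eq_mul, one_mul] at h
    simpa only [mul_assoc] using h
  have c0 : ∀ x ∈ Q, x * S.val z = S.val z * x := E.forall fun x hx ox => (bq ox hz hz ox).1 (a5 x hx).2.1
  have c1 : ∀ x ∈ Q, x ^ 2 ∈ zpowers (S.val z) := E.forall fun x hx ox => by
    rw [sq, ← S.val_mul ox ox]; exact (m (S.ok_mul ox ox)).1 (a5 x hx).1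
  refine ⟨⟨ot, (E.mem I hz).2 a1, c0, fun x hx y hy => ?_, c1⟩, E.forall fun x hx ox h => ?_, (E.mem I hc).2 a2,
    fun h => a3 ((m hc).2 h), E.forall fun x hx ox h => ?_, E.forall fun x hx ox h h' => ?_⟩
  · have := inv_mem (c1 x hx)
    rw [← conj_zp (c0 _ (inv_mem hy)) this] at this
    convert mul_mem (mul_mem (c1 _ (mul_mem hx hy)) this) (inv_mem (c1 y hy)) using 1
    simp [sq, commutatorElement_def, mul_assoc]
  all_goals rcases (a5 x hx).2.2 with b | ⟨⟨q, b1, b2⟩, b3, b4⟩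
  · exact (m ox).1 b
  · exact (b2 ((bq (hq q b1).1 ox ox (hq q b1).1).2 (h _ (hq q b1).2))).elim
  · exact (m ox).1 b
  · exact (b3 (cm hy ox h)).elim
  · exact .inl ((m ox).1 b)
  · exact .inr (S.val_mul hc hz ▸ (p ox hc (S.ok_mul hc hz)).1 ((b4.resolve_left fun c => c (cm he ox h)).resolve_left
      fun c => c (cm hs ox h')))

theorem du_of {lc ql rl L : List ℕ} {gw : List (List ℕ)} (h0 : ∀ c ∈ lc, S.ok c) {z c k : ℕ} (hz : S.ok z) (hc : S.ok c)
    (hw : band (allL wf ql) (Nat.beq ql.length k) = true) (h : duOk mul one lc ql rl L gw z c k = true) :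
    (∀ c ∈ ql, S.ok c) ∧ ∀ i < k, evalW (S.gen lc) (nthD [] gw i) * S.val c = S.gen ql i * evalW (S.gen lc) (nthD [] gw i) ∧
      (En S Q L → ∃ r ∈ Q, ∀ j < k, r * S.gen ql j = (if i = j then S.gen ql j * S.val z else S.gen ql j) * r) := by
  simp only [duOk, force_eq, band_eq_true, allLt_iff, allL_iff, Nat.beq_eq] at h hw
  have p : ∀ u, S.ok (prodW mul one lc u) ∧ S.val (prodW mul one lc u) = evalW (S.gen lc) u := S.prodW_spec h0
  have o : ∀ c ∈ ql, S.ok c := fun q hq => by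
    obtain ⟨i, hi, rfl⟩ := List.getElem_of_mem hq
    have := (h i (by omega)).2.1
    rw [nthD_eq one, List.getD_eq_getElem _ _ hi] at this
    exact S.ok_l (hw.1 _ hq) (p _).1 (this ▸ S.ok_mul (p _).1 hc)
  have o' := nthD_prop S.ok_one o
  refine ⟨o, fun i hi => ⟨?_, fun E => ⟨_, (E.ok _ (memL_iff.1 (h i hi).1)).2, fun j hj => ?_⟩⟩⟩
  · rw [← (p _).2, ← S.val_mul (p _).1 hc, (h i hi).2.1, S.val_mul (o' i) (p _).1]; rfl
  · have r := (E.ok _ (memL_iff.1 (h i hi).1)).1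
    rw [Sem.gen, ← S.val_mul r (o' j), (h i hi).2.2 j hj]
    split_ifs with c
    · rw [c, Nat.beq_refl, S.val_mul (S.ok_mul (o' j) hz) (c ▸ r), S.val_mul (o' j) hz]
    · rw [show Nat.beq i j = false by rw [← Bool.not_eq_true, Nat.beq_eq]; exact c, S.val_mul (o' j) r]

end H15
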