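import Cfsg.Agent.H15.Th
import Cfsg.Agent.H15.ThAf
import Cfsg.Agent.H15.ThAg
import Cfsg.Agent.H15.Xe

/-! The Thompson group: the centraliser of an involution and the automorphisms (namespace H15.Th). -/

set_option maxRecDepth 100000

namespace H15.Th
open H13 Cfsg Subgroup Equiv
open scoped commutatorElement

/-- the coding of the subgroup -/
noncomputable abbrev S6 : Sem H mul one wf := (S V26 h26).sub _

theorem I6 : SInj S6 := SInj.sub (fun _ _ => V26.sem_inj h1 h26) _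

theorem ψw {u : List ℕ} (h : inDom 16 dom6 u = true) : ψ (evalW (S6.gen lc6) u) = evalW (sg gm) u :=
  (congrArg ψ ((L6 V26 h26).evalW_base h)).trans (map_base hψ h)

theorem nd {m : H} (hm : m ^ 2 = 1) {d : Nd} {lv : List VL} {L ns : List ℕ} {Ls : List (List ℕ)} {k n : ℕ}
    (h0 : band (Nat.beq (prodW mul one lc6 (apd [] [])) one) (forceM (fun u => prodW mul one lc6 (apd [] (apd u [])))
      (mapR Prod.snd d.gs) fun nl => cvOk (app 26 1) (wfT 26 1) mul one nl lv [] (L :: Ls)) = true)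
    (e : 634023936 ≤ d.c * (lv.map VL.d).prod ∧ 0 < d.c) (c : ∀ i < k, cntAt mul one (sqP mul one) (L :: Ls) ns i = true)
    (s : L.length = k ∧ ns.length = k ∧ ns.sum = n) : NdB (S6.gen lc6) 634023936 m d n :=
  V26.cvr_nd (V26.sub_smul h1 h26 _) (L6 V26 h26).ok h0 e fun _ C => C.cnt' (fun c o h =>
    (I6.beq (S6.ok_mul o o) S6.ok_one).2 (by
      rw [S6.val_mul o o, S6.val_one, ← sq]; exact isConj_one_right.1 (hm ▸ h.pow 2))) c s

theorem cent_m : Nat.card (centralizer ({evalW (sg gm) [8, 2, 0, 4, 2]} : Set M)) ≤ 12399 * 9216 :=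
  have h : evalW (S6.gen lc6) [8, 2, 0, 4, 2] ^ 2 = 1 := by
    have := ord_of I6 (L6 V26 h26).ok Nat.prime_two (u := [8, 2, 0, 4, 2]) (k := 1) (by decide +kernel)
    rw [pow_one] at this
    exact orderOf_dvd_iff_pow_eq_one.1 this.dvd
  ψw (u := [8, 2, 0, 4, 2]) (by decide +kernel) ▸ (C6 V26 h26).cent_le (L6 V26 h26).ok (card6 V26 h26) hkc6 (allR dn6 na6)
    (Act.cent_le I6 (L6 V26 h26) (A6 V26 h26) cb_ok (card6 V26 h26) (by norm_num))
    (ns := [752, 272, 32, 28, 10, 4, 8, 14, 50, 2])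
    (.cons (nd h cv0_ok cv0_e cv0s cv0s_s) (.cons (nd h cv1_ok cv1_e cv1s cv1s_s) (.cons (nd h cv2_ok cv2_e cv2s cv2s_s)
      (.cons (nd h cv3_ok cv3_e cv3s cv3s_s) (.cons (nd h cv4_ok cv4_e cv4s cv4s_s) (.cons (nd h cv5_ok cv5_e cv5s cv5s_s)
      (.cons (nd h cv6_ok cv6_e cv6s cv6s_s) (.cons (nd h cv7_ok cv7_e cv7s cv7s_s) (.cons (nd h cv8_ok cv8_e cv8s cv8s_s)
      (.cons (nd h cv9_ok cv9_e cv9s cv9s_s) .nil)))))))))) (by decide +kernel) (top rel) hψ gm_top prim.1.ge ψ_inj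

theorem ev_M {u : List ℕ} (h : inDom 16 (List.range 8) u = true) :
    (ThM.SM V h2).val (prodW ThM.mul ThM.one ThM.bc u) = evalW (sg gm) u :=
  ((ThM.SM V h2).prodW_spec (ThM.bc_ok V h2) u).2.trans ((ThM.LM V h2).evalW_base h)

theorem eq_M {u v : List ℕ} (h : inDom 16 (List.range 8) u = true ∧ inDom 16 (List.range 8) v = true ∧
    prodW ThM.mul ThM.one ThM.bc u = prodW ThM.mul ThM.one ThM.bc v) : evalW (sg gm) u = evalW (sg gm) v :=
  (ev_M h.1).symm.trans ((congrArg _ h.2.2).trans (ev_M h.2.1))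

theorem cent_z : Nat.card (centralizer ({gm 0} : Set M)) < 2 * 92897280 := by
  have a := eq_M (u := [15, 2, 6, 4, 6, 2, 0, 4, 2] ++ [0]) (v := [8, 2, 0, 4, 2] ++ [15, 2, 6, 4, 6, 2, 0, 4, 2])
    (by decide +kernel)
  rw [evalW_append, evalW_append, ← mul_inv_eq_iff_eq_mul] at a
  have b := cent_m
  rw [← a, ← MulAut.conj_apply, card_cent_map] at b
  exact lt_of_le_of_lt (by simpa [sg] using b) (by norm_num)

/-- the coding of the image of the subgroup -/
noncomputable def SH : Sem M mul one wf := S6.map ψ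

theorem IH : SInj SH := fun a b x y e => I6 a b x y (ψ_inj e)

theorem lc_ok : ∀ c ∈ lc6, SH.ok c := (L6 V26 h26).ok

theorem evH {u : List ℕ} (h : inDom 16 dom6 u = true) : evalW (SH.gen lc6) u = evalW (sg gm) u :=
  (map_evalW' ψ _ u).symm.trans (ψw h)

theorem pwH {u : List ℕ} (h : inDom 16 dom6 u = true) : SH.val (prodW mul one lc6 u) = evalW (sg gm) u :=
  (SH.prodW_spec lc_ok u).2.trans (evH h)

theorem eq_H {u v : List ℕ} (h : inDom 16 dom6 u = true ∧ inDom 16 dom6 v = true ∧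
    prodW mul one lc6 u = prodW mul one lc6 v) : evalW (sg gm) u = evalW (sg gm) v :=
  (pwH h.1).symm.trans ((congrArg _ h.2.2).trans (pwH h.2.1))

theorem gH (i : ℕ) (h : inDom 16 dom6 [2 * i] = true := by decide +kernel) : SH.val (nthD one lc6 (2 * i)) = gm i :=
  (by simpa [sg_even] using evH h : SH.gen lc6 (2 * i) = gm i)

/-- the extraspecial group -/
noncomputable abbrev Q : Subgroup M := mdl (SH.gen ql) (List.range 8)

theorem du : (∀ c ∈ ql, SH.ok c) ∧ ∀ i < 8, evalW (sg gm) (nthD [] gw i) * gm 2 = SH.gen ql i * evalW (sg gm) (nthD [] gw i) ∧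
    (En SH Q QL → ∃ r ∈ Q, ∀ j < 8, r * SH.gen ql j = (if i = j then SH.gen ql j * gm 0 else SH.gen ql j) * r) := by
  have := du_of (Q := Q) lc_ok (nthD_prop SH.ok_one lc_ok (2 * 0)) (nthD_prop SH.ok_one lc_ok (2 * 2)) ql_wf du_ok
  rw [gH 0, gH 2] at this
  exact ⟨this.1, fun i hi => evH (u := nthD [] gw i) (by clear this; revert i; decide +kernel) ▸ this.2 i hi⟩

theorem enQ : En SH Q QL ∧ Nat.card Q = 512 := en_of IH du.1 QL_ok

/-- permutations of 9 points as tables -/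
noncomputable def PT : H14.PK.TS (Perm (Fin 9)) 4 9 := H14.PK.permTS 4 9 (by decide)

theorem al_in : ∀ c ∈ tau :: al, PT.In ⊤ c := fun c h => H14.PK.in_permTS (allL_iff.1 (band_eq_true.1 al_ok).1 c h)

theorem al_o : ∀ c ∈ al, (semT PT).ok c := fun c h => al_in c (by simp [h])

theorem pw_in (u : List ℕ) : PT.In ⊤ (pw_ u) := ((semT PT).prodW_spec al_o _).1

/-- the graph of the projection -/
noncomputable abbrev Γ : Subgroup (M × Perm (Fin 9)) := mdl (fun i => (gm i, (semT PT).bg al i)) [0, 2, 3, 4, 5, 6, 7]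

theorem mem_Γ {u : List ℕ} (h : inDom 16 [0, 2, 3, 4, 5, 6, 7] u = true) : (evalW (sg gm) u, PT.el (pw_ u)) ∈ Γ := by
  have c : PT.el (pw_ u) = _ := ((semT PT).prodW_spec al_o u).2.trans (evalW_congr fun l hl =>
    (semT PT).gen_eq_sg al_o (band_eq_true.1 (band_eq_true.1 al_ok).2).1
      (Nat.blt_eq.mp (band_eq_true.1 (allL_iff.1 h l hl)).1))
  rw [c]; exact pair_mem h

theorem comm_z : ∀ i ∈ [0, 2, 3, 4, 5, 6, 7], gm i ∈ centralizer {gm 0} := fun i hi => by
  refine mem_centralizer_singleton_iff.2 ?_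
  by_cases c : i = 7
  · simpa [c, sg] using eq_M (u := [14, 0]) (v := [0, 14]) (by decide +kernel)
  · simpa [sg_even, sg_even _ 0] using eq_H (u := [2 * i, 0]) (v := [0, 2 * i]) (by revert i; decide +kernel)

theorem xe0 : H04.AES 2 Q (gm 0) ∧ (∀ x ∈ Q, (∀ y ∈ Q, y * x = x * y) → x ∈ zpowers (gm 0)) ∧ gm 2 ∈ Q ∧
    gm 2 ∉ zpowers (gm 0) ∧ (∀ x ∈ Q, ⁅evalW (sg gm) [6, 8, 10], x⁆ ∈ zpowers (gm 0) → x ∈ zpowers (gm 0)) ∧
    ∀ x ∈ Q, ⁅gm 4, x⁆ ∈ zpowers (gm 0) → ⁅gm 5, x⁆ ∈ zpowers (gm 0) → x ∈ zpowers (gm 0) ∨ x = gm 2 ∨ x = gm 2 * gm 0 := by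
  have o := nthD_prop SH.ok_one lc_ok
  have := xe_of IH enQ.1 (fun c h => ⟨du.1 c h, by
    obtain ⟨i, hi, rfl⟩ := List.getElem_of_mem h
    have := mem_mdl (SH.gen ql) (List.mem_range.2 (Nat.eq_of_beq_eq_true (band_eq_true.1 ql_wf).2 ▸ hi))
    rwa [Sem.gen, nthD_eq, List.getD_eq_getElem _ _ hi] at this⟩) (o (2 * 0)) (o (2 * 2)) (o (2 * 4)) (o (2 * 5))
    (SH.prodW_spec lc_ok _).1 xe_ok
  rwa [gH 0, gH 2, gH 4, gH 5, pwH (by decide +kernel)] at this

theorem ex_π : Nat.card (centralizer ({gm 0} : Set M)) = 92897280 ∧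
    ∃ π : centralizer ({gm 0} : Set M) →* alternatingGroup (Fin 9),
      Function.Surjective π ∧ (∀ g, Gr π g 1 ↔ g ∈ Q) ∧ ∀ g a, (g, a) ∈ Γ → Gr π g a := by
  refine ex_pi (fst_mem comm_z) (inl_mem fun i hi => ?_) enQ.2 (H14.PK.TS.le_card_cl (S := PT) cha_ok ?_) ?_
    ⟨_, _, mem_Γ (u := [12]) (by decide +kernel), fun h => ?_⟩ cent_z
  · have b := mem_Γ (u := [4]) (by decide +kernel)
    rw [pt_ok.2.1, H14.PK.TS.el_idv, show evalW (sg gm) [4] = gm 2 by simp [sg]] at b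
    exact conj_inl (mem_Γ (u := nthD [] gw i) (by revert i; decide +kernel)) b (du.2 i (List.mem_range.1 hi)).1
  · rw [mapR_eq, List.forall_mem_map]
    exact fun u hu => ⟨_, ⟨_, mem_Γ (u := u) (by revert u; decide +kernel), rfl⟩, (pw_in u).tb_el⟩
  · have := ThP.fin5 VP hP
    have := ((ThP.C5 VP hP).card_le ((ThP.U5 VP hP).weaken fun _ _ _ h => h.left) ((topP rel).prod ((semT PT).rels al_o
      (band_eq_true.1 (band_eq_true.1 al_ok).2).1 (allL_iff.1 (band_eq_true.1 (band_eq_true.1 al_ok).2).2)))).2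
    rwa [ThP.card5] at this
  · have a := ord_of IH lc_ok Nat.prime_three (u := [12]) (k := 1) (by decide +kernel)
    have b := xe0.1.pow_eq_one (xe0.1.pow _ h)
    rw [pow_one, evH (by decide +kernel)] at a
    rw [← pow_mul, ← orderOf_dvd_iff_pow_eq_one, a] at b
    exact absurd b (by decide)

/-- the projection of the centraliser -/
noncomputable def π : centralizer ({gm 0} : Set M) →* alternatingGroup (Fin 9) := ex_π.2.choose

theorem gr {u : List ℕ} (h : inDom 16 [0, 2, 3, 4, 5, 6, 7] u = true) : Gr π (evalW (sg gm) u) (PT.el (pw_ u)) :=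
  ex_π.2.choose_spec.2.2 _ _ (mem_Γ h)

theorem xe : XE Q π (evalW (sg gm) [6, 8, 10]) :=
  ⟨xe0.1, xe0.2.1, ex_π.2.choose_spec.1, ex_π.2.choose_spec.2.1, ⟨_, xe0.2.2.1, xe0.2.2.2.1⟩,
    (gr (by decide +kernel)).comm, xe0.2.2.2.2.1⟩

theorem full : PT.Full ⊤ ch :=
  H14.PK.TS.full_of (by rw [card_top, Nat.card_perm, Nat.card_fin]; rfl) (band_eq_true.1 ch_ok).2 fun l a t b =>
    H14.PK.in_permTS (H14.PK.allCh_iff.1 (band_eq_true.1 ch_ok).1 l a t b)

theorem tau_odd : PT.el tau ∉ alternatingGroup (Fin 9) := by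
  rw [show PT.el tau = swap 2 4 from H14.PK.permTS_tb (w := 4) (n := 9) (g := swap 2 4) (T := tau) (by decide +kernel) (by decide +kernel) ▸
    H14.PK.TS.el_tb _, Perm.mem_alternatingGroup, Perm.sign_swap (by decide)]
  decide

theorem gen_n (K : Subgroup M) (h : centralizer {gm 0} ≤ K) (hn : evalW (sg gm) [2, 0, 4, 2] ∈ K) : K = ⊤ := by
  have m : ∀ {u}, inDom 16 [0, 2, 3, 4, 5, 6, 7] u = true → evalW (sg gm) u ∈ K := fun a => h (gr a).1
  have k : ∀ u : List ℕ, inDom 16 dom6 u = true → evalW (sg gm) u ∈ K →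
      ((SH.map (MonoidHom.id M)).sub K).ok (prodW mul one lc6 u) := fun u a b =>
    ⟨(SH.prodW_spec lc_ok u).1, show SH.val _ ∈ K from pwH a ▸ b⟩
  have c : SH.val (nthD one lc6 (2 * 1)) ∈ K := (((SH.map (MonoidHom.id M)).sub K).ok_of_run (by
    simp only [mapR_eq, List.map, List.forall_mem_cons]
    exact ⟨k _ (by decide +kernel) (m (by decide +kernel)), k _ (by decide +kernel) (m (by decide +kernel)),
      k _ (by decide +kernel) (m (by decide +kernel)), k _ (by decide +kernel) (m (by decide +kernel)),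
      k _ (by decide +kernel) (m (by decide +kernel)), k _ (by decide +kernel) (m (by decide +kernel)),
      k _ (by decide +kernel) hn, by simp⟩) ng_ok _ (List.mem_singleton_self _)).2
  refine top_unique (gm_top.ge.trans ((closure_le _).2 ?_))
  rintro _ ⟨i, hi : i ∈ List.range 8, rfl⟩
  by_cases e : i = 1
  · exact e ▸ gH 1 ▸ c
  · simpa [sg_even] using m (u := [2 * i]) (by revert i; decide +kernel)

theorem out_M : Nat.card (Out M) = 1 := by
  have t := al_in tau (by simp)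
  have q := q0_ok
  rw [force_eq, band_eq_true, H14.PK.bn_iff] at q
  have o := (SH.prodW_spec lc_ok [4, 6, 4, 6]).1
  refine xe.out (c := gm 2) (e := gm 4) (s := gm 5) (n := evalW (sg gm) [2, 0, 4, 2]) (τ := PT.el tau)
    (q0 := evalW (sg gm) [4, 6, 4, 6]) ?_ xe0.2.2.1 xe0.2.2.2.1
    (by simpa [sg] using gr (u := [8]) (by decide +kernel)) (by simpa [sg] using gr (u := [10]) (by decide +kernel))
    (by simpa [sg] using eq_H (u := [8, 4]) (v := [4, 8]) (by decide +kernel))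
    (by simpa [sg] using eq_H (u := [10, 4]) (v := [4, 10]) (by decide +kernel)) xe0.2.2.2.2.2 rfl
    (fun i hi => ⟨⟨_, (gr (by revert i; decide +kernel)).comm, (du.2 i hi).1⟩, (du.2 i hi).2 enQ.1⟩)
    (by simpa [sg, mul_assoc] using eq_H (u := [2, 0, 4, 2, 2, 0, 4, 2]) (v := []) (by decide +kernel))
    (by simpa [sg, mul_assoc] using eq_H (u := [2, 0, 4, 2, 0, 2, 0, 4, 2]) (v := [4]) (by decide +kernel))
    (by simpa [sg, mul_assoc] using eq_H (u := [2, 0, 4, 2, 8]) (v := [8, 2, 0, 4, 2]) (by decide +kernel))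
    (by simpa [sg, mul_assoc] using eq_H (u := [2, 0, 4, 2, 10]) (v := [10, 2, 0, 4, 2]) (by decide +kernel))
    (fun a b c => (cen_two full (pw_in _) (pw_in _) pz_ok a b c).elim id fun h => h.trans H14.PK.TS.el_idv) gen_n
    (gr (u := [8, 14, 6, 14, 10]) (by decide +kernel)) ?_ tau_odd (pwH (u := [4, 6, 4, 6]) (by decide +kernel) ▸ (enQ.1.mem IH o).2 q.1)
    (fun h => q.2 ?_) ?_
  · have := (centralizer ({gm 0} : Set M)).index_mul_card
    rw [ex_π.1, card_M] at this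
    omega
  · rw [mul_inv_eq_iff_eq_mul.2 (show _ = PT.el (pw_ [6, 8, 10]) * _ by
      rw [← t.el_tm (pw_in _), pt_ok.1, (pw_in _).el_tm t])]
    exact gr (by decide +kernel)
  · rw [mem_two xe0.1.ord, ← pwH (by decide +kernel), ← gH 0, ← SH.val_one, ← IH.beq o SH.ok_one,
      ← IH.beq o (nthD_prop SH.ok_one lc_ok _)] at h
    simpa [memL_iff] using h
  · have := eq_M (u := [8, 14, 6, 14, 10] ++ [4, 6, 4, 6]) (v := [0] ++ ([4, 6, 4, 6] ++ [8, 14, 6, 14, 10]))
      (by decide +kernel)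
    rw [evalW_append, evalW_append, evalW_append] at this
    rw [commutatorElement_def, this]
    simp [sg, mul_assoc]

theorem out_Th : Nat.card (Out Spor.Th) = 1 := (H14.card_Out_congr e).trans out_M

end H15.Th
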