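import Cfsg.Agent.H15.ThMAc

/-! The Thompson group in dimension 248. Sylow 2-subgroup. Checks. -/

set_option maxRecDepth 100000
set_option Elab.async false

namespace H15.ThM
open H13

theorem m2ok : m2D.ok = true := by decide +kernel

theorem m2cn : Nat.beq m2cs.length 126 = true := by decide +kernel

theorem m2h3 : band (Nat.ble m2cs.length m2D.fuel) (allL (fun f => force (m2D.wd f) (bdOk m2D.b m2D.N m2D.t)) m2Fs) = true := by decide +kernel

theorem m2c_0 : rng (fun i => cnOk m2D (nthD (.con [] 0 0, 0) m2cs i)) (nat_lit 0) (nat_lit 126) = true := by decide +kernel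

theorem m2t_0 : tgAll m2D m2cs m2Fs m2la (nat_lit 0) (nat_lit 15) = true := by decide +kernel

theorem m2r_0 : rng (pcRow mul one m2lc m2D) (nat_lit 0) (nat_lit 4) = true := by decide +kernel

theorem m2r_1 : rng (pcRow mul one m2lc m2D) (nat_lit 4) (nat_lit 1) = true := by decide +kernel

theorem m2r_2 : rng (pcRow mul one m2lc m2D) (nat_lit 5) (nat_lit 1) = true := by decide +kernel

theorem m2r_3 : rng (pcRow mul one m2lc m2D) (nat_lit 6) (nat_lit 1) = true := by decide +kernel

theorem m2r_4 : rng (pcRow mul one m2lc m2D) (nat_lit 7) (nat_lit 1) = true := by decide +kernel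

theorem m2r_5 : rng (pcRow mul one m2lc m2D) (nat_lit 8) (nat_lit 1) = true := by decide +kernel

theorem m2r_6 : rng (pcRow mul one m2lc m2D) (nat_lit 9) (nat_lit 1) = true := by decide +kernel

theorem m2r_7 : rng (pcRow mul one m2lc m2D) (nat_lit 10) (nat_lit 1) = true := by decide +kernel

theorem m2r_8 : rng (pcRow mul one m2lc m2D) (nat_lit 11) (nat_lit 1) = true := by decide +kernel

theorem m2r_9 : rng (pcRow mul one m2lc m2D) (nat_lit 12) (nat_lit 1) = true := by decide +kernel

theorem m2r_10 : rng (pcRow mul one m2lc m2D) (nat_lit 13) (nat_lit 1) = true := by decide +kernel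

theorem m2r_11 : rng (pcRow mul one m2lc m2D) (nat_lit 14) (nat_lit 1) = true := by decide +kernel

theorem m2fn : Nat.beq m2fr.length 49 = true := by decide +kernel

theorem m2f_0 : rng (fun i => fuChk mul one m2lc (nthD (0, [], []) m2fr i)) (nat_lit 0) (nat_lit 4) = true := by decide +kernel

theorem m2f_1 : rng (fun i => fuChk mul one m2lc (nthD (0, [], []) m2fr i)) (nat_lit 4) (nat_lit 10) = true := by decide +kernel

theorem m2f_2 : rng (fun i => fuChk mul one m2lc (nthD (0, [], []) m2fr i)) (nat_lit 14) (nat_lit 7) = true := by decide +kernel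

theorem m2f_3 : rng (fun i => fuChk mul one m2lc (nthD (0, [], []) m2fr i)) (nat_lit 21) (nat_lit 6) = true := by decide +kernel

theorem m2f_4 : rng (fun i => fuChk mul one m2lc (nthD (0, [], []) m2fr i)) (nat_lit 27) (nat_lit 6) = true := by decide +kernel

theorem m2f_5 : rng (fun i => fuChk mul one m2lc (nthD (0, [], []) m2fr i)) (nat_lit 33) (nat_lit 8) = true := by decide +kernel

end H15.ThM
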