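import Cfsg.Agent.H15.ThMAc

/-! The Thompson group in dimension 248. Sylow 2-subgroup. Checks. -/

set_option maxRecDepth 100000
set_option Elab.async false

namespace H15.ThM
open H13

theorem m2f_6 : rng (fun i => fuChk mul one m2lc (nthD (0, [], []) m2fr i)) (nat_lit 41) (nat_lit 6) = true := by decide +kernel

theorem m2f_7 : rng (fun i => fuChk mul one m2lc (nthD (0, [], []) m2fr i)) (nat_lit 47) (nat_lit 2) = true := by decide +kernel

theorem m2vc : vchainOk (app 4960 1) (wfT 4960 1) mul one m2lc [] m2vl = true := by decide +kernel

theorem m2lo : lowOk m2D m2vl = true := by decide +kernel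

end H15.ThM
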