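import Cfsg.Agent.H15.Xe

/-!
Polycyclic lists of involutory steps, and the conjugates of a normal subgroup that contain an element (namespace H15).
* `PcL`, `pcC`, `pcL_of`, `PcL.cvr`, `Cvr.merge`, `Cvr.card_le`; `Cov.cntX`; `simple_quot`.
-/

namespace H15
open H13 MulAction Subgroup

variable {M G : Type*} [Group M] [Group G] {mul : ℕ → ℕ → ℕ} {one : ℕ} {wf : ℕ → Bool} {S : Sem G mul one wf}

/-- the subgroup generated by a list -/
def clL (L : List G) : Subgroup G := closure {x | x ∈ L}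

theorem mem_clL {L : List G} {x : G} (h : x ∈ L) : x ∈ clL L := subset_closure h

theorem clL_le {L : List G} {K : Subgroup G} (h : ∀ x ∈ L, x ∈ K) : clL L ≤ K := (closure_le _).2 h

/-- each member normalises the subgroup generated by the later ones, and its square lies there -/
def PcL (L : List G) : Prop :=
  List.rec True (fun a r ih => ih ∧ a * a ∈ clL r ∧ ∀ b ∈ r, a⁻¹ * b * a ∈ clL r) L

/-- check of the relations -/
noncomputable def pcC (mul : ℕ → ℕ → ℕ) (one : ℕ) (cs : List ℕ) : List (List ℕ × List (List ℕ)) → Bool :=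
  List.rec (fun _ => true) (fun a r ih ws => List.rec false (fun w ws _ =>
    band (Nat.beq (mul a a) (prodW mul one r w.1)) (band (allLt (fun j => force (prodW mul one r (nthW w.2 j)) fun x =>
      Nat.beq (mul (nthD one r j) a) (mul a x)) r.length) (ih ws))) ws) cs

theorem prodW_clL {r : List ℕ} (h : ∀ c ∈ r, S.ok c) (u : List ℕ) : S.val (prodW mul one r u) ∈ clL (r.map S.val) := by
  rw [(S.prodW_spec h u).2]
  exact evalW_mem fun l _ => nthD_prop (p := fun c => S.val c ∈ clL (r.map S.val)) (S.val_one ▸ one_mem _)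
    (fun c hc => mem_clL (List.mem_map_of_mem hc)) l

theorem pcL_of {cs : List ℕ} (h0 : ∀ c ∈ cs, S.ok c) {ws : List (List ℕ × List (List ℕ))}
    (h : pcC mul one cs ws = true) : PcL (cs.map S.val) := by
  induction cs generalizing ws with
  | nil => trivial
  | cons a r ih =>
    rcases ws with _ | ⟨w, ws⟩
    · exact absurd h (by simp [pcC])
    obtain ⟨a1, a⟩ := band_eq_true.1 h
    obtain ⟨a2, a3⟩ := band_eq_true.1 a
    obtain ⟨o, o'⟩ := List.forall_mem_cons.1 h0
    refine ⟨ih o' a3, by rw [← S.val_mul o o, Nat.eq_of_beq_eq_true a1]; exact prodW_clL o' _, ?_⟩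
    refine List.forall_mem_map.2 fun b hb => ?_
    obtain ⟨j, hj, rfl⟩ := List.getElem_of_mem hb
    have := Nat.eq_of_beq_eq_true (allLt_iff.1 a2 j hj)
    rw [nthD_eq, List.getD_eq_getElem _ _ hj] at this
    rw [mul_assoc, ← S.val_mul (o' _ hb) o, this, S.val_mul o (S.prodW_spec o' _).1, inv_mul_cancel_left]
    exact prodW_clL o' _

theorem PcL.cvr [Finite G] {cs : List ℕ} (h0 : ∀ c ∈ cs, S.ok c) (h : PcL (cs.map S.val)) :
    Cvr S (clL (cs.map S.val)) (mapR (fun c => [one, c]) cs) := by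
  induction cs with
  | nil => exact fun x hx => by simpa [clL] using hx
  | cons a r ih =>
    obtain ⟨o, o'⟩ := List.forall_mem_cons.1 h0
    obtain ⟨a1, a2, a3⟩ := h
    refine ⟨_, ih o' a1, fun x hx => ?_⟩
    suffices x ∈ clL (r.map S.val) ∨ (S.val a)⁻¹ * x ∈ clL (r.map S.val) by
      rcases this with c | c
      exacts [⟨one, by simp, S.ok_one, by simpa [S.val_one] using c⟩, ⟨a, by simp, o, c⟩]
    have hx' : x ∈ Submonoid.closure {x | x ∈ (a :: r).map S.val} := by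
      rwa [← Subgroup.closure_toSubmonoid_of_finite]
    clear hx
    induction hx' using Submonoid.closure_induction_left with
    | one => exact .inl (one_mem _)
    | mul_left b hb y _ ih =>
      rcases List.mem_cons.1 hb with rfl | hb
      · exact ih.symm.imp (fun c => by simpa [mul_assoc] using mul_mem a2 c) fun c => by simpa using c
      · exact ih.imp (mul_mem (mem_clL hb)) fun c => by simpa [mul_assoc] using mul_mem (a3 b hb) c

/-- all products -/
noncomputable def prods (mul : ℕ → ℕ → ℕ) (L L' : List ℕ) : List ℕ :=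
  List.rec [] (fun a _ ih => apd (mapR (mul a) L') ih) L

theorem Cvr.merge {K : Set G} {L L' : List ℕ} {Ls : List (List ℕ)} (C : Cvr S K (L :: L' :: Ls)) :
    Cvr S K (prods mul L L' :: Ls) := by
  obtain ⟨_, ⟨K', c1, c2⟩, c3⟩ := C
  refine ⟨K', c1, fun x hx => ?_⟩
  obtain ⟨t, t1, t2, t3⟩ := c3 x hx
  obtain ⟨u, u1, u2, u3⟩ := c2 _ t3
  refine ⟨mul t u, ?_, S.ok_mul t2 u2, by rwa [S.val_mul t2 u2, mul_inv_rev, mul_assoc]⟩
  clear c3
  induction L with
  | nil => simp at t1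
  | cons a L ih =>
    show _ ∈ apd _ _
    rw [apd_eq, mapR_eq, List.mem_append]
    exact (List.mem_cons.1 t1).imp (fun e : t = a => e ▸ List.mem_map_of_mem u1) ih

theorem Cvr.card_le [Finite G] {K : Set G} {Ls : List (List ℕ)} (C : Cvr S K Ls) :
    K.ncard ≤ (Ls.map List.length).prod := by
  induction Ls generalizing K with
  | nil => exact Set.ncard_le_one_iff_subsingleton.2 fun x a y b => (C x a).trans (C y b).symm
  | cons L Ls ih =>
    have := C.step (p := fun _ => True) (f := fun _ => (Ls.map List.length).prod) fun K' c _ _ _ => by simpa using ih c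
    simpa using this

theorem PcL.card_le [Finite G] {cs : List ℕ} (h0 : ∀ c ∈ cs, S.ok c) (h : PcL (cs.map S.val)) :
    Nat.card (clL (cs.map S.val)) ≤ 2 ^ cs.length := by
  have := (h.cvr h0).card_le
  rw [mapR_eq, List.map_map, show List.length ∘ (fun c => [one, c]) = fun _ => 2 from rfl] at this
  exact this.trans (by simp)

omit [Group G] in
theorem two_of_le {X : Set G} [Finite G] {a b x : G} (h : X.ncard ≤ 2) (ha : a ∈ X) (hb : b ∈ X) (n : a ≠ b)
    (hx : x ∈ X) : x = a ∨ x = b :=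
  (Set.eq_of_subset_of_ncard_le (s := {a, b}) (by rintro _ (rfl | rfl) <;> assumption) (by rwa [Set.ncard_pair n])).ge hx

/-- the cosets whose conjugate of `V` contains `z` -/
def XV (H V : Subgroup G) (z : G) : Set (G ⧸ H) := {y | ∃ g : G, y = g ∧ g⁻¹ * z * g ∈ V}

theorem mem_XV {H V : Subgroup G} (hV : H ≤ normalizer V) {z g : G} : (g : G ⧸ H) ∈ XV H V z ↔ g⁻¹ * z * g ∈ V := by
  refine ⟨fun ⟨k, a, b⟩ => ?_, fun h => ⟨g, rfl, h⟩⟩
  simpa [mul_assoc] using (mem_normalizer_iff.1 (hV (QuotientGroup.eq.1 a)) _).1 b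

theorem Cov.cntX [Finite G] [Finite M] {ψ : M →* G} (hi : Function.Injective ψ) {W : ℕ → G} {kc : List (ℕ × ℕ)}
    (K : Cov ψ ⊤ W ((0, 1) :: kc)) {V : Subgroup G} (hV : ψ.range ≤ normalizer V) {m : M} (h1 : m ≠ 1) (hm : ψ m ∈ V)
    {ns : List ℕ} (hn : List.Forall₂ (fun p n => {v | v ∈ V ∧ (W p.1)⁻¹ * v * W p.1 ∈ V}.ncard ≤ n + 1) kc ns) {a cm : ℕ}
    (ha : Nat.card M = a) (hc : Nat.card (centralizer ({m} : Set M)) ≤ cm) :
    (XV ψ.range V (ψ m)).ncard ≤ (List.zipWith (fun p n => n * cm * p.2 / a) kc ns).sum + 1 := by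
  let Q : ℕ → Set (G ⧸ ψ.range) := fun k => {y | y ∈ orbit ψ.range (W k : G ⧸ ψ.range) ∧ y ∈ XV ψ.range V (ψ m)}
  have key : ∀ p ∈ kc, ∀ n, {v | v ∈ V ∧ (W p.1)⁻¹ * v * W p.1 ∈ V}.ncard ≤ n + 1 → (Q p.1).ncard ≤ n * cm * p.2 / a :=
    fun p hp n b => by
    let _ : MulAction M (G ⧸ ψ.range) := MulAction.compHom _ ψ
    have e : orbit M (W p.1 : G ⧸ ψ.range) = orbit ψ.range (W p.1 : G ⧸ ψ.range) := Set.ext fun y =>
      ⟨fun ⟨s, e⟩ => ⟨⟨_, s, rfl⟩, e⟩, fun ⟨⟨_, s, rfl⟩, e⟩ => ⟨s, e⟩⟩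
    have c1 := ncard_smul_mem (M := M) (W p.1 : G ⧸ ψ.range) (B := Q p.1) fun _ h => e ▸ h.1
    have c2 := ncard_smul_mem (M := ConjAct M) m (B := {s | IsConj m s ∧ (W p.1)⁻¹ * ψ s * W p.1 ∈ V})
      fun s h => (isConj_iff.1 h.1).elim fun c e => ⟨ConjAct.toConjAct c, e⟩
    rw [← nat_card_centralizer_nat_card_stabilizer] at c2
    have c3 : {h : M | h • (W p.1 : G ⧸ ψ.range) ∈ Q p.1}.ncard ≤
        {h : ConjAct M | h • m ∈ {s | IsConj m s ∧ (W p.1)⁻¹ * ψ s * W p.1 ∈ V}}.ncard :=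
      Set.ncard_le_ncard_of_injOn (fun h => ConjAct.toConjAct h⁻¹) (fun h a => ⟨isConj_iff.2 ⟨h⁻¹, rfl⟩, by
        have := (mem_XV hV (g := ψ h * W p.1)).1 a.2
        show _ * ψ (h⁻¹ * m * h⁻¹⁻¹) * _ ∈ V
        simpa [mul_assoc] using this⟩) (fun a _ b _ e => inv_injective e) (@Set.toFinite _ _ (@Subtype.finite _ ‹Finite M› _))
    have c4 : {s | IsConj m s ∧ (W p.1)⁻¹ * ψ s * W p.1 ∈ V}.ncard ≤ n := by
      have := Set.ncard_le_ncard_of_injOn ψ (s := {s | IsConj m s ∧ (W p.1)⁻¹ * ψ s * W p.1 ∈ V})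
        (t := {v | v ∈ V ∧ (W p.1)⁻¹ * v * W p.1 ∈ V} \ {1}) (fun s h => by
          obtain ⟨c, rfl⟩ := isConj_iff.1 h.1
          refine ⟨⟨?_, h.2⟩, fun c => h1 (by simpa using hi (c.trans ψ.map_one.symm))⟩
          rw [map_mul, map_mul, map_inv]
          exact (mem_normalizer_iff.1 (hV ⟨c, rfl⟩) _).1 hm) hi.injOn
      rw [Set.ncard_sdiff_singleton_of_mem (by simp)] at this
      omega
    have c5 := (stabilizer M (W p.1 : G ⧸ ψ.range)).index_mul_card
    rw [index_stabilizer, e, ha] at c5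
    refine (Nat.le_div_iff_mul_le (ha ▸ Nat.card_pos)).2 ?_
    rw [← c5, Nat.mul_comm (orbit ψ.range _).ncard, ← Nat.mul_assoc, ← c1]
    exact Nat.mul_le_mul (c3.trans (c2 ▸ Nat.mul_le_mul c4 hc)) (K.le p (by simp [hp]))
  refine (ncard_le_sum (O := fun p : ℕ × ℕ => Q p.1) (c := fun p => (Q p.1).ncard) (fun _ => Set.toFinite _)
    (l := (0, 1) :: kc) (fun _ _ => le_rfl) fun y hy => ?_).2.trans ?_
  · obtain ⟨x, rfl⟩ := QuotientGroup.mk_surjective y
    exact (K.cover x trivial).imp fun p e => ⟨e.1, e.2, hy⟩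
  rw [List.map_cons, List.sum_cons, Nat.add_comm]
  refine Nat.add_le_add ?_ ((Set.ncard_le_ncard (fun _ h => h.1) (Set.toFinite _)).trans (K.le (0, 1) (by simp)))
  clear K
  induction hn with
  | nil => simp
  | cons a _ ih => exact Nat.add_le_add (key _ (by simp) _ a) (ih fun d hd => key d (by simp [hd]))

theorem orbit_XV [Finite G] {H V : Subgroup G} {z : G} (hz : z ∈ V) :
    orbit (centralizer ({z} : Set G)) ((1 : G) : G ⧸ H) ⊆ XV H V z ∧
      (orbit (centralizer ({z} : Set G)) ((1 : G) : G ⧸ H)).ncard * Nat.card ↥(centralizer ({z} : Set G) ⊓ H) =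
        Nat.card (centralizer ({z} : Set G)) := by
  refine ⟨?_, by
    have := ncard_orbit_mul_card (centralizer {z}) ((1 : G) : G ⧸ H)
    rwa [stabilizer_quotient] at this⟩
  rintro _ ⟨⟨c, hc⟩, rfl⟩
  exact ⟨c * 1, rfl, by rwa [mul_one, mul_assoc, ← mem_centralizer_singleton_iff.1 hc, inv_mul_cancel_left]⟩

theorem simple_quot [Finite G] {H N : Subgroup G} [N.Normal] (hH : IsCoatom H) (hc : H.normalCore = N) {p : ℕ}
    (hp : (N.relIndex H).Coprime p) {s : Set G} (hS : closure s ⊔ N = ⊤) (hpS : ∀ x ∈ s, x ^ p = 1) :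
    IsSimpleGroup (G ⧸ N) := by
  have k : ∀ K : Subgroup G, N ≤ K → (K.map (QuotientGroup.mk' N)).comap (QuotientGroup.mk' N) = K := fun K h =>
    comap_map_eq_self (by rwa [QuotientGroup.ker_mk'])
  have n : N ≤ H := hc ▸ H.normalCore_le
  have su := QuotientGroup.mk'_surjective N
  refine isSimpleGroup_of_coatom_pgen (H := H.map (QuotientGroup.mk' N)) (p := p) (S := QuotientGroup.mk' N '' s)
    ⟨fun e => hH.1 (by rw [← k H n, e, comap_top]), fun K hK => ?_⟩ ?_ ?_ ?_ ?_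
  · rw [← map_comap_eq_self_of_surjective su K, hH.2 (K.comap _) (k H n ▸ (comap_lt_comap_of_surjective su).2 hK),
      map_top_of_surjective _ su]
  · rw [← map_comap_eq_self_of_surjective su (normalCore _), Subgroup.map_eq_bot_iff, QuotientGroup.ker_mk']
    exact (normal_le_normalCore.2 ((comap_mono (normalCore_le _)).trans (k H n).le)).trans hc.le
  · rwa [← relIndex_ker, QuotientGroup.ker_mk']
  · rw [← MonoidHom.map_closure, ← map_top_of_surjective _ su, ← hS, Subgroup.map_sup,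
      (Subgroup.map_eq_bot_iff N).2 (QuotientGroup.ker_mk' N).ge, sup_bot_eq]
  · rintro _ ⟨x, hx, rfl⟩
    exact ⟨1, by rw [pow_one, ← map_pow, hpS x hx, map_one]⟩

theorem Wd_step {T : Tr} {x : ℕ → G} {nn i j k c : ℕ}
    (h : nn < i ∧ j < i ∧ k < i ∧ (T.look i).j = j ∧ (T.look i).k = k ∧ (T.look i).t = c) :
    Wd S T x nn i = Wd S T x nn j * S.val c * Wd S T x nn k := by
  obtain ⟨a, b, c, rfl, rfl, rfl⟩ := h
  rw [Wd, if_neg (by omega), if_pos ⟨b, c⟩]

/-- the count below one of four products -/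
noncomputable def cnt4 (mul : ℕ → ℕ → ℕ) (one : ℕ) (P : ℕ → Bool) (cs ns : List ℕ) (i : ℕ) : Bool :=
  List.rec false (fun a r _ => List.rec false (fun b r' _ =>
    cntAt mul one P (prods mul [one, a] [one, b] :: mapR (fun c => [one, c]) r') ns i) r) cs

theorem PcL.cnt4 [Finite G] {cs ns : List ℕ} (h0 : ∀ c ∈ cs, S.ok c) (h : PcL (cs.map S.val)) {P : ℕ → Bool} {p : G → Prop}
    (hP : ∀ c, S.ok c → p (S.val c) → P c = true) (hc : ∀ i < 4, cnt4 mul one P cs ns i = true) {n : ℕ}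
    (e : ns.length = 4 ∧ ns.sum = n) : {y | y ∈ clL (cs.map S.val) ∧ p y}.ncard ≤ n := by
  have := hc 0 (by decide)
  rcases cs with _ | ⟨a, _ | ⟨b, r⟩⟩
  · exact absurd this (by simp [H15.cnt4])
  · exact absurd this (by simp [H15.cnt4])
  · exact (h.cvr h0).merge.cnt' hP hc ⟨rfl, e⟩

/-- the count over all products -/
noncomputable def cnt1 (mul : ℕ → ℕ → ℕ) (one : ℕ) (P : ℕ → Bool) (cs : List ℕ) (n : ℕ) : Bool :=
  Nat.ble (cntP mul P (mapR (fun c => [one, c]) cs) one) n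

theorem PcL.cnt1 [Finite G] {cs : List ℕ} (h0 : ∀ c ∈ cs, S.ok c) (h : PcL (cs.map S.val)) {P : ℕ → Bool} {p : G → Prop}
    (hP : ∀ c, S.ok c → p (S.val c) → P c = true) {n : ℕ} (hc : cnt1 mul one P cs n = true) :
    {y | y ∈ clL (cs.map S.val) ∧ p y}.ncard ≤ n := by
  simpa only [S.val_one, one_mul, SetLike.mem_coe] using le_trans ((h.cvr h0).cnt hP S.ok_one) (Nat.le_of_ble_eq_true hc)

theorem SInj.bq (I : SInj S) {x y u v : ℕ} (a : S.ok x) (b : S.ok y) (c : S.ok u) (d : S.ok v) :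
    Nat.beq (mul x y) (mul u v) = true ↔ S.val x * S.val y = S.val u * S.val v := by
  rw [I.beq (S.ok_mul a b) (S.ok_mul c d), S.val_mul a b, S.val_mul c d]

/-- the code commutes with the members of the list -/
noncomputable def cmA (mul : ℕ → ℕ → ℕ) (L : List ℕ) (c : ℕ) : Bool := allL (fun a => Nat.beq (mul c a) (mul a c)) L

theorem cmA_iff (I : SInj S) {L : List ℕ} (h : ∀ a ∈ L, S.ok a) {c : ℕ} (hc : S.ok c) :
    cmA mul L c = true ↔ ∀ a ∈ L.map S.val, S.val c * a = a * S.val c := by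
  rw [cmA, allL_iff, List.forall_mem_map]
  exact forall₂_congr fun a ha => I.bq hc (h a ha) (h a ha) hc

/-- conjugates of the generators as words -/
noncomputable def nrmC (mul : ℕ → ℕ → ℕ) (one : ℕ) (cs : List ℕ) (g : ℕ) (ws : List (List ℕ)) : Bool :=
  allLt (fun i => force (prodW mul one cs (nthW ws i)) fun x => Nat.beq (mul g (nthD one cs i)) (mul x g)) cs.length

theorem nrm_of [Finite G] {cs : List ℕ} (h0 : ∀ c ∈ cs, S.ok c) {g : ℕ} (hg : S.ok g) {ws : List (List ℕ)}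
    (h : nrmC mul one cs g ws = true) : S.val g ∈ normalizer (clL (cs.map S.val) : Set G) := by
  refine mem_normalizer_fintype fun n hn => clL_le (K := (clL _).comap (MulAut.conj (S.val g)).toMonoidHom)
    (List.forall_mem_map.2 fun c hc => ?_) hn
  obtain ⟨j, hj, rfl⟩ := List.getElem_of_mem hc
  have := Nat.eq_of_beq_eq_true (allLt_iff.1 h j hj)
  rw [nthD_eq, List.getD_eq_getElem _ _ hj] at this
  show S.val g * _ * _ ∈ clL _
  rw [← S.val_mul hg (h0 _ hc), this, S.val_mul (S.prodW_spec h0 _).1 hg, mul_inv_cancel_right]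
  exact prodW_clL h0 _

/-- a bad square, a central element, or a fixed point -/
noncomputable def exP (mul : ℕ → ℕ → ℕ) (one : ℕ) (L : List ℕ) (z y x : ℕ) : Bool :=
  bor (force (mul x x) fun v => H14.PK.bn (memL v [one, z])) (bor (cmB mul z y x) (cmA mul L x))

open scoped commutatorElement in
theorem ex_of [Finite G] (I : SInj S) {cs ns : List ℕ} (h0 : ∀ c ∈ cs, S.ok c) (h : PcL (cs.map S.val)) {z y : ℕ}
    (hz : S.ok z) (hy : S.ok y) (ho : orderOf (S.val z) = 2) (hm : S.val z ∈ clL (cs.map S.val)) (c : cmA mul cs z = true)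
    (hc : ∀ i < 4, cnt4 mul one (exP mul one cs z y) cs ns i = true) (e : ns.length = 4 ∧ ns.sum = 2) :
    H04.AES 2 (clL (cs.map S.val)) (S.val z) ∧ ∀ x ∈ clL (cs.map S.val),
      (∀ q ∈ clL (cs.map S.val), q * x = x * q) ∨ ⁅S.val y, x⁆ ∈ zpowers (S.val z) → x ∈ zpowers (S.val z) := by
  have c0 : ∀ x ∈ clL (cs.map S.val), x * S.val z = S.val z * x := fun x hx => mem_centralizer_singleton_iff.1
    (clL_le (K := centralizer {S.val z}) (fun a ha => mem_centralizer_singleton_iff.2 ((cmA_iff I h0 hz).1 c a ha).symm) hx)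
  have k := h.cnt4 h0 (p := fun x => x ^ 2 ∉ zpowers (S.val z) ∨ (∀ q ∈ clL (cs.map S.val), q * x = x * q) ∨
      ⁅S.val y, x⁆ ∈ zpowers (S.val z)) (fun x hx p => by
    rw [exP, bor_eq_true, bor_eq_true, force_eq, H14.PK.bn_iff, cmA_iff I h0 hx]
    rcases p with p | p | p
    · refine .inl fun c => p ?_
      rw [mem_two ho, sq, ← S.val_mul hx hx, ← S.val_one, ← I.beq (S.ok_mul hx hx) S.ok_one, ← I.beq (S.ok_mul hx hx) hz]
      simpa [memL_iff] using c
    · exact .inr (.inr fun a ha => (p a (mem_clL ha)).symm)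
    · rw [cmB, force_eq, force_eq, bor_eq_true, I.bq hy hx hx hy, I.bq hy hx hz (S.ok_mul hx hy), S.val_mul hx hy]
      simp only [commutatorElement_def, mem_two ho, mul_inv_eq_iff_eq_mul, one_mul] at p
      exact .inr (.inl (by simpa only [mul_assoc] using p))) hc e
  have n : 1 ≠ S.val z := fun c => absurd (orderOf_eq_one_iff.2 c.symm) (by rw [ho]; decide)
  have t := fun x hx => (mem_two ho).2 (two_of_le (x := x) k ⟨one_mem _, .inr (.inl (by simp))⟩ ⟨hm, .inr (.inl c0)⟩ n hx)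
  have c1 : ∀ x ∈ clL (cs.map S.val), x ^ 2 ∈ zpowers (S.val z) := fun x hx => by
    by_contra c
    exact c (pow_mem (t x ⟨hx, .inl c⟩) 2)
  refine ⟨⟨ho, hm, c0, fun x hx y hy => ?_, c1⟩, fun x hx h => t x ⟨hx, .inr h⟩⟩
  have := inv_mem (c1 x hx)
  rw [← conj_zp (c0 _ (inv_mem hy)) this] at this
  convert mul_mem (mul_mem (c1 _ (mul_mem hx hy)) this) (inv_mem (c1 y hy)) using 1
  simp [sq, commutatorElement_def, mul_assoc]

theorem extra_of [Finite G] {Q K : Subgroup G} {z : G} (A : H04.AES 2 Q z) (hK : Q ≤ K)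
    (c : ∀ x ∈ Q, (∀ y ∈ Q, y * x = x * y) → x ∈ zpowers z) (n : ¬ Q ≤ zpowers z) :
    Cfsg.IsExtraspecial 2 (Q.subgroupOf K) := by
  have e := subgroupOfEquivOfLe hK
  have h := A.subgroup.map e.symm.toMonoidHom e.symm.injective
  rw [map_top_of_surjective _ e.symm.surjective] at h
  refine H04.isExtraspecial_of_aes_top h (fun x hx => ?_) fun hc => n fun x hx => c x hx fun y hy => ?_
  · obtain ⟨k, hk⟩ := c (e x) (e x).2 fun y hy => by
      obtain ⟨y, q⟩ := e.surjective ⟨y, hy⟩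
      exact congrArg Subtype.val (show (⟨_, hy⟩ : Q) * e x = e x * ⟨_, hy⟩ by
        rw [← q, ← map_mul, mem_center_iff.1 hx, map_mul])
    exact ⟨k, e.injective (Subtype.ext (by simpa using hk))⟩
  · simpa using congrArg (fun z => (e z).1) (hc.is_comm.comm (e.symm ⟨y, hy⟩) (e.symm ⟨x, hx⟩))

end H15
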