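import Cfsg.Agent.H15.Cen

/-! Checkers for an enumerated extraspecial group (namespace H15). -/

namespace H15
open H13

/-- the square is trivial -/
noncomputable def sqP (mul : ℕ → ℕ → ℕ) (one c : ℕ) : Bool := Nat.beq (mul c c) one

/-- `g` and `x` commute up to `z` -/
noncomputable def cmB (mul : ℕ → ℕ → ℕ) (z g x : ℕ) : Bool := force (mul g x) fun a => force (mul x g) fun b =>
  bor (Nat.beq a b) (Nat.beq a (mul z b))

/-- squares, centre and fixed points in the list `L` -/
noncomputable def xeOk (mul : ℕ → ℕ → ℕ) (one : ℕ) (ql L : List ℕ) (z c e s y : ℕ) : Bool :=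
  force z fun z => force c fun c => force e fun e => force s fun s => force y fun y => force (mul c z) fun d =>
    band (memL z L) (band (memL c L) (band (H14.PK.bn (memL c [one, z])) (band (H14.PK.bn (Nat.beq z one)) (allL (fun x =>
      band (force (mul x x) fun v => memL v [one, z]) (band (Nat.beq (mul x z) (mul z x))
        (bor (memL x [one, z]) (band (anyL (fun q => H14.PK.bn (Nat.beq (mul q x) (mul x q))) ql)
          (band (H14.PK.bn (cmB mul z y x))
            (bor (H14.PK.bn (cmB mul z e x)) (bor (H14.PK.bn (cmB mul z s x)) (memL x [c, d])))))))) L))))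

/-- the generators are conjugates of `c`, and a dual basis -/
noncomputable def duOk (mul : ℕ → ℕ → ℕ) (one : ℕ) (lc ql rl L : List ℕ) (gw : List (List ℕ)) (z c k : ℕ) : Bool :=
  force z fun z => force c fun c => allLt (fun i => force (nthD one rl i) fun r => band (memL r L)
    (band (force (prodW mul one lc (nthD [] gw i)) fun g => Nat.beq (mul g c) (mul (nthD one ql i) g))
      (allLt (fun j => force (nthD one ql j) fun q =>
        Nat.beq (mul r q) (mul (Bool.rec q (mul q z) (Nat.beq i j)) r)) k))) k

end H15
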